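import Cfsg.Prelude.Def_FusionSystem

set_option autoImplicit false

namespace Cfsg.Agent.Lib.Helper87

open Cfsg Cfsg.FusionSystem

variable {Ω : Type*} [Group Ω] {S : Subgroup Ω}

/-! ### Basic closure properties of the maps of a fusion system -/

theorem hom_congr (F : FusionSystem S) {P : Subgroup Ω} {φ φ' : P →* Ω} (hφ : φ ∈ F.Hom P)
    (h : ∀ x : P, φ' x = φ x) : φ' ∈ F.Hom P := by
  have : φ' = φ := MonoidHom.ext h
  rw [this]; exact hφ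

theorem hom_le (F : FusionSystem S) {P : Subgroup Ω} {φ : P →* Ω} (hφ : φ ∈ F.Hom P) : P ≤ S :=
  (F.le_of_mem hφ).1

theorem hom_mem (F : FusionSystem S) {P : Subgroup Ω} {φ : P →* Ω} (hφ : φ ∈ F.Hom P) (x : P) :
    φ x ∈ S :=
  (F.le_of_mem hφ).2 x

theorem subtype_mem (F : FusionSystem S) {P : Subgroup Ω} (hP : P ≤ S) : P.subtype ∈ F.Hom P := by
  refine hom_congr F (F.conj_mem hP S.one_mem) (fun x => ?_)
  simp [conjHom]

theorem restrict_mem (F : FusionSystem S) {P R : Subgroup Ω} (hRP : R ≤ P) {φ : P →* Ω}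
    (hφ : φ ∈ F.Hom P) : φ.comp (Subgroup.inclusion hRP) ∈ F.Hom R := by
  have hR : R ≤ S := hRP.trans (hom_le F hφ)
  have h1 := subtype_mem F hR
  have h2 := F.comp_mem h1 hφ (fun x => hRP x.2)
  refine hom_congr F h2 (fun x => ?_)
  rfl

theorem cast_mem (F : FusionSystem S) {P P' : Subgroup Ω} (h : P' = P) {φ : P →* Ω}
    (hφ : φ ∈ F.Hom P) : φ.comp (Subgroup.inclusion h.le) ∈ F.Hom P' :=
  restrict_mem F h.le hφ

/-- Composition in a convenient form. -/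
theorem comp_mem' (F : FusionSystem S) {P Q : Subgroup Ω} {φ : P →* Ω} {ψ : Q →* Ω}
    (hφ : φ ∈ F.Hom P) (hψ : ψ ∈ F.Hom Q) (h : ∀ x : P, φ x ∈ Q) {χ : P →* Ω}
    (hχ : ∀ x : P, χ x = ψ ⟨φ x, h x⟩) : χ ∈ F.Hom P :=
  hom_congr F (F.comp_mem hφ hψ h) (fun x => by rw [hχ]; rfl)

/-- Inverse in a convenient form: a map defined on a subgroup `Q` which is the image of `φ`. -/
theorem inv_mem' (F : FusionSystem S) {P Q : Subgroup Ω} {φ : P →* Ω} (hφ : φ ∈ F.Hom P)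
    (hQ : φ.range = Q) :
    ∃ ψ ∈ F.Hom Q, (∀ (x : P) (y : Q), φ x = (y : Ω) → ψ y = (x : Ω)) ∧ ψ.range = P := by
  subst hQ
  obtain ⟨ψ, hψ, hψx⟩ := F.inv_mem hφ
  refine ⟨ψ, hψ, fun x y h => ?_, ?_⟩
  · have : y = ⟨φ x, ⟨x, rfl⟩⟩ := Subtype.ext h.symm
    rw [this]; exact hψx x
  · ext y
    constructor
    · rintro ⟨⟨_, x, rfl⟩, rfl⟩
      rw [hψx]; exact x.2
    · intro hy
      exact ⟨⟨φ ⟨y, hy⟩, ⟨y, hy⟩, rfl⟩, hψx ⟨y, hy⟩⟩

theorem isConj_refl (F : FusionSystem S) {P : Subgroup Ω} (hP : P ≤ S) : F.IsConj P P :=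
  ⟨P.subtype, subtype_mem F hP, Subgroup.range_subtype P⟩

theorem isConj_symm (F : FusionSystem S) {P Q : Subgroup Ω} (h : F.IsConj P Q) : F.IsConj Q P := by
  obtain ⟨φ, hφ, hr⟩ := h
  obtain ⟨ψ, hψ, -, hψr⟩ := inv_mem' F hφ hr
  exact ⟨ψ, hψ, hψr⟩

theorem isConj_trans (F : FusionSystem S) {P Q R : Subgroup Ω} (h₁ : F.IsConj P Q)
    (h₂ : F.IsConj Q R) : F.IsConj P R := by
  obtain ⟨φ, hφ, hr⟩ := h₁
  obtain ⟨ψ, hψ, hψr⟩ := h₂
  have h : ∀ x : P, φ x ∈ Q := fun x => hr ▸ ⟨x, rfl⟩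
  refine ⟨ψ.comp (φ.codRestrict Q h), F.comp_mem hφ hψ h, ?_⟩
  ext y
  constructor
  · rintro ⟨x, rfl⟩
    rw [← hψr]; exact ⟨_, rfl⟩
  · intro hy
    rw [← hψr] at hy
    obtain ⟨q, rfl⟩ := hy
    have hq : (q : Ω) ∈ φ.range := hr ▸ q.2
    obtain ⟨x, hx⟩ := hq
    refine ⟨x, ?_⟩
    show ψ (φ.codRestrict Q h x) = ψ q
    congr 1
    exact Subtype.ext hx

theorem isConj_le_left (F : FusionSystem S) {P Q : Subgroup Ω} (h : F.IsConj P Q) : P ≤ S := by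
  obtain ⟨φ, hφ, -⟩ := h
  exact hom_le F hφ

theorem isConj_le_right (F : FusionSystem S) {P Q : Subgroup Ω} (h : F.IsConj P Q) : Q ≤ S :=
  isConj_le_left F (isConj_symm F h)

/-! ### Homomorphisms defined on a join of two subgroups -/

theorem sup_hom_mem {P Q T : Subgroup Ω} (ψ : ↥(P ⊔ Q) →* Ω)
    (hP : ∀ x : P, ψ (Subgroup.inclusion le_sup_left x) ∈ T)
    (hQ : ∀ x : Q, ψ (Subgroup.inclusion le_sup_right x) ∈ T) (y : ↥(P ⊔ Q)) : ψ y ∈ T := by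
  have h : P ⊔ Q ≤ (T.comap ψ).map (P ⊔ Q).subtype :=
    sup_le (fun x hx => ⟨⟨x, (le_sup_left : P ≤ P ⊔ Q) hx⟩, hP ⟨x, hx⟩, rfl⟩)
      (fun x hx => ⟨⟨x, (le_sup_right : Q ≤ P ⊔ Q) hx⟩, hQ ⟨x, hx⟩, rfl⟩)
  obtain ⟨y', hy', e⟩ := h y.2
  have : y' = y := Subtype.ext e
  rw [← this]; exact hy'

theorem sup_hom_ext {P Q : Subgroup Ω} {M : Type*} [Group M] (ψ ψ' : ↥(P ⊔ Q) →* M)
    (hP : ∀ x : P, ψ (Subgroup.inclusion le_sup_left x) = ψ' (Subgroup.inclusion le_sup_left x))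
    (hQ : ∀ x : Q, ψ (Subgroup.inclusion le_sup_right x) = ψ' (Subgroup.inclusion le_sup_right x)) :
    ψ = ψ' := by
  have h : P ⊔ Q ≤ (MonoidHom.eqLocus ψ ψ').map (P ⊔ Q).subtype :=
    sup_le (fun x hx => ⟨⟨x, (le_sup_left : P ≤ P ⊔ Q) hx⟩, hP ⟨x, hx⟩, rfl⟩)
      (fun x hx => ⟨⟨x, (le_sup_right : Q ≤ P ⊔ Q) hx⟩, hQ ⟨x, hx⟩, rfl⟩)
  ext y
  obtain ⟨y', hy', e⟩ := h y.2
  have : y' = y := Subtype.ext e
  rw [← this]; exact hy'

/-! ### Finiteness helpers -/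

theorem finite_of_le {P S : Subgroup Ω} [Finite S] (h : P ≤ S) : Finite P :=
  Finite.of_injective (Subgroup.inclusion h) (Subgroup.inclusion_injective h)

theorem card_le_of_le {P S : Subgroup Ω} [Finite S] (h : P ≤ S) : Nat.card P ≤ Nat.card S :=
  Nat.card_le_card_of_injective (Subgroup.inclusion h) (Subgroup.inclusion_injective h)

theorem centralizerIn_le (S P : Subgroup Ω) : centralizerIn S P ≤ S := inf_le_left

theorem normalizerIn_le (S P : Subgroup Ω) : normalizerIn S P ≤ S := inf_le_left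

theorem mem_centralizerIn {S P : Subgroup Ω} {g : Ω} :
    g ∈ centralizerIn S P ↔ g ∈ S ∧ ∀ x ∈ P, x * g = g * x := by
  unfold centralizerIn
  rw [Subgroup.mem_inf, Subgroup.mem_centralizer_iff]
  rfl

theorem mem_normalizerIn {S P : Subgroup Ω} {g : Ω} :
    g ∈ normalizerIn S P ↔ g ∈ S ∧ ∀ x, x ∈ P ↔ g * x * g⁻¹ ∈ P := by
  unfold normalizerIn
  rw [Subgroup.mem_inf, Subgroup.mem_normalizer_iff]

theorem le_normalizerIn {S P : Subgroup Ω} (h : P ≤ S) : P ≤ normalizerIn S P :=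
  le_inf h Subgroup.le_normalizer

theorem centralizerIn_le_normalizerIn (S P : Subgroup Ω) : centralizerIn S P ≤ normalizerIn S P :=
  inf_le_inf_left S (Subgroup.centralizer_le_normalizer (P : Set Ω))

/-! ### The extender `N_φ` is the set that generates it -/

theorem mem_extender_iff {S P : Subgroup Ω} {φ : P →* Ω} {g : Ω} :
    g ∈ extender S P φ ↔ g ∈ S ∧ g ∈ Subgroup.normalizer (P : Set Ω) ∧
      ∃ h ∈ S, ∀ (x : P) (hx : g * (x : Ω) * g⁻¹ ∈ P), φ ⟨g * x * g⁻¹, hx⟩ = h * φ x * h⁻¹ := by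
  constructor
  · intro hg
    unfold extender at hg
    induction hg using Subgroup.closure_induction with
    | mem g hg => exact hg
    | one =>
      refine ⟨S.one_mem, Subgroup.one_mem _, 1, S.one_mem, fun x hx => ?_⟩
      have : (⟨1 * (x : Ω) * 1⁻¹, hx⟩ : P) = x := Subtype.ext (by simp)
      rw [this]; simp
    | mul a b _ _ ha hb =>
      obtain ⟨haS, haN, h₁, h₁S, h₁φ⟩ := ha
      obtain ⟨hbS, hbN, h₂, h₂S, h₂φ⟩ := hb
      refine ⟨S.mul_mem haS hbS, Subgroup.mul_mem _ haN hbN, h₁ * h₂, S.mul_mem h₁S h₂S,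
        fun x hx => ?_⟩
      have hbx : b * (x : Ω) * b⁻¹ ∈ P := (Subgroup.mem_normalizer_iff.mp hbN x).mp x.2
      have habx : a * ((⟨b * (x : Ω) * b⁻¹, hbx⟩ : P) : Ω) * a⁻¹ ∈ P :=
        (Subgroup.mem_normalizer_iff.mp haN _).mp hbx
      have e : (⟨a * b * (x : Ω) * (a * b)⁻¹, hx⟩ : P) =
          ⟨a * ((⟨b * (x : Ω) * b⁻¹, hbx⟩ : P) : Ω) * a⁻¹, habx⟩ :=
        Subtype.ext (by simp [mul_assoc])
      rw [e, h₁φ _ habx, h₂φ x hbx]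
      simp [mul_assoc]
    | inv a _ ha =>
      obtain ⟨haS, haN, h₁, h₁S, h₁φ⟩ := ha
      refine ⟨S.inv_mem haS, Subgroup.inv_mem _ haN, h₁⁻¹, S.inv_mem h₁S, fun x hx => ?_⟩
      have hx' : a * ((⟨a⁻¹ * (x : Ω) * a⁻¹⁻¹, hx⟩ : P) : Ω) * a⁻¹ ∈ P := by
        have : a * (a⁻¹ * (x : Ω) * a⁻¹⁻¹) * a⁻¹ = x := by group
        show a * (a⁻¹ * (x : Ω) * a⁻¹⁻¹) * a⁻¹ ∈ P
        rw [this]; exact x.2
      have h := h₁φ ⟨a⁻¹ * (x : Ω) * a⁻¹⁻¹, hx⟩ hx'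
      have e : (⟨a * ((⟨a⁻¹ * (x : Ω) * a⁻¹⁻¹, hx⟩ : P) : Ω) * a⁻¹, hx'⟩ : P) = x :=
        Subtype.ext (by show a * (a⁻¹ * (x : Ω) * a⁻¹⁻¹) * a⁻¹ = x; group)
      rw [e] at h
      rw [h]; group
  · intro hg
    exact Subgroup.subset_closure hg

theorem extender_le (S P : Subgroup Ω) (φ : P →* Ω) : extender S P φ ≤ normalizerIn S P := by
  intro g hg
  rw [mem_extender_iff] at hg
  exact ⟨hg.1, hg.2.1⟩

theorem le_extender {S P : Subgroup Ω} {φ : P →* Ω} (hP : P ≤ S) (hφ : ∀ x : P, φ x ∈ S) :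
    P ≤ extender S P φ := by
  intro g hg
  rw [mem_extender_iff]
  refine ⟨hP hg, Subgroup.le_normalizer hg, φ ⟨g, hg⟩, hφ _, fun x hx => ?_⟩
  have : (⟨g * (x : Ω) * g⁻¹, hx⟩ : P) = ⟨g, hg⟩ * x * ⟨g, hg⟩⁻¹ := Subtype.ext rfl
  rw [this, map_mul, map_mul, map_inv]

theorem centralizerIn_le_extender (S P : Subgroup Ω) (φ : P →* Ω) :
    centralizerIn S P ≤ extender S P φ := by
  intro g hg
  rw [mem_extender_iff]
  refine ⟨hg.1, Subgroup.centralizer_le_normalizer (P : Set Ω) hg.2, 1, S.one_mem, fun x hx => ?_⟩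
  have hc := (Subgroup.mem_centralizer_iff.mp hg.2) x x.2
  have : (⟨g * (x : Ω) * g⁻¹, hx⟩ : P) = x := by
    apply Subtype.ext
    show g * (x : Ω) * g⁻¹ = x
    rw [← hc]; group
  rw [this]; simp

end Cfsg.Agent.Lib.Helper87
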