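import Cfsg.Agent.Lib.Helper87.FusionBasic

set_option autoImplicit false

namespace Cfsg.Agent.Lib.Helper87

open Cfsg Cfsg.FusionSystem

variable {Ω : Type*} [Group Ω] {S : Subgroup Ω}

/-- The normalizer fusion system `N_F(Q)` as an honest fusion system over `N_S(Q)`. -/
def normalizerSystem (F : FusionSystem S) (Q : Subgroup Ω) (hQ : Q ≤ S) :
    FusionSystem (normalizerIn S Q) where
  Hom P := F.normalizerHom Q P
  le_of_mem h := ⟨h.2.1, h.2.2.1⟩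
  injective_of_mem h := F.injective_of_mem h.1
  conj_mem := by
    intro P g hP hg
    have hPS : P ≤ S := hP.trans (normalizerIn_le S Q)
    have hgS : g ∈ S := normalizerIn_le S Q hg
    have hgN : g ∈ Subgroup.normalizer (Q : Set Ω) := hg.2
    refine ⟨F.conj_mem hPS hgS, hP, fun x => ?_, conjHom (P ⊔ Q) g,
      F.conj_mem (sup_le hPS hQ) hgS, fun x => rfl, ?_⟩
    · exact Subgroup.mul_mem _ (Subgroup.mul_mem _ hg (hP x.2)) (Subgroup.inv_mem _ hg)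
    · ext y
      constructor
      · rintro ⟨x, hx, rfl⟩
        have hxQ : (x : Ω) ∈ Q := hx
        exact (Subgroup.mem_normalizer_iff.mp hgN _).mp hxQ
      · intro hy
        have h1 : g⁻¹ * y * g ∈ Q := (Subgroup.mem_normalizer_iff''.mp hgN _).mp hy
        refine ⟨⟨g⁻¹ * y * g, (le_sup_right : Q ≤ P ⊔ Q) h1⟩, h1, ?_⟩
        show g * (g⁻¹ * y * g) * g⁻¹ = y
        group
  comp_mem := by
    rintro P R φ ψ ⟨hφ, hPN, hφN, φ', hφ', hφ'φ, hφ'Q⟩ ⟨hψ, hRN, hψN, ψ', hψ', hψ'ψ, hψ'Q⟩ h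
    refine ⟨F.comp_mem hφ hψ h, hPN, fun x => hψN _, ?_⟩
    have hφ'mem : ∀ q : Q, φ' (Subgroup.inclusion le_sup_right q) ∈ Q := fun q =>
      hφ'Q.le ⟨_, q.2, rfl⟩
    have hmem : ∀ y : ↥(P ⊔ Q), φ' y ∈ R ⊔ Q := by
      refine sup_hom_mem φ' (fun x => ?_) (fun x => ?_)
      · rw [hφ'φ]; exact (le_sup_left : R ≤ R ⊔ Q) (h x)
      · exact (le_sup_right : Q ≤ R ⊔ Q) (hφ'mem x)
    refine ⟨ψ'.comp (φ'.codRestrict (R ⊔ Q) hmem), F.comp_mem hφ' hψ' hmem, fun x => ?_, ?_⟩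
    · show ψ' ⟨φ' (Subgroup.inclusion le_sup_left x), _⟩ = ψ ⟨φ x, _⟩
      rw [← hψ'ψ]
      congr 1
      exact Subtype.ext (hφ'φ x)
    · ext y
      constructor
      · rintro ⟨q, hq, rfl⟩
        have hqQ : (q : Ω) ∈ Q := hq
        show ψ' ⟨φ' q, _⟩ ∈ Q
        have h1 : φ' q ∈ Q := hφ'mem ⟨q, hqQ⟩
        exact hψ'Q.le ⟨⟨φ' q, hmem q⟩, h1, rfl⟩
      · intro hy
        obtain ⟨q₁, hq₁, rfl⟩ := hψ'Q.ge hy
        have hq₁Q : (q₁ : Ω) ∈ Q := hq₁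
        obtain ⟨q₂, hq₂, hq₂q₁⟩ := hφ'Q.ge hq₁Q
        refine ⟨q₂, hq₂, ?_⟩
        show ψ' ⟨φ' q₂, _⟩ = ψ' q₁
        congr 1
        exact Subtype.ext hq₂q₁
  inv_mem := by
    rintro P φ ⟨hφ, hPN, hφN, φ', hφ', hφ'φ, hφ'Q⟩
    obtain ⟨χ, hχ, hχφ', hχr⟩ := inv_mem' F hφ' rfl
    have hle : φ.range ⊔ Q ≤ φ'.range := by
      refine sup_le ?_ ?_
      · rintro _ ⟨x, rfl⟩
        exact ⟨Subgroup.inclusion le_sup_left x, hφ'φ x⟩
      · intro q hq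
        obtain ⟨q', -, hq'⟩ := hφ'Q.ge hq
        exact ⟨q', hq'⟩
    have hle₁ : φ.range ≤ φ'.range := le_sup_left.trans hle
    refine ⟨χ.comp (Subgroup.inclusion hle₁), ⟨restrict_mem F hle₁ hχ, ?_, ?_,
      χ.comp (Subgroup.inclusion hle), restrict_mem F hle hχ, fun x => rfl, ?_⟩, ?_⟩
    · rintro _ ⟨x, rfl⟩
      exact hφN x
    · rintro ⟨_, x, rfl⟩
      show χ ⟨φ x, _⟩ ∈ normalizerIn S Q
      rw [hχφ' (Subgroup.inclusion le_sup_left x) ⟨φ x, hle₁ ⟨x, rfl⟩⟩ (hφ'φ x)]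
      exact hPN x.2
    · ext y
      constructor
      · rintro ⟨q, hq, rfl⟩
        have hqQ : (q : Ω) ∈ Q := hq
        obtain ⟨q', hq'Q, hq'⟩ := hφ'Q.ge hqQ
        show χ ⟨q, _⟩ ∈ Q
        rw [hχφ' q' ⟨q, hle q.2⟩ hq']
        exact hq'Q
      · intro hy
        have h1 : φ' ⟨y, (le_sup_right : Q ≤ P ⊔ Q) hy⟩ ∈ Q := hφ'Q.le ⟨_, hy, rfl⟩
        refine ⟨⟨φ' ⟨y, (le_sup_right : Q ≤ P ⊔ Q) hy⟩, (le_sup_right : Q ≤ φ.range ⊔ Q) h1⟩, h1, ?_⟩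
        show χ ⟨φ' ⟨y, _⟩, _⟩ = y
        rw [hχφ' ⟨y, (le_sup_right : Q ≤ P ⊔ Q) hy⟩ _ rfl]
    · intro x
      show χ ⟨φ x, _⟩ = x
      rw [hχφ' (Subgroup.inclusion le_sup_left x) ⟨φ x, hle₁ ⟨x, rfl⟩⟩ (hφ'φ x)]
      rfl

theorem normalizerSystem_isNormalizerSystem (F : FusionSystem S) (Q : Subgroup Ω) (hQ : Q ≤ S) :
    F.IsNormalizerSystem Q (normalizerSystem F Q hQ) := fun _ => rfl

/-- The centralizer fusion system `C_F(Q)` as an honest fusion system over `C_S(Q)`. -/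
def centralizerSystem (F : FusionSystem S) (Q : Subgroup Ω) (hQ : Q ≤ S) :
    FusionSystem (centralizerIn S Q) where
  Hom P := F.centralizerHom Q P
  le_of_mem h := ⟨h.2.1, h.2.2.1⟩
  injective_of_mem h := F.injective_of_mem h.1
  conj_mem := by
    intro P g hP hg
    have hPS : P ≤ S := hP.trans (centralizerIn_le S Q)
    have hgS : g ∈ S := centralizerIn_le S Q hg
    refine ⟨F.conj_mem hPS hgS, hP, fun x => ?_, conjHom (P ⊔ Q) g,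
      F.conj_mem (sup_le hPS hQ) hgS, fun x => rfl, fun x => ?_⟩
    · exact Subgroup.mul_mem _ (Subgroup.mul_mem _ hg (hP x.2)) (Subgroup.inv_mem _ hg)
    · show g * (x : Ω) * g⁻¹ = x
      have hc := (mem_centralizerIn.mp hg).2 x x.2
      rw [← hc]; group
  comp_mem := by
    rintro P R φ ψ ⟨hφ, hPN, hφN, φ', hφ', hφ'φ, hφ'Q⟩ ⟨hψ, hRN, hψN, ψ', hψ', hψ'ψ, hψ'Q⟩ h
    refine ⟨F.comp_mem hφ hψ h, hPN, fun x => hψN _, ?_⟩
    have hmem : ∀ y : ↥(P ⊔ Q), φ' y ∈ R ⊔ Q := by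
      refine sup_hom_mem φ' (fun x => ?_) (fun x => ?_)
      · rw [hφ'φ]; exact (le_sup_left : R ≤ R ⊔ Q) (h x)
      · rw [hφ'Q]; exact (le_sup_right : Q ≤ R ⊔ Q) x.2
    refine ⟨ψ'.comp (φ'.codRestrict (R ⊔ Q) hmem), F.comp_mem hφ' hψ' hmem, fun x => ?_,
      fun x => ?_⟩
    · show ψ' ⟨φ' (Subgroup.inclusion le_sup_left x), _⟩ = ψ ⟨φ x, _⟩
      rw [← hψ'ψ]
      congr 1
      exact Subtype.ext (hφ'φ x)
    · show ψ' ⟨φ' (Subgroup.inclusion le_sup_right x), _⟩ = x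
      rw [← hψ'Q x]
      congr 1
      exact Subtype.ext (hφ'Q x)
  inv_mem := by
    rintro P φ ⟨hφ, hPN, hφN, φ', hφ', hφ'φ, hφ'Q⟩
    obtain ⟨χ, hχ, hχφ', hχr⟩ := inv_mem' F hφ' rfl
    have hle : φ.range ⊔ Q ≤ φ'.range := by
      refine sup_le ?_ ?_
      · rintro _ ⟨x, rfl⟩
        exact ⟨Subgroup.inclusion le_sup_left x, hφ'φ x⟩
      · intro q hq
        exact ⟨Subgroup.inclusion le_sup_right ⟨q, hq⟩, hφ'Q ⟨q, hq⟩⟩
    have hle₁ : φ.range ≤ φ'.range := le_sup_left.trans hle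
    refine ⟨χ.comp (Subgroup.inclusion hle₁), ⟨restrict_mem F hle₁ hχ, ?_, ?_,
      χ.comp (Subgroup.inclusion hle), restrict_mem F hle hχ, fun x => rfl, fun x => ?_⟩, ?_⟩
    · rintro _ ⟨x, rfl⟩
      exact hφN x
    · rintro ⟨_, x, rfl⟩
      show χ ⟨φ x, _⟩ ∈ centralizerIn S Q
      rw [hχφ' (Subgroup.inclusion le_sup_left x) ⟨φ x, hle₁ ⟨x, rfl⟩⟩ (hφ'φ x)]
      exact hPN x.2
    · exact hχφ' (Subgroup.inclusion le_sup_right x) _ (hφ'Q x)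
    · intro x
      show χ ⟨φ x, _⟩ = x
      rw [hχφ' (Subgroup.inclusion le_sup_left x) ⟨φ x, hle₁ ⟨x, rfl⟩⟩ (hφ'φ x)]
      rfl

theorem centralizerSystem_isCentralizerSystem (F : FusionSystem S) (Q : Subgroup Ω) (hQ : Q ≤ S) :
    F.IsCentralizerSystem Q (centralizerSystem F Q hQ) := fun _ => rfl

end Cfsg.Agent.Lib.Helper87
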