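import Cfsg.Agent.Lib.Helper87.FusionBasic

set_option autoImplicit false

namespace Cfsg.Agent.Lib.Helper87

open Cfsg Cfsg.FusionSystem
open scoped Pointwise

section Sylow

variable {G : Type*} [Group G]

theorem mem_map_conj_iff {H : Subgroup G} {g x : G} :
    x ∈ H.map (MulAut.conj g).toMonoidHom ↔ g⁻¹ * x * g ∈ H := by
  constructor
  · rintro ⟨y, hy, rfl⟩
    have : g⁻¹ * ((MulAut.conj g).toMonoidHom y) * g = y := by
      show g⁻¹ * (g * y * g⁻¹) * g = y
      group
    rw [this]; exact hy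
  · intro h
    refine ⟨g⁻¹ * x * g, h, ?_⟩
    show g * (g⁻¹ * x * g) * g⁻¹ = x
    group

theorem conj_mem_map_conj {H : Subgroup G} {g x : G} (hx : x ∈ H) :
    g * x * g⁻¹ ∈ H.map (MulAut.conj g).toMonoidHom :=
  ⟨x, hx, rfl⟩

theorem card_map_conj (H : Subgroup G) (g : G) :
    Nat.card (H.map (MulAut.conj g).toMonoidHom) = Nat.card H :=
  Subgroup.card_map_of_injective (MulAut.conj g).injective

theorem map_conj_map_conj (H : Subgroup G) (g k : G) :
    (H.map (MulAut.conj g).toMonoidHom).map (MulAut.conj k).toMonoidHom =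
      H.map (MulAut.conj (k * g)).toMonoidHom := by
  rw [Subgroup.map_map]
  congr 1
  ext x
  simp [mul_assoc]

theorem map_conj_inv_map_conj (H : Subgroup G) (g : G) :
    (H.map (MulAut.conj g).toMonoidHom).map (MulAut.conj g⁻¹).toMonoidHom = H := by
  rw [map_conj_map_conj]
  ext x
  rw [mem_map_conj_iff]
  simp

theorem isPGroup_map_conj {p : ℕ} {H : Subgroup G} (hH : IsPGroup p H) (g : G) :
    IsPGroup p (H.map (MulAut.conj g).toMonoidHom) :=
  hH.map _

theorem normalizer_map_conj (H : Subgroup G) (g : G) :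
    Subgroup.normalizer ((H.map (MulAut.conj g).toMonoidHom : Subgroup G) : Set G) =
      (Subgroup.normalizer (H : Set G)).map (MulAut.conj g).toMonoidHom := by
  ext x
  rw [mem_map_conj_iff, Subgroup.mem_normalizer_iff, Subgroup.mem_normalizer_iff]
  constructor
  · intro h y
    have := h (g * y * g⁻¹)
    rw [mem_map_conj_iff, mem_map_conj_iff] at this
    have e1 : g⁻¹ * (g * y * g⁻¹) * g = y := by group
    have e2 : g⁻¹ * (x * (g * y * g⁻¹) * x⁻¹) * g = g⁻¹ * x * g * y * (g⁻¹ * x * g)⁻¹ := by group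
    rw [e1, e2] at this
    exact this
  · intro h y
    rw [mem_map_conj_iff, mem_map_conj_iff]
    have := h (g⁻¹ * y * g)
    have e2 : g⁻¹ * x * g * (g⁻¹ * y * g) * (g⁻¹ * x * g)⁻¹ = g⁻¹ * (x * y * x⁻¹) * g := by group
    rw [e2] at this
    exact this

theorem centralizer_map_conj (H : Subgroup G) (g : G) :
    Subgroup.centralizer ((H.map (MulAut.conj g).toMonoidHom : Subgroup G) : Set G) =
      (Subgroup.centralizer (H : Set G)).map (MulAut.conj g).toMonoidHom := by
  ext x
  rw [mem_map_conj_iff, Subgroup.mem_centralizer_iff, Subgroup.mem_centralizer_iff]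
  constructor
  · intro h y hy
    have := h (g * y * g⁻¹) (conj_mem_map_conj hy)
    have e : y * (g⁻¹ * x * g) = g⁻¹ * (g * y * g⁻¹ * x) * g := by group
    rw [e, this]; group
  · intro h y hy
    have hy' : g⁻¹ * y * g ∈ H := mem_map_conj_iff.mp hy
    have := h _ hy'
    have e : y * x = g * (g⁻¹ * y * g * (g⁻¹ * x * g)) * g⁻¹ := by group
    rw [e, this]; group

variable [Finite G] {p : ℕ} [Fact p.Prime]

theorem exists_conj_le_sylow (S : Sylow p G) {H : Subgroup G} (hH : IsPGroup p H) :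
    ∃ g : G, H.map (MulAut.conj g).toMonoidHom ≤ S := by
  obtain ⟨S', hS'⟩ := hH.exists_le_sylow
  obtain ⟨g, hg⟩ := MulAction.exists_smul_eq G S' S
  refine ⟨g, ?_⟩
  rintro _ ⟨h, hh, rfl⟩
  have h1 : h ∈ (S' : Subgroup G) := hS' hh
  have h2 : MulAut.conj g • h ∈ MulAut.conj g • (S' : Subgroup G) :=
    Subgroup.smul_mem_pointwise_smul h (MulAut.conj g) S' h1
  rw [← Sylow.coe_subgroup_smul, hg] at h2
  exact h2

theorem card_le_card_sylow (S : Sylow p G) {H : Subgroup G} (hH : IsPGroup p H) :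
    Nat.card H ≤ Nat.card S := by
  obtain ⟨g, hg⟩ := exists_conj_le_sylow S hH
  rw [← card_map_conj H g]
  exact Nat.card_le_card_of_injective (Subgroup.inclusion hg) (Subgroup.inclusion_injective hg)

theorem sylow_of_card_ge (S : Sylow p G) {H : Subgroup G} (hH : IsPGroup p H)
    (hc : Nat.card S ≤ Nat.card H) : ∃ R : Sylow p G, (R : Subgroup G) = H := by
  obtain ⟨R, hR⟩ := hH.exists_le_sylow
  refine ⟨R, ?_⟩
  have h1 : Nat.card R = Nat.card S := by
    rw [Sylow.card_eq_multiplicity, Sylow.card_eq_multiplicity]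
  symm
  apply Subgroup.eq_of_le_of_card_ge hR
  rw [h1]; exact hc

end Sylow

section GroupFusion

variable {G : Type*} [Group G] {S : Subgroup G}

theorem mem_groupFusion_hom {P : Subgroup G} {φ : P →* G} :
    φ ∈ (groupFusionSystem S).Hom P ↔
      P ≤ S ∧ (∀ x : P, φ x ∈ S) ∧ ∃ g : G, ∀ x : P, φ x = g * (x : G) * g⁻¹ := Iff.rfl

theorem conjHom_mem_groupFusion {P : Subgroup G} {g : G} (hP : P ≤ S)
    (h : P.map (MulAut.conj g).toMonoidHom ≤ S) : conjHom P g ∈ (groupFusionSystem S).Hom P :=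
  ⟨hP, fun x => h ⟨x, x.2, rfl⟩, g, fun _ => rfl⟩

theorem conjHom_range (P : Subgroup G) (g : G) :
    (conjHom P g).range = P.map (MulAut.conj g).toMonoidHom := by
  ext y
  constructor
  · rintro ⟨x, rfl⟩
    exact ⟨x, x.2, rfl⟩
  · rintro ⟨x, hx, rfl⟩
    exact ⟨⟨x, hx⟩, rfl⟩

theorem groupFusion_isConj_iff {P Q : Subgroup G} :
    (groupFusionSystem S).IsConj P Q ↔
      P ≤ S ∧ Q ≤ S ∧ ∃ g : G, P.map (MulAut.conj g).toMonoidHom = Q := by
  constructor
  · rintro ⟨φ, ⟨hP, hφS, g, hg⟩, rfl⟩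
    refine ⟨hP, ?_, g, ?_⟩
    · rintro _ ⟨x, rfl⟩
      exact hφS x
    · ext y
      constructor
      · rintro ⟨x, hx, rfl⟩
        exact ⟨⟨x, hx⟩, hg ⟨x, hx⟩⟩
      · rintro ⟨x, rfl⟩
        exact ⟨x, x.2, (hg x).symm⟩
  · rintro ⟨hP, hQ, g, rfl⟩
    exact ⟨conjHom P g, conjHom_mem_groupFusion hP hQ, conjHom_range P g⟩

theorem normalizerIn_map_conj (T P : Subgroup G) (g : G) :
    normalizerIn (T.map (MulAut.conj g).toMonoidHom) (P.map (MulAut.conj g).toMonoidHom) =
      (normalizerIn T P).map (MulAut.conj g).toMonoidHom := by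
  unfold normalizerIn
  rw [normalizer_map_conj]
  exact (Subgroup.map_inf _ _ _ (MulAut.conj g).injective).symm

theorem centralizerIn_map_conj (T P : Subgroup G) (g : G) :
    centralizerIn (T.map (MulAut.conj g).toMonoidHom) (P.map (MulAut.conj g).toMonoidHom) =
      (centralizerIn T P).map (MulAut.conj g).toMonoidHom := by
  unfold centralizerIn
  rw [centralizer_map_conj]
  exact (Subgroup.map_inf _ _ _ (MulAut.conj g).injective).symm

theorem card_subgroupOf_of_le {H K : Subgroup G} (h : H ≤ K) :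
    Nat.card (H.subgroupOf K) = Nat.card H :=
  Nat.card_congr (Subgroup.subgroupOfEquivOfLe h).toEquiv

/-- A general criterion covering "fully normalized" and "fully centralized" in the fusion system
of a finite group on a Sylow subgroup. `K` is `N_G(-)` or `C_G(-)`. -/
theorem groupFusion_fully_iff [Finite G] {p : ℕ} [Fact p.Prime] (S : Sylow p G)
    (K : Subgroup G → Subgroup G)
    (hK1 : ∀ (P : Subgroup G) (g : G), K (P.map (MulAut.conj g).toMonoidHom) =
      (K P).map (MulAut.conj g).toMonoidHom)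
    (hK2 : ∀ P : Subgroup G, K P ≤ Subgroup.normalizer (P : Set G))
    (P : Subgroup G) (hP : P ≤ S) :
    (∀ Q : Subgroup G, (groupFusionSystem (S : Subgroup G)).IsConj P Q →
      Nat.card ((S : Subgroup G) ⊓ K Q : Subgroup G) ≤ Nat.card ((S : Subgroup G) ⊓ K P : Subgroup G)) ↔
    ∃ R : Sylow p ↥(K P), (R : Subgroup ↥(K P)) = ((S : Subgroup G) ⊓ K P).subgroupOf (K P) := by
  have hSp : IsPGroup p (S : Subgroup G) := S.isPGroup'
  have hTp : IsPGroup p (((S : Subgroup G) ⊓ K P).subgroupOf (K P)) :=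
    (hSp.to_le inf_le_left).comap_subtype
  constructor
  · intro hfull
    obtain ⟨R', hR'⟩ := hTp.exists_le_sylow
    -- T' = R' viewed in G
    set T' : Subgroup G := (R' : Subgroup ↥(K P)).map (K P).subtype with hT'
    have hT'p : IsPGroup p T' := R'.isPGroup'.map _
    have hT'K : T' ≤ K P := by
      rintro _ ⟨x, -, rfl⟩
      exact x.2
    have hPp : IsPGroup p P := hSp.to_le hP
    have hsup : IsPGroup p (P ⊔ T' : Subgroup G) :=
      hPp.to_sup_of_normal_left' hT'p (hT'K.trans (hK2 P))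
    obtain ⟨g, hg⟩ := exists_conj_le_sylow S hsup
    set Q := P.map (MulAut.conj g).toMonoidHom with hQ
    have hQS : Q ≤ S := (Subgroup.map_mono le_sup_left).trans hg
    have hT'g : T'.map (MulAut.conj g).toMonoidHom ≤ (S : Subgroup G) ⊓ K Q := by
      refine le_inf ((Subgroup.map_mono le_sup_right).trans hg) ?_
      rw [hQ, hK1]
      exact Subgroup.map_mono hT'K
    have hconj : (groupFusionSystem (S : Subgroup G)).IsConj P Q :=
      groupFusion_isConj_iff.mpr ⟨hP, hQS, g, rfl⟩
    have h1 := hfull Q hconj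
    have h2 : Nat.card T' ≤ Nat.card ((S : Subgroup G) ⊓ K Q : Subgroup G) := by
      rw [← card_map_conj T' g]
      exact Nat.card_le_card_of_injective (Subgroup.inclusion hT'g)
        (Subgroup.inclusion_injective hT'g)
    have h3 : Nat.card T' = Nat.card (R' : Subgroup ↥(K P)) :=
      Subgroup.card_map_of_injective (K P).subtype_injective
    have h4 : Nat.card (((S : Subgroup G) ⊓ K P).subgroupOf (K P)) =
        Nat.card ((S : Subgroup G) ⊓ K P : Subgroup G) := card_subgroupOf_of_le inf_le_right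
    refine ⟨R', ?_⟩
    symm
    apply Subgroup.eq_of_le_of_card_ge hR'
    rw [h4, ← h3]
    exact h2.trans h1
  · rintro ⟨R, hR⟩ Q hQ
    obtain ⟨-, hQS, g, rfl⟩ := groupFusion_isConj_iff.mp hQ
    set Q := P.map (MulAut.conj g).toMonoidHom with hQdef
    set H : Subgroup G := ((S : Subgroup G) ⊓ K Q).map (MulAut.conj g⁻¹).toMonoidHom with hH
    have hHK : H ≤ K P := by
      have : H ≤ (K Q).map (MulAut.conj g⁻¹).toMonoidHom := Subgroup.map_mono inf_le_right
      rw [← hK1, hQdef, map_conj_inv_map_conj] at this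
      exact this
    have hHp : IsPGroup p H := (hSp.to_le inf_le_left).map _
    have hHp' : IsPGroup p (H.subgroupOf (K P)) := hHp.comap_subtype
    have h1 := card_le_card_sylow R hHp'
    rw [card_subgroupOf_of_le hHK, hR, card_subgroupOf_of_le inf_le_right, hH, card_map_conj] at h1
    exact h1

end GroupFusion

end Cfsg.Agent.Lib.Helper87
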