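import Mathlib.GroupTheory.Sylow

set_option autoImplicit false

namespace Cfsg.Agent.Lib.Helper87

variable {G : Type*} [Group G] {p : ℕ}

/-- Being a Sylow subgroup of a subgroup `A`, phrased in the ambient group. -/
theorem sylow_subgroupOf_iff (A B : Subgroup G) (hBA : B ≤ A) :
    (∃ R : Sylow p A, (R : Subgroup A) = B.subgroupOf A) ↔
      IsPGroup p B ∧ ∀ C : Subgroup G, IsPGroup p C → B ≤ C → C ≤ A → C = B := by
  constructor
  · rintro ⟨R, hR⟩
    have hBp : IsPGroup p B := by
      have h1 : IsPGroup p (B.subgroupOf A) := hR ▸ R.isPGroup'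
      exact h1.of_surjective (Subgroup.subgroupOfEquivOfLe hBA).toMonoidHom
        (Subgroup.subgroupOfEquivOfLe hBA).surjective
    refine ⟨hBp, fun C hC hBC hCA => ?_⟩
    have h1 : IsPGroup p (C.subgroupOf A) := hC.comap_subtype
    have h2 : (R : Subgroup A) ≤ C.subgroupOf A := by
      rw [hR]; exact Subgroup.comap_mono hBC
    have h3 := R.is_maximal' h1 h2
    rw [hR] at h3
    have h4 := congrArg (Subgroup.map A.subtype) h3
    rwa [Subgroup.map_subgroupOf_eq_of_le hCA, Subgroup.map_subgroupOf_eq_of_le hBA] at h4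
  · rintro ⟨hBp, hmax⟩
    refine ⟨⟨B.subgroupOf A, hBp.comap_subtype, ?_⟩, rfl⟩
    intro Q hQ hBQ
    have h1 : IsPGroup p (Q.map A.subtype) := hQ.map _
    have h2 : B ≤ Q.map A.subtype := by
      intro b hb
      exact ⟨⟨b, hBA hb⟩, hBQ hb, rfl⟩
    have h3 : Q.map A.subtype ≤ A := by
      rintro _ ⟨x, -, rfl⟩
      exact x.2
    have h4 := hmax _ h1 h2 h3
    rw [← h4]
    ext x
    constructor
    · intro hx
      exact ⟨x, hx, rfl⟩
    · rintro ⟨y, hy, hyx⟩
      have : y = x := Subtype.ext hyx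
      rw [← this]; exact hy

theorem card_subgroupOf_eq {A B : Subgroup G} (h : B ≤ A) :
    Nat.card (B.subgroupOf A) = Nat.card B :=
  Nat.card_congr (Subgroup.subgroupOfEquivOfLe h).toEquiv

/-- Cardinality criterion for being a Sylow subgroup of a finite subgroup `A`. -/
theorem sylow_subgroupOf_iff_card [Fact p.Prime] (A B : Subgroup G) [Finite A] (hBA : B ≤ A) :
    (∃ R : Sylow p A, (R : Subgroup A) = B.subgroupOf A) ↔
      Nat.card B = p ^ (Nat.card A).factorization p := by
  constructor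
  · rintro ⟨R, hR⟩
    rw [← card_subgroupOf_eq hBA, ← hR]
    exact R.card_eq_multiplicity
  · intro h
    have h1 : Nat.card (B.subgroupOf A) = p ^ (Nat.card A).factorization p := by
      rw [card_subgroupOf_eq hBA, h]
    exact ⟨Sylow.ofCard (B.subgroupOf A) h1, rfl⟩

end Cfsg.Agent.Lib.Helper87
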