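import Cfsg.Agent.Lib.Helper87.FusionAut
import Cfsg.Agent.Lib.Helper87.FusionGroup
import Cfsg.Agent.Lib.Helper87.SylowRel

set_option autoImplicit false

namespace Cfsg.Agent.Lib.Helper87

open Cfsg Cfsg.FusionSystem

variable {Ω : Type*} [Group Ω] {S : Subgroup Ω}

/-- The automorphism of `Q` induced by conjugation with an element of its normalizer. -/
noncomputable def conjAut (Q : Subgroup Ω) (g : Ω) (hg : g ∈ Subgroup.normalizer (Q : Set Ω)) :
    MulAut Q :=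
  Subgroup.normalizerMonoidHom Q ⟨g, hg⟩

@[simp] theorem conjAut_apply (Q : Subgroup Ω) (g : Ω) (hg : g ∈ Subgroup.normalizer (Q : Set Ω))
    (x : Q) : ((conjAut Q g hg x : Q) : Ω) = g * x * g⁻¹ := rfl

theorem conjAut_mem_autInducedBy {K Q : Subgroup Ω} {g : Ω} (hgK : g ∈ K)
    (hg : g ∈ Subgroup.normalizer (Q : Set Ω)) : conjAut Q g hg ∈ autInducedBy K Q :=
  mem_autInducedBy_iff.mpr ⟨g, hgK, fun _ => rfl⟩

theorem finite_autGroup (F : FusionSystem S) [Finite S] {P : Subgroup Ω} (hP : P ≤ S) :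
    Finite (F.autGroup P) := by
  have : Finite P := finite_of_le hP
  infer_instance

/-- If `e : Q ≃* P` is an `F`-isomorphism and every element of `Aut_S(Q)` is carried into `Aut_S(P)`,
then `N_S(Q)` is contained in the extender of `e`. -/
theorem normalizerIn_le_extender {P Q : Subgroup Ω} (e : Q ≃* P)
    (h : ∀ α ∈ autInducedBy S Q, MulAut.congr e α ∈ autInducedBy S P) :
    normalizerIn S Q ≤ extender S Q (P.subtype.comp e.toMonoidHom) := by
  intro g hg
  rw [mem_extender_iff]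
  refine ⟨hg.1, hg.2, ?_⟩
  obtain ⟨k, hk, hkα⟩ := mem_autInducedBy_iff.mp (h _ (conjAut_mem_autInducedBy hg.1 hg.2))
  refine ⟨k, hk, fun x hx => ?_⟩
  have := hkα (e x)
  show ((e ⟨g * x * g⁻¹, hx⟩ : P) : Ω) = k * ((e x : P) : Ω) * k⁻¹
  rw [← this]
  congr 1
  simp only [MulAut.congr_apply, MulEquiv.trans_apply, MulEquiv.symm_apply_apply]
  congr 1

/-- AKO Lemma I.2.6(c): if `P` is fully automized and receptive and `Q` is `F`-conjugate to `P`, there is a map of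
`F` from `N_S(Q)` to `N_S(P)` carrying `Q` onto `P`. -/
theorem exists_normalizer_hom [Finite S] (p : ℕ) [Fact p.Prime] (hS : IsPGroup p S)
    (F : FusionSystem S) (P Q : Subgroup Ω) (h₁ : F.IsFullyAutomized p P) (h₂ : F.IsReceptive P)
    (hQ : F.IsConj Q P) :
    ∃ φ ∈ F.Hom (normalizerIn S Q), (∀ x, φ x ∈ normalizerIn S P) ∧
      (Q.subgroupOf (normalizerIn S Q)).map φ = P ∧
      ∀ x : normalizerIn S Q, (x : Ω) ∈ Q → φ x ∈ P := by
  obtain ⟨hPS, R, hR⟩ := h₁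
  have hQS : Q ≤ S := isConj_le_left F hQ
  obtain ⟨e, he⟩ := exists_isFIso_of_isConj F hQ
  have : Finite (F.autGroup P) := finite_autGroup F hPS
  -- the transported p-subgroup
  set H₀ : Subgroup (MulAut P) := (autInducedBy S Q).map (MulAut.congr e).toMonoidHom with hH₀
  have hH₀p : IsPGroup p H₀ := (isPGroup_autInducedBy hS Q).map _
  have hH₀X : H₀ ≤ F.autGroup P := by
    rw [← map_congr_autGroup F he]
    exact Subgroup.map_mono (autInducedBy_le_autGroup F hQS)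
  have hHp : IsPGroup p (H₀.subgroupOf (F.autGroup P)) := hH₀p.comap_subtype
  obtain ⟨χ, hχ⟩ := exists_conj_le_sylow R hHp
  rw [hR] at hχ
  -- the new isomorphism
  have hχF : IsFIso F ((χ : MulAut P) : P ≃* P) := (isFIso_iff_mem_autGroup F hPS).mpr χ.2
  set e' : Q ≃* P := e.trans ((χ : MulAut P) : P ≃* P) with he'
  have he'F : IsFIso F e' := IsFIso.trans F he hχF
  have hkey : ∀ α ∈ autInducedBy S Q, MulAut.congr e' α ∈ autInducedBy S P := by
    intro α hα
    have h1 : MulAut.congr e α ∈ H₀ := ⟨α, hα, rfl⟩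
    have h2 : (⟨MulAut.congr e α, hH₀X h1⟩ : F.autGroup P) ∈ H₀.subgroupOf (F.autGroup P) := h1
    have h3 := hχ (conj_mem_map_conj (g := χ) h2)
    have h4 : ((χ * ⟨MulAut.congr e α, hH₀X h1⟩ * χ⁻¹ : F.autGroup P) : MulAut P) ∈
        autInducedBy S P := h3
    have h5 : MulAut.congr e' α = ((χ * ⟨MulAut.congr e α, hH₀X h1⟩ * χ⁻¹ : F.autGroup P) : MulAut P) := by
      ext y
      simp [he', MulAut.congr, MulAut.mul_apply, MulAut.inv_apply]
    rw [h5]; exact h4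
  have hNle := normalizerIn_le_extender e' hkey
  set ψ' : Q →* Ω := P.subtype.comp e'.toMonoidHom with hψ'
  have hψ'r : ψ'.range = P := IsFIso.range_eq e'
  obtain ⟨φ, hφ, hφψ⟩ := h₂.2 Q ψ' he'F hψ'r
  have hQN : Q ≤ normalizerIn S Q := le_normalizerIn hQS
  set φ' := φ.comp (Subgroup.inclusion hNle) with hφ'
  have hφ'F : φ' ∈ F.Hom (normalizerIn S Q) := restrict_mem F hNle hφ
  have hφ'Q : ∀ (x : normalizerIn S Q) (hx : (x : Ω) ∈ Q), φ' x = ψ' ⟨x, hx⟩ := by
    intro x hx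
    exact hφψ x hx (hNle x.2)
  have hφ'P : ∀ x : normalizerIn S Q, (x : Ω) ∈ Q → φ' x ∈ P := by
    intro x hx
    rw [hφ'Q x hx]
    exact (e' ⟨x, hx⟩).2
  -- conjugation by φ' n maps P into P
  have hconj : ∀ (n : normalizerIn S Q) (y : Ω), y ∈ P → φ' n * y * (φ' n)⁻¹ ∈ P := by
    intro n y hy
    have hn : (n : Ω) ∈ Subgroup.normalizer (Q : Set Ω) := n.2.2
    set q : Q := e'.symm ⟨y, hy⟩ with hq
    have hyq : y = ψ' q := by
      show y = ((e' (e'.symm ⟨y, hy⟩) : P) : Ω)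
      rw [MulEquiv.apply_symm_apply]
    have hqN : (q : Ω) ∈ normalizerIn S Q := hQN q.2
    have h1 : φ' ⟨q, hqN⟩ = y := by rw [hφ'Q ⟨q, hqN⟩ q.2, hyq]
    rw [← h1, ← map_inv, ← map_mul, ← map_mul]
    apply hφ'P
    show (n : Ω) * q * (n : Ω)⁻¹ ∈ Q
    exact (Subgroup.mem_normalizer_iff.mp hn _).mp q.2
  refine ⟨φ', hφ'F, fun n => ?_, ?_, hφ'P⟩
  · rw [mem_normalizerIn]
    refine ⟨hom_mem F hφ'F n, fun y => ⟨fun hy => hconj n y hy, fun hy => ?_⟩⟩
    have := hconj n⁻¹ _ hy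
    rw [map_inv] at this
    have e1 : (φ' n)⁻¹ * (φ' n * y * (φ' n)⁻¹) * (φ' n)⁻¹⁻¹ = y := by group
    rw [e1] at this
    exact this
  · ext y
    constructor
    · rintro ⟨x, hx, rfl⟩
      exact hφ'P x hx
    · intro hy
      set q : Q := e'.symm ⟨y, hy⟩ with hq
      have hyq : y = ψ' q := by
        show y = ((e' (e'.symm ⟨y, hy⟩) : P) : Ω)
        rw [MulEquiv.apply_symm_apply]
      refine ⟨⟨q, hQN q.2⟩, q.2, ?_⟩
      rw [hφ'Q ⟨q, hQN q.2⟩ q.2, hyq]

/-- A receptive subgroup is fully centralized (S5078). -/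
theorem isFullyCentralized_of_isReceptive [Finite S] (F : FusionSystem S) (P : Subgroup Ω)
    (hP : F.IsReceptive P) : F.IsFullyCentralized P := by
  obtain ⟨hPS, hrec⟩ := hP
  refine ⟨hPS, fun Q hQ => ?_⟩
  obtain ⟨φ, hφ, hφr⟩ := hQ
  obtain ⟨ψ, hψ, hψφ, hψr⟩ := inv_mem' F hφ hφr
  obtain ⟨χ, hχ, hχψ⟩ := hrec Q ψ hψ hψr
  have hQS : Q ≤ S := hom_le F hψ
  have hQN : Q ≤ extender S Q ψ := le_extender hQS (hom_mem F hψ)
  have hCN : centralizerIn S Q ≤ extender S Q ψ := centralizerIn_le_extender S Q ψ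
  have hχinj := F.injective_of_mem hχ
  have hmem : ∀ c : centralizerIn S Q, χ ⟨c, hCN c.2⟩ ∈ centralizerIn S P := by
    intro c
    rw [mem_centralizerIn]
    refine ⟨hom_mem F hχ _, fun y hy => ?_⟩
    rw [← hψr] at hy
    obtain ⟨q, rfl⟩ := hy
    rw [← hχψ q q.2 (hQN q.2)]
    rw [← map_mul, ← map_mul]
    congr 1
    apply Subtype.ext
    show (q : Ω) * c = c * q
    exact (mem_centralizerIn.mp c.2).2 q q.2
  have : Finite (centralizerIn S P) := finite_of_le (centralizerIn_le S P)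
  refine Nat.card_le_card_of_injective (fun c => (⟨χ ⟨c, hCN c.2⟩, hmem c⟩ : centralizerIn S P)) ?_
  intro a b hab
  have h1 : χ ⟨a, hCN a.2⟩ = χ ⟨b, hCN b.2⟩ := congrArg Subtype.val hab
  have h2 := hχinj h1
  exact Subtype.ext (congrArg (fun z : ↥(extender S Q ψ) => (z : Ω)) h2)

theorem mem_normalizer_of_conj_mem {P : Subgroup Ω} [Finite P] {g : Ω}
    (h : ∀ y ∈ P, g * y * g⁻¹ ∈ P) : g ∈ Subgroup.normalizer (P : Set Ω) := by
  rw [Subgroup.mem_normalizer_iff]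
  intro y
  refine ⟨h y, fun hy => ?_⟩
  let f : P → P := fun x => ⟨g * x * g⁻¹, h x x.2⟩
  have hf : Function.Injective f := by
    intro a b hab
    have : g * (a : Ω) * g⁻¹ = g * (b : Ω) * g⁻¹ := congrArg Subtype.val hab
    exact Subtype.ext (mul_left_cancel (mul_right_cancel this))
  obtain ⟨x, hx⟩ := (Finite.injective_iff_surjective.mp hf) ⟨g * y * g⁻¹, hy⟩
  have : g * (x : Ω) * g⁻¹ = g * y * g⁻¹ := congrArg Subtype.val hx
  have : (x : Ω) = y := mul_left_cancel (mul_right_cancel this)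
  rw [← this]; exact x.2

theorem exists_max_nat {α : Type*} (p : α → Prop) (f : α → ℕ) (B : ℕ) (hne : ∃ a, p a)
    (hB : ∀ a, p a → f a ≤ B) : ∃ a, p a ∧ ∀ b, p b → f b ≤ f a := by
  classical
  obtain ⟨a₀, ha₀⟩ := hne
  have h1 := Nat.findGreatest_spec (P := fun n => ∃ a, p a ∧ f a = n) (hB a₀ ha₀) ⟨a₀, ha₀, rfl⟩
  obtain ⟨a, ha, hfa⟩ := h1
  refine ⟨a, ha, fun b hb => ?_⟩
  rw [hfa]
  exact Nat.le_findGreatest (P := fun n => ∃ a, p a ∧ f a = n) (hB b hb) ⟨b, hb, rfl⟩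

/-- Every `F`-conjugacy class contains a fully normalized member. -/
theorem exists_isFullyNormalized [Finite S] (F : FusionSystem S) {P : Subgroup Ω} (hP : P ≤ S) :
    ∃ Q, F.IsConj P Q ∧ F.IsFullyNormalized Q := by
  obtain ⟨Q, hQ, hmax⟩ := exists_max_nat (fun Q => F.IsConj P Q)
    (fun Q => Nat.card (normalizerIn S Q)) (Nat.card S) ⟨P, isConj_refl F hP⟩
    (fun Q _ => card_le_of_le (normalizerIn_le S Q))
  refine ⟨Q, hQ, isConj_le_right F hQ, fun Q' hQ' => hmax Q' (isConj_trans F hQ hQ')⟩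

/-- Every `F`-conjugacy class contains a fully centralized member. -/
theorem exists_isFullyCentralized [Finite S] (F : FusionSystem S) {P : Subgroup Ω} (hP : P ≤ S) :
    ∃ Q, F.IsConj P Q ∧ F.IsFullyCentralized Q := by
  obtain ⟨Q, hQ, hmax⟩ := exists_max_nat (fun Q => F.IsConj P Q)
    (fun Q => Nat.card (centralizerIn S Q)) (Nat.card S) ⟨P, isConj_refl F hP⟩
    (fun Q _ => card_le_of_le (centralizerIn_le S Q))
  refine ⟨Q, hQ, isConj_le_right F hQ, fun Q' hQ' => hmax Q' (isConj_trans F hQ hQ')⟩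

/-- A map of the system from `N_S(P)` carrying `P` into `Q` carries `C_S(P)` into `C_S(Q)`,
provided it carries `P` onto `Q`. -/
theorem map_centralizerIn_mem (F : FusionSystem S) {P Q : Subgroup Ω}
    {φ : normalizerIn S P →* Ω} (hφ : φ ∈ F.Hom (normalizerIn S P))
    (hsurj : ∀ y ∈ Q, ∃ x : normalizerIn S P, (x : Ω) ∈ P ∧ φ x = y)
    (c : normalizerIn S P) (hc : (c : Ω) ∈ centralizerIn S P) : φ c ∈ centralizerIn S Q := by
  rw [mem_centralizerIn]
  refine ⟨hom_mem F hφ c, fun y hy => ?_⟩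
  obtain ⟨x, hxP, rfl⟩ := hsurj y hy
  rw [← map_mul, ← map_mul]
  congr 1
  apply Subtype.ext
  show (x : Ω) * c = c * x
  exact (mem_centralizerIn.mp hc).2 x hxP

/-- In a saturated system, fully centralized subgroups are receptive (AKO I.2.5). -/
theorem isReceptive_of_isFullyCentralized [Finite S] (p : ℕ) [Fact p.Prime] (hS : IsPGroup p S)
    (F : FusionSystem S) (hF : F.IsSaturated p) (P : Subgroup Ω) (hP : F.IsFullyCentralized P) :
    F.IsReceptive P := by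
  obtain ⟨hPS, hPc⟩ := hP
  obtain ⟨Q, hPQ, hQa, hQr⟩ := hF P hPS
  obtain ⟨φ, hφ, hφN, hφmap, hφP⟩ := exists_normalizer_hom p hS F Q P hQa hQr hPQ
  have hsurj : ∀ y ∈ Q, ∃ x : normalizerIn S P, (x : Ω) ∈ P ∧ φ x = y := by
    intro y hy
    rw [← hφmap] at hy
    obtain ⟨x, hx, rfl⟩ := hy
    exact ⟨x, hx, rfl⟩
  have hφinj := F.injective_of_mem hφ
  have hle : centralizerIn S P ≤ normalizerIn S P := centralizerIn_le_normalizerIn S P
  -- C_S(Q) = φ(C_S(P))
  have hCsurj : ∀ c ∈ centralizerIn S Q, ∃ n : normalizerIn S P,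
      (n : Ω) ∈ centralizerIn S P ∧ φ n = c := by
    let f : centralizerIn S P → centralizerIn S Q := fun c =>
      ⟨φ ⟨c, hle c.2⟩, map_centralizerIn_mem F hφ hsurj ⟨c, hle c.2⟩ c.2⟩
    have hf : Function.Injective f := by
      intro a b hab
      have h1 : φ ⟨a, hle a.2⟩ = φ ⟨b, hle b.2⟩ := congrArg Subtype.val hab
      have h2 := hφinj h1
      exact Subtype.ext (congrArg (fun z : ↥(normalizerIn S P) => (z : Ω)) h2)
    have : Finite (centralizerIn S Q) := finite_of_le (centralizerIn_le S Q)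
    have hbij := hf.bijective_of_nat_card_le (hPc Q hPQ)
    intro c hc
    obtain ⟨n, hn⟩ := hbij.2 ⟨c, hc⟩
    exact ⟨⟨n, hle n.2⟩, n.2, congrArg Subtype.val hn⟩
  refine ⟨hPS, fun R ψ hψ hψr => ?_⟩
  have hRS : R ≤ S := hom_le F hψ
  have hψP : ∀ x : R, ψ x ∈ P := fun x => hψr ▸ ⟨x, rfl⟩
  have hPN : P ≤ normalizerIn S P := le_normalizerIn hPS
  have hψN : ∀ x : R, ψ x ∈ normalizerIn S P := fun x => hPN (hψP x)
  set θ : R →* Ω := φ.comp (ψ.codRestrict (normalizerIn S P) hψN) with hθ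
  have hθF : θ ∈ F.Hom R := F.comp_mem hψ hφ hψN
  have hθr : θ.range = Q := by
    ext y
    constructor
    · rintro ⟨x, rfl⟩
      exact hφP _ (hψP x)
    · intro hy
      obtain ⟨n, hnP, rfl⟩ := hsurj y hy
      have : (n : Ω) ∈ ψ.range := hψr ▸ hnP
      obtain ⟨x, hx⟩ := this
      refine ⟨x, ?_⟩
      show φ ⟨ψ x, _⟩ = φ n
      congr 1
      exact Subtype.ext hx
  have hfinP : Finite P := finite_of_le hPS
  have hdata : ∀ g ∈ extender S R ψ, ∃ h : normalizerIn S P,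
      ∀ (x : R) (hx : g * (x : Ω) * g⁻¹ ∈ R), ψ ⟨g * x * g⁻¹, hx⟩ = h * ψ x * (h : Ω)⁻¹ := by
    intro g hg
    obtain ⟨hgS, hgN, h, hhS, hh⟩ := mem_extender_iff.mp hg
    have hhN : h ∈ Subgroup.normalizer (P : Set Ω) := by
      apply mem_normalizer_of_conj_mem
      intro y hy
      have : y ∈ ψ.range := hψr ▸ hy
      obtain ⟨x, rfl⟩ := this
      have hx : g * (x : Ω) * g⁻¹ ∈ R := (Subgroup.mem_normalizer_iff.mp hgN x).mp x.2
      rw [← hh x hx]; exact hψP _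
    exact ⟨⟨h, hhS, hhN⟩, hh⟩
  have hNle : extender S R ψ ≤ extender S R θ := by
    intro g hg
    obtain ⟨h, hh⟩ := hdata g hg
    obtain ⟨hgS, hgN, -⟩ := mem_extender_iff.mp hg
    rw [mem_extender_iff]
    refine ⟨hgS, hgN, φ h, hom_mem F hφ h, fun x hx => ?_⟩
    show φ ⟨ψ ⟨g * x * g⁻¹, hx⟩, _⟩ = φ h * φ ⟨ψ x, _⟩ * (φ h)⁻¹
    rw [← map_inv, ← map_mul, ← map_mul]
    congr 1
    exact Subtype.ext (hh x hx)
  obtain ⟨θ', hθ', hθ'θ⟩ := hQr.2 R θ hθF hθr
  have hRN : R ≤ extender S R θ := le_extender hRS (hom_mem F hθF)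
  have hrange : ∀ g : extender S R ψ, θ' ⟨g, hNle g.2⟩ ∈ φ.range := by
    intro g
    obtain ⟨h, hh⟩ := hdata g g.2
    obtain ⟨hgS, hgN, -⟩ := mem_extender_iff.mp g.2
    have hc : (φ h)⁻¹ * θ' ⟨g, hNle g.2⟩ ∈ centralizerIn S Q := by
      rw [mem_centralizerIn]
      refine ⟨S.mul_mem (S.inv_mem (hom_mem F hφ h)) (hom_mem F hθ' _), fun y hy => ?_⟩
      have : y ∈ θ.range := hθr ▸ hy
      obtain ⟨x, rfl⟩ := this
      have hx : (g : Ω) * (x : Ω) * (g : Ω)⁻¹ ∈ R := (Subgroup.mem_normalizer_iff.mp hgN x).mp x.2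
      have e1 : θ' ⟨g, hNle g.2⟩ * θ x * (θ' ⟨g, hNle g.2⟩)⁻¹ = θ ⟨g * x * (g : Ω)⁻¹, hx⟩ := by
        rw [← hθ'θ x x.2 (hRN x.2), ← hθ'θ _ hx (hRN hx), ← map_inv, ← map_mul, ← map_mul]
        rfl
      have e2 : θ ⟨g * x * (g : Ω)⁻¹, hx⟩ = φ h * θ x * (φ h)⁻¹ := by
        show φ ⟨ψ ⟨g * x * (g : Ω)⁻¹, hx⟩, _⟩ = φ h * φ ⟨ψ x, _⟩ * (φ h)⁻¹
        rw [← map_inv, ← map_mul, ← map_mul]
        congr 1
        exact Subtype.ext (hh x hx)
      have e3 := e1.trans e2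
      set a := φ h
      set b := θ' ⟨g, hNle g.2⟩
      set t := θ x
      have e4 : a⁻¹ * (b * t * b⁻¹) * b = a⁻¹ * (a * t * a⁻¹) * b := by rw [e3]
      have e5 : a⁻¹ * (b * t * b⁻¹) * b = a⁻¹ * b * t := by group
      have e6 : a⁻¹ * (a * t * a⁻¹) * b = t * (a⁻¹ * b) := by group
      rw [e5, e6] at e4
      exact e4.symm
    obtain ⟨n, hn, hnφ⟩ := hCsurj _ hc
    refine ⟨h * n, ?_⟩
    rw [map_mul, hnφ]; group
  obtain ⟨φinv, hφinv, hφinvφ, -⟩ := inv_mem' F hφ rfl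
  refine ⟨φinv.comp ((θ'.comp (Subgroup.inclusion hNle)).codRestrict φ.range hrange),
    F.comp_mem (restrict_mem F hNle hθ') hφinv hrange, fun x hR hN => ?_⟩
  show φinv ⟨θ' ⟨x, _⟩, _⟩ = ψ ⟨x, hR⟩
  exact hφinvφ ⟨ψ ⟨x, hR⟩, hψN _⟩ _ (hθ'θ x hR (hNle hN)).symm

/-- Transport of `Aut_S` along an `F`-map `N_S(P) → N_S(Q)` which is onto `N_S(Q)` and carries `P` onto `Q`. -/
theorem map_congr_autInducedBy (F : FusionSystem S) {P Q : Subgroup Ω}
    {φ : normalizerIn S P →* Ω} (hφ : φ ∈ F.Hom (normalizerIn S P))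
    (hNsurj : ∀ m ∈ normalizerIn S Q, ∃ n : normalizerIn S P, φ n = m)
    (hPS : P ≤ S) (e : P ≃* Q)
    (he : ∀ x : P, ((e x : Q) : Ω) = φ ⟨x, le_normalizerIn hPS x.2⟩) :
    (autInducedBy S P).map (MulAut.congr e).toMonoidHom = autInducedBy S Q := by
  have hcomp : ∀ (n : normalizerIn S P) (α : MulAut P),
      (∀ x : P, ((α x : P) : Ω) = n * x * (n : Ω)⁻¹) →
      ∀ y : Q, (((MulAut.congr e α) y : Q) : Ω) = φ n * y * (φ n)⁻¹ := by
    intro n α hα y
    have hy : (y : Ω) = φ ⟨e.symm y, le_normalizerIn hPS (e.symm y).2⟩ := by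
      rw [← he, MulEquiv.apply_symm_apply]
    show ((e (α (e.symm y)) : Q) : Ω) = _
    rw [he, hy, ← map_inv, ← map_mul, ← map_mul]
    congr 1
    exact Subtype.ext (hα _)
  ext β
  constructor
  · rintro ⟨α, hα, rfl⟩
    obtain ⟨n, hnS, hn⟩ := mem_autInducedBy_iff.mp hα
    have hnN : n ∈ normalizerIn S P := ⟨hnS, mem_normalizer_of_conj_eq hn⟩
    exact mem_autInducedBy_iff.mpr ⟨φ ⟨n, hnN⟩, hom_mem F hφ _, hcomp ⟨n, hnN⟩ α hn⟩
  · intro hβ
    obtain ⟨m, hmS, hm⟩ := mem_autInducedBy_iff.mp hβ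
    have hmN : m ∈ normalizerIn S Q := ⟨hmS, mem_normalizer_of_conj_eq hm⟩
    obtain ⟨n, hn⟩ := hNsurj m hmN
    refine ⟨conjAut P n n.2.2, conjAut_mem_autInducedBy n.2.1 n.2.2, ?_⟩
    ext y
    show (((MulAut.congr e (conjAut P n n.2.2)) y : Q) : Ω) = β y
    rw [hcomp n (conjAut P n n.2.2) (fun _ => rfl) y, hm, hn]

/-- In a saturated system, fully normalized subgroups are fully centralized and fully automized. -/
theorem fullyNormalized_props [Finite S] (p : ℕ) [Fact p.Prime] (hS : IsPGroup p S)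
    (F : FusionSystem S) (hF : F.IsSaturated p) (P : Subgroup Ω) (hP : F.IsFullyNormalized P) :
    F.IsFullyCentralized P ∧ F.IsFullyAutomized p P := by
  obtain ⟨hPS, hPn⟩ := hP
  obtain ⟨Q, hPQ, hQa, hQr⟩ := hF P hPS
  obtain ⟨φ, hφ, hφN, hφmap, hφP⟩ := exists_normalizer_hom p hS F Q P hQa hQr hPQ
  have hQS : Q ≤ S := hQr.1
  have hsurj : ∀ y ∈ Q, ∃ x : normalizerIn S P, (x : Ω) ∈ P ∧ φ x = y := by
    intro y hy
    rw [← hφmap] at hy
    obtain ⟨x, hx, rfl⟩ := hy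
    exact ⟨x, hx, rfl⟩
  have hφinj := F.injective_of_mem hφ
  have hNsurj : ∀ m ∈ normalizerIn S Q, ∃ n : normalizerIn S P, φ n = m := by
    let f : normalizerIn S P → normalizerIn S Q := fun n => ⟨φ n, hφN n⟩
    have hf : Function.Injective f := by
      intro a b hab
      exact hφinj (congrArg Subtype.val hab)
    have : Finite (normalizerIn S Q) := finite_of_le (normalizerIn_le S Q)
    have hbij := hf.bijective_of_nat_card_le (hPn Q hPQ)
    intro m hm
    obtain ⟨n, hn⟩ := hbij.2 ⟨m, hm⟩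
    exact ⟨n, congrArg Subtype.val hn⟩
  have hQc := isFullyCentralized_of_isReceptive F Q hQr
  constructor
  · refine ⟨hPS, fun R hR => ?_⟩
    have h1 : Nat.card (centralizerIn S R) ≤ Nat.card (centralizerIn S Q) :=
      hQc.2 R (isConj_trans F (isConj_symm F hPQ) hR)
    have h2 : Nat.card (centralizerIn S Q) ≤ Nat.card (centralizerIn S P) := by
      have hex : ∀ c : centralizerIn S Q, ∃ n : normalizerIn S P, φ n = c := fun c =>
        hNsurj c (centralizerIn_le_normalizerIn S Q c.2)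
      choose g hg using hex
      have hgC : ∀ c, (g c : Ω) ∈ centralizerIn S P := by
        intro c
        rw [mem_centralizerIn]
        refine ⟨(g c).2.1, fun x hx => ?_⟩
        have hxN : x ∈ normalizerIn S P := le_normalizerIn hPS hx
        have : φ (⟨x, hxN⟩ * g c) = φ (g c * ⟨x, hxN⟩) := by
          rw [map_mul, map_mul, hg]
          exact (mem_centralizerIn.mp c.2).2 _ (hφP ⟨x, hxN⟩ hx)
        exact congrArg Subtype.val (hφinj this)
      have : Finite (centralizerIn S P) := finite_of_le (centralizerIn_le S P)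
      refine Nat.card_le_card_of_injective (fun c => (⟨g c, hgC c⟩ : centralizerIn S P)) ?_
      intro a b hab
      have h3 : (g a : Ω) = g b := congrArg (fun z : centralizerIn S P => (z : Ω)) hab
      have h4 : g a = g b := Subtype.ext h3
      apply Subtype.ext
      rw [← hg a, ← hg b, h4]
    exact h1.trans h2
  · refine ⟨hPS, ?_⟩
    have hPN : P ≤ normalizerIn S P := le_normalizerIn hPS
    have hψ₀ : φ.comp (Subgroup.inclusion hPN) ∈ F.Hom P := restrict_mem F hPN hφ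
    have hr : (φ.comp (Subgroup.inclusion hPN)).range = Q := by
      ext y
      constructor
      · rintro ⟨x, rfl⟩
        exact hφP _ x.2
      · intro hy
        obtain ⟨n, hnP, rfl⟩ := hsurj y hy
        exact ⟨⟨n, hnP⟩, rfl⟩
    set e : P ≃* Q := homEquiv F hψ₀ hr with he
    have heF : IsFIso F e := isFIso_homEquiv F hψ₀ hr
    have hmapeq := map_congr_autInducedBy F hφ hNsurj hPS e (fun x => rfl)
    obtain ⟨-, hQa'⟩ := hQa
    rw [sylow_subgroupOf_iff _ _ (autInducedBy_le_autGroup F hQS)] at hQa'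
    rw [sylow_subgroupOf_iff _ _ (autInducedBy_le_autGroup F hPS)]
    refine ⟨isPGroup_autInducedBy hS P, fun C hC hle hCA => ?_⟩
    have h1 : IsPGroup p (C.map (MulAut.congr e).toMonoidHom) := hC.map _
    have h2 : autInducedBy S Q ≤ C.map (MulAut.congr e).toMonoidHom := by
      rw [← hmapeq]; exact Subgroup.map_mono hle
    have h3 : C.map (MulAut.congr e).toMonoidHom ≤ F.autGroup Q := by
      rw [← map_congr_autGroup F heF]; exact Subgroup.map_mono hCA
    have h4 := hQa'.2 _ h1 h2 h3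
    rw [← hmapeq] at h4
    exact Subgroup.map_injective (MulAut.congr e).injective h4

/-- The saturation axioms (S5077). -/
theorem isSaturated_iff [Finite S] (p : ℕ) [Fact p.Prime] (hS : IsPGroup p S)
    (F : FusionSystem S) :
    F.IsSaturated p ↔
      ((∀ P : Subgroup Ω, F.IsFullyNormalized P → F.IsFullyCentralized P ∧ F.IsFullyAutomized p P) ∧
        (∀ P : Subgroup Ω, F.IsFullyCentralized P → F.IsReceptive P)) := by
  constructor
  · intro hF
    exact ⟨fun P hP => fullyNormalized_props p hS F hF P hP,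
      fun P hP => isReceptive_of_isFullyCentralized p hS F hF P hP⟩
  · rintro ⟨h1, h2⟩ P hP
    obtain ⟨Q, hPQ, hQn⟩ := exists_isFullyNormalized F hP
    obtain ⟨hQc, hQa⟩ := h1 Q hQn
    exact ⟨Q, hPQ, hQa, h2 Q hQc⟩

end Cfsg.Agent.Lib.Helper87
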