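import Cfsg.Agent.Lib.Helper87.FusionBasic

set_option autoImplicit false

namespace Cfsg.Agent.Lib.Helper87

open Cfsg Cfsg.FusionSystem

variable {Ω : Type*} [Group Ω] {S : Subgroup Ω}

/-! ### `Aut_F(P)` is the set that generates it -/

theorem mem_autGroup_iff (F : FusionSystem S) {P : Subgroup Ω} (hP : P ≤ S) {α : MulAut P} :
    α ∈ F.autGroup P ↔ P.subtype.comp α.toMonoidHom ∈ F.Hom P := by
  constructor
  · intro hα
    unfold autGroup at hα
    induction hα using Subgroup.closure_induction with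
    | mem a ha => exact ha
    | one => exact hom_congr F (subtype_mem F hP) (fun x => rfl)
    | mul a b _ _ ha hb =>
      refine comp_mem' F hb ha (fun x => (b x).2) (fun x => ?_)
      rfl
    | inv a _ ha =>
      have hr : (P.subtype.comp a.toMonoidHom).range = P := by
        ext y
        constructor
        · rintro ⟨x, rfl⟩
          exact (a x).2
        · intro hy
          refine ⟨a.symm ⟨y, hy⟩, ?_⟩
          show ((a (a.symm ⟨y, hy⟩) : P) : Ω) = y
          rw [MulEquiv.apply_symm_apply]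
      obtain ⟨ψ, hψ, hψx, -⟩ := inv_mem' F ha hr
      refine hom_congr F hψ (fun y => ?_)
      have := hψx (a⁻¹ y) y (by
        show ((a (a⁻¹ y) : P) : Ω) = y
        rw [← MulAut.mul_apply, mul_inv_cancel, MulAut.one_apply])
      rw [this]; rfl
  · intro h
    exact Subgroup.subset_closure h

/-- An automorphism in `Aut_F(P)` gives a map of the system. -/
theorem autGroup_hom_mem (F : FusionSystem S) {P : Subgroup Ω} (hP : P ≤ S) {α : MulAut P}
    (hα : α ∈ F.autGroup P) : P.subtype.comp α.toMonoidHom ∈ F.Hom P :=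
  (mem_autGroup_iff F hP).mp hα

/-- The `MulEquiv` from `P` onto `Q` given by a homomorphism `φ : P →* Ω` that is injective with range `Q`. -/
noncomputable def equivOfHom {P Q : Subgroup Ω} (φ : P →* Ω) (hinj : Function.Injective φ)
    (hr : φ.range = Q) : P ≃* Q :=
  MulEquiv.ofBijective (φ.codRestrict Q (fun x => hr ▸ ⟨x, rfl⟩))
    ⟨fun a b hab => hinj (congrArg Subtype.val hab), fun y => by
      have hy : (y : Ω) ∈ φ.range := hr ▸ y.2
      obtain ⟨x, hx⟩ := hy
      exact ⟨x, Subtype.ext hx⟩⟩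

@[simp] theorem equivOfHom_apply {P Q : Subgroup Ω} (φ : P →* Ω) (hinj : Function.Injective φ)
    (hr : φ.range = Q) (x : P) : ((equivOfHom φ hinj hr x : Q) : Ω) = φ x := rfl

theorem equivOfHom_symm_apply {P Q : Subgroup Ω} (φ : P →* Ω) (hinj : Function.Injective φ)
    (hr : φ.range = Q) (x : P) (y : Q) (h : φ x = y) : (equivOfHom φ hinj hr).symm y = x := by
  rw [MulEquiv.symm_apply_eq]
  exact Subtype.ext h.symm

/-- The equivalence associated with a map of the system. -/
noncomputable def homEquiv (F : FusionSystem S) {P Q : Subgroup Ω} {φ : P →* Ω}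
    (hφ : φ ∈ F.Hom P) (hr : φ.range = Q) : P ≃* Q :=
  equivOfHom φ (F.injective_of_mem hφ) hr

@[simp] theorem homEquiv_apply (F : FusionSystem S) {P Q : Subgroup Ω} {φ : P →* Ω}
    (hφ : φ ∈ F.Hom P) (hr : φ.range = Q) (x : P) : ((homEquiv F hφ hr x : Q) : Ω) = φ x := rfl

/-- The inverse of an `F`-isomorphism is a map of the system. -/
theorem homEquiv_symm_mem (F : FusionSystem S) {P Q : Subgroup Ω} {φ : P →* Ω}
    (hφ : φ ∈ F.Hom P) (hr : φ.range = Q) :
    P.subtype.comp (homEquiv F hφ hr).symm.toMonoidHom ∈ F.Hom Q := by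
  obtain ⟨ψ, hψ, hψx, -⟩ := inv_mem' F hφ hr
  refine hom_congr F hψ (fun y => ?_)
  have := hψx ((homEquiv F hφ hr).symm y) y (by
    have := homEquiv_apply F hφ hr ((homEquiv F hφ hr).symm y)
    rw [MulEquiv.apply_symm_apply] at this
    exact this.symm)
  rw [this]; rfl

/-- A map of the system with range equal to its source gives an element of `Aut_F(P)`. -/
theorem homEquiv_mem_autGroup (F : FusionSystem S) {P : Subgroup Ω} {φ : P →* Ω}
    (hφ : φ ∈ F.Hom P) (hr : φ.range = P) : homEquiv F hφ hr ∈ F.autGroup P :=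
  Subgroup.subset_closure (hom_congr F hφ (fun _ => rfl))

/-- An equivalence `e : P ≃* Q` which is a map of the system. -/
def IsFIso (F : FusionSystem S) {P Q : Subgroup Ω} (e : P ≃* Q) : Prop :=
  Q.subtype.comp e.toMonoidHom ∈ F.Hom P

theorem IsFIso.range_eq {P Q : Subgroup Ω} (e : P ≃* Q) :
    (Q.subtype.comp e.toMonoidHom).range = Q := by
  ext y
  constructor
  · rintro ⟨x, rfl⟩
    exact (e x).2
  · intro hy
    refine ⟨e.symm ⟨y, hy⟩, ?_⟩
    show ((e (e.symm ⟨y, hy⟩) : Q) : Ω) = y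
    rw [MulEquiv.apply_symm_apply]

theorem IsFIso.symm (F : FusionSystem S) {P Q : Subgroup Ω} {e : P ≃* Q} (he : IsFIso F e) :
    IsFIso F e.symm := by
  obtain ⟨ψ, hψ, hψx, -⟩ := inv_mem' F he (IsFIso.range_eq e)
  refine hom_congr F hψ (fun y => ?_)
  have := hψx (e.symm y) y (by
    show ((e (e.symm y) : Q) : Ω) = y
    rw [MulEquiv.apply_symm_apply])
  rw [this]; rfl

theorem IsFIso.trans (F : FusionSystem S) {P Q R : Subgroup Ω} {e : P ≃* Q} {e' : Q ≃* R}
    (he : IsFIso F e) (he' : IsFIso F e') : IsFIso F (e.trans e') :=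
  comp_mem' F he he' (fun x => (e x).2) (fun _ => rfl)

theorem IsFIso.refl (F : FusionSystem S) {P : Subgroup Ω} (hP : P ≤ S) :
    IsFIso F (MulEquiv.refl P) :=
  hom_congr F (subtype_mem F hP) (fun _ => rfl)

theorem isFIso_homEquiv (F : FusionSystem S) {P Q : Subgroup Ω} {φ : P →* Ω}
    (hφ : φ ∈ F.Hom P) (hr : φ.range = Q) : IsFIso F (homEquiv F hφ hr) :=
  hom_congr F hφ (fun _ => rfl)

theorem isFIso_iff_mem_autGroup (F : FusionSystem S) {P : Subgroup Ω} (hP : P ≤ S) {α : MulAut P} :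
    IsFIso F (α : P ≃* P) ↔ α ∈ F.autGroup P :=
  (mem_autGroup_iff F hP).symm

theorem IsFIso.isConj (F : FusionSystem S) {P Q : Subgroup Ω} {e : P ≃* Q} (he : IsFIso F e) :
    F.IsConj P Q :=
  ⟨_, he, IsFIso.range_eq e⟩

theorem exists_isFIso_of_isConj (F : FusionSystem S) {P Q : Subgroup Ω} (h : F.IsConj P Q) :
    ∃ e : P ≃* Q, IsFIso F e := by
  obtain ⟨φ, hφ, hr⟩ := h
  exact ⟨homEquiv F hφ hr, isFIso_homEquiv F hφ hr⟩

/-- Transport of `Aut_F` along an `F`-isomorphism. -/
theorem congr_mem_autGroup_iff (F : FusionSystem S) {P Q : Subgroup Ω} {e : P ≃* Q}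
    (he : IsFIso F e) (α : MulAut P) :
    MulAut.congr e α ∈ F.autGroup Q ↔ α ∈ F.autGroup P := by
  have hP : P ≤ S := hom_le F he
  have hQ : Q ≤ S := hom_le F (IsFIso.symm F he)
  rw [← isFIso_iff_mem_autGroup F hP, ← isFIso_iff_mem_autGroup F hQ]
  constructor
  · intro h
    have h1 : IsFIso F ((e.trans (MulAut.congr e α : Q ≃* Q)).trans e.symm) :=
      IsFIso.trans F (IsFIso.trans F he h) (IsFIso.symm F he)
    refine hom_congr F h1 (fun x => ?_)
    show ((α x : P) : Ω) = ((e.symm ((MulAut.congr e α) (e x)) : P) : Ω)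
    simp [MulAut.congr]
  · intro h
    have h1 : IsFIso F ((e.symm.trans (α : P ≃* P)).trans e) :=
      IsFIso.trans F (IsFIso.trans F (IsFIso.symm F he) h) he
    refine hom_congr F h1 (fun x => ?_)
    show (((MulAut.congr e α) x : Q) : Ω) = ((e (α (e.symm x)) : Q) : Ω)
    simp [MulAut.congr]

theorem map_congr_autGroup (F : FusionSystem S) {P Q : Subgroup Ω} {e : P ≃* Q}
    (he : IsFIso F e) :
    (F.autGroup P).map (MulAut.congr e).toMonoidHom = F.autGroup Q := by
  ext β
  constructor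
  · rintro ⟨α, hα, rfl⟩
    exact (congr_mem_autGroup_iff F he α).mpr hα
  · intro hβ
    refine ⟨(MulAut.congr e).symm β, ?_, ?_⟩
    · apply (congr_mem_autGroup_iff F he _).mp
      rw [MulEquiv.apply_symm_apply]
      exact hβ
    · exact (MulAut.congr e).apply_symm_apply β

/-! ### `Aut_K(P)` is the set that generates it -/

theorem mem_autInducedBy_iff {K P : Subgroup Ω} {α : MulAut P} :
    α ∈ autInducedBy K P ↔ ∃ g ∈ K, ∀ x : P, ((α x : P) : Ω) = g * (x : Ω) * g⁻¹ := by
  constructor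
  · intro hα
    unfold autInducedBy at hα
    induction hα using Subgroup.closure_induction with
    | mem a ha => exact ha
    | one => exact ⟨1, K.one_mem, fun x => by simp⟩
    | mul a b _ _ ha hb =>
      obtain ⟨g, hg, hga⟩ := ha
      obtain ⟨k, hk, hkb⟩ := hb
      refine ⟨g * k, K.mul_mem hg hk, fun x => ?_⟩
      rw [MulAut.mul_apply, hga, hkb]
      group
    | inv a _ ha =>
      obtain ⟨g, hg, hga⟩ := ha
      refine ⟨g⁻¹, K.inv_mem hg, fun x => ?_⟩
      have h := hga (a⁻¹ x)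
      rw [← MulAut.mul_apply, mul_inv_cancel, MulAut.one_apply] at h
      rw [h]; group
  · intro h
    exact Subgroup.subset_closure h

theorem autInducedBy_le_autGroup (F : FusionSystem S) {P : Subgroup Ω} (hP : P ≤ S) :
    autInducedBy S P ≤ F.autGroup P := by
  intro α hα
  obtain ⟨g, hg, hgα⟩ := mem_autInducedBy_iff.mp hα
  rw [mem_autGroup_iff F hP]
  exact hom_congr F (F.conj_mem hP hg) (fun x => hgα x)

theorem autInducedBy_mono {K K' P : Subgroup Ω} (h : K ≤ K') :
    autInducedBy K P ≤ autInducedBy K' P := by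
  intro α hα
  obtain ⟨g, hg, hgα⟩ := mem_autInducedBy_iff.mp hα
  exact mem_autInducedBy_iff.mpr ⟨g, h hg, hgα⟩

/-- The element inducing an automorphism normalizes `P`. -/
theorem mem_normalizer_of_conj_eq {P : Subgroup Ω} {α : MulAut P} {g : Ω}
    (h : ∀ x : P, ((α x : P) : Ω) = g * (x : Ω) * g⁻¹) :
    g ∈ Subgroup.normalizer (P : Set Ω) := by
  rw [Subgroup.mem_normalizer_iff]
  intro x
  constructor
  · intro hx
    rw [← h ⟨x, hx⟩]; exact (α _).2
  · intro hx
    have h1 := h (α.symm ⟨g * x * g⁻¹, hx⟩)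
    rw [MulEquiv.apply_symm_apply] at h1
    have h2 : x = ((α.symm ⟨g * x * g⁻¹, hx⟩ : P) : Ω) := by
      have : g * x * g⁻¹ = g * ((α.symm ⟨g * x * g⁻¹, hx⟩ : P) : Ω) * g⁻¹ := h1
      exact mul_left_cancel (mul_right_cancel this)
    rw [h2]; exact (α.symm _).2

theorem isPGroup_autInducedBy {p : ℕ} {K : Subgroup Ω} (hK : IsPGroup p K) (P : Subgroup Ω) :
    IsPGroup p (autInducedBy K P) := by
  rintro ⟨α, hα⟩
  obtain ⟨g, hg, hgα⟩ := mem_autInducedBy_iff.mp hα
  obtain ⟨k, hk⟩ := hK ⟨g, hg⟩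
  refine ⟨k, Subtype.ext ?_⟩
  have hpow : ∀ n : ℕ, ∀ x : P, (((α ^ n) x : P) : Ω) = g ^ n * (x : Ω) * (g ^ n)⁻¹ := by
    intro n
    induction n with
    | zero => intro x; simp
    | succ n ih =>
      intro x
      rw [pow_succ, MulAut.mul_apply, ih, hgα, pow_succ]
      group
  have hk' : g ^ p ^ k = 1 := by
    have := congrArg Subtype.val hk
    simpa using this
  ext x
  show (((α ^ p ^ k) x : P) : Ω) = x
  rw [hpow, hk']
  simp

end Cfsg.Agent.Lib.Helper87
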