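import Mathlib
import Cfsg.Agent.Lib.Helper06.Hall4.Defs

/-!
# K-H4 pack (S4221, architect helper6), keystone 422123 (K-H4-BWd): Brauer-Wielandt

Hypothesis form over the leaves BWa (card), BWb, BWc.
-/

set_option autoImplicit false

namespace Cfsg.Agent.Lib.Helper87.Hall4

open Equiv Cfsg.Agent.Lib.Helper06.Hall4

variable {Γ : Type*} [Group Γ] [Finite Γ]

/-- Brauer-Wielandt, from the three leaves as hypotheses. -/
theorem brauer_wielandt_of (H : Subgroup Γ) {x y : Γ}
    (hXc : (InvCoset x H).ncard * Nat.card (H ⊓ Subgroup.centralizer {x} : Subgroup Γ) = Nat.card H)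
    (hYc : (InvCoset y H).ncard * Nat.card (H ⊓ Subgroup.centralizer {y} : Subgroup Γ) = Nat.card H)
    (hZc : (InvCoset (x * y) H).ncard * Nat.card (H ⊓ Subgroup.centralizer {x * y} : Subgroup Γ) =
      Nat.card H)
    (hb : ∀ s ∈ InvCoset x H, ∀ t ∈ InvCoset y H,
      ∃! w : Γ, w ∈ InvCoset (x * y) H ∧ w * s = s * w ∧ w * t = t * w)
    (hcx : ∀ w ∈ InvCoset (x * y) H,
      {s | s ∈ InvCoset x H ∧ w * s = s * w}.ncard *
        Nat.card (H ⊓ Subgroup.centralizer {x, y} : Subgroup Γ) =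
        Nat.card (H ⊓ Subgroup.centralizer {x * y} : Subgroup Γ))
    (hcy : ∀ w ∈ InvCoset (x * y) H,
      {t | t ∈ InvCoset y H ∧ w * t = t * w}.ncard *
        Nat.card (H ⊓ Subgroup.centralizer {x, y} : Subgroup Γ) =
        Nat.card (H ⊓ Subgroup.centralizer {x * y} : Subgroup Γ)) :
    Nat.card H * Nat.card (H ⊓ Subgroup.centralizer {x, y} : Subgroup Γ) ^ 2 =
      Nat.card (H ⊓ Subgroup.centralizer {x} : Subgroup Γ) *
        Nat.card (H ⊓ Subgroup.centralizer {y} : Subgroup Γ) *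
        Nat.card (H ⊓ Subgroup.centralizer {x * y} : Subgroup Γ) := by
  classical
  have : Fintype Γ := Fintype.ofFinite Γ
  set h := Nat.card H with hh
  set c0 := Nat.card (H ⊓ Subgroup.centralizer {x, y} : Subgroup Γ) with hc0
  set cx := Nat.card (H ⊓ Subgroup.centralizer {x} : Subgroup Γ) with hcxd
  set cy := Nat.card (H ⊓ Subgroup.centralizer {y} : Subgroup Γ) with hcyd
  set cz := Nat.card (H ⊓ Subgroup.centralizer {x * y} : Subgroup Γ) with hczd
  have hpos : 0 < h := Nat.card_pos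
  have hczpos : 0 < cz := Nat.card_pos
  -- the finsets
  set X : Finset Γ := (InvCoset x H).toFinset with hX
  set Y : Finset Γ := (InvCoset y H).toFinset with hY
  set Z : Finset Γ := (InvCoset (x * y) H).toFinset with hZ
  have hXn : (InvCoset x H).ncard = X.card := Set.ncard_eq_toFinset_card' _
  have hYn : (InvCoset y H).ncard = Y.card := Set.ncard_eq_toFinset_card' _
  have hZn : (InvCoset (x * y) H).ncard = Z.card := Set.ncard_eq_toFinset_card' _
  -- the map to `Z`
  let φ : Γ × Γ → Γ := fun p =>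
    if hp : p.1 ∈ InvCoset x H ∧ p.2 ∈ InvCoset y H then (hb p.1 hp.1 p.2 hp.2).choose else 1
  have hφ : ∀ p ∈ X ×ˢ Y, φ p ∈ Z := by
    intro p hp
    rw [Finset.mem_product, hX, hY, Set.mem_toFinset, Set.mem_toFinset] at hp
    simp only [φ, dif_pos hp]
    rw [hZ, Set.mem_toFinset]
    exact (hb p.1 hp.1 p.2 hp.2).choose_spec.1.1
  have hfib : ∀ w ∈ Z, ((X ×ˢ Y).filter (fun p => φ p = w)) =
      (X.filter (fun s => w * s = s * w)) ×ˢ (Y.filter (fun t => w * t = t * w)) := by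
    intro w hw
    rw [hZ, Set.mem_toFinset] at hw
    ext p
    simp only [Finset.mem_filter, Finset.mem_product, hX, hY, Set.mem_toFinset]
    constructor
    · rintro ⟨hp, hpw⟩
      simp only [φ, dif_pos hp] at hpw
      have := (hb p.1 hp.1 p.2 hp.2).choose_spec.1
      rw [hpw] at this
      exact ⟨⟨hp.1, this.2.1⟩, ⟨hp.2, this.2.2⟩⟩
    · rintro ⟨⟨h1, h1'⟩, ⟨h2, h2'⟩⟩
      refine ⟨⟨h1, h2⟩, ?_⟩
      have hp : p.1 ∈ InvCoset x H ∧ p.2 ∈ InvCoset y H := ⟨h1, h2⟩
      simp only [φ, dif_pos hp]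
      exact ((hb p.1 h1 p.2 h2).choose_spec.2 w ⟨hw, h1', h2'⟩).symm
  have hXw : ∀ w ∈ Z, (X.filter (fun s => w * s = s * w)).card * c0 = cz := by
    intro w hw
    rw [hZ, Set.mem_toFinset] at hw
    have := hcx w hw
    rw [Set.ncard_eq_toFinset_card'] at this
    convert this using 3
    ext s
    simp [hX]
  have hYw : ∀ w ∈ Z, (Y.filter (fun t => w * t = t * w)).card * c0 = cz := by
    intro w hw
    rw [hZ, Set.mem_toFinset] at hw
    have := hcy w hw
    rw [Set.ncard_eq_toFinset_card'] at this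
    convert this using 3
    ext s
    simp [hY]
  have hsum : X.card * Y.card = ∑ w ∈ Z, (X.filter (fun s => w * s = s * w)).card *
      (Y.filter (fun t => w * t = t * w)).card := by
    rw [← Finset.card_product, Finset.card_eq_sum_card_fiberwise hφ]
    apply Finset.sum_congr rfl
    intro w hw
    rw [hfib w hw, Finset.card_product]
  have hkey : X.card * Y.card * c0 ^ 2 = Z.card * cz ^ 2 := by
    rw [hsum, Finset.sum_mul]
    rw [Finset.card_eq_sum_ones, Finset.sum_mul]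
    apply Finset.sum_congr rfl
    intro w hw
    have e1 := hXw w hw
    have e2 := hYw w hw
    calc (X.filter (fun s => w * s = s * w)).card * (Y.filter (fun t => w * t = t * w)).card * c0 ^ 2
        = ((X.filter (fun s => w * s = s * w)).card * c0) *
            ((Y.filter (fun t => w * t = t * w)).card * c0) := by ring
      _ = 1 * cz ^ 2 := by rw [e1, e2]; ring
  rw [hXn] at hXc
  rw [hYn] at hYc
  rw [hZn] at hZc
  -- (|X| cx)(|Y| cy) c0² cz = (|Z| cz) cz² cx cy
  have e : h * h * c0 ^ 2 * cz = h * cz * (cx * cy * cz) := by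
    calc h * h * c0 ^ 2 * cz = (X.card * cx) * (Y.card * cy) * c0 ^ 2 * cz := by rw [hXc, hYc]
      _ = (X.card * Y.card * c0 ^ 2) * (cx * cy * cz) := by ring
      _ = (Z.card * cz ^ 2) * (cx * cy * cz) := by rw [hkey]
      _ = (Z.card * cz) * cz * (cx * cy * cz) := by ring
      _ = h * cz * (cx * cy * cz) := by rw [hZc]
  have e' : (h * cz) * (h * c0 ^ 2) = (h * cz) * (cx * cy * cz) := by
    rw [← e]; ring
  exact Nat.eq_of_mul_eq_mul_left (Nat.mul_pos hpos hczpos) e'

/-- Brauer-Wielandt from the spec statements of the leaves BWa (card), BWb, BWc. -/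
theorem brauer_wielandt_of_leaves
    (BWa : ∀ (H : Subgroup Γ), Odd (Nat.card H) → ∀ {x : Γ}, x * x = 1 →
      (∀ g ∈ H, x * g * x⁻¹ ∈ H) →
      (InvCoset x H).ncard * Nat.card (H ⊓ Subgroup.centralizer {x} : Subgroup Γ) = Nat.card H)
    (BWb : ∀ (H : Subgroup Γ), Odd (Nat.card H) → ∀ {x y : Γ}, x * x = 1 → y * y = 1 →
      x * y = y * x → (∀ g ∈ H, x * g * x⁻¹ ∈ H) → (∀ g ∈ H, y * g * y⁻¹ ∈ H) → ∀ {s t : Γ},
      s ∈ InvCoset x H → t ∈ InvCoset y H →
      ∃! w : Γ, w ∈ InvCoset (x * y) H ∧ w * s = s * w ∧ w * t = t * w)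
    (BWc : ∀ (H : Subgroup Γ), Odd (Nat.card H) → ∀ {x y : Γ}, x * x = 1 → y * y = 1 →
      x * y = y * x → (∀ g ∈ H, x * g * x⁻¹ ∈ H) → (∀ g ∈ H, y * g * y⁻¹ ∈ H) → ∀ {w : Γ},
      w ∈ InvCoset (x * y) H →
      {s | s ∈ InvCoset x H ∧ w * s = s * w}.ncard *
        Nat.card (H ⊓ Subgroup.centralizer {x, y} : Subgroup Γ) =
        Nat.card (H ⊓ Subgroup.centralizer {x * y} : Subgroup Γ))
    (H : Subgroup Γ) (hH : Odd (Nat.card H)) {x y : Γ}
    (x2 : x * x = 1) (y2 : y * y = 1) (comm : x * y = y * x)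
    (hxH : ∀ g ∈ H, x * g * x⁻¹ ∈ H) (hyH : ∀ g ∈ H, y * g * y⁻¹ ∈ H) :
    Nat.card H * Nat.card (H ⊓ Subgroup.centralizer {x, y} : Subgroup Γ) ^ 2 =
      Nat.card (H ⊓ Subgroup.centralizer {x} : Subgroup Γ) *
        Nat.card (H ⊓ Subgroup.centralizer {y} : Subgroup Γ) *
        Nat.card (H ⊓ Subgroup.centralizer {x * y} : Subgroup Γ) := by
  have z2 : (x * y) * (x * y) = 1 := by
    calc (x * y) * (x * y) = x * (y * x) * y := by group
      _ = x * (x * y) * y := by rw [comm]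
      _ = (x * x) * (y * y) := by group
      _ = 1 := by rw [x2, y2, mul_one]
  have hzH : ∀ g ∈ H, (x * y) * g * (x * y)⁻¹ ∈ H := by
    intro g hg
    have := hxH _ (hyH g hg)
    convert this using 1
    group
  refine brauer_wielandt_of H (BWa H hH x2 hxH) (BWa H hH y2 hyH) (BWa H hH z2 hzH)
    (fun s hs t ht => BWb H hH x2 y2 comm hxH hyH hs ht)
    (fun w hw => BWc H hH x2 y2 comm hxH hyH hw) ?_
  intro w hw
  have hw' : w ∈ InvCoset (y * x) H := by rw [← comm]; exact hw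
  have := BWc H hH y2 x2 comm.symm hyH hxH hw'
  rw [Set.pair_comm y x, ← comm] at this
  exact this

end Cfsg.Agent.Lib.Helper87.Hall4
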