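import Mathlib
import Cfsg.Agent.Lib.Helper06.Hall4.Defs
import Cfsg.Agent.Lib.Helper87.H4BWd
import Cfsg.Agent.Lib.Helper43.H4BWa
import Cfsg.Agent.Lib.Helper43.H4BWb
import Cfsg.Agent.Lib.Helper57.H4BWc

/-!
# K-H4 pack (S4221, architect helper6), keystone 422123 (K-H4-BWd): Brauer-Wielandt, exact signature
-/

set_option autoImplicit false

namespace Cfsg.Agent.Lib.Helper87.Hall4

open Equiv Cfsg.Agent.Lib.Helper06.Hall4

variable {Γ : Type*} [Group Γ] [Finite Γ]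

/-- LEAF BWd (422123): Brauer-Wielandt. -/
theorem brauer_wielandt (H : Subgroup Γ) (hH : Odd (Nat.card H)) {x y : Γ}
    (x2 : x * x = 1) (y2 : y * y = 1) (comm : x * y = y * x)
    (hxH : ∀ g ∈ H, x * g * x⁻¹ ∈ H) (hyH : ∀ g ∈ H, y * g * y⁻¹ ∈ H) :
    Nat.card H * Nat.card (H ⊓ Subgroup.centralizer {x, y} : Subgroup Γ) ^ 2 =
      Nat.card (H ⊓ Subgroup.centralizer {x} : Subgroup Γ) *
        Nat.card (H ⊓ Subgroup.centralizer {y} : Subgroup Γ) *
        Nat.card (H ⊓ Subgroup.centralizer {x * y} : Subgroup Γ) :=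
  brauer_wielandt_of_leaves
    (fun H hH _ x2 hxH => Cfsg.Agent.Lib.Helper43.Hall4.card_invCoset H hH x2 hxH)
    (fun H hH _ _ x2 y2 comm hxH hyH _ _ hs ht =>
      Cfsg.Agent.Lib.Helper43.Hall4.existsUnique_central H hH x2 y2 comm hxH hyH hs ht)
    (fun H hH _ _ x2 y2 comm hxH hyH _ hw =>
      Cfsg.Agent.Lib.Helper57.Hall4.card_invCoset_comm_of
        (fun H hH _ x2 hxH _ hs =>
          Cfsg.Agent.Lib.Helper43.Hall4.exists_conj_of_mem_invCoset H hH x2 hxH hs)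
        (fun H hH _ x2 hxH => Cfsg.Agent.Lib.Helper43.Hall4.card_invCoset H hH x2 hxH)
        H hH x2 y2 comm hxH hyH hw)
    H hH x2 y2 comm hxH hyH

end Cfsg.Agent.Lib.Helper87.Hall4
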