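import Mathlib
import Cfsg.Prelude.Def_GeometricClasses

/-!
# S5778 (maximal subgroups of `SU_3(q)`): shared definitions for the leaf pack (architect helper87)

* `SU3 F q` : `GU 3 F q ⊓ specialLinear (Fin 3) F`.
* `stab P` : the subgroup of `GL_3(F)` of all `g` with `P (g v) ↔ P v` for every vector `v`.
* `InX5`, `InX5'` : two descriptions of the 630 vectors (centres of the involutions) permuted by `3.A_7 < SU_3(5)`.
* `InY5` : the 270 vectors permuted by `3.M_10 < SU_3(5)`.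
* `InX3 ι` : the 42 vectors permuted by `L_2(7) < SU_3(3)` (`ι ^ 2 = -1`).
* explicit matrices used in the leaves.
-/

set_option autoImplicit false

namespace Cfsg.Agent.Lib.Helper87.SU3

open Cfsg Cfsg.Geo Matrix

/-- `SU_3(q)` inside `GL_3(F)`. -/
abbrev SU3 (F : Type*) [Field F] (q : ℕ) : Subgroup (GL (Fin 3) F) :=
  GU 3 F q ⊓ specialLinear (Fin 3) F

section general

variable {G : Type*} [Group G]

/-- A subgroup `L` strictly between `H` and `K` kills maximality. -/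
theorem not_isMaximalIn_of_between {K H L : Subgroup G} (hHL : H ≤ L) (hLK : L ≤ K)
    (hs : ∃ s ∈ K, s ∉ L) (hl : ∃ l ∈ L, l ∉ H) : ¬ IsMaximalIn K H := by
  rintro ⟨_, hmax⟩
  rcases hmax L hHL hLK with h | h
  · obtain ⟨l, hl1, hl2⟩ := hl
    exact hl2 (h ▸ hl1)
  · obtain ⟨s, hs1, hs2⟩ := hs
    exact hs2 (h ▸ hs1)

/-- Conjugation by an element normalising `K` preserves maximality in `K`. -/
theorem isMaximalIn_map_conj {K H : Subgroup G} (g : G)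
    (hg : K.map (MulAut.conj g).toMonoidHom = K) (h : IsMaximalIn K H) :
    IsMaximalIn K (H.map (MulAut.conj g).toMonoidHom) := by
  obtain ⟨hlt, hmax⟩ := h
  have hinj : Function.Injective (MulAut.conj g).toMonoidHom := (MulAut.conj g).injective
  refine ⟨?_, ?_⟩
  · have := (Subgroup.map_lt_map_iff_of_injective hinj).2 hlt
    rwa [hg] at this
  · intro M hHM hMK
    have e : ∀ S : Subgroup G, (S.comap (MulAut.conj g).toMonoidHom).map (MulAut.conj g).toMonoidHom = S :=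
      fun S => Subgroup.map_comap_eq_self_of_surjective (MulAut.conj g).surjective S
    have h1 : H ≤ M.comap (MulAut.conj g).toMonoidHom := by
      rw [← Subgroup.map_le_iff_le_comap]; exact hHM
    have h2 : M.comap (MulAut.conj g).toMonoidHom ≤ K := by
      have : M.comap (MulAut.conj g).toMonoidHom ≤ K.comap (MulAut.conj g).toMonoidHom :=
        Subgroup.comap_mono hMK
      refine this.trans ?_
      conv_lhs => rw [← hg]
      rw [Subgroup.comap_map_eq_self_of_injective hinj]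
    rcases hmax _ h1 h2 with h3 | h3
    · left; rw [← e M, h3]
    · right; rw [← e M, h3, hg]

end general

variable {F : Type*} [Field F]

/-- The stabiliser of a predicate on vectors. -/
def stab (P : (Fin 3 → F) → Prop) : Subgroup (GL (Fin 3) F) where
  carrier := {g | ∀ v, P ((g : Matrix (Fin 3) (Fin 3) F) *ᵥ v) ↔ P v}
  mul_mem' {a b} ha hb := by
    intro v
    rw [Units.val_mul, ← Matrix.mulVec_mulVec, ha, hb]
  one_mem' := by intro v; simp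
  inv_mem' {a} ha := by
    intro v
    have h := ha (((a⁻¹ : GL (Fin 3) F) : Matrix (Fin 3) (Fin 3) F) *ᵥ v)
    rw [Matrix.mulVec_mulVec, ← Units.val_mul, mul_inv_cancel, Units.val_one, Matrix.one_mulVec] at h
    exact h.symm

theorem mem_stab {P : (Fin 3 → F) → Prop} {g : GL (Fin 3) F} :
    g ∈ stab P ↔ ∀ v, P ((g : Matrix (Fin 3) (Fin 3) F) *ᵥ v) ↔ P v := Iff.rfl

/-- For an element of finite order it is enough to check one implication. -/
theorem mem_stab_of_forall_imp {P : (Fin 3 → F) → Prop} {g : GL (Fin 3) F} {n : ℕ} (hn : 0 < n)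
    (hgn : g ^ n = 1) (h : ∀ v, P v → P ((g : Matrix (Fin 3) (Fin 3) F) *ᵥ v)) : g ∈ stab P := by
  have hk : ∀ k : ℕ, ∀ v, P v → P (((g ^ k : GL (Fin 3) F) : Matrix (Fin 3) (Fin 3) F) *ᵥ v) := by
    intro k
    induction k with
    | zero => intro v hv; simpa using hv
    | succ k ih =>
      intro v hv
      rw [pow_succ', Units.val_mul, ← Matrix.mulVec_mulVec]
      exact h _ (ih v hv)
  intro v
  refine ⟨fun hv => ?_, h v⟩
  have := hk (n - 1) _ hv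
  rwa [Matrix.mulVec_mulVec, ← Units.val_mul, ← pow_succ, Nat.sub_add_cancel hn, hgn, Units.val_one,
    Matrix.one_mulVec] at this

theorem stab_congr {P Q : (Fin 3 → F) → Prop} (h : ∀ v, P v ↔ Q v) : stab P = stab Q := by
  have : P = Q := funext fun v => propext (h v)
  rw [this]

/-! ### invariants of a vector -/

/-- `Σ v_i^(q+1) = hermForm 3 F q v v`. -/
def nrm (q : ℕ) (v : Fin 3 → F) : F := v 0 ^ (q + 1) + v 1 ^ (q + 1) + v 2 ^ (q + 1)
/-- second elementary symmetric function of the norms of the coordinates. -/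
def sg2 (q : ℕ) (v : Fin 3 → F) : F :=
  v 0 ^ (q + 1) * v 1 ^ (q + 1) + v 1 ^ (q + 1) * v 2 ^ (q + 1) + v 2 ^ (q + 1) * v 0 ^ (q + 1)
/-- `v · v`. -/
def bet (v : Fin 3 → F) : F := v 0 ^ 2 + v 1 ^ 2 + v 2 ^ 2
/-- product of the coordinates. -/
def prd (v : Fin 3 → F) : F := v 0 * v 1 * v 2
/-- sum of the cubes of the coordinates. -/
def cub (v : Fin 3 → F) : F := v 0 ^ 3 + v 1 ^ 3 + v 2 ^ 3

theorem hermForm_self (q : ℕ) (v : Fin 3 → F) : hermForm 3 F q v v = nrm q v := by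
  simp [hermForm, nrm, Fin.sum_univ_three, pow_succ, mul_comm]

/-- `|F| = 25`: the 630 vectors of the `3.A_7`-orbit, monomial description. -/
def InX5 (v : Fin 3 → F) : Prop :=
  nrm 5 v = 1 ∧ ((prd v = 0 ∧ sg2 5 v * (sg2 5 v + 1) = 0) ∨
    (prd v ≠ 0 ∧ (prd v ^ 2 + 1) * (prd v ^ 2 - 2) = 0))

/-- `|F| = 25`: the same 630 vectors, orthogonal description. -/
def InX5' (v : Fin 3 → F) : Prop :=
  nrm 5 v = 1 ∧ ((∀ i j : Fin 3, v i * v j ^ 5 = v j * v i ^ 5) ∨ bet v = 0 ∨ bet v ^ 3 = 2)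

/-- `|F| = 25`: the 270 vectors of the `3.M_10`-orbit (Hesse pencil description). -/
def InY5 (v : Fin 3 → F) : Prop :=
  nrm 5 v = 1 ∧ ((cub v = 0 ∧ (prd v = 0 ∨ prd v ^ 2 = -1)) ∨
    (prd v ^ 2 = 2 ∧ (cub v * prd v) ^ 3 = 2))

/-- `|F| = 9`, `ι ^ 2 = -1`: the 42 vectors of the `L_2(7)`-orbit. -/
def InX3 (ι : F) (v : Fin 3 → F) : Prop :=
  nrm 3 v = 1 ∧ ((prd v = 0 ∧ (bet v = 1 ∨ bet v = ι)) ∨ (prd v ≠ 0 ∧ bet v = ι - 1))

/-! ### explicit matrices -/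

/-- the standard frame. -/
def stdFrame (F : Type*) [Field F] : Fin 3 → Submodule F (Fin 3 → F) :=
  fun i => Submodule.span F {Pi.single i 1}

/-- `q = 5`: the half-turn about `(1,1,1)`, `r = 4 J - 1`. -/
def r5m : Matrix (Fin 3) (Fin 3) F := !![3, 4, 4; 4, 3, 4; 4, 4, 3]
def mA5 (ω : F) : Matrix (Fin 3) (Fin 3) F := !![ω ^ 2, 0, 0; 0, 0, 1; 0, -ω, 0]
def mB5 (ω : F) : Matrix (Fin 3) (Fin 3) F := !![0, -ω ^ 2, 0; ω, 0, 0; 0, 0, 1]
def mC5 : Matrix (Fin 3) (Fin 3) F := !![-1, 0, 0; 0, 0, 1; 0, 1, 0]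
/-- `q = 5`: an element of order 7 of `3.A_7`. -/
def x5m (ω : F) : Matrix (Fin 3) (Fin 3) F := r5m * mA5 ω
/-- `q = 5`: an element of order 3 with `n x n⁻¹ = x ^ 2`. -/
def n5m (ω : F) : Matrix (Fin 3) (Fin 3) F := mB5 ω * r5m * mC5
/-- `diag(ω, ω², 1)`. -/
def dg5 (ω : F) : Matrix (Fin 3) (Fin 3) F := !![ω, 0, 0; 0, ω ^ 2, 0; 0, 0, 1]

/-- Heisenberg generators. -/
def aM (ω : F) : Matrix (Fin 3) (Fin 3) F := !![1, 0, 0; 0, ω, 0; 0, 0, ω ^ 2]
def bM : Matrix (Fin 3) (Fin 3) F := !![0, 0, 1; 1, 0, 0; 0, 1, 0]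
/-- the Fourier matrix, of determinant one. -/
def sM (ω : F) : Matrix (Fin 3) (Fin 3) F := (ω - ω ^ 2)⁻¹ • !![1, 1, 1; 1, ω, ω ^ 2; 1, ω ^ 2, ω]
/-- its conjugate by `diag(1,1,ω)`. -/
def sM' (ω : F) : Matrix (Fin 3) (Fin 3) F := (ω - ω ^ 2)⁻¹ • !![1, 1, ω ^ 2; 1, ω, ω; ω, 1, ω]
/-- `q = 5`: the half-turn about `(1,1,-1)`. -/
def t5m : Matrix (Fin 3) (Fin 3) F := !![3, 4, 1; 4, 3, 1; 1, 1, 3]
/-- `diag(-1,-1,1)`. -/
def d5m : Matrix (Fin 3) (Fin 3) F := !![-1, 0, 0; 0, -1, 0; 0, 0, 1]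

/-- `R₀` is the Heisenberg group `{ω^i a^j b^k}` of order 27. -/
def IsHeis (ω : F) (R₀ : Subgroup (GL (Fin 3) F)) : Prop :=
  ∀ x : GL (Fin 3) F, x ∈ R₀ ↔ ∃ i j k : ℕ, (x : Matrix (Fin 3) (Fin 3) F) = ω ^ i • (aM ω ^ j * bM ^ k)

/-- `q = 3`: an involution of `L_2(7)`. -/
def w3m (ι : F) : Matrix (Fin 3) (Fin 3) F := !![1, 1 + ι, -1; 1 - ι, 0, 1 - ι; -1, 1 + ι, 1]
def mA3 : Matrix (Fin 3) (Fin 3) F := !![0, 1, 0; -1, 0, 0; 0, 0, 1]
def mB3 : Matrix (Fin 3) (Fin 3) F := !![0, 0, 1; 0, 1, 0; -1, 0, 0]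
/-- `q = 3`: an element of order 7. -/
def x3m (ι : F) : Matrix (Fin 3) (Fin 3) F := w3m ι * mA3
/-- `q = 3`: an element of order 3 with `n x n⁻¹ = x ^ 2`. -/
def n3m (ι : F) : Matrix (Fin 3) (Fin 3) F := mB3 * w3m ι
/-- `diag(ι, -ι, 1)`. -/
def s3m (ι : F) : Matrix (Fin 3) (Fin 3) F := !![ι, 0, 0; 0, -ι, 0; 0, 0, 1]
/-- `diag(1, -1, -1)`. -/
def d3m : Matrix (Fin 3) (Fin 3) F := !![1, 0, 0; 0, -1, 0; 0, 0, -1]

end Cfsg.Agent.Lib.Helper87.SU3
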