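import Cfsg.Agent.Lib.Helper87.FusionSaturated
import Cfsg.Agent.Lib.Helper88.SylowLocal2

set_option autoImplicit false

namespace Cfsg.Agent.Lib.Helper87

open Cfsg Cfsg.FusionSystem

section PushPull

variable {Ω : Type*} [Group Ω] {S : Subgroup Ω} {G : Type*} [Group G]

/-- The image in `G` of a subgroup `P` of `Ω` (of its part inside `S`) under `ι : S →* G`. -/
def push (ι : S →* G) (P : Subgroup Ω) : Subgroup G := (P.subgroupOf S).map ι

theorem mem_push {ι : S →* G} {P : Subgroup Ω} {y : G} :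
    y ∈ push ι P ↔ ∃ s : S, (s : Ω) ∈ P ∧ ι s = y := by
  unfold push
  constructor
  · rintro ⟨s, hs, rfl⟩
    exact ⟨s, Subgroup.mem_subgroupOf.mp hs, rfl⟩
  · rintro ⟨s, hs, rfl⟩
    exact ⟨s, Subgroup.mem_subgroupOf.mpr hs, rfl⟩

theorem push_le_range (ι : S →* G) (P : Subgroup Ω) : push ι P ≤ ι.range := by
  intro y hy
  obtain ⟨s, -, rfl⟩ := mem_push.mp hy
  exact ⟨s, rfl⟩

theorem coe_mem_push {ι : S →* G} {P : Subgroup Ω} (hP : P ≤ S) (x : P) :
    ι ⟨x, hP x.2⟩ ∈ push ι P :=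
  mem_push.mpr ⟨⟨x, hP x.2⟩, x.2, rfl⟩

theorem push_mono (ι : S →* G) {P Q : Subgroup Ω} (h : P ≤ Q) : push ι P ≤ push ι Q := by
  intro y hy
  obtain ⟨s, hs, rfl⟩ := mem_push.mp hy
  exact mem_push.mpr ⟨s, h hs, rfl⟩

/-- The preimage in `Ω` of a subgroup of `G` under `ι : S →* G`. -/
def pull (ι : S →* G) (P' : Subgroup G) : Subgroup Ω := (P'.comap ι).map S.subtype

theorem mem_pull {ι : S →* G} {P' : Subgroup G} {x : Ω} :
    x ∈ pull ι P' ↔ ∃ h : x ∈ S, ι ⟨x, h⟩ ∈ P' := by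
  unfold pull
  constructor
  · rintro ⟨s, hs, rfl⟩
    exact ⟨s.2, hs⟩
  · rintro ⟨h, hx⟩
    exact ⟨⟨x, h⟩, hx, rfl⟩

theorem pull_le (ι : S →* G) (P' : Subgroup G) : pull ι P' ≤ S := by
  intro x hx
  exact (mem_pull.mp hx).1

theorem push_pull (ι : S →* G) {P' : Subgroup G} (h : P' ≤ ι.range) : push ι (pull ι P') = P' := by
  ext y
  rw [mem_push]
  constructor
  · rintro ⟨s, hs, rfl⟩
    obtain ⟨_, h2⟩ := mem_pull.mp hs
    exact h2
  · intro hy
    obtain ⟨s, rfl⟩ := h hy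
    exact ⟨s, mem_pull.mpr ⟨s.2, hy⟩, rfl⟩

theorem pull_push {ι : S →* G} (hinj : Function.Injective ι) {P : Subgroup Ω} (hP : P ≤ S) :
    pull ι (push ι P) = P := by
  ext x
  rw [mem_pull]
  constructor
  · rintro ⟨h, hx⟩
    obtain ⟨s, hs, hsx⟩ := mem_push.mp hx
    have : s = ⟨x, h⟩ := hinj hsx
    rw [this] at hs
    exact hs
  · intro hx
    exact ⟨hP hx, mem_push.mpr ⟨⟨x, hP hx⟩, hx, rfl⟩⟩

/-- The isomorphism from `P ≤ S` onto its image. -/
noncomputable def pushEquiv {ι : S →* G} (hinj : Function.Injective ι) {P : Subgroup Ω} (hP : P ≤ S) :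
    P ≃* push ι P :=
  MulEquiv.ofBijective ((ι.comp (Subgroup.inclusion hP)).codRestrict (push ι P) (coe_mem_push hP))
    ⟨fun a b hab => by
      have h1 : ι ⟨a, hP a.2⟩ = ι ⟨b, hP b.2⟩ := congrArg Subtype.val hab
      have h2 := hinj h1
      exact Subtype.ext (congrArg (fun z : S => (z : Ω)) h2),
    fun y => by
      obtain ⟨s, hs, hsy⟩ := mem_push.mp y.2
      exact ⟨⟨s, hs⟩, Subtype.ext hsy⟩⟩

@[simp] theorem pushEquiv_apply {ι : S →* G} (hinj : Function.Injective ι) {P : Subgroup Ω} (hP : P ≤ S)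
    (x : P) : ((pushEquiv hinj hP x : push ι P) : G) = ι ⟨x, hP x.2⟩ := rfl

/-- The map `P → Ω`, `x ↦ ι⁻¹(g ι(x) g⁻¹)`. -/
noncomputable def pullConj (ι : S →* G) (hinj : Function.Injective ι) (P : Subgroup Ω) (hP : P ≤ S)
    (g : G) (h : ∀ x : P, g * ι ⟨x, hP x.2⟩ * g⁻¹ ∈ ι.range) : P →* Ω :=
  S.subtype.comp ((MonoidHom.ofInjective hinj).symm.toMonoidHom.comp
    (((MulAut.conj g).toMonoidHom.comp (ι.comp (Subgroup.inclusion hP))).codRestrict ι.range h))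

theorem pullConj_mem (ι : S →* G) (hinj : Function.Injective ι) (P : Subgroup Ω) (hP : P ≤ S)
    (g : G) (h : ∀ x : P, g * ι ⟨x, hP x.2⟩ * g⁻¹ ∈ ι.range) (x : P) :
    pullConj ι hinj P hP g h x ∈ S :=
  Subtype.prop _

theorem ι_pullConj (ι : S →* G) (hinj : Function.Injective ι) (P : Subgroup Ω) (hP : P ≤ S)
    (g : G) (h : ∀ x : P, g * ι ⟨x, hP x.2⟩ * g⁻¹ ∈ ι.range) (x : P) :
    ι ⟨pullConj ι hinj P hP g h x, pullConj_mem ι hinj P hP g h x⟩ = g * ι ⟨x, hP x.2⟩ * g⁻¹ := by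
  have := MonoidHom.apply_ofInjective_symm hinj ⟨g * ι ⟨x, hP x.2⟩ * g⁻¹, h x⟩
  exact this

end PushPull

section Realized

variable {Ω : Type*} [Group Ω] {S : Subgroup Ω} {G : Type*} [Group G] (F : FusionSystem S)
  {ι : S →* G}

theorem pullConj_mem_hom (hι : F.IsRealizedBy ι) (P : Subgroup Ω) (hP : P ≤ S) (g : G)
    (h : ∀ x : P, g * ι ⟨x, hP x.2⟩ * g⁻¹ ∈ ι.range) : pullConj ι hι.1 P hP g h ∈ F.Hom P :=
  (hι.2 P hP _ (pullConj_mem ι hι.1 P hP g h)).mpr ⟨g, ι_pullConj ι hι.1 P hP g h⟩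

theorem exists_conj_of_mem_hom (hι : F.IsRealizedBy ι) {P : Subgroup Ω} {φ : P →* Ω}
    (hφ : φ ∈ F.Hom P) :
    ∃ g : G, ∀ x : P, ι ⟨φ x, hom_mem F hφ x⟩ = g * ι ⟨x, hom_le F hφ x.2⟩ * g⁻¹ :=
  (hι.2 P (hom_le F hφ) φ (hom_mem F hφ)).mp hφ

theorem congr_pushEquiv_apply (hinj : Function.Injective ι) {Q : Subgroup Ω} (hQ : Q ≤ S)
    (α : MulAut Q) (x : Q) :
    (((MulAut.congr (pushEquiv hinj hQ) α) (pushEquiv hinj hQ x) : push ι Q) : G) =
      ι ⟨α x, hQ (α x).2⟩ := by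
  simp [MulAut.congr]

theorem map_congr_autGroup_realized (hι : F.IsRealizedBy ι) {Q : Subgroup Ω} (hQ : Q ≤ S) :
    (F.autGroup Q).map (MulAut.congr (pushEquiv hι.1 hQ)).toMonoidHom =
      autInducedBy ⊤ (push ι Q) := by
  set e := pushEquiv hι.1 hQ with he
  ext β
  constructor
  · rintro ⟨α, hα, rfl⟩
    have hα' := autGroup_hom_mem F hQ hα
    obtain ⟨g, hg⟩ := exists_conj_of_mem_hom F hι hα'
    refine mem_autInducedBy_iff.mpr ⟨g, Subgroup.mem_top g, fun y => ?_⟩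
    obtain ⟨x, rfl⟩ := e.surjective y
    show (((MulAut.congr e α) (e x) : push ι Q) : G) = g * ι ⟨x, hQ x.2⟩ * g⁻¹
    rw [congr_pushEquiv_apply hι.1 hQ α x]
    exact hg x
  · intro hβ
    obtain ⟨g, -, hg⟩ := mem_autInducedBy_iff.mp hβ
    refine ⟨(MulAut.congr e).symm β, ?_, (MulAut.congr e).apply_symm_apply β⟩
    have hmem : ((MulAut.congr e).symm β) ∈ F.autGroup Q := by
      rw [mem_autGroup_iff F hQ]
      refine (hι.2 Q hQ _ (fun x => hQ (((MulAut.congr e).symm β) x).2)).mpr ⟨g, fun x => ?_⟩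
      have h1 := congr_pushEquiv_apply hι.1 hQ ((MulAut.congr e).symm β) x
      rw [(MulAut.congr e).apply_symm_apply β] at h1
      show ι ⟨(((MulAut.congr e).symm β) x : Q), _⟩ = _
      rw [← h1, hg]
      rfl
    exact hmem

theorem map_congr_autInducedBy_realized (hinj : Function.Injective ι) {Q : Subgroup Ω} (hQ : Q ≤ S) :
    (autInducedBy S Q).map (MulAut.congr (pushEquiv hinj hQ)).toMonoidHom =
      autInducedBy ι.range (push ι Q) := by
  set e := pushEquiv hinj hQ with he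
  ext β
  constructor
  · rintro ⟨α, hα, rfl⟩
    obtain ⟨s, hs, hsα⟩ := mem_autInducedBy_iff.mp hα
    refine mem_autInducedBy_iff.mpr ⟨ι ⟨s, hs⟩, ⟨_, rfl⟩, fun y => ?_⟩
    obtain ⟨x, rfl⟩ := e.surjective y
    show (((MulAut.congr e α) (e x) : push ι Q) : G) = ι ⟨s, hs⟩ * ι ⟨x, hQ x.2⟩ * (ι ⟨s, hs⟩)⁻¹
    rw [congr_pushEquiv_apply hinj hQ α x, ← map_inv, ← map_mul, ← map_mul]
    congr 1
    exact Subtype.ext (hsα x)
  · intro hβ
    obtain ⟨t, ⟨s, rfl⟩, ht⟩ := mem_autInducedBy_iff.mp hβ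
    refine ⟨(MulAut.congr e).symm β, ?_, (MulAut.congr e).apply_symm_apply β⟩
    refine mem_autInducedBy_iff.mpr ⟨s, s.2, fun x => ?_⟩
    have h1 := congr_pushEquiv_apply hinj hQ ((MulAut.congr e).symm β) x
    rw [(MulAut.congr e).apply_symm_apply β, ht] at h1
    have h2 : ι ⟨(((MulAut.congr e).symm β) x : Q), hQ (((MulAut.congr e).symm β) x).2⟩ =
        ι (s * ⟨x, hQ x.2⟩ * s⁻¹) := by
      rw [← h1, map_mul, map_mul, map_inv]
      rfl
    have h3 := hinj h2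
    exact congrArg (fun z : S => (z : Ω)) h3

/-- Transport of relative Sylow subgroups along an isomorphism of ambient groups. -/
theorem sylow_transport {p : ℕ} {X Y : Type*} [Group X] [Group Y] (Φ : X ≃* Y)
    {A B : Subgroup X} {A' B' : Subgroup Y} (hA : A.map Φ.toMonoidHom = A')
    (hB : B.map Φ.toMonoidHom = B') (hBA : B ≤ A)
    (h : ∃ R : Sylow p A', (R : Subgroup A') = B'.subgroupOf A') :
    ∃ R : Sylow p A, (R : Subgroup A) = B.subgroupOf A := by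
  have hBA' : B' ≤ A' := by rw [← hA, ← hB]; exact Subgroup.map_mono hBA
  rw [sylow_subgroupOf_iff _ _ hBA'] at h
  rw [sylow_subgroupOf_iff _ _ hBA]
  obtain ⟨hB'p, hmax⟩ := h
  constructor
  · have : IsPGroup p (B.map Φ.toMonoidHom) := hB ▸ hB'p
    exact this.of_injective (Φ.subgroupMap B).toMonoidHom (Φ.subgroupMap B).injective
  · intro C hC hBC hCA
    have h1 : IsPGroup p (C.map Φ.toMonoidHom) := hC.map _
    have h2 : B' ≤ C.map Φ.toMonoidHom := by rw [← hB]; exact Subgroup.map_mono hBC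
    have h3 : C.map Φ.toMonoidHom ≤ A' := by rw [← hA]; exact Subgroup.map_mono hCA
    have h4 := hmax _ h1 h2 h3
    rw [← hB] at h4
    exact Subgroup.map_injective Φ.injective h4

open Cfsg.Agent.Lib.Helper88 in
/-- In a system realized by a finite group on a Sylow subgroup, a subgroup `Q` whose image `Q'`
has `N_T(Q')` Sylow in `N_G(Q')` is fully automized. -/
theorem isFullyAutomized_of_realized [Finite G] {p : ℕ} [Fact p.Prime] (hι : F.IsRealizedBy ι)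
    (T : Sylow p G) (hT : (T : Subgroup G) = ι.range) {Q : Subgroup Ω} (hQ : Q ≤ S)
    (hN : IsSylowIn p (normalizerIn (T : Subgroup G) (push ι Q))
      (Subgroup.normalizer ((push ι Q : Subgroup G) : Set G))) :
    F.IsFullyAutomized p Q := by
  refine ⟨hQ, ?_⟩
  have h1 := autInducedBy_sylow_of_normalizer_sylow T (push ι Q) hN
  rw [hT] at h1
  exact sylow_transport (MulAut.congr (pushEquiv hι.1 hQ)) (map_congr_autGroup_realized F hι hQ)
    (map_congr_autInducedBy_realized hι.1 hQ) (autInducedBy_le_autGroup F hQ) h1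

open Cfsg.Agent.Lib.Helper88 in
/-- In a system realized by a finite group on a Sylow subgroup, a subgroup `Q` whose image `Q'`
has `N_T(Q')` Sylow in `N_G(Q')` is receptive. -/
theorem isReceptive_of_realized [Finite G] {p : ℕ} [Fact p.Prime] (hι : F.IsRealizedBy ι)
    (T : Sylow p G) (hT : (T : Subgroup G) = ι.range) {Q : Subgroup Ω} (hQ : Q ≤ S)
    (hN : IsSylowIn p (normalizerIn (T : Subgroup G) (push ι Q))
      (Subgroup.normalizer ((push ι Q : Subgroup G) : Set G))) :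
    F.IsReceptive Q := by
  refine ⟨hQ, fun R φ hφ hφr => ?_⟩
  have hRS : R ≤ S := hom_le F hφ
  obtain ⟨k, hk⟩ := exists_conj_of_mem_hom F hι hφ
  obtain ⟨h, hhC, hle⟩ := sylow_extension T (push ι R) (push ι Q) k hN
  have hinj := hι.1
  have hNS : extender S R φ ≤ S := (extender_le S R φ).trans (normalizerIn_le S R)
  -- elements of Q' are of the form ι (φ r)
  have hQ' : ∀ y ∈ push ι Q, ∃ r : R, y = ι ⟨φ r, hom_mem F hφ r⟩ := by
    intro y hy
    obtain ⟨s, hs, rfl⟩ := mem_push.mp hy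
    rw [← hφr] at hs
    obtain ⟨r, hr⟩ := hs
    exact ⟨r, congrArg ι (Subtype.ext hr.symm)⟩
  have hφQ' : ∀ r : R, ι ⟨φ r, hom_mem F hφ r⟩ ∈ push ι Q := by
    intro r
    refine mem_push.mpr ⟨⟨φ r, hom_mem F hφ r⟩, ?_, rfl⟩
    rw [← hφr]; exact ⟨r, rfl⟩
  have hkey : ∀ x : extender S R φ, ι ⟨x, hNS x.2⟩ ∈
      (normalizerIn (T : Subgroup G) (push ι R)) ⊓
        (normalizerIn (T : Subgroup G) (push ι Q) ⊔
          Subgroup.centralizer ((push ι Q : Subgroup G) : Set G)).comap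
            (MulAut.conj k).toMonoidHom := by
    intro x
    obtain ⟨hxS, hxN, s, hsS, hs⟩ := mem_extender_iff.mp x.2
    have hxr : ∀ r : R, (x : Ω) * (r : Ω) * (x : Ω)⁻¹ ∈ R := fun r =>
      (Subgroup.mem_normalizer_iff.mp hxN r).mp r.2
    -- ι of the conjugate
    have hιconj : ∀ r : R, ι ⟨(x : Ω) * r * (x : Ω)⁻¹, hRS (hxr r)⟩ =
        ι ⟨x, hNS x.2⟩ * ι ⟨r, hRS r.2⟩ * (ι ⟨x, hNS x.2⟩)⁻¹ := by
      intro r
      rw [← map_inv, ← map_mul, ← map_mul]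
      rfl
    have hιs : ∀ r : R, ι ⟨φ ⟨(x : Ω) * r * (x : Ω)⁻¹, hxr r⟩, hom_mem F hφ _⟩ =
        ι ⟨s, hsS⟩ * ι ⟨φ r, hom_mem F hφ r⟩ * (ι ⟨s, hsS⟩)⁻¹ := by
      intro r
      rw [← map_inv, ← map_mul, ← map_mul]
      congr 1
      exact Subtype.ext (hs r (hxr r))
    refine ⟨⟨?_, ?_⟩, ?_⟩
    · rw [hT]; exact ⟨_, rfl⟩
    · apply mem_normalizer_of_conj_mem
      intro y hy
      obtain ⟨r, hr, rfl⟩ := mem_push.mp hy
      have := hιconj ⟨r, hr⟩
      rw [← this]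
      exact mem_push.mpr ⟨_, hxr ⟨r, hr⟩, rfl⟩
    · show k * ι ⟨x, hNS x.2⟩ * k⁻¹ ∈ normalizerIn (T : Subgroup G) (push ι Q) ⊔
        Subgroup.centralizer ((push ι Q : Subgroup G) : Set G)
      have hsN : ι ⟨s, hsS⟩ ∈ normalizerIn (T : Subgroup G) (push ι Q) := by
        refine ⟨by rw [hT]; exact ⟨_, rfl⟩, ?_⟩
        apply mem_normalizer_of_conj_mem
        intro y hy
        obtain ⟨r, rfl⟩ := hQ' y hy
        rw [← hιs r]
        exact hφQ' _
      have hc : (ι ⟨s, hsS⟩)⁻¹ * (k * ι ⟨x, hNS x.2⟩ * k⁻¹) ∈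
          Subgroup.centralizer ((push ι Q : Subgroup G) : Set G) := by
        rw [Subgroup.mem_centralizer_iff]
        intro y hy
        obtain ⟨r, rfl⟩ := hQ' y hy
        have h1 := hιs r
        rw [hk, hk, hιconj r] at h1
        rw [hk]
        generalize ι ⟨x, hNS x.2⟩ = X at h1 ⊢
        generalize ι ⟨r, hRS r.2⟩ = Y at h1 ⊢
        generalize ι ⟨s, hsS⟩ = b at h1 ⊢
        have e4 : b⁻¹ * (k * (X * Y * X⁻¹) * k⁻¹) * (k * X * k⁻¹) =
            b⁻¹ * (b * (k * Y * k⁻¹) * b⁻¹) * (k * X * k⁻¹) := by rw [h1]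
        have e5 : b⁻¹ * (k * (X * Y * X⁻¹) * k⁻¹) * (k * X * k⁻¹) =
            b⁻¹ * (k * X * k⁻¹) * (k * Y * k⁻¹) := by group
        have e6 : b⁻¹ * (b * (k * Y * k⁻¹) * b⁻¹) * (k * X * k⁻¹) =
            (k * Y * k⁻¹) * (b⁻¹ * (k * X * k⁻¹)) := by group
        rw [e5, e6] at e4
        exact e4.symm
      have e : k * ι ⟨x, hNS x.2⟩ * k⁻¹ =
          ι ⟨s, hsS⟩ * ((ι ⟨s, hsS⟩)⁻¹ * (k * ι ⟨x, hNS x.2⟩ * k⁻¹)) := by group
      rw [e]
      exact Subgroup.mul_mem _ ((le_sup_left : normalizerIn (T : Subgroup G) (push ι Q) ≤ _) hsN)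
        ((le_sup_right : Subgroup.centralizer ((push ι Q : Subgroup G) : Set G) ≤ _) hc)
  have hrange : ∀ x : extender S R φ, h * k * ι ⟨x, hNS x.2⟩ * (h * k)⁻¹ ∈ ι.range := by
    intro x
    rw [← hT]
    exact hle ⟨_, hkey x, rfl⟩
  refine ⟨pullConj ι hinj (extender S R φ) hNS (h * k) hrange,
    pullConj_mem_hom F hι (extender S R φ) hNS (h * k) hrange, fun x hR hN' => ?_⟩
  have h1 := ι_pullConj ι hinj (extender S R φ) hNS (h * k) hrange ⟨x, hN'⟩
  have h2 : h * k * ι ⟨x, hNS hN'⟩ * (h * k)⁻¹ = ι ⟨φ ⟨x, hR⟩, hom_mem F hφ _⟩ := by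
    have h3 := hk ⟨x, hR⟩
    have hcomm := (Subgroup.mem_centralizer_iff.mp hhC) _ (hφQ' ⟨x, hR⟩)
    have e : h * k * ι ⟨x, hNS hN'⟩ * (h * k)⁻¹ = h * (k * ι ⟨x, hNS hN'⟩ * k⁻¹) * h⁻¹ := by group
    rw [e]
    have h4 : k * ι ⟨x, hNS hN'⟩ * k⁻¹ = ι ⟨φ ⟨x, hR⟩, hom_mem F hφ _⟩ := h3.symm
    rw [h4, ← hcomm]; group
  rw [h2] at h1
  have h5 := hinj h1
  exact congrArg (fun z : S => (z : Ω)) h5

open Cfsg.Agent.Lib.Helper88 in
/-- A fusion system realized by a finite group on a Sylow `p`-subgroup is saturated. -/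
theorem isSaturated_of_realized [Finite G] {p : ℕ} [Fact p.Prime] (hι : F.IsRealizedBy ι)
    (T : Sylow p G) (hT : (T : Subgroup G) = ι.range) : F.IsSaturated p := by
  intro P hP
  have hinj := hι.1
  have hP'T : push ι P ≤ T := by rw [hT]; exact push_le_range ι P
  obtain ⟨g, hQ''T, hN⟩ := exists_conj_normalizer_sylow T (push ι P) hP'T
  set Q'' := (push ι P).map (MulAut.conj g).toMonoidHom with hQ''
  set Q := pull ι Q'' with hQdef
  have hQS : Q ≤ S := pull_le ι Q''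
  have hpush : push ι Q = Q'' := push_pull ι (by rw [← hT]; exact hQ''T)
  have hrange : ∀ x : P, g * ι ⟨x, hP x.2⟩ * g⁻¹ ∈ ι.range := by
    intro x
    rw [← hT]
    exact hQ''T ⟨_, coe_mem_push hP x, rfl⟩
  refine ⟨Q, ⟨pullConj ι hinj P hP g hrange, pullConj_mem_hom F hι P hP g hrange, ?_⟩, ?_, ?_⟩
  · ext y
    constructor
    · rintro ⟨x, rfl⟩
      refine mem_pull.mpr ⟨pullConj_mem ι hinj P hP g hrange x, ?_⟩
      rw [ι_pullConj]
      exact ⟨_, coe_mem_push hP x, rfl⟩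
    · intro hy
      obtain ⟨hyS, hy'⟩ := mem_pull.mp hy
      obtain ⟨z, hz, hzy⟩ := hy'
      obtain ⟨s, hs, rfl⟩ := mem_push.mp hz
      refine ⟨⟨s, hs⟩, ?_⟩
      have h1 := ι_pullConj ι hinj P hP g hrange ⟨s, hs⟩
      have h2 : ι ⟨pullConj ι hinj P hP g hrange ⟨s, hs⟩, pullConj_mem ι hinj P hP g hrange _⟩ =
          ι ⟨y, hyS⟩ := by
        rw [h1, ← hzy]; rfl
      exact congrArg (fun z : S => (z : Ω)) (hinj h2)
  · rw [← hpush] at hN
    exact isFullyAutomized_of_realized F hι T hT hQS hN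
  · rw [← hpush] at hN
    exact isReceptive_of_realized F hι T hT hQS hN

end Realized

end Cfsg.Agent.Lib.Helper87
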