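import Cfsg.Agent.Lib.Helper87.KNormalizer

set_option autoImplicit false

namespace Cfsg.Agent.Lib.Helper87

open Cfsg Cfsg.FusionSystem Cfsg.Agent.Lib.Helper88

variable {Ω : Type*} [Group Ω] {S : Subgroup Ω}

/-! ### The automorphism group of a flag `(P, Q)` with `K ≤ Aut(Q)` -/

section Flag

/-- Shorthands for the two inclusions into `P ⊔ Q`. -/
abbrev inL {P Q : Subgroup Ω} (x : P) : ↥(P ⊔ Q) := Subgroup.inclusion le_sup_left x

abbrev inR {P Q : Subgroup Ω} (x : Q) : ↥(P ⊔ Q) := Subgroup.inclusion le_sup_right x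

/-- Automorphisms of `P ⊔ Q` preserving `P` and inducing on `Q` an element of `K`. -/
def flagAut (P Q : Subgroup Ω) (K : Subgroup (MulAut Q)) : Subgroup (MulAut ↥(P ⊔ Q)) where
  carrier := {α | (∀ x : ↥(P ⊔ Q), ((α x : ↥(P ⊔ Q)) : Ω) ∈ P ↔ (x : Ω) ∈ P) ∧
      ∃ κ ∈ K, ∀ x : Q, α (inR x) = inR (κ x)}
  mul_mem' := by
    rintro α β ⟨hαP, κ, hκ, hακ⟩ ⟨hβP, μ, hμ, hβμ⟩
    refine ⟨fun x => ?_, κ * μ, K.mul_mem hκ hμ, fun x => ?_⟩
    · rw [MulAut.mul_apply, hαP, hβP]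
    · rw [MulAut.mul_apply, hβμ, hακ, MulAut.mul_apply]
  one_mem' := ⟨fun x => Iff.rfl, 1, K.one_mem, fun x => rfl⟩
  inv_mem' := by
    rintro α ⟨hαP, κ, hκ, hακ⟩
    refine ⟨fun x => ?_, κ⁻¹, K.inv_mem hκ, fun x => ?_⟩
    · rw [← hαP (α⁻¹ x)]
      simp
    · rw [MulAut.inv_apply, MulEquiv.symm_apply_eq, hακ]
      simp

theorem mem_flagAut {P Q : Subgroup Ω} {K : Subgroup (MulAut Q)} {α : MulAut ↥(P ⊔ Q)} :
    α ∈ flagAut P Q K ↔ (∀ x : ↥(P ⊔ Q), ((α x : ↥(P ⊔ Q)) : Ω) ∈ P ↔ (x : Ω) ∈ P) ∧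
      ∃ κ ∈ K, ∀ x : Q, α (inR x) = inR (κ x) := Iff.rfl

theorem normalizer_sup_mem {P Q : Subgroup Ω} {g : Ω}
    (hP : g ∈ Subgroup.normalizer (P : Set Ω)) (hQ : g ∈ Subgroup.normalizer (Q : Set Ω)) :
    g ∈ Subgroup.normalizer ((P ⊔ Q : Subgroup Ω) : Set Ω) := by
  have key : ∀ k : Ω, k ∈ Subgroup.normalizer (P : Set Ω) → k ∈ Subgroup.normalizer (Q : Set Ω) →
      P ⊔ Q ≤ (P ⊔ Q).comap (MulAut.conj k).toMonoidHom := by
    intro k hkP hkQ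
    apply sup_le
    · intro x hx
      exact Subgroup.mem_sup_left ((Subgroup.mem_normalizer_iff.mp hkP x).mp hx)
    · intro x hx
      exact Subgroup.mem_sup_right ((Subgroup.mem_normalizer_iff.mp hkQ x).mp hx)
  rw [Subgroup.mem_normalizer_iff]
  intro h
  constructor
  · intro hh
    exact key g hP hQ hh
  · intro hh
    have := key g⁻¹ (Subgroup.inv_mem _ hP) (Subgroup.inv_mem _ hQ) hh
    have e1 : (MulAut.conj g⁻¹).toMonoidHom (g * h * g⁻¹) = h := by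
      show g⁻¹ * (g * h * g⁻¹) * g⁻¹⁻¹ = h
      group
    rw [Subgroup.mem_comap, e1] at this
    exact this

theorem conjAut_mem_flagAut {P Q : Subgroup Ω} {K : Subgroup (MulAut Q)} {g : Ω}
    (hP : g ∈ Subgroup.normalizer (P : Set Ω)) (hQ : g ∈ Subgroup.normalizer (Q : Set Ω))
    {κ : MulAut Q} (hκ : κ ∈ K) (hκx : ∀ x : Q, ((κ x : Q) : Ω) = g * (x : Ω) * g⁻¹) :
    conjAut (P ⊔ Q) g (normalizer_sup_mem hP hQ) ∈ flagAut P Q K := by
  refine ⟨fun x => ?_, κ, hκ, fun x => ?_⟩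
  · rw [conjAut_apply]
    exact (Subgroup.mem_normalizer_iff.mp hP x).symm
  · apply Subtype.ext
    rw [conjAut_apply]
    exact (hκx x).symm

theorem mem_normK_flagAut {P Q : Subgroup Ω} {K : Subgroup (MulAut Q)} {g : Ω} :
    g ∈ normK S (P ⊔ Q) (flagAut P Q K) ↔
      g ∈ Subgroup.normalizer (P : Set Ω) ∧ g ∈ normK S Q K := by
  constructor
  · intro hg
    obtain ⟨hgS, α, ⟨hαP, κ, hκ, hακ⟩, hαx⟩ := mem_normK.mp hg
    refine ⟨?_, mem_normK.mpr ⟨hgS, κ, hκ, fun x => ?_⟩⟩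
    · rw [Subgroup.mem_normalizer_iff]
      intro y
      constructor
      · intro hy
        have := (hαP (inL ⟨y, hy⟩)).mpr hy
        rwa [hαx] at this
      · intro hz
        set x : ↥(P ⊔ Q) := inL ⟨g * y * g⁻¹, hz⟩ with hx
        have h1 : ((α (α⁻¹ x) : ↥(P ⊔ Q)) : Ω) = g * y * g⁻¹ := by simp [hx]
        rw [hαx] at h1
        have h2 : ((α⁻¹ x : ↥(P ⊔ Q)) : Ω) = y := mul_left_cancel (mul_right_cancel h1)
        have h3 := (hαP (α⁻¹ x)).mp (by simp [hx]; exact hz)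
        rwa [h2] at h3
    · have h1 : ((α (inR x) : ↥(P ⊔ Q)) : Ω) = ((inR (κ x) : ↥(P ⊔ Q)) : Ω) := by rw [hακ x]
      rw [hαx] at h1
      exact h1.symm
  · rintro ⟨hgP, hgN⟩
    obtain ⟨hgS, κ, hκ, hκx⟩ := mem_normK.mp hgN
    have hgQ : g ∈ Subgroup.normalizer (Q : Set Ω) := mem_normalizer_of_conj_eq hκx
    exact mem_normK.mpr ⟨hgS, _, conjAut_mem_flagAut hgP hgQ hκ hκx, fun x => rfl⟩

theorem congr_mem_flagAut {P P' Q : Subgroup Ω} {K : Subgroup (MulAut Q)}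
    (θ : ↥(P ⊔ Q) ≃* ↥(P' ⊔ Q))
    (hθP : ∀ z : ↥(P ⊔ Q), ((θ z : ↥(P' ⊔ Q)) : Ω) ∈ P' ↔ (z : Ω) ∈ P)
    {χ : MulAut Q} (hχ : χ ∈ K) (hθQ : ∀ x : Q, θ (inR x) = inR (χ x))
    {α : MulAut ↥(P ⊔ Q)} (hα : α ∈ flagAut P Q K) : MulAut.congr θ α ∈ flagAut P' Q K := by
  obtain ⟨hαP, κ, hκ, hακ⟩ := hα
  have hsymm : ∀ x : Q, θ.symm (inR x) = inR (χ⁻¹ x) := by
    intro x
    rw [MulEquiv.symm_apply_eq, hθQ]
    simp
  refine ⟨fun z => ?_, χ * κ * χ⁻¹, K.mul_mem (K.mul_mem hχ hκ) (K.inv_mem hχ), fun x => ?_⟩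
  · have h1 : (MulAut.congr θ α) z = θ (α (θ.symm z)) := by simp [MulAut.congr]
    rw [h1, hθP, hαP, ← hθP (θ.symm z), MulEquiv.apply_symm_apply]
  · have h1 : (MulAut.congr θ α) (inR x) = θ (α (θ.symm (inR x))) := by simp [MulAut.congr]
    rw [h1, hsymm, hακ, hθQ]
    simp [MulAut.mul_apply]

theorem map_congr_flagAut {P P' Q : Subgroup Ω} {K : Subgroup (MulAut Q)}
    (θ : ↥(P ⊔ Q) ≃* ↥(P' ⊔ Q))
    (hθP : ∀ z : ↥(P ⊔ Q), ((θ z : ↥(P' ⊔ Q)) : Ω) ∈ P' ↔ (z : Ω) ∈ P)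
    {χ : MulAut Q} (hχ : χ ∈ K) (hθQ : ∀ x : Q, θ (inR x) = inR (χ x)) :
    (flagAut P Q K).map (MulAut.congr θ).toMonoidHom = flagAut P' Q K := by
  ext β
  constructor
  · rintro ⟨α, hα, rfl⟩
    exact congr_mem_flagAut θ hθP hχ hθQ hα
  · intro hβ
    have hsymm : ∀ x : Q, θ.symm (inR x) = inR (χ⁻¹ x) := by
      intro x
      rw [MulEquiv.symm_apply_eq, hθQ]
      simp
    have hθP' : ∀ z : ↥(P' ⊔ Q), ((θ.symm z : ↥(P ⊔ Q)) : Ω) ∈ P ↔ (z : Ω) ∈ P' := by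
      intro z
      rw [← hθP (θ.symm z), MulEquiv.apply_symm_apply]
    refine ⟨MulAut.congr θ.symm β, congr_mem_flagAut θ.symm hθP' (K.inv_mem hχ) hsymm hβ, ?_⟩
    ext z
    simp [MulAut.congr]

/-- Restriction to `P` of an automorphism of `P ⊔ Q` preserving `P`. -/
def restrictAut {P Q : Subgroup Ω} (α : MulAut ↥(P ⊔ Q))
    (h : ∀ x : ↥(P ⊔ Q), ((α x : ↥(P ⊔ Q)) : Ω) ∈ P ↔ (x : Ω) ∈ P) : MulAut P where
  toFun x := ⟨α (inL x), (h (inL x)).mpr x.2⟩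
  invFun x := ⟨α.symm (inL x), by
    have := h (α.symm (inL x))
    rw [MulEquiv.apply_symm_apply] at this
    exact this.mp x.2⟩
  left_inv x := by
    apply Subtype.ext
    have e1 : (inL ⟨((α (inL x) : ↥(P ⊔ Q)) : Ω), (h (inL x)).mpr x.2⟩ : ↥(P ⊔ Q)) = α (inL x) :=
      Subtype.ext rfl
    show ((α.symm (inL ⟨((α (inL x) : ↥(P ⊔ Q)) : Ω), _⟩) : ↥(P ⊔ Q)) : Ω) = x
    rw [e1, MulEquiv.symm_apply_apply]
    rfl
  right_inv x := by
    apply Subtype.ext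
    have hx : ((α.symm (inL x) : ↥(P ⊔ Q)) : Ω) ∈ P := by
      have := h (α.symm (inL x))
      rw [MulEquiv.apply_symm_apply] at this
      exact this.mp x.2
    have e1 : (inL ⟨((α.symm (inL x) : ↥(P ⊔ Q)) : Ω), hx⟩ : ↥(P ⊔ Q)) = α.symm (inL x) :=
      Subtype.ext rfl
    show ((α (inL ⟨((α.symm (inL x) : ↥(P ⊔ Q)) : Ω), _⟩) : ↥(P ⊔ Q)) : Ω) = x
    rw [e1, MulEquiv.apply_symm_apply]
    rfl
  map_mul' x y := by
    apply Subtype.ext
    show ((α (inL (x * y)) : ↥(P ⊔ Q)) : Ω) = (α (inL x) : ↥(P ⊔ Q)) * (α (inL y) : ↥(P ⊔ Q))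
    have e1 : (inL (x * y) : ↥(P ⊔ Q)) = inL x * inL y := map_mul _ _ _
    rw [e1, map_mul]
    rfl

theorem restrictAut_apply {P Q : Subgroup Ω} (α : MulAut ↥(P ⊔ Q))
    (h : ∀ x : ↥(P ⊔ Q), ((α x : ↥(P ⊔ Q)) : Ω) ∈ P ↔ (x : Ω) ∈ P) (x : P) :
    ((restrictAut α h x : P) : Ω) = ((α (inL x) : ↥(P ⊔ Q)) : Ω) := rfl

theorem range_sup_hom {P' P Q : Subgroup Ω} (θ : ↥(P' ⊔ Q) →* Ω)
    (hP : (θ.comp (Subgroup.inclusion le_sup_left)).range = P)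
    (hQ : (θ.comp (Subgroup.inclusion le_sup_right)).range = Q) : θ.range = P ⊔ Q := by
  apply le_antisymm
  · rintro _ ⟨y, rfl⟩
    apply sup_hom_mem θ
    · intro x
      exact Subgroup.mem_sup_left (hP.le ⟨x, rfl⟩)
    · intro x
      exact Subgroup.mem_sup_right (hQ.le ⟨x, rfl⟩)
  · apply sup_le
    · intro y hy
      obtain ⟨x, rfl⟩ := hP.ge hy
      exact ⟨_, rfl⟩
    · intro y hy
      obtain ⟨x, rfl⟩ := hQ.ge hy
      exact ⟨_, rfl⟩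

/-- An `F`-map on `P' ⊔ Q` carrying `P'` onto `P` and acting on `Q` as `κ` is an isomorphism of flags. -/
theorem exists_flag_equiv (F : FusionSystem S) {P' P Q : Subgroup Ω} (θ : ↥(P' ⊔ Q) →* Ω)
    (hθ : θ ∈ F.Hom (P' ⊔ Q))
    (hP : (θ.comp (Subgroup.inclusion le_sup_left)).range = P) {κ : MulAut Q}
    (hκ : ∀ x : Q, θ (inR x) = ((κ x : Q) : Ω)) :
    ∃ e : ↥(P' ⊔ Q) ≃* ↥(P ⊔ Q), IsFIso F e ∧ (∀ z, ((e z : ↥(P ⊔ Q)) : Ω) = θ z) ∧
      (∀ z, ((e z : ↥(P ⊔ Q)) : Ω) ∈ P ↔ (z : Ω) ∈ P') ∧ (∀ x : Q, e (inR x) = inR (κ x)) := by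
  have hQ : (θ.comp (Subgroup.inclusion le_sup_right)).range = Q := by
    ext y
    constructor
    · rintro ⟨x, rfl⟩
      show θ (inR x) ∈ Q
      rw [hκ]; exact (κ x).2
    · intro hy
      refine ⟨κ.symm ⟨y, hy⟩, ?_⟩
      show θ (inR (κ.symm ⟨y, hy⟩)) = y
      rw [hκ, MulEquiv.apply_symm_apply]
  have hrange := range_sup_hom θ hP hQ
  refine ⟨homEquiv F hθ hrange, isFIso_homEquiv F hθ hrange, fun z => rfl, fun z => ?_,
    fun x => Subtype.ext (hκ x)⟩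
  show θ z ∈ P ↔ (z : Ω) ∈ P'
  constructor
  · intro hz
    obtain ⟨x, hx⟩ := hP.ge hz
    have : inL x = z := F.injective_of_mem hθ hx
    rw [← this]; exact x.2
  · intro hz
    exact hP.le ⟨⟨z, hz⟩, rfl⟩

end Flag

/-! ### The `K`-normalizer system -/

section System

variable [Finite S]

/-- The maps of `N^K_F(Q)` with source `P` (over the subgroup `N`, in use `N^K_S(Q)`). -/
def homK (F : FusionSystem S) (Q : Subgroup Ω) (K : Subgroup (MulAut Q)) (N P : Subgroup Ω) :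
    Set (P →* Ω) :=
  {φ | φ ∈ F.Hom P ∧ P ≤ N ∧ (∀ x : P, φ x ∈ N) ∧
    ∃ θ ∈ F.Hom (P ⊔ Q), (∀ x : P, θ (inL x) = φ x) ∧
      ∃ κ ∈ K, ∀ x : Q, θ (inR x) = ((κ x : Q) : Ω)}

theorem restrictAut_mul {P Q : Subgroup Ω} (α β : MulAut ↥(P ⊔ Q))
    (hα : ∀ x : ↥(P ⊔ Q), ((α x : ↥(P ⊔ Q)) : Ω) ∈ P ↔ (x : Ω) ∈ P)
    (hβ : ∀ x : ↥(P ⊔ Q), ((β x : ↥(P ⊔ Q)) : Ω) ∈ P ↔ (x : Ω) ∈ P)
    (hαβ : ∀ x : ↥(P ⊔ Q), (((α * β) x : ↥(P ⊔ Q)) : Ω) ∈ P ↔ (x : Ω) ∈ P) :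
    restrictAut (α * β) hαβ = restrictAut α hα * restrictAut β hβ := by
  ext x
  rw [MulAut.mul_apply, restrictAut_apply, restrictAut_apply, MulAut.mul_apply]
  congr 2

/-- Step 2: good flags give fully automized subgroups of the `K`-normalizer system. -/
theorem isFullyAutomized_of_isGoodK (p : ℕ) [Fact p.Prime] (F : FusionSystem S) (Q : Subgroup Ω)
    (K : Subgroup (MulAut Q)) (E : FusionSystem (normK S Q K))
    (hE : ∀ P : Subgroup Ω, E.Hom P = homK F Q K (normK S Q K) P)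
    (P : Subgroup Ω) (hPN : P ≤ normK S Q K) (hgood : IsGoodK F p (P ⊔ Q) (flagAut P Q K)) :
    E.IsFullyAutomized p P := by
  have hRS : P ⊔ Q ≤ S := hgood.1.1
  have : Finite ↥(P ⊔ Q) := finite_of_le hRS
  refine ⟨hPN, ?_⟩
  obtain ⟨T, hT⟩ := hgood.2
  have hpres : ∀ a : ↥(F.autGroup (P ⊔ Q) ⊓ flagAut P Q K),
      ∀ x : ↥(P ⊔ Q), (((a : MulAut ↥(P ⊔ Q)) x : ↥(P ⊔ Q)) : Ω) ∈ P ↔ (x : Ω) ∈ P :=
    fun a => a.2.2.1
  have hfmem : ∀ a : ↥(F.autGroup (P ⊔ Q) ⊓ flagAut P Q K),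
      restrictAut (a : MulAut ↥(P ⊔ Q)) (hpres a) ∈ E.autGroup P := by
    intro a
    apply Subgroup.subset_closure
    show P.subtype.comp (restrictAut (a : MulAut ↥(P ⊔ Q)) (hpres a)).toMonoidHom ∈ E.Hom P
    rw [hE]
    obtain ⟨haF, haP, κ, hκ, haκ⟩ := a.2
    have hθ := autGroup_hom_mem F hRS haF
    refine ⟨?_, hPN, fun x => hPN (Subtype.prop _), _, hθ, fun x => rfl, κ, hκ, fun x => ?_⟩
    · exact hom_congr F (restrict_mem F le_sup_left hθ) (fun x => rfl)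
    · show (((a : MulAut ↥(P ⊔ Q)) (inR x) : ↥(P ⊔ Q)) : Ω) = κ x
      rw [haκ]
      rfl
  let f : ↥(F.autGroup (P ⊔ Q) ⊓ flagAut P Q K) →* ↥(E.autGroup P) :=
    MonoidHom.mk' (fun a => ⟨restrictAut (a : MulAut ↥(P ⊔ Q)) (hpres a), hfmem a⟩) (by
      intro a b
      apply Subtype.ext
      exact restrictAut_mul _ _ (hpres a) (hpres b) (hpres (a * b)))
  have hfval : ∀ (a : ↥(F.autGroup (P ⊔ Q) ⊓ flagAut P Q K)) (x : P),
      ((((f a : ↥(E.autGroup P)) : MulAut P) x : P) : Ω) =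
        (((a : MulAut ↥(P ⊔ Q)) (inL x) : ↥(P ⊔ Q)) : Ω) := fun a x => rfl
  have hf : Function.Surjective f := by
    rintro ⟨β, hβ⟩
    have hβE := (mem_autGroup_iff E hPN).mp hβ
    rw [hE] at hβE
    obtain ⟨-, -, -, θ, hθ, hθP, κ, hκ, hθκ⟩ := hβE
    have hPr : (θ.comp (Subgroup.inclusion le_sup_left)).range = P := by
      ext y
      constructor
      · rintro ⟨x, rfl⟩
        show θ (inL x) ∈ P
        rw [hθP]; exact (β x).2
      · intro hy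
        refine ⟨β.symm ⟨y, hy⟩, ?_⟩
        show θ (inL (β.symm ⟨y, hy⟩)) = y
        rw [hθP]
        simp
    obtain ⟨e, heF, hev, heP, heQ⟩ := exists_flag_equiv F θ hθ hPr hθκ
    have heA : (e : MulAut ↥(P ⊔ Q)) ∈ F.autGroup (P ⊔ Q) ⊓ flagAut P Q K :=
      ⟨(isFIso_iff_mem_autGroup F hRS).mp heF, heP, κ, hκ, heQ⟩
    refine ⟨⟨e, heA⟩, ?_⟩
    apply Subtype.ext
    ext x
    rw [hfval]
    show ((e (inL x) : ↥(P ⊔ Q)) : Ω) = β x
    rw [hev, hθP]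
    rfl
  refine ⟨T.mapSurjective hf, ?_⟩
  rw [Sylow.coe_mapSurjective, hT]
  ext β
  constructor
  · rintro ⟨a, ha, rfl⟩
    rw [SetLike.mem_coe, Subgroup.mem_subgroupOf] at ha
    rw [Subgroup.mem_subgroupOf]
    obtain ⟨g, hg, hga⟩ := mem_autInducedBy_iff.mp ha.1
    have hgN : g ∈ normK S (P ⊔ Q) (flagAut P Q K) := mem_normK.mpr ⟨hg, _, ha.2, hga⟩
    obtain ⟨hgP, hgNQ⟩ := mem_normK_flagAut.mp hgN
    refine mem_autInducedBy_iff.mpr ⟨g, hgNQ, fun x => ?_⟩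
    rw [hfval, hga]
    rfl
  · intro hβ
    rw [Subgroup.mem_subgroupOf] at hβ
    obtain ⟨g, hgN, hgβ⟩ := mem_autInducedBy_iff.mp hβ
    have hgP : g ∈ Subgroup.normalizer (P : Set Ω) := mem_normalizer_of_conj_eq hgβ
    obtain ⟨hgS, κ, hκ, hκx⟩ := mem_normK.mp hgN
    have hgQ : g ∈ Subgroup.normalizer (Q : Set Ω) := mem_normalizer_of_conj_eq hκx
    have ha1 := conjAut_mem_flagAut (P := P) hgP hgQ hκ hκx
    have ha2 : conjAut (P ⊔ Q) g (normalizer_sup_mem hgP hgQ) ∈ autInducedBy S (P ⊔ Q) :=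
      conjAut_mem_autInducedBy hgS _
    refine ⟨⟨conjAut (P ⊔ Q) g (normalizer_sup_mem hgP hgQ),
      autInducedBy_le_autGroup F hRS ha2, ha1⟩, Subgroup.mem_subgroupOf.mpr ⟨ha2, ha1⟩, ?_⟩
    apply Subtype.ext
    ext x
    rw [hfval, conjAut_apply, hgβ]
    rfl

/-- Automorphisms of `P ⊔ Q` fixing `P` elementwise. -/
def fixL (P Q : Subgroup Ω) : Subgroup (MulAut ↥(P ⊔ Q)) where
  carrier := {α | ∀ x : P, α (inL x) = inL x}
  mul_mem' := by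
    intro α β hα hβ x
    rw [MulAut.mul_apply, hβ, hα]
  one_mem' := fun x => rfl
  inv_mem' := by
    intro α hα x
    rw [MulAut.inv_apply, MulEquiv.symm_apply_eq, hα]

theorem autInducedBy_eq_conjAut {X R : Subgroup Ω} {α : MulAut R} (hα : α ∈ autInducedBy X R) :
    ∃ g, ∃ _ : g ∈ X, ∃ hn : g ∈ Subgroup.normalizer (R : Set Ω), α = conjAut R g hn := by
  obtain ⟨g, hg, hgα⟩ := mem_autInducedBy_iff.mp hα
  refine ⟨g, hg, mem_normalizer_of_conj_eq hgα, ?_⟩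
  ext x
  rw [hgα, conjAut_apply]

theorem congr_conjAut_apply {R R' : Subgroup Ω} (e : R' ≃* R) (g : Ω)
    (hn : g ∈ Subgroup.normalizer (R' : Set Ω)) (w : R') :
    (MulAut.congr e (conjAut R' g hn)) (e w) = e (conjAut R' g hn w) := by
  simp [MulAut.congr]

/-- Step 3: good flags give receptive subgroups of the `K`-normalizer system. -/
theorem isReceptive_of_isGoodK (p : ℕ) [Fact p.Prime] (hS : IsPGroup p S) (F : FusionSystem S)
    (Q : Subgroup Ω) (K : Subgroup (MulAut Q)) (E : FusionSystem (normK S Q K))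
    (hE : ∀ P : Subgroup Ω, E.Hom P = homK F Q K (normK S Q K) P)
    (P : Subgroup Ω) (hPN : P ≤ normK S Q K) (hgood : IsGoodK F p (P ⊔ Q) (flagAut P Q K)) :
    E.IsReceptive P := by
  have hRS : P ⊔ Q ≤ S := hgood.1.1
  have : Finite ↥(P ⊔ Q) := finite_of_le hRS
  have hfinP : Finite P := finite_of_le (le_sup_left.trans hRS)
  refine ⟨hPN, fun P' φ hφ hφr => ?_⟩
  rw [hE] at hφ
  obtain ⟨hφF, hP'N, hφN, θ, hθ, hθP, κ, hκ, hθκ⟩ := hφ
  have hPr : (θ.comp (Subgroup.inclusion le_sup_left)).range = P := by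
    rw [← hφr]
    ext y
    constructor
    · rintro ⟨x, rfl⟩
      exact ⟨x, (hθP x).symm⟩
    · rintro ⟨x, rfl⟩
      exact ⟨x, hθP x⟩
  obtain ⟨e, heF, hev, heP, heQ⟩ := exists_flag_equiv F θ hθ hPr hθκ
  have hR'S : P' ⊔ Q ≤ S := hom_le F hθ
  -- the extender in `E`
  have hXN : extender (normK S Q K) P' φ ≤ normK S Q K :=
    (extender_le _ P' φ).trans (normalizerIn_le _ P')
  have hXP' : extender (normK S Q K) P' φ ≤ Subgroup.normalizer (P' : Set Ω) :=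
    fun g hg => (mem_extender_iff.mp hg).2.1
  have hXQ : extender (normK S Q K) P' φ ≤ Subgroup.normalizer (Q : Set Ω) :=
    hXN.trans (normK_le_normalizer Q K)
  have hXR' : extender (normK S Q K) P' φ ≤ Subgroup.normalizer ((P' ⊔ Q : Subgroup Ω) : Set Ω) :=
    fun g hg => normalizer_sup_mem (hXP' hg) (hXQ hg)
  have hXS : extender (normK S Q K) P' φ ≤ S := hXN.trans (normK_le Q K)
  -- the image of the extender in `Aut(P ⊔ Q)`
  have hBp : IsPGroup p ((autInducedBy (extender (normK S Q K) P' φ) (P' ⊔ Q)).map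
      (MulAut.congr e).toMonoidHom) :=
    (isPGroup_autInducedBy (hS.to_le hXS) _).map _
  -- elements of `e(P')`
  have heL : ∀ x : P', e (inL x) = inL ⟨φ x, hφr ▸ ⟨x, rfl⟩⟩ := by
    intro x
    apply Subtype.ext
    rw [hev, hθP]
    rfl
  -- `B ≤ M ⊔ A₀`
  have hBle : (autInducedBy (extender (normK S Q K) P' φ) (P' ⊔ Q)).map
      (MulAut.congr e).toMonoidHom ≤
      (autInducedBy S (P ⊔ Q) ⊓ flagAut P Q K) ⊔
        ((F.autGroup (P ⊔ Q) ⊓ flagAut P Q K) ⊓ fixL P Q) := by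
    rintro _ ⟨α, hα, rfl⟩
    obtain ⟨g, hgX, hgn, rfl⟩ := autInducedBy_eq_conjAut hα
    obtain ⟨hgN, hgP', h, hhN, hgh⟩ := mem_extender_iff.mp hgX
    obtain ⟨hgS, κg, hκg, hκgx⟩ := mem_normK.mp hgN
    obtain ⟨hhS, κh, hκh, hκhx⟩ := mem_normK.mp hhN
    have hgQ : g ∈ Subgroup.normalizer (Q : Set Ω) := mem_normalizer_of_conj_eq hκgx
    have hhQ : h ∈ Subgroup.normalizer (Q : Set Ω) := mem_normalizer_of_conj_eq hκhx
    have hhP : h ∈ Subgroup.normalizer (P : Set Ω) := by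
      apply mem_normalizer_of_conj_mem
      intro y hy
      rw [← hφr] at hy
      obtain ⟨x, rfl⟩ := hy
      have hx : g * (x : Ω) * g⁻¹ ∈ P' := (Subgroup.mem_normalizer_iff.mp hgP' x).mp x.2
      rw [← hgh x hx, ← hφr]
      exact ⟨_, rfl⟩
    -- the automorphisms
    have hαflag : conjAut (P' ⊔ Q) g hgn ∈ flagAut P' Q K := by
      have := conjAut_mem_flagAut (P := P') hgP' hgQ hκg hκgx
      exact this
    have hβflag : MulAut.congr e (conjAut (P' ⊔ Q) g hgn) ∈ flagAut P Q K :=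
      congr_mem_flagAut e heP hκ heQ hαflag
    have hβF : MulAut.congr e (conjAut (P' ⊔ Q) g hgn) ∈ F.autGroup (P ⊔ Q) :=
      (congr_mem_autGroup_iff F heF _).mpr
        (autInducedBy_le_autGroup F hR'S (conjAut_mem_autInducedBy hgS hgn))
    have hch1 : conjAut (P ⊔ Q) h (normalizer_sup_mem hhP hhQ) ∈ flagAut P Q K :=
      conjAut_mem_flagAut (P := P) hhP hhQ hκh hκhx
    have hch2 : conjAut (P ⊔ Q) h (normalizer_sup_mem hhP hhQ) ∈ autInducedBy S (P ⊔ Q) :=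
      conjAut_mem_autInducedBy hhS _
    have hsplit : MulAut.congr e (conjAut (P' ⊔ Q) g hgn) =
        conjAut (P ⊔ Q) h (normalizer_sup_mem hhP hhQ) *
          ((conjAut (P ⊔ Q) h (normalizer_sup_mem hhP hhQ))⁻¹ *
            MulAut.congr e (conjAut (P' ⊔ Q) g hgn)) := by group
    show MulAut.congr e (conjAut (P' ⊔ Q) g hgn) ∈ _
    rw [hsplit]
    have hch12 : conjAut (P ⊔ Q) h (normalizer_sup_mem hhP hhQ) ∈
        autInducedBy S (P ⊔ Q) ⊓ flagAut P Q K := ⟨hch2, hch1⟩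
    apply Subgroup.mul_mem_sup hch12
    refine ⟨⟨?_, ?_⟩, ?_⟩
    · exact (F.autGroup _).mul_mem ((F.autGroup _).inv_mem (autInducedBy_le_autGroup F hRS hch2)) hβF
    · exact (flagAut P Q K).mul_mem ((flagAut P Q K).inv_mem hch1) hβflag
    · intro y
      rw [MulAut.mul_apply, MulAut.inv_apply, MulEquiv.symm_apply_eq]
      obtain ⟨x, hx⟩ := hφr.ge y.2
      have hyx : inL y = e (inL x) := by
        rw [heL]
        apply Subtype.ext
        exact hx.symm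
      rw [hyx, congr_conjAut_apply]
      apply Subtype.ext
      rw [hev, conjAut_apply]
      have hx' : g * (x : Ω) * g⁻¹ ∈ P' := (Subgroup.mem_normalizer_iff.mp hgP' x).mp x.2
      have e1 : (conjAut (P' ⊔ Q) g hgn (inL x) : ↥(P' ⊔ Q)) = inL ⟨g * x * g⁻¹, hx'⟩ :=
        Subtype.ext rfl
      rw [e1, hθP, hgh x hx', hev, hθP]
  -- conjugate into the Sylow subgroup
  have hCn : ∀ m ∈ F.autGroup (P ⊔ Q) ⊓ flagAut P Q K,
      ∀ c ∈ (F.autGroup (P ⊔ Q) ⊓ flagAut P Q K) ⊓ fixL P Q,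
        m * c * m⁻¹ ∈ (F.autGroup (P ⊔ Q) ⊓ flagAut P Q K) ⊓ fixL P Q := by
    intro m hm c hc
    refine ⟨Subgroup.mul_mem _ (Subgroup.mul_mem _ hm hc.1) (Subgroup.inv_mem _ hm), fun x => ?_⟩
    have hmx : ((m⁻¹ (inL x) : ↥(P ⊔ Q)) : Ω) ∈ P := by
      have := ((flagAut P Q K).inv_mem hm.2).1 (inL x)
      exact this.mpr x.2
    have e1 : m⁻¹ (inL x) = inL ⟨_, hmx⟩ := Subtype.ext rfl
    rw [MulAut.mul_apply, MulAut.mul_apply, e1, hc.2, ← e1]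
    simp
  obtain ⟨γ, hγ, hγB⟩ := hgood.2.exists_conj_le_of_le_sup
    (inf_le_inf_right _ (autInducedBy_le_autGroup F hRS)) inf_le_left hCn hBle hBp
  obtain ⟨⟨hγF, hγP, κγ, hκγ, hγκ⟩, hγfix⟩ := hγ
  have hγFiso : IsFIso F (γ : ↥(P ⊔ Q) ≃* ↥(P ⊔ Q)) := (isFIso_iff_mem_autGroup F hRS).mpr hγF
  have he'F : IsFIso F (e.trans (γ : ↥(P ⊔ Q) ≃* ↥(P ⊔ Q))) := IsFIso.trans F heF hγFiso
  have hkey : ∀ α ∈ autInducedBy (extender (normK S Q K) P' φ) (P' ⊔ Q),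
      MulAut.congr (e.trans (γ : ↥(P ⊔ Q) ≃* ↥(P ⊔ Q))) α ∈ autInducedBy S (P ⊔ Q) := by
    intro α hα
    rw [congr_trans_aut]
    exact (hγB _ ⟨α, hα, rfl⟩).1
  have hle := le_extender_of_congr (e.trans (γ : ↥(P ⊔ Q) ≃* ↥(P ⊔ Q))) hXS hXR' hkey
  have hR'ext := le_extender (φ := (P ⊔ Q).subtype.comp
    (e.trans (γ : ↥(P ⊔ Q) ≃* ↥(P ⊔ Q))).toMonoidHom) hR'S (hom_mem F he'F)
  obtain ⟨ψ₀, hψ₀, hψ₀e⟩ := hgood.1.2 (P' ⊔ Q) _ he'F (IsFIso.range_eq _)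
  -- values of `e'`
  have he'Q : ∀ x : Q, ((γ (e (inR x)) : ↥(P ⊔ Q)) : Ω) = (((κγ * κ) x : Q) : Ω) := by
    intro x
    rw [heQ, hγκ]
    rfl
  have he'P : ∀ x : P', ((γ (e (inL x)) : ↥(P ⊔ Q)) : Ω) = φ x := by
    intro x
    rw [heL, hγfix]
    rfl
  have hψ₀Q : ∀ (x : Q) (hx : (x : Ω) ∈ extender S (P' ⊔ Q) ((P ⊔ Q).subtype.comp
      (e.trans (γ : ↥(P ⊔ Q) ≃* ↥(P ⊔ Q))).toMonoidHom)),
      ψ₀ ⟨x, hx⟩ = (((κγ * κ) x : Q) : Ω) := by
    intro x hx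
    rw [hψ₀e x ((le_sup_right : Q ≤ P' ⊔ Q) x.2) hx]
    exact he'Q x
  refine ⟨ψ₀.comp (Subgroup.inclusion hle), ?_, ?_⟩
  · rw [hE]
    refine ⟨restrict_mem F hle hψ₀, hXN, ?_,
      ψ₀.comp (Subgroup.inclusion (sup_le hle (le_sup_right.trans hR'ext))),
      restrict_mem F _ hψ₀, fun x => rfl, κγ * κ, K.mul_mem hκγ hκ, fun x => ?_⟩
    · intro g
      obtain ⟨hgS, κg, hκg, hκgx⟩ := mem_normK.mp (hXN g.2)
      refine mem_normK.mpr ⟨hom_mem F (restrict_mem F hle hψ₀) g,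
        (κγ * κ) * κg * (κγ * κ)⁻¹,
        K.mul_mem (K.mul_mem (K.mul_mem hκγ hκ) hκg) (K.inv_mem (K.mul_mem hκγ hκ)), fun x => ?_⟩
      set x' : Q := (κγ * κ)⁻¹ x with hx'
      have hxx' : (x : Ω) = (((κγ * κ) x' : Q) : Ω) := by simp [hx']
      have hx'ext : (x' : Ω) ∈ extender S (P' ⊔ Q) ((P ⊔ Q).subtype.comp
          (e.trans (γ : ↥(P ⊔ Q) ≃* ↥(P ⊔ Q))).toMonoidHom) :=
        hR'ext ((le_sup_right : Q ≤ P' ⊔ Q) x'.2)
      have hgext := hle g.2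
      have h1 : (ψ₀.comp (Subgroup.inclusion hle)) g = ψ₀ ⟨g, hgext⟩ := rfl
      have hkx'ext : ((κg x' : Q) : Ω) ∈ extender S (P' ⊔ Q) ((P ⊔ Q).subtype.comp
          (e.trans (γ : ↥(P ⊔ Q) ≃* ↥(P ⊔ Q))).toMonoidHom) :=
        hR'ext ((le_sup_right : Q ≤ P' ⊔ Q) (κg x').2)
      have h2 : (⟨((κg x' : Q) : Ω), hkx'ext⟩ : ↥(extender S (P' ⊔ Q) _)) =
          ⟨g, hgext⟩ * ⟨x', hx'ext⟩ * ⟨g, hgext⟩⁻¹ := by
        apply Subtype.ext
        exact hκgx x'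
      rw [h1, hxx', ← hψ₀Q x' hx'ext, ← map_inv, ← map_mul, ← map_mul, ← h2, hψ₀Q]
      simp [hx', MulAut.mul_apply]
    · exact hψ₀Q x _
  · intro x hxP' hxX
    show ψ₀ ⟨x, hle hxX⟩ = φ ⟨x, hxP'⟩
    rw [hψ₀e x ((le_sup_left : P' ≤ P' ⊔ Q) hxP') (hle hxX)]
    exact he'P ⟨x, hxP'⟩

/-- Step 1: every `P ≤ N^K_S(Q)` is conjugate in the `K`-normalizer system to a good flag. -/
theorem exists_good_conj (p : ℕ) [Fact p.Prime] (hS : IsPGroup p S) (F : FusionSystem S)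
    (hF : F.IsSaturated p) (Q : Subgroup Ω) (K : Subgroup (MulAut Q)) (hQgood : IsGoodK F p Q K)
    (P : Subgroup Ω) (hPN : P ≤ normK S Q K) :
    ∃ (P₂ : Subgroup Ω) (θ : ↥(P ⊔ Q) →* Ω), θ ∈ F.Hom (P ⊔ Q) ∧
      (θ.comp (Subgroup.inclusion le_sup_left)).range = P₂ ∧
      (∃ κ ∈ K, ∀ x : Q, θ (inR x) = ((κ x : Q) : Ω)) ∧ P₂ ≤ normK S Q K ∧
      IsGoodK F p (P₂ ⊔ Q) (flagAut P₂ Q K) := by
  have hQS : Q ≤ S := hQgood.1.1
  have hPS : P ≤ S := hPN.trans (normK_le Q K)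
  have hRS : P ⊔ Q ≤ S := sup_le hPS hQS
  obtain ⟨R₁, e, heF, hgood₁⟩ := exists_isGoodK p hS F hF hRS (flagAut P Q K)
  have hR₁S : R₁ ≤ S := hgood₁.1.1
  have : Finite R₁ := finite_of_le hR₁S
  -- the image of `Q`
  have hφQ : (R₁.subtype.comp e.toMonoidHom).comp (Subgroup.inclusion le_sup_right) ∈ F.Hom Q :=
    restrict_mem F le_sup_right heF
  obtain ⟨Q₁, hQ₁⟩ : ∃ Q₁ : Subgroup Ω,
      ((R₁.subtype.comp e.toMonoidHom).comp (Subgroup.inclusion le_sup_right)).range = Q₁ :=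
    ⟨_, rfl⟩
  have heQ'F := isFIso_homEquiv F hφQ hQ₁
  have heQ'v : ∀ x : Q, ((homEquiv F hφQ hQ₁ x : Q₁) : Ω) = ((e (inR x) : R₁) : Ω) := fun x => rfl
  have heQF : IsFIso F (homEquiv F hφQ hQ₁).symm := IsFIso.symm F heQ'F
  obtain ⟨χ, hχ, ψ, hψ, hψQ⟩ :=
    exists_extension_of_isGoodK p hS F K hQgood (homEquiv F hφQ hQ₁).symm heQF
  -- computations with the transported automorphisms of `Q₁`
  have hκ'mem : ∀ κ ∈ K, MulAut.congr (homEquiv F hφQ hQ₁) κ ∈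
      K.comap (MulAut.congr (homEquiv F hφQ hQ₁).symm).toMonoidHom := by
    intro κ hκ
    show MulAut.congr (homEquiv F hφQ hQ₁).symm (MulAut.congr (homEquiv F hφQ hQ₁) κ) ∈ K
    have : MulAut.congr (homEquiv F hφQ hQ₁).symm (MulAut.congr (homEquiv F hφQ hQ₁) κ) = κ := by
      ext x
      simp [MulAut.congr]
    rw [this]; exact hκ
  have hκ'val : ∀ (κ : MulAut Q) (y : Q₁), ((MulAut.congr (homEquiv F hφQ hQ₁) κ y : Q₁) : Ω) =
      ((e (inR (κ ((homEquiv F hφQ hQ₁).symm y))) : R₁) : Ω) := by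
    intro κ y
    simp [MulAut.congr]
  have hyval : ∀ y : Q₁, (y : Ω) = ((e (inR ((homEquiv F hφQ hQ₁).symm y)) : R₁) : Ω) := by
    intro y
    rw [← heQ'v, MulEquiv.apply_symm_apply]
  -- `N^{K₁}_S(R₁) ≤ N'`
  have hM₁N' : normK S R₁ ((flagAut P Q K).map (MulAut.congr e).toMonoidHom) ≤
      normK S Q₁ (K.comap (MulAut.congr (homEquiv F hφQ hQ₁).symm).toMonoidHom) := by
    intro g hg
    obtain ⟨hgS, _, ⟨α, ⟨hαP, κ, hκ, hακ⟩, rfl⟩, hβx⟩ := mem_normK.mp hg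
    refine mem_normK.mpr ⟨hgS, _, hκ'mem κ hκ, fun y => ?_⟩
    rw [hκ'val, ← hακ, hyval y]
    have h1 := hβx (e (inR ((homEquiv F hφQ hQ₁).symm y)))
    rw [← h1]
    simp [MulAut.congr]
  -- `R₁ ≤ N' ⊔ Q₁`
  have hR₁N' : R₁ ≤ normK S Q₁ (K.comap (MulAut.congr (homEquiv F hφQ hQ₁).symm).toMonoidHom) ⊔ Q₁ := by
    intro r hr
    have h1 := sup_hom_mem (T := normK S Q₁ (K.comap (MulAut.congr (homEquiv F hφQ hQ₁).symm).toMonoidHom) ⊔ Q₁)
      (R₁.subtype.comp e.toMonoidHom) ?_ ?_ (e.symm ⟨r, hr⟩)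
    · simpa using h1
    · intro g
      apply Subgroup.mem_sup_left
      obtain ⟨hgS, κg, hκg, hκgx⟩ := mem_normK.mp (hPN g.2)
      refine mem_normK.mpr ⟨hR₁S (Subtype.prop _), _, hκ'mem κg hκg, fun y => ?_⟩
      rw [hκ'val, hyval y]
      have e1 : (inR (κg ((homEquiv F hφQ hQ₁).symm y)) : ↥(P ⊔ Q)) =
          inL g * inR ((homEquiv F hφQ hQ₁).symm y) * (inL g)⁻¹ :=
        Subtype.ext (hκgx _)
      rw [e1, map_mul, map_mul, map_inv]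
      rfl
    · intro x
      apply Subgroup.mem_sup_right
      exact hQ₁.le ⟨x, rfl⟩
  -- the map `θ`
  obtain ⟨θ, hθdef⟩ : ∃ θ : ↥(P ⊔ Q) →* Ω, ∀ z, θ z = ψ ⟨((e z : R₁) : Ω), hR₁N' (e z).2⟩ :=
    ⟨ψ.comp ((Subgroup.inclusion hR₁N').comp e.toMonoidHom), fun z => rfl⟩
  have hθ : θ ∈ F.Hom (P ⊔ Q) := comp_mem' F heF hψ (fun x => hR₁N' (e x).2) hθdef
  have hθQ : ∀ x : Q, θ (inR x) = ((χ x : Q) : Ω) := by
    intro x
    have h1 := hψQ (homEquiv F hφQ hQ₁ x)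
    rw [MulEquiv.symm_apply_apply] at h1
    rw [← h1, hθdef]
    rfl
  obtain ⟨P₂, hP₂⟩ : ∃ P₂ : Subgroup Ω, (θ.comp (Subgroup.inclusion le_sup_left)).range = P₂ :=
    ⟨_, rfl⟩
  obtain ⟨θ', hθ'F, hθ'v, hθ'P, hθ'Q⟩ := exists_flag_equiv F θ hθ hP₂ hθQ
  have hψr : ∀ r : R₁, ψ ⟨r, hR₁N' r.2⟩ = ((θ' (e.symm r) : ↥(P₂ ⊔ Q)) : Ω) := by
    intro r
    rw [hθ'v, hθdef]
    congr 2
    rw [MulEquiv.apply_symm_apply]
  refine ⟨P₂, θ, hθ, hP₂, ⟨χ, hχ.2, hθQ⟩, ?_, ?_⟩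
  · -- `P₂ ≤ N`
    intro y hy
    obtain ⟨g, rfl⟩ := hP₂.ge hy
    obtain ⟨hgS, κg, hκg, hκgx⟩ := mem_normK.mp (hPN g.2)
    refine mem_normK.mpr ⟨hom_mem F hθ _, χ * κg * χ⁻¹,
      K.mul_mem (K.mul_mem hχ.2 hκg) (K.inv_mem hχ.2), fun x => ?_⟩
    set x' : Q := χ⁻¹ x with hx'
    have hxx' : (x : Ω) = ((χ x' : Q) : Ω) := by simp [hx']
    have e1 : (inR (κg x') : ↥(P ⊔ Q)) = inL g * inR x' * (inL g)⁻¹ := Subtype.ext (hκgx _)
    show _ = θ (inL g) * (x : Ω) * (θ (inL g))⁻¹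
    rw [hxx', ← hθQ x', ← map_inv, ← map_mul, ← map_mul, ← e1, hθQ]
    simp [hx', MulAut.mul_apply]
  · -- goodness
    have he₂F : IsFIso F (e.symm.trans θ') := IsFIso.trans F (IsFIso.symm F heF) hθ'F
    have hR₂S : P₂ ⊔ Q ≤ S := isConj_le_right F (IsFIso.isConj F he₂F)
    constructor
    · -- receptive
      apply isReceptive_of_isFullyCentralized p hS F hF
      have hfc := isFullyCentralized_of_isReceptive F R₁ hgood₁.1
      refine ⟨hR₂S, fun R' hconj => ?_⟩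
      refine (hfc.2 R' (isConj_trans F (IsFIso.isConj F he₂F) hconj)).trans ?_
      have hcN' : ∀ c : centralizerIn S R₁, (c : Ω) ∈
          normK S Q₁ (K.comap (MulAut.congr (homEquiv F hφQ hQ₁).symm).toMonoidHom) ⊔ Q₁ :=
        fun c => Subgroup.mem_sup_left (hM₁N' (centralizerIn_le_normK R₁ _ c.2))
      have hcmem : ∀ c : centralizerIn S R₁, ψ ⟨c, hcN' c⟩ ∈ centralizerIn S (P₂ ⊔ Q) := by
        intro c
        rw [mem_centralizerIn]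
        refine ⟨hom_mem F hψ _, fun y hy => ?_⟩
        have hy' : y = ((θ' (e.symm ((e.symm.trans θ').symm ⟨y, hy⟩)) : ↥(P₂ ⊔ Q)) : Ω) := by
          have : θ' (e.symm ((e.symm.trans θ').symm ⟨y, hy⟩)) = ⟨y, hy⟩ := by
            simp
          rw [this]
        rw [hy', ← hψr, ← map_mul, ← map_mul]
        congr 1
        apply Subtype.ext
        exact (mem_centralizerIn.mp c.2).2 _ ((e.symm.trans θ').symm ⟨y, hy⟩).2
      have : Finite (centralizerIn S (P₂ ⊔ Q)) := finite_of_le (centralizerIn_le S _)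
      refine Nat.card_le_card_of_injective
        (fun c : centralizerIn S R₁ => (⟨ψ ⟨c, hcN' c⟩, hcmem c⟩ : centralizerIn S (P₂ ⊔ Q))) ?_
      intro c c' hcc'
      have h1 : ψ ⟨c, hcN' c⟩ = ψ ⟨c', hcN' c'⟩ := congrArg Subtype.val hcc'
      have h2 := F.injective_of_mem hψ h1
      exact Subtype.ext (congrArg (fun z : ↥(_ ⊔ Q₁) => (z : Ω)) h2)
    · -- Sylow
      have : Finite ↥(P₂ ⊔ Q) := finite_of_le hR₂S
      have hle₁ : autInducedBy S R₁ ⊓ (flagAut P Q K).map (MulAut.congr e).toMonoidHom ≤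
          F.autGroup R₁ ⊓ (flagAut P Q K).map (MulAut.congr e).toMonoidHom :=
        inf_le_inf_right _ (autInducedBy_le_autGroup F hR₁S)
      have h1 := IsSylowIn.map_equiv (MulAut.congr (e.symm.trans θ')) hle₁ hgood₁.2
      have hKmap : ((flagAut P Q K).map (MulAut.congr e).toMonoidHom).map
          (MulAut.congr (e.symm.trans θ')).toMonoidHom = flagAut P₂ Q K := by
        rw [Subgroup.map_map, ← map_congr_flagAut θ' hθ'P hχ.2 hθ'Q]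
        congr 1
        ext α z
        simp [MulAut.congr]
      have hAmap : (F.autGroup R₁ ⊓ (flagAut P Q K).map (MulAut.congr e).toMonoidHom).map
          (MulAut.congr (e.symm.trans θ')).toMonoidHom = F.autGroup (P₂ ⊔ Q) ⊓ flagAut P₂ Q K := by
        rw [Subgroup.map_inf _ _ _ (MulAut.congr (e.symm.trans θ')).injective, hKmap,
          map_congr_autGroup F he₂F]
      rw [hAmap] at h1
      refine IsSylowIn.of_le ?_ h1 ?_ (inf_le_inf_right _ (autInducedBy_le_autGroup F hR₂S))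
        ((isPGroup_autInducedBy hS _).to_le inf_le_left)
      · rw [← hAmap]
        exact Subgroup.map_mono hle₁
      · rintro _ ⟨α, hα, rfl⟩
        refine ⟨?_, ?_⟩
        · obtain ⟨g, hgM, hgn, rfl⟩ := autInducedBy_eq_conjAut (autInducedBy_inf_le R₁ _ hα)
          have hgN' := Subgroup.mem_sup_left (T := Q₁) (hM₁N' hgM)
          refine mem_autInducedBy_iff.mpr ⟨ψ ⟨g, hgN'⟩, hom_mem F hψ _, fun y => ?_⟩
          have hy' : y = (e.symm.trans θ') ((e.symm.trans θ').symm y) := by simp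
          have h2 : ((MulAut.congr (e.symm.trans θ')).toMonoidHom (conjAut R₁ g hgn)) y =
              (e.symm.trans θ') (conjAut R₁ g hgn ((e.symm.trans θ').symm y)) := by
            simp [MulAut.congr]
          rw [h2]
          conv_rhs => rw [hy']
          show ((θ' (e.symm _) : ↥(P₂ ⊔ Q)) : Ω) = _ * ((θ' (e.symm _) : ↥(P₂ ⊔ Q)) : Ω) * _
          rw [← hψr, ← hψr, ← map_inv, ← map_mul, ← map_mul]
          congr 1
        · rw [← hKmap]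
          exact ⟨α, hα.2, rfl⟩

/-- AKO Theorem I.5.5: the `K`-normalizer system of a good pair `(Q, K)` is saturated. -/
theorem isSaturated_normK (p : ℕ) [Fact p.Prime] (hS : IsPGroup p S) (F : FusionSystem S)
    (hF : F.IsSaturated p) (Q : Subgroup Ω) (K : Subgroup (MulAut Q)) (hQgood : IsGoodK F p Q K)
    (E : FusionSystem (normK S Q K))
    (hE : ∀ P : Subgroup Ω, E.Hom P = homK F Q K (normK S Q K) P) : E.IsSaturated p := by
  intro P hPN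
  obtain ⟨P₂, θ, hθ, hP₂, ⟨κ, hκ, hθκ⟩, hP₂N, hgood⟩ :=
    exists_good_conj p hS F hF Q K hQgood P hPN
  refine ⟨P₂, ⟨θ.comp (Subgroup.inclusion le_sup_left), ?_, hP₂⟩,
    isFullyAutomized_of_isGoodK p F Q K E hE P₂ hP₂N hgood,
    isReceptive_of_isGoodK p hS F Q K E hE P₂ hP₂N hgood⟩
  rw [hE]
  exact ⟨restrict_mem F le_sup_left hθ, hPN, fun x => hP₂N (hP₂.le ⟨x, rfl⟩), θ, hθ,
    fun x => rfl, κ, hκ, hθκ⟩

/-- Transport of a fusion system along an equality of the underlying subgroups. -/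
def castSys' {T T' : Subgroup Ω} (h : T = T') (E : FusionSystem T) : FusionSystem T' := h ▸ E

theorem castSys'_hom {T T' : Subgroup Ω} (h : T = T') (E : FusionSystem T) (P : Subgroup Ω) :
    (castSys' h E).Hom P = E.Hom P := by
  subst h; rfl

theorem castSys'_isSaturated {T T' : Subgroup Ω} (h : T = T') (E : FusionSystem T) (p : ℕ) :
    (castSys' h E).IsSaturated p ↔ E.IsSaturated p := by
  subst h; rfl

end System

end Cfsg.Agent.Lib.Helper87
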