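import Mathlib

set_option autoImplicit false

/-!
Equivariant sections: if a group `K` acts on `C` and `Y`, `pr : Y → C` is equivariant, and every
`c : C` has a point in its fibre fixed by the stabilizer of `c`, then `pr` has an equivariant section.
-/

namespace Cfsg.Agent.Lib.Helper87

theorem exists_equivariant_section {K C Y : Type*} [Group K] [MulAction K C] [MulAction K Y]
    (pr : Y → C) (hpr : ∀ (k : K) (y : Y), pr (k • y) = k • pr y)
    (hfix : ∀ c : C, ∃ y : Y, pr y = c ∧ ∀ k : K, k • c = c → k • y = y) :
    ∃ σ : C → Y, (∀ c, pr (σ c) = c) ∧ ∀ (k : K) (c : C), σ (k • c) = k • σ c := by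
  classical
  choose good hgood₁ hgood₂ using hfix
  -- representative of the orbit of `c`
  let rep : C → C := fun c => (Quotient.mk (MulAction.orbitRel K C) c).out
  have hrep : ∀ c : C, ∃ k : K, k • rep c = c := by
    intro c
    have h1 : Quotient.mk (MulAction.orbitRel K C) (rep c) = Quotient.mk (MulAction.orbitRel K C) c :=
      Quotient.out_eq _
    have h2 := Quotient.exact h1
    -- `rep c ∈ orbit K c`
    have h3 : rep c ∈ MulAction.orbit K c := h2
    obtain ⟨k, hk⟩ := h3
    refine ⟨k⁻¹, ?_⟩
    rw [← hk, inv_smul_smul]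
  choose kk hkk using hrep
  have hrep_smul : ∀ (k : K) (c : C), rep (k • c) = rep c := by
    intro k c
    have h1 : Quotient.mk (MulAction.orbitRel K C) (k • c) = Quotient.mk (MulAction.orbitRel K C) c := by
      apply Quotient.sound
      show k • c ∈ MulAction.orbit K c
      exact ⟨k, rfl⟩
    show (Quotient.mk (MulAction.orbitRel K C) (k • c)).out = (Quotient.mk (MulAction.orbitRel K C) c).out
    rw [h1]
  refine ⟨fun c => kk c • good (rep c), fun c => ?_, fun k c => ?_⟩
  · rw [hpr, hgood₁, hkk]
  · show kk (k • c) • good (rep (k • c)) = k • kk c • good (rep c)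
    rw [hrep_smul k c]
    have h1 : ((kk (k • c))⁻¹ * k * kk c) • rep c = rep c := by
      rw [mul_smul, mul_smul, hkk c, inv_smul_eq_iff]
      have := hkk (k • c)
      rw [hrep_smul k c] at this
      exact this.symm
    have h2 := hgood₂ (rep c) _ h1
    rw [mul_smul, mul_smul, inv_smul_eq_iff] at h2
    exact h2.symm

end Cfsg.Agent.Lib.Helper87
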