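import Cfsg.Agent.Lib.Helper87.FusionCentric
import Cfsg.Agent.Lib.Helper89.FusionConj

set_option autoImplicit false

namespace Cfsg.Agent.Lib.Helper87

open Cfsg Cfsg.FusionSystem

variable {Ω : Type*} [Group Ω] {S : Subgroup Ω}

/-- Two maps of the system on `P` agreeing on a centric `Q ≤ P`: on `N_P(Q)` they differ by an element of `Q`. -/
theorem hom_agree_step (F : FusionSystem S) {P Q : Subgroup Ω} (hQP : Q ≤ P) (hQ : F.IsCentric Q)
    (φ φ' : P →* Ω) (hφ : φ ∈ F.Hom P) (hφ' : φ' ∈ F.Hom P)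
    (h : ∀ x : P, (x : Ω) ∈ Q → φ x = φ' x) (g : P)
    (hg : (g : Ω) ∈ Subgroup.normalizer (Q : Set Ω)) :
    ∃ z : P, (z : Ω) ∈ Q ∧ φ' g = φ (g * z) := by
  have hφQ := restrict_mem F hQP hφ
  have hcent : centralizerIn S (φ.comp (Subgroup.inclusion hQP)).range ≤
      (φ.comp (Subgroup.inclusion hQP)).range := hQ.2 _ ⟨_, hφQ, rfl⟩
  have hc : (φ g)⁻¹ * φ' g ∈ (φ.comp (Subgroup.inclusion hQP)).range := by
    apply hcent
    rw [mem_centralizerIn]
    refine ⟨S.mul_mem (S.inv_mem (hom_mem F hφ g)) (hom_mem F hφ' g), ?_⟩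
    rintro _ ⟨x, rfl⟩
    set x' : P := Subgroup.inclusion hQP x with hx'
    have hgx : ((g * x' * g⁻¹ : P) : Ω) ∈ Q := (Subgroup.mem_normalizer_iff.mp hg x).mp x.2
    have h1 := h (g * x' * g⁻¹) hgx
    rw [map_mul, map_mul, map_inv, map_mul, map_mul, map_inv, ← h x' x.2] at h1
    show φ x' * ((φ g)⁻¹ * φ' g) = (φ g)⁻¹ * φ' g * φ x'
    have e1 : φ x' * ((φ g)⁻¹ * φ' g) = (φ g)⁻¹ * (φ g * φ x' * (φ g)⁻¹) * φ' g := by group
    rw [e1, h1]; group
  obtain ⟨z, hz⟩ := hc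
  refine ⟨Subgroup.inclusion hQP z, z.2, ?_⟩
  rw [map_mul]
  have : φ (Subgroup.inclusion hQP z) = (φ g)⁻¹ * φ' g := hz
  rw [this]; group

/-- Two maps of a saturated system on `P` agreeing on a centric `Q ≤ P` differ by conjugation with an element of `Z(Q)`
(induction on `|P| - |Q|`). -/
theorem hom_agree_on_centric_aux [Finite S] (p : ℕ) [Fact p.Prime] (hS : IsPGroup p S)
    (F : FusionSystem S) (hF : F.IsSaturated p) :
    ∀ (n : ℕ) (P Q : Subgroup Ω), Nat.card P - Nat.card Q = n → Q ≤ P → F.IsCentric Q →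
      ∀ (φ φ' : P →* Ω), φ ∈ F.Hom P → φ' ∈ F.Hom P → (∀ x : P, (x : Ω) ∈ Q → φ x = φ' x) →
        ∃ z : P, (z : Ω) ∈ Q ∧ (z : Ω) ∈ Subgroup.centralizer (Q : Set Ω) ∧
          ∀ y : P, φ' y = φ (z * y * z⁻¹) := by
  intro n
  induction n using Nat.strong_induction_on with
  | _ n ih =>
  intro P Q hn hQP hQ φ φ' hφ hφ' hagree
  have hPS : P ≤ S := hom_le F hφ
  have hfinP : Finite P := finite_of_le hPS
  have hcentQ : centralizerIn S Q ≤ Q := hQ.2 Q (isConj_refl F hQ.1)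
  by_cases hQeqP : Q = P
  · refine ⟨1, Q.one_mem, Subgroup.one_mem _, fun y => ?_⟩
    have hy : (y : Ω) ∈ Q := hQeqP ▸ y.2
    rw [← hagree y hy]; simp
  · set N : Subgroup Ω := normalizerIn P Q with hN
    have hQN : Q ≤ N := le_normalizerIn hQP
    have hNP : N ≤ P := normalizerIn_le P Q
    have hNS : N ≤ S := hNP.trans hPS
    have hNn : N ≤ Subgroup.normalizer (Q : Set Ω) := inf_le_right
    obtain ⟨g₀, hg₀N, hg₀Q⟩ := Cfsg.Agent.Lib.Helper89.exists_mem_normalizerIn_not_mem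
      (S := P) (hS.to_le hPS) hQP hQeqP
    have hfinN : Finite N := finite_of_le hNS
    have hcardQN : Nat.card Q < Nat.card N :=
      Cfsg.Agent.Lib.Helper89.card_lt_of_mem_not_mem hQN hg₀N hg₀Q
    have hcardNP : Nat.card N ≤ Nat.card P := card_le_of_le hNP
    -- restrictions to N
    have hφN := restrict_mem F hNP hφ
    have hφ'N := restrict_mem F hNP hφ'
    have hrange : (φ'.comp (Subgroup.inclusion hNP)).range = (φ.comp (Subgroup.inclusion hNP)).range := by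
      ext y
      constructor
      · rintro ⟨g, rfl⟩
        obtain ⟨z, hzQ, hz⟩ := hom_agree_step F hQP hQ φ φ' hφ hφ' hagree (Subgroup.inclusion hNP g)
          (hNn g.2)
        refine ⟨⟨Subgroup.inclusion hNP g * z, N.mul_mem g.2 (hQN hzQ)⟩, ?_⟩
        exact hz.symm
      · rintro ⟨g, rfl⟩
        obtain ⟨z, hzQ, hz⟩ := hom_agree_step F hQP hQ φ' φ hφ' hφ (fun x hx => (hagree x hx).symm)
          (Subgroup.inclusion hNP g) (hNn g.2)
        refine ⟨⟨Subgroup.inclusion hNP g * z, N.mul_mem g.2 (hQN hzQ)⟩, ?_⟩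
        exact hz.symm
    set e := homEquiv F hφN rfl with he
    set e' := homEquiv F hφ'N hrange with he'
    have heF : IsFIso F e := isFIso_homEquiv F hφN rfl
    have he'F : IsFIso F e' := isFIso_homEquiv F hφ'N hrange
    set α : MulAut N := e'.trans e.symm with hα
    have hαF : α ∈ F.autGroup N :=
      (isFIso_iff_mem_autGroup F hNS).mp (IsFIso.trans F he'F (IsFIso.symm F heF))
    have hαφ : ∀ y : N, φ (Subgroup.inclusion hNP (α y)) = φ' (Subgroup.inclusion hNP y) := by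
      intro y
      have h1 : e (α y) = e' y := by
        show e (e.symm (e' y)) = e' y
        rw [MulEquiv.apply_symm_apply]
      exact congrArg Subtype.val h1
    have hαfix : ∀ x : N, (x : Ω) ∈ Q → α x = x := by
      intro x hx
      show e.symm (e' x) = x
      rw [MulEquiv.symm_apply_eq]
      apply Subtype.ext
      show φ' (Subgroup.inclusion hNP x) = φ (Subgroup.inclusion hNP x)
      exact (hagree _ hx).symm
    obtain ⟨z, hzQ, hzC, hzα⟩ := aut_fixing_centric_normal p hS F hF hQN hNS hQ hNn α hαF hαfix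
    set zP : P := Subgroup.inclusion hNP z with hzP
    -- the map φ₁ = φ ∘ c_z
    set φ₁ : P →* Ω := φ.comp (MulAut.conj zP).toMonoidHom with hφ₁
    have hφ₁F : φ₁ ∈ F.Hom P := by
      refine comp_mem' F (F.conj_mem hPS (hPS zP.2)) hφ
        (fun x => (show (zP : Ω) * x * (zP : Ω)⁻¹ ∈ P from (zP * x * zP⁻¹).2)) (fun x => ?_)
      rfl
    have hagree₁ : ∀ x : P, (x : Ω) ∈ N → φ₁ x = φ' x := by
      intro x hx
      have h1 := hαφ ⟨x, hx⟩
      rw [hzα] at h1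
      rw [← show Subgroup.inclusion hNP ⟨x, hx⟩ = x from rfl, ← h1]
      rfl
    have hNc : F.IsCentric N := isCentric_of_le F hQ hQN hNS
    have hlt : Nat.card P - Nat.card N < n := by omega
    obtain ⟨z₁, hz₁N, hz₁C, hz₁⟩ := ih _ hlt P N rfl hNP hNc φ₁ φ' hφ₁F hφ' hagree₁
    have hz₁CQ : (z₁ : Ω) ∈ Subgroup.centralizer (Q : Set Ω) :=
      Subgroup.centralizer_le (show (Q : Set Ω) ⊆ N from hQN) hz₁C
    have hz₁Q : (z₁ : Ω) ∈ Q := hcentQ ⟨hPS z₁.2, hz₁CQ⟩
    refine ⟨zP * z₁, Q.mul_mem hzQ hz₁Q, Subgroup.mul_mem _ hzC hz₁CQ, fun y => ?_⟩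
    rw [hz₁ y]
    show φ (zP * (z₁ * y * z₁⁻¹) * zP⁻¹) = φ (zP * z₁ * y * (zP * z₁)⁻¹)
    congr 1
    group

end Cfsg.Agent.Lib.Helper87
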