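import Mathlib
import Cfsg.Agent.Lib.Helper87.EquivariantSection

set_option autoImplicit false

/-!
A relative version of Gaschütz' theorem with a prescribed "stable" partial complement:
`A` abelian normal in the finite group `X`, `A ≤ T ≤ X` with `|X : T|` prime to `|A|`, `K` a complement
to `A` in `T` which is stable under fusion in `X` up to `A`-conjugacy. Then `A` has a complement in `X`
containing `K`.
-/

namespace Cfsg.Agent.Lib.Helper87

open scoped Classical IsMulCommutative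

section Fibres

variable {X : Type*} [Group X] (A : Subgroup X) {T K : Subgroup X}

theorem quotientMapOfLE_smul (hKT : K ≤ T) (x : X) (y : X ⧸ K) :
    Subgroup.quotientMapOfLE hKT (x • y) = x • Subgroup.quotientMapOfLE hKT y := by
  induction y using QuotientGroup.induction_on with
  | H g => rfl

variable [hAn : A.Normal]

theorem eq_one_of_smul_eq (hKA : K ⊓ A = ⊥) {a : X} (ha : a ∈ A) (y : X ⧸ K) (h : a • y = y) :
    a = 1 := by
  induction y using QuotientGroup.induction_on with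
  | H g =>
    have h1 : ((a * g : X) : X ⧸ K) = (g : X ⧸ K) := h
    rw [QuotientGroup.eq] at h1
    have h2 : (a * g)⁻¹ * g ∈ A := by
      have e : (a * g)⁻¹ * g = g⁻¹ * a⁻¹ * g⁻¹⁻¹ := by group
      rw [e]; exact hAn.conj_mem _ (A.inv_mem ha) _
    have h3 : (a * g)⁻¹ * g ∈ K ⊓ A := ⟨h1, h2⟩
    rw [hKA, Subgroup.mem_bot, inv_mul_eq_one] at h3
    have h4 : a * g = 1 * g := by rw [h3, one_mul]
    exact mul_right_cancel h4

theorem exists_smul_eq_of_fibre (hKT : K ≤ T) (hT : ∀ t ∈ T, ∃ a ∈ A, ∃ k ∈ K, t = a * k)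
    (y y' : X ⧸ K)
    (h : Subgroup.quotientMapOfLE hKT y = Subgroup.quotientMapOfLE hKT y') :
    ∃ a : A, (a : X) • y' = y := by
  induction y using QuotientGroup.induction_on with
  | H g =>
  induction y' using QuotientGroup.induction_on with
  | H g' =>
    have h1 : ((g : X) : X ⧸ T) = (g' : X ⧸ T) := h
    rw [QuotientGroup.eq] at h1
    have h2 : g'⁻¹ * g ∈ T := by
      have := T.inv_mem h1
      simpa using this
    obtain ⟨a₀, ha₀, k, hk, e⟩ := hT _ h2
    refine ⟨⟨g' * a₀ * g'⁻¹, hAn.conj_mem a₀ ha₀ g'⟩, ?_⟩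
    show ((g' * a₀ * g'⁻¹ * g' : X) : X ⧸ K) = (g : X ⧸ K)
    rw [QuotientGroup.eq]
    have e2 : (g' * a₀ * g'⁻¹ * g')⁻¹ * g = a₀⁻¹ * (g'⁻¹ * g) := by group
    rw [e2, e]
    simpa using hk

theorem smul_quotient_eq_self (hAT : A ≤ T) {a : X} (ha : a ∈ A) (c : X ⧸ T) : a • c = c := by
  induction c using QuotientGroup.induction_on with
  | H g =>
    show ((a * g : X) : X ⧸ T) = (g : X ⧸ T)
    rw [QuotientGroup.eq]
    have e : (a * g)⁻¹ * g = g⁻¹ * a⁻¹ * g⁻¹⁻¹ := by group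
    rw [e]
    exact hAT (hAn.conj_mem _ (A.inv_mem ha) _)

/-- The element of `A` moving `y'` to `y` (when they lie in one fibre). -/
noncomputable def dA (y y' : X ⧸ K) : A :=
  if h : ∃ a : A, (a : X) • y' = y then Classical.choose h else 1

theorem dA_spec {y y' : X ⧸ K} (h : ∃ a : A, (a : X) • y' = y) : ((dA A y y' : A) : X) • y' = y := by
  unfold dA
  rw [dif_pos h]
  exact Classical.choose_spec h

theorem dA_unique (hKA : K ⊓ A = ⊥) {y y' : X ⧸ K} {a : A} (h : (a : X) • y' = y) :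
    dA A y y' = a := by
  have h1 := dA_spec A ⟨a, h⟩
  have h2 : (((a⁻¹ * dA A y y' : A) : A) : X) • y' = y' := by
    rw [Subgroup.coe_mul, mul_smul, h1, ← h, Subgroup.coe_inv, inv_smul_smul]
  have h3 := eq_one_of_smul_eq A hKA (Subtype.prop _) y' h2
  have h4 : a⁻¹ * dA A y y' = 1 := Subtype.ext h3
  rw [inv_mul_eq_one] at h4
  exact h4.symm

theorem dA_self (hKA : K ⊓ A = ⊥) (y : X ⧸ K) : dA A y y = 1 :=
  dA_unique A hKA (by simp)

theorem dA_mul (hKA : K ⊓ A = ⊥) {y y' y'' : X ⧸ K} (h : ∃ a : A, (a : X) • y' = y)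
    (h' : ∃ a : A, (a : X) • y'' = y') : dA A y y' * dA A y' y'' = dA A y y'' := by
  symm
  apply dA_unique A hKA
  rw [Subgroup.coe_mul, mul_smul, dA_spec A h', dA_spec A h]

theorem dA_smul (hKA : K ⊓ A = ⊥) (x : X) {y y' : X ⧸ K} (h : ∃ a : A, (a : X) • y' = y) :
    dA A (x • y) (x • y') = MulAut.conjNormal x (dA A y y') := by
  apply dA_unique A hKA
  rw [MulAut.conjNormal_apply, mul_smul, mul_smul, inv_smul_smul, dA_spec A h]

theorem dA_smul_left (hKA : K ⊓ A = ⊥) (a : A) {y y' : X ⧸ K} (h : ∃ a : A, (a : X) • y' = y) :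
    dA A ((a : X) • y) y' = a * dA A y y' := by
  apply dA_unique A hKA
  rw [Subgroup.coe_mul, mul_smul, dA_spec A h]

end Fibres

section Sections

variable {X : Type*} [Group X] [Finite X] (A : Subgroup X) {T K : Subgroup X}
  [hAn : A.Normal] [hAc : IsMulCommutative A]

/-- `σ` is a section of `X ⧸ K → X ⧸ T`. -/
def IsSec (hKT : K ≤ T) (σ : X ⧸ T → X ⧸ K) : Prop :=
  ∀ c, Subgroup.quotientMapOfLE hKT (σ c) = c

/-- The action of `X` on sections. -/
def actSec (x : X) (σ : X ⧸ T → X ⧸ K) : X ⧸ T → X ⧸ K := fun c => x • σ (x⁻¹ • c)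

theorem isSec_actSec (hKT : K ≤ T) (x : X) {σ : X ⧸ T → X ⧸ K} (hσ : IsSec hKT σ) :
    IsSec hKT (actSec x σ) := by
  intro c
  unfold actSec
  rw [quotientMapOfLE_smul, hσ, smul_inv_smul]

theorem actSec_mul (x y : X) (σ : X ⧸ T → X ⧸ K) : actSec (x * y) σ = actSec x (actSec y σ) := by
  funext c
  unfold actSec
  rw [mul_smul, mul_inv_rev, mul_smul]

theorem actSec_one (σ : X ⧸ T → X ⧸ K) : actSec 1 σ = σ := by
  funext c
  unfold actSec
  rw [inv_one, one_smul, one_smul]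

noncomputable instance instFintypeQuot : Fintype (X ⧸ T) := Fintype.ofFinite _

/-- The averaged difference of two sections. -/
noncomputable def dSec (σ σ' : X ⧸ T → X ⧸ K) : A := ∏ c : X ⧸ T, dA A (σ c) (σ' c)

variable (hKT : K ≤ T) (hKA : K ⊓ A = ⊥) (hT : ∀ t ∈ T, ∃ a ∈ A, ∃ k ∈ K, t = a * k)

include hT in
theorem exists_of_isSec {σ σ' : X ⧸ T → X ⧸ K} (hσ : IsSec hKT σ) (hσ' : IsSec hKT σ')
    (c : X ⧸ T) : ∃ a : A, (a : X) • σ' c = σ c :=
  exists_smul_eq_of_fibre A hKT hT _ _ ((hσ c).trans (hσ' c).symm)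

include hKA in
theorem dSec_self (σ : X ⧸ T → X ⧸ K) : dSec A σ σ = 1 := by
  unfold dSec
  exact Finset.prod_eq_one (fun c _ => dA_self A hKA _)

include hKA hT in
theorem dSec_mul {σ σ' σ'' : X ⧸ T → X ⧸ K} (hσ : IsSec hKT σ) (hσ' : IsSec hKT σ')
    (hσ'' : IsSec hKT σ'') : dSec A σ σ' * dSec A σ' σ'' = dSec A σ σ'' := by
  unfold dSec
  rw [← Finset.prod_mul_distrib]
  exact Finset.prod_congr rfl (fun c _ =>
    dA_mul A hKA (exists_of_isSec A hKT hT hσ hσ' c) (exists_of_isSec A hKT hT hσ' hσ'' c))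

include hKA hT in
theorem dSec_symm {σ σ' : X ⧸ T → X ⧸ K} (hσ : IsSec hKT σ) (hσ' : IsSec hKT σ') :
    dSec A σ' σ = (dSec A σ σ')⁻¹ := by
  have h := dSec_mul A hKT hKA hT hσ' hσ hσ'
  rw [dSec_self A hKA] at h
  exact eq_inv_of_mul_eq_one_left h

include hKA hT in
theorem dSec_actSec (x : X) {σ σ' : X ⧸ T → X ⧸ K} (hσ : IsSec hKT σ) (hσ' : IsSec hKT σ') :
    dSec A (actSec x σ) (actSec x σ') = MulAut.conjNormal x (dSec A σ σ') := by
  unfold dSec actSec
  rw [map_prod]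
  rw [← Equiv.prod_comp (MulAction.toPerm x⁻¹ : Equiv.Perm (X ⧸ T))
    (fun c => (MulAut.conjNormal x) (dA A (σ c) (σ' c)))]
  refine Finset.prod_congr rfl (fun c _ => ?_)
  rw [MulAction.toPerm_apply]
  exact dA_smul A hKA x (exists_of_isSec A hKT hT hσ hσ' _)

include hKA hT in
theorem dSec_actSec_of_mem (hAT : A ≤ T) (a : A) {σ σ' : X ⧸ T → X ⧸ K} (hσ : IsSec hKT σ)
    (hσ' : IsSec hKT σ') :
    dSec A (actSec (a : X) σ) σ' = a ^ (Fintype.card (X ⧸ T)) * dSec A σ σ' := by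
  unfold dSec actSec
  have h1 : ∀ c : X ⧸ T, dA A ((a : X) • σ ((a : X)⁻¹ • c)) (σ' c) = a * dA A (σ c) (σ' c) := by
    intro c
    rw [smul_quotient_eq_self A hAT (A.inv_mem a.2) c]
    exact dA_smul_left A hKA a (exists_of_isSec A hKT hT hσ hσ' c)
  rw [Finset.prod_congr rfl (fun c _ => h1 c), Finset.prod_mul_distrib, Finset.prod_const,
    Finset.card_univ]

include hKT hKA hT in
/-- **Relative Gaschütz with a stable partial complement.** -/
theorem exists_complement_of_stable (hAT : A ≤ T)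
    (hcop : (Nat.card A).Coprime T.index)
    (hstable : ∀ x : X, ∃ a ∈ A, ∀ k ∈ K, x⁻¹ * k * x ∈ T → (x * a)⁻¹ * k * (x * a) ∈ K) :
    ∃ H : Subgroup X, K ≤ H ∧ H ⊓ A = ⊥ ∧ ∀ x : X, ∃ a ∈ A, ∃ h ∈ H, x = a * h := by
  -- an equivariant section
  obtain ⟨σ₀, hσ₀, hequiv⟩ : ∃ σ : X ⧸ T → X ⧸ K, IsSec hKT σ ∧
      ∀ (k : K) (c : X ⧸ T), σ (k • c) = k • σ c := by
    apply exists_equivariant_section (K := K) (Subgroup.quotientMapOfLE hKT)
    · intro k y
      exact quotientMapOfLE_smul hKT (k : X) y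
    · intro c
      induction c using QuotientGroup.induction_on with
      | H x₀ =>
        obtain ⟨a, ha, hak⟩ := hstable x₀
        refine ⟨((x₀ * a : X) : X ⧸ K), ?_, fun k hk => ?_⟩
        · show ((x₀ * a : X) : X ⧸ T) = (x₀ : X ⧸ T)
          rw [QuotientGroup.eq]
          have e : (x₀ * a)⁻¹ * x₀ = a⁻¹ := by group
          rw [e]
          exact hAT (A.inv_mem ha)
        · have hk' : (((k : X) * x₀ : X) : X ⧸ T) = (x₀ : X ⧸ T) := hk
          rw [QuotientGroup.eq] at hk'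
          have h1 : x₀⁻¹ * (k : X) * x₀ ∈ T := by
            have := T.inv_mem hk'
            have e : ((↑k * x₀)⁻¹ * x₀)⁻¹ = x₀⁻¹ * (k : X) * x₀ := by group
            rwa [e] at this
          have h2 := hak k k.2 h1
          show (((k : X) * (x₀ * a) : X) : X ⧸ K) = ((x₀ * a : X) : X ⧸ K)
          rw [QuotientGroup.eq]
          have e : ((k : X) * (x₀ * a))⁻¹ * (x₀ * a) = ((x₀ * a)⁻¹ * (k : X) * (x₀ * a))⁻¹ := by group
          rw [e]
          exact K.inv_mem h2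
  have hKfix : ∀ k ∈ K, actSec k σ₀ = σ₀ := by
    intro k hk
    funext c
    unfold actSec
    have := hequiv ⟨k⁻¹, K.inv_mem hk⟩ c
    have h1 : σ₀ (k⁻¹ • c) = k⁻¹ • σ₀ c := this
    rw [h1, smul_inv_smul]
  have hsec : ∀ x : X, IsSec hKT (actSec x σ₀) := fun x => isSec_actSec hKT x hσ₀
  have hm : Fintype.card (X ⧸ T) = T.index := by
    rw [Subgroup.index_eq_card, Nat.card_eq_fintype_card]
  let H : Subgroup X :=
    { carrier := {x | dSec A (actSec x σ₀) σ₀ = 1}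
      one_mem' := by
        show dSec A (actSec 1 σ₀) σ₀ = 1
        rw [actSec_one, dSec_self A hKA]
      mul_mem' := by
        intro x y hx hy
        show dSec A (actSec (x * y) σ₀) σ₀ = 1
        have hx' : dSec A (actSec x σ₀) σ₀ = 1 := hx
        have hy' : dSec A (actSec y σ₀) σ₀ = 1 := hy
        rw [actSec_mul, ← dSec_mul A hKT hKA hT (isSec_actSec hKT x (hsec y)) (hsec x) hσ₀,
          dSec_actSec A hKT hKA hT x (hsec y) hσ₀, hx', hy', map_one, one_mul]
      inv_mem' := by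
        intro x hx
        show dSec A (actSec x⁻¹ σ₀) σ₀ = 1
        have hx' : dSec A (actSec x σ₀) σ₀ = 1 := hx
        have e : σ₀ = actSec x⁻¹ (actSec x σ₀) := by
          rw [← actSec_mul, inv_mul_cancel, actSec_one]
        have h1 : dSec A (actSec x⁻¹ σ₀) (actSec x⁻¹ (actSec x σ₀)) =
            MulAut.conjNormal x⁻¹ (dSec A σ₀ (actSec x σ₀)) :=
          dSec_actSec A hKT hKA hT x⁻¹ hσ₀ (hsec x)
        rw [← e, dSec_symm A hKT hKA hT (hsec x) hσ₀, hx', inv_one, map_one] at h1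
        exact h1 }
  refine ⟨H, fun k hk => ?_, ?_, fun x => ?_⟩
  · show dSec A (actSec k σ₀) σ₀ = 1
    rw [hKfix k hk, dSec_self A hKA]
  · rw [eq_bot_iff]
    rintro a ⟨haH, haA⟩
    have h1 : dSec A (actSec a σ₀) σ₀ = 1 := haH
    have h2 := dSec_actSec_of_mem A hKT hKA hT hAT ⟨a, haA⟩ hσ₀ hσ₀
    rw [dSec_self A hKA, mul_one] at h2
    have h3 : (⟨a, haA⟩ : A) ^ T.index = 1 := by
      rw [← hm, ← h2]; exact h1
    have h4 : (powCoprime hcop) ⟨a, haA⟩ = (powCoprime hcop) 1 := by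
      show (⟨a, haA⟩ : A) ^ T.index = 1 ^ T.index
      rw [h3, one_pow]
    have h5 := (powCoprime hcop).injective h4
    rw [Subgroup.mem_bot]
    exact congrArg Subtype.val h5
  · obtain ⟨a, ha⟩ := (powCoprime hcop).surjective (dSec A (actSec x σ₀) σ₀)⁻¹
    have ha' : a ^ T.index = (dSec A (actSec x σ₀) σ₀)⁻¹ := ha
    refine ⟨(a : X)⁻¹, A.inv_mem a.2, (a : X) * x, ?_, by group⟩
    show dSec A (actSec ((a : X) * x) σ₀) σ₀ = 1
    rw [actSec_mul, dSec_actSec_of_mem A hKT hKA hT hAT a (hsec x) hσ₀, hm, ha', inv_mul_cancel]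

end Sections

end Cfsg.Agent.Lib.Helper87
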