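import Cfsg.Agent.Lib.Helper87.FusionSaturated

set_option autoImplicit false

namespace Cfsg.Agent.Lib.Helper87

open Cfsg Cfsg.FusionSystem

variable {Ω : Type*} [Group Ω] {S : Subgroup Ω}

/-- A `p`-subgroup `K` of `Aut_F(P)` can be carried into `Aut_S(P')` by an `F`-isomorphism onto a fully
automized subgroup `P'` conjugate to `P`. -/
theorem exists_isFIso_into_autInducedBy [Finite S] (p : ℕ) [Fact p.Prime] (F : FusionSystem S)
    {P P' : Subgroup Ω} (hPa : F.IsFullyAutomized p P') (e₀ : P ≃* P') (he₀ : IsFIso F e₀)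
    (K : Subgroup (MulAut P)) (hK : IsPGroup p K) (hKF : K ≤ F.autGroup P) :
    ∃ e : P ≃* P', IsFIso F e ∧ ∀ α ∈ K, MulAut.congr e α ∈ autInducedBy S P' := by
  obtain ⟨hP'S, R, hR⟩ := hPa
  have : Finite (F.autGroup P') := finite_autGroup F hP'S
  set H₀ : Subgroup (MulAut P') := K.map (MulAut.congr e₀).toMonoidHom with hH₀
  have hH₀p : IsPGroup p H₀ := hK.map _
  have hH₀X : H₀ ≤ F.autGroup P' := by
    rw [← map_congr_autGroup F he₀]
    exact Subgroup.map_mono hKF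
  have hHp : IsPGroup p (H₀.subgroupOf (F.autGroup P')) := hH₀p.comap_subtype
  obtain ⟨χ, hχ⟩ := exists_conj_le_sylow R hHp
  rw [hR] at hχ
  have hχF : IsFIso F ((χ : MulAut P') : P' ≃* P') := (isFIso_iff_mem_autGroup F hP'S).mpr χ.2
  refine ⟨e₀.trans ((χ : MulAut P') : P' ≃* P'), IsFIso.trans F he₀ hχF, fun α hα => ?_⟩
  have h1 : MulAut.congr e₀ α ∈ H₀ := ⟨α, hα, rfl⟩
  have h2 : (⟨MulAut.congr e₀ α, hH₀X h1⟩ : F.autGroup P') ∈ H₀.subgroupOf (F.autGroup P') := h1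
  have h3 := hχ (conj_mem_map_conj (g := χ) h2)
  have h4 : ((χ * ⟨MulAut.congr e₀ α, hH₀X h1⟩ * χ⁻¹ : F.autGroup P') : MulAut P') ∈
      autInducedBy S P' := h3
  have h5 : MulAut.congr (e₀.trans ((χ : MulAut P') : P' ≃* P')) α =
      ((χ * ⟨MulAut.congr e₀ α, hH₀X h1⟩ * χ⁻¹ : F.autGroup P') : MulAut P') := by
    ext y
    simp [MulAut.congr, MulAut.mul_apply, MulAut.inv_apply]
  rw [h5]; exact h4

/-- A subgroup containing a centric subgroup is centric. -/
theorem isCentric_of_le (F : FusionSystem S) {Q N : Subgroup Ω} (hQ : F.IsCentric Q) (hQN : Q ≤ N)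
    (hNS : N ≤ S) : F.IsCentric N := by
  refine ⟨hNS, fun N' hN' => ?_⟩
  obtain ⟨φ, hφ, hr⟩ := hN'
  -- the image of Q
  have hφQ := restrict_mem F hQN hφ
  have hconj : F.IsConj Q (φ.comp (Subgroup.inclusion hQN)).range := ⟨_, hφQ, rfl⟩
  have h1 := hQ.2 _ hconj
  have h2 : (φ.comp (Subgroup.inclusion hQN)).range ≤ N' := by
    rintro _ ⟨x, rfl⟩
    rw [← hr]; exact ⟨_, rfl⟩
  intro c hc
  apply h2
  apply h1
  rw [mem_centralizerIn] at hc ⊢
  exact ⟨hc.1, fun y hy => hc.2 y (h2 hy)⟩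

/-- The automorphisms of `P` fixing every element of `P` lying in `Q`. -/
def fixingSubgroup (P Q : Subgroup Ω) : Subgroup (MulAut P) where
  carrier := {β | ∀ x : P, (x : Ω) ∈ Q → β x = x}
  one_mem' := fun _ _ => rfl
  mul_mem' := by
    intro a b ha hb x hx
    rw [MulAut.mul_apply, hb x hx, ha x hx]
  inv_mem' := by
    intro a ha x hx
    have := ha x hx
    rw [MulAut.inv_apply, MulEquiv.symm_apply_eq]
    exact this.symm

theorem mem_fixingSubgroup {P Q : Subgroup Ω} {β : MulAut P} :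
    β ∈ fixingSubgroup P Q ↔ ∀ x : P, (x : Ω) ∈ Q → β x = x := Iff.rfl

theorem pow_card_eq_one_of_mem [Finite S] {z : Ω} (hz : z ∈ S) : z ^ Nat.card S = 1 := by
  have := pow_card_eq_one' (G := S) (x := ⟨z, hz⟩)
  exact congrArg Subtype.val this

/-- Automorphisms of `P` fixing a centric normal subgroup `Q` of `P` elementwise form a `p`-group. -/
theorem isPGroup_fixing_centric [Finite S] (p : ℕ) [Fact p.Prime] (hS : IsPGroup p S)
    (F : FusionSystem S) {P Q : Subgroup Ω} (hQP : Q ≤ P) (hPS : P ≤ S) (hQ : F.IsCentric Q)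
    (hn : P ≤ Subgroup.normalizer (Q : Set Ω)) : IsPGroup p (fixingSubgroup P Q) := by
  obtain ⟨m, hm⟩ := IsPGroup.iff_card.mp hS
  have hcent : centralizerIn S Q ≤ Q := hQ.2 Q (isConj_refl F hQ.1)
  rintro ⟨β, hβ⟩
  refine ⟨m, Subtype.ext ?_⟩
  show β ^ p ^ m = 1
  -- β g = g * z with z ∈ Z(Q) fixed by β
  have hstep : ∀ g : P, ((g⁻¹ * β g : P) : Ω) ∈ Q := by
    intro g
    apply hcent
    rw [mem_centralizerIn]
    refine ⟨hPS (g⁻¹ * β g).2, fun x hx => ?_⟩
    set x' : P := ⟨x, hQP hx⟩ with hx'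
    have hgx : ((g * x' * g⁻¹ : P) : Ω) ∈ Q := (Subgroup.mem_normalizer_iff.mp (hn g.2) x).mp hx
    have h1 : β (g * x' * g⁻¹) = g * x' * g⁻¹ := hβ _ hgx
    rw [map_mul, map_mul, map_inv, hβ x' hx] at h1
    have h2 : x' * (g⁻¹ * β g) = g⁻¹ * β g * x' := by
      have e1 : x' * (g⁻¹ * β g) = g⁻¹ * (g * x' * g⁻¹) * β g := by group
      rw [e1, ← h1]; group
    exact congrArg Subtype.val h2
  have hpow : ∀ n : ℕ, ∀ g : P, (β ^ n) g = g * (g⁻¹ * β g) ^ n := by
    intro n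
    induction n with
    | zero => intro g; simp
    | succ n ih =>
      intro g
      have hz : β (g⁻¹ * β g) = g⁻¹ * β g := hβ _ (hstep g)
      have hzn : (β ^ n) (g⁻¹ * β g) = g⁻¹ * β g := by
        rw [ih, hz]; simp
      have e : β g = g * (g⁻¹ * β g) := by group
      rw [pow_succ, MulAut.mul_apply]
      conv_lhs => rw [e]
      rw [map_mul, ih g, hzn, pow_succ]
      group
  ext g
  rw [hpow, MulAut.one_apply]
  have h1 : ((g⁻¹ * β g) ^ p ^ m : P) = 1 := by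
    apply Subtype.ext
    have := pow_card_eq_one_of_mem (S := S) (hPS (g⁻¹ * β g).2)
    rw [hm] at this
    simpa using this
  rw [h1, mul_one]

/-- Normal case: an `F`-automorphism of `P` fixing a centric normal subgroup `Q` of `P` elementwise is
conjugation by an element of `Z(Q)`. -/
theorem aut_fixing_centric_normal [Finite S] (p : ℕ) [Fact p.Prime] (hS : IsPGroup p S)
    (F : FusionSystem S) (hF : F.IsSaturated p) {P Q : Subgroup Ω} (hQP : Q ≤ P) (hPS : P ≤ S)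
    (hQ : F.IsCentric Q) (hn : P ≤ Subgroup.normalizer (Q : Set Ω)) (α : MulAut P)
    (hα : α ∈ F.autGroup P) (hfix : ∀ x : P, (x : Ω) ∈ Q → α x = x) :
    ∃ z : P, (z : Ω) ∈ Q ∧ (z : Ω) ∈ Subgroup.centralizer (Q : Set Ω) ∧
      ∀ y : P, α y = z * y * z⁻¹ := by
  set K : Subgroup (MulAut P) := F.autGroup P ⊓ fixingSubgroup P Q with hK
  have hKp : IsPGroup p K := (isPGroup_fixing_centric p hS F hQP hPS hQ hn).to_le inf_le_right
  obtain ⟨P', hPP', hP'n⟩ := exists_isFullyNormalized F hPS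
  obtain ⟨e₀, he₀⟩ := exists_isFIso_of_isConj F hPP'
  have hP'a := (fullyNormalized_props p hS F hF P' hP'n).2
  obtain ⟨e, he, heK⟩ := exists_isFIso_into_autInducedBy p F hP'a e₀ he₀ K hKp inf_le_left
  obtain ⟨s, hsS, hs⟩ := mem_autInducedBy_iff.mp (heK α ⟨hα, hfix⟩)
  -- the image of Q under e
  set ψ : Q →* Ω := (P'.subtype.comp e.toMonoidHom).comp (Subgroup.inclusion hQP) with hψ
  have hψF : ψ ∈ F.Hom Q := restrict_mem F hQP he
  have hcent : centralizerIn S ψ.range ≤ ψ.range := hQ.2 _ ⟨ψ, hψF, rfl⟩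
  have hsQ' : s ∈ ψ.range := by
    apply hcent
    rw [mem_centralizerIn]
    refine ⟨hsS, ?_⟩
    rintro _ ⟨x, rfl⟩
    have h1 := hs (e (Subgroup.inclusion hQP x))
    have h2 : (MulAut.congr e α) (e (Subgroup.inclusion hQP x)) = e (Subgroup.inclusion hQP x) := by
      simp only [MulAut.congr_apply, MulEquiv.trans_apply, MulEquiv.symm_apply_apply]
      rw [hfix _ x.2]
    rw [h2] at h1
    show ((e (Subgroup.inclusion hQP x) : P') : Ω) * s = s * ((e (Subgroup.inclusion hQP x) : P') : Ω)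
    conv_lhs => rw [h1]
    group
  obtain ⟨x₀, hx₀⟩ := hsQ'
  set z : P := Subgroup.inclusion hQP x₀ with hz
  have hez : ((e z : P') : Ω) = s := hx₀
  have hconj : ∀ y : P, α y = z * y * z⁻¹ := by
    intro y
    apply e.injective
    apply Subtype.ext
    have h1 := hs (e y)
    have h2 : (MulAut.congr e α) (e y) = e (α y) := by
      simp only [MulAut.congr_apply, MulEquiv.trans_apply, MulEquiv.symm_apply_apply]
    rw [h2] at h1
    rw [h1, map_mul, map_mul, map_inv, ← hez]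
    rfl
  refine ⟨z, x₀.2, ?_, hconj⟩
  rw [Subgroup.mem_centralizer_iff]
  intro x hx
  have h1 := hconj ⟨x, hQP hx⟩
  rw [hfix _ hx] at h1
  have h2 : (⟨x, hQP hx⟩ : P) * z = z * ⟨x, hQP hx⟩ := by
    conv_lhs => rw [h1]
    group
  exact congrArg Subtype.val h2

end Cfsg.Agent.Lib.Helper87
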