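import Cfsg.Agent.Lib.Helper87.CutNormal
import Cfsg.Agent.Lib.Helper52.PCore
import Cfsg.Agent.Lib.Helper90.FusionNormal

set_option autoImplicit false

/-!
Models of fusion systems: the largest normal `p`-subgroup of a model, and the action of a model on it.
-/

namespace Cfsg.Agent.Lib.Helper87

open Cfsg Cfsg.FusionSystem

section Model

variable {Ω : Type*} [Group Ω]

/-- In a model of a fusion system, a subgroup normal in the system maps into `O_p`. -/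
theorem map_le_pCore_of_isNormal {N : Subgroup Ω} [Finite N] (p : ℕ) [Fact p.Prime]
    (hN : IsPGroup p N) (E : FusionSystem N) {G : Type*} [Group G] (ι : N →* G)
    (hmodel : E.IsModel p G ι) (R : Subgroup Ω) (hR : E.IsNormal R) :
    (R.subgroupOf N).map ι ≤ Cfsg.pCore p G := by
  obtain ⟨hfin, hreal, ⟨T, hT⟩, hC⟩ := hmodel
  have hinj := hreal.1
  have hRN : R ≤ N := hR.1
  have hfinR : Finite R := finite_of_le hRN
  have hsc := Cfsg.Agent.Lib.Helper90.IsNormal.stronglyClosed E hR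
  have hRnorm : ∀ n ∈ N, ∀ y ∈ R, n * y * n⁻¹ ∈ R :=
    Cfsg.Agent.Lib.Helper90.StronglyClosed.conj_mem E hsc
  have hQn : (Cfsg.pCore p G).Normal := Cfsg.Agent.Lib.Helper52.pCore_normal p G
  have hQT : Cfsg.pCore p G ≤ ι.range := by
    rw [← hT]; exact Cfsg.Agent.Lib.Helper52.pCore_le_sylow p G T
  have hQ'N : pull ι (Cfsg.pCore p G) ≤ N := pull_le ι _
  have hUp : IsPGroup p ((R.subgroupOf N).map ι) := (hN.to_subgroup _).map ι
  -- normality of `U`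
  have hconj : ∀ g : G, ∀ u ∈ (R.subgroupOf N).map ι, g * u * g⁻¹ ∈ (R.subgroupOf N).map ι := by
    intro g u hu
    have h1 : ∀ x : pull ι (Cfsg.pCore p G), g * ι ⟨x, hQ'N x.2⟩ * g⁻¹ ∈ ι.range := by
      intro x
      obtain ⟨hxN, hx⟩ := mem_pull.mp x.2
      exact hQT (hQn.conj_mem _ hx g)
    have hφg := pullConj_mem_hom E hreal _ hQ'N g h1
    obtain ⟨ψ, hψ, hψφ, hψR⟩ := hR.2 _ _ hφg
    obtain ⟨h, hh⟩ := exists_conj_of_mem_hom E hreal hψ
    -- `h⁻¹ g` centralizes `O_p(G)`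
    have hc : h⁻¹ * g ∈ Subgroup.centralizer ((Cfsg.pCore p G : Subgroup G) : Set G) := by
      rw [Subgroup.mem_centralizer_iff]
      intro q hq
      obtain ⟨n, rfl⟩ := hQT hq
      have hnQ' : (n : Ω) ∈ pull ι (Cfsg.pCore p G) := mem_pull.mpr ⟨n.2, hq⟩
      have e1 := hh (Subgroup.inclusion le_sup_left ⟨n, hnQ'⟩)
      have e2 := ι_pullConj ι hinj _ hQ'N g h1 ⟨n, hnQ'⟩
      have e3 : h * ι n * h⁻¹ = g * ι n * g⁻¹ :=
        e1.symm.trans ((congrArg ι (Subtype.ext (hψφ ⟨n, hnQ'⟩))).trans e2)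
      calc ι n * (h⁻¹ * g) = h⁻¹ * (h * ι n * h⁻¹) * g := by group
        _ = h⁻¹ * (g * ι n * g⁻¹) * g := by rw [e3]
        _ = h⁻¹ * g * ι n := by group
    obtain ⟨n₀, hn₀⟩ := hQT (hC hc)
    obtain ⟨r, hr, rfl⟩ := hu
    have hrR : (r : Ω) ∈ R := hr
    have hr' : (n₀ : Ω) * r * (n₀ : Ω)⁻¹ ∈ R := hRnorm n₀ n₀.2 r hrR
    have hr'PR : (n₀ : Ω) * r * (n₀ : Ω)⁻¹ ∈ pull ι (Cfsg.pCore p G) ⊔ R :=
      (le_sup_right : R ≤ _) hr'
    have e4 := hh ⟨_, hr'PR⟩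
    have e5 : g * ι r * g⁻¹ = h * ι (n₀ * r * n₀⁻¹) * h⁻¹ := by
      rw [map_mul, map_mul, map_inv, hn₀]
      group
    rw [e5]
    have e6 : ι (n₀ * r * n₀⁻¹) = ι ⟨((⟨_, hr'PR⟩ : ↥(pull ι (Cfsg.pCore p G) ⊔ R)) : Ω),
        hom_le E hψ hr'PR⟩ := rfl
    rw [e6, ← e4]
    refine ⟨_, ?_, rfl⟩
    show ψ ⟨_, hr'PR⟩ ∈ R
    exact hψR.le ⟨⟨_, hr'PR⟩, hr', rfl⟩
  have hUn : ((R.subgroupOf N).map ι).Normal := ⟨fun u hu g => hconj g u hu⟩
  exact Cfsg.Agent.Lib.Helper52.le_pCore hUn hUp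



variable {S : Subgroup Ω} {G : Type*} [Group G] {ι : S →* G}

/-- The preimage of a normal subgroup of `G` lying in the image of `S` is normal in the system. -/
theorem isNormal_pull_of_normal (F : FusionSystem S) (hι : F.IsRealizedBy ι) (N' : Subgroup G)
    [hN : N'.Normal] (hle : N' ≤ ι.range) : F.IsNormal (pull ι N') := by
  have hinj := hι.1
  refine ⟨pull_le ι N', fun P φ hφ => ?_⟩
  have hPS : P ≤ S := hom_le F hφ
  obtain ⟨g, hg⟩ := exists_conj_of_mem_hom F hι hφ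
  have hPM : P ≤ pull ι ((ι.range).comap (MulAut.conj g).toMonoidHom) := by
    intro x hx
    refine mem_pull.mpr ⟨hPS hx, ?_⟩
    show g * ι ⟨x, hPS hx⟩ * g⁻¹ ∈ ι.range
    rw [← hg ⟨x, hx⟩]
    exact ⟨_, rfl⟩
  have hQM : pull ι N' ≤ pull ι ((ι.range).comap (MulAut.conj g).toMonoidHom) := by
    intro x hx
    obtain ⟨hxS, hxN⟩ := mem_pull.mp hx
    refine mem_pull.mpr ⟨hxS, ?_⟩
    show g * ι ⟨x, hxS⟩ * g⁻¹ ∈ ι.range
    exact hle (hN.conj_mem _ hxN g)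
  have hPQM := sup_le hPM hQM
  have hPQS : P ⊔ pull ι N' ≤ S := sup_le hPS (pull_le ι N')
  have hrange : ∀ x : ↥(P ⊔ pull ι N'), g * ι ⟨x, hPQS x.2⟩ * g⁻¹ ∈ ι.range := by
    intro x
    exact (mem_pull.mp (hPQM x.2)).2
  refine ⟨pullConj ι hinj _ hPQS g hrange, pullConj_mem_hom F hι _ hPQS g hrange, fun x => ?_, ?_⟩
  · have h1 := ι_pullConj ι hinj _ hPQS g hrange (Subgroup.inclusion le_sup_left x)
    have h2 := hg x
    have h3 : ι ⟨pullConj ι hinj _ hPQS g hrange (Subgroup.inclusion le_sup_left x),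
        pullConj_mem ι hinj _ hPQS g hrange _⟩ = ι ⟨φ x, hom_mem F hφ x⟩ := by
      rw [h1, h2]
      rfl
    exact congrArg (fun z : S => (z : Ω)) (hinj h3)
  · ext y
    constructor
    · rintro ⟨x, hx, rfl⟩
      have hxQ : (x : Ω) ∈ pull ι N' := hx
      have h1 := ι_pullConj ι hinj _ hPQS g hrange x
      refine mem_pull.mpr ⟨pullConj_mem ι hinj _ hPQS g hrange x, ?_⟩
      rw [h1]
      exact hN.conj_mem _ (mem_pull.mp hxQ).2 g
    · intro hy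
      obtain ⟨hyS, hyN⟩ := mem_pull.mp hy
      have h1 : g⁻¹ * ι ⟨y, hyS⟩ * g⁻¹⁻¹ ∈ N' := hN.conj_mem _ hyN g⁻¹
      obtain ⟨s, hs⟩ := hle h1
      have hsQ : (s : Ω) ∈ pull ι N' := mem_pull.mpr ⟨s.2, by rw [hs]; exact h1⟩
      refine ⟨⟨s, (le_sup_right : pull ι N' ≤ P ⊔ pull ι N') hsQ⟩, hsQ, ?_⟩
      have h2 := ι_pullConj ι hinj _ hPQS g hrange
        ⟨s, (le_sup_right : pull ι N' ≤ P ⊔ pull ι N') hsQ⟩
      have h3 : ι ⟨pullConj ι hinj _ hPQS g hrange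
          ⟨s, (le_sup_right : pull ι N' ≤ P ⊔ pull ι N') hsQ⟩,
          pullConj_mem ι hinj _ hPQS g hrange _⟩ = ι ⟨y, hyS⟩ := by
        rw [h2]
        have h4 : ι ⟨((⟨s, (le_sup_right : pull ι N' ≤ P ⊔ pull ι N') hsQ⟩ :
            ↥(P ⊔ pull ι N')) : Ω), hPQS (Subtype.prop _)⟩ = ι s := rfl
        rw [h4, hs]
        group
      exact congrArg (fun z : S => (z : Ω)) (hinj h3)

/-- The action of `G` on a subgroup `Q ≤ S` whose image is normal in `G`. -/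
noncomputable def autHom (hinj : Function.Injective ι) {Q : Subgroup Ω} (hQ : Q ≤ S)
    (hn : (push ι Q).Normal) : G →* MulAut Q :=
  (MulAut.congr (pushEquiv hinj hQ).symm).toMonoidHom.comp (@MulAut.conjNormal G _ (push ι Q) hn)

theorem ι_autHom (hinj : Function.Injective ι) {Q : Subgroup Ω} (hQ : Q ≤ S)
    (hn : (push ι Q).Normal) (g : G) (x : Q) :
    ι ⟨autHom hinj hQ hn g x, hQ (Subtype.prop _)⟩ = g * ι ⟨x, hQ x.2⟩ * g⁻¹ := by
  have h1 : autHom hinj hQ hn g x =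
      (pushEquiv hinj hQ).symm (@MulAut.conjNormal G _ (push ι Q) hn g (pushEquiv hinj hQ x)) := rfl
  have h2 := pushEquiv_apply hinj hQ (autHom hinj hQ hn g x)
  rw [← h2, h1, MulEquiv.apply_symm_apply]
  rfl

theorem autHom_eq_one_iff (hinj : Function.Injective ι) {Q : Subgroup Ω} (hQ : Q ≤ S)
    (hn : (push ι Q).Normal) (g : G) :
    autHom hinj hQ hn g = 1 ↔ g ∈ Subgroup.centralizer ((push ι Q : Subgroup G) : Set G) := by
  rw [Subgroup.mem_centralizer_iff]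
  constructor
  · intro h y hy
    obtain ⟨s, hs, rfl⟩ := mem_push.mp hy
    have h1 := ι_autHom hinj hQ hn g ⟨s, hs⟩
    rw [h] at h1
    have h2 : ι s = g * ι s * g⁻¹ := h1
    calc ι s * g = g * ι s * g⁻¹ * g := by rw [← h2]
      _ = g * ι s := by group
  · intro h
    ext x
    have h1 := ι_autHom hinj hQ hn g x
    have h2 := h (ι ⟨x, hQ x.2⟩) (coe_mem_push hQ x)
    have h3 : g * ι ⟨x, hQ x.2⟩ * g⁻¹ = ι ⟨x, hQ x.2⟩ := by rw [← h2]; group
    rw [h3] at h1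
    exact congrArg (fun z : S => (z : Ω)) (hinj h1)

theorem autHom_ι (hinj : Function.Injective ι) {Q : Subgroup Ω} (hQ : Q ≤ S)
    (hn : (push ι Q).Normal) (s : S) (x : Q) :
    ((autHom hinj hQ hn (ι s) x : Q) : Ω) = s * x * (s : Ω)⁻¹ := by
  have h1 := ι_autHom hinj hQ hn (ι s) x
  rw [← map_inv, ← map_mul, ← map_mul] at h1
  exact congrArg (fun z : S => (z : Ω)) (hinj h1)

end Model

end Cfsg.Agent.Lib.Helper87
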