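import Cfsg.Agent.Lib.Helper98.Sy1

/-!
# K-OMb-11 (keystone 599111, architect helper32): the norms of the fixed vectors when there is exactly one Jordan block of size `1`.
-/

set_option autoImplicit false

namespace Cfsg.Agent.Lib.Helper87.OMb

open Module Cfsg.Agent.Lib.Helper98.Sy

universe u
variable {F : Type u} [Field F] {V : Type u} [AddCommGroup V] [Module F V]

/-- rank-nullity on a subspace -/
theorem finrank_map_add_finrank_inf_ker [FiniteDimensional F V] {V₂ : Type*} [AddCommGroup V₂] [Module F V₂]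
    (p : Submodule F V) (f : V →ₗ[F] V₂) :
    finrank F ↥(p.map f) + finrank F ↥(p ⊓ LinearMap.ker f) = finrank F p := by
  have h := LinearMap.finrank_range_add_finrank_ker (f.domRestrict p)
  rw [LinearMap.range_domRestrict, LinearMap.ker_domRestrict] at h
  have e : (LinearMap.ker f).comap p.subtype = (p ⊓ LinearMap.ker f).comap p.subtype := by
    ext x
    simp only [Submodule.mem_comap, Submodule.mem_inf, Submodule.subtype_apply]
    constructor
    · intro hx; exact ⟨x.2, hx⟩
    · intro hx; exact hx.2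
  rw [e, (Submodule.comapSubtypeEquivOfLe (inf_le_left : p ⊓ LinearMap.ker f ≤ p)).finrank_eq] at h
  exact h

/-- the dimension of the orthogonal complement inside a nondegenerate subspace (no hypothesis on `V`) -/
theorem finrank_orth_inf_of_nonDeg [FiniteDimensional F V] (B : LinearMap.BilinForm F V)
    (hS : ∀ a b, B a b = B b a) (M U : Submodule F V) (hMU : M ≤ U) (hU : NonDeg B U) :
    finrank F ↥(B.orthogonal M ⊓ U) + finrank F M = finrank F U := by
  set Bu : LinearMap.BilinForm F U := B.restrict U with hBu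
  have hBu_apply : ∀ a b : U, Bu a b = B a b := fun a b => rfl
  have hR : Bu.IsRefl := by
    intro x y h
    rw [hBu_apply] at h ⊢
    rw [hS]; exact h
  set Mu : Submodule F U := M.comap U.subtype with hMu
  have h1 := LinearMap.BilinForm.finrank_add_finrank_orthogonal hR Mu
  have htop : Bu.orthogonal ⊤ = ⊥ := by
    rw [eq_bot_iff]
    intro x hx
    rw [Submodule.mem_bot]
    apply Subtype.ext
    apply hU x x.2
    intro v hv
    have := LinearMap.BilinForm.mem_orthogonal_iff.1 hx ⟨v, hv⟩ Submodule.mem_top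
    have h3 : Bu ⟨v, hv⟩ x = 0 := this
    rw [hBu_apply] at h3
    rw [hS]; exact h3
  rw [htop, inf_bot_eq, finrank_bot, add_zero] at h1
  have e1 : finrank F Mu = finrank F M := (Submodule.comapSubtypeEquivOfLe hMU).finrank_eq
  have e2 : Bu.orthogonal Mu = (B.orthogonal M ⊓ U).comap U.subtype := by
    ext x
    rw [LinearMap.BilinForm.mem_orthogonal_iff, Submodule.mem_comap, Submodule.mem_inf,
      LinearMap.BilinForm.mem_orthogonal_iff]
    constructor
    · intro h
      refine ⟨fun m hm => ?_, x.2⟩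
      exact h ⟨m, hMU hm⟩ hm
    · intro h n hn
      exact h.1 n hn
  have e3 : finrank F (Bu.orthogonal Mu) = finrank F ↥(B.orthogonal M ⊓ U) := by
    rw [e2]
    exact (Submodule.comapSubtypeEquivOfLe (inf_le_right : B.orthogonal M ⊓ U ≤ U)).finrank_eq
  omega

/-- **K-OMb-11** (599111). -/
theorem exists_fixed_norm (h2 : (2 : F) ≠ 0) [FiniteDimensional F V] (B : LinearMap.BilinForm F V)
    (hS : ∀ a b, B a b = B b a) (N : V →ₗ[F] V) (hN : ∀ x y, N y = 0 → B (N x) y = 0)
    (W : Submodule F V) (hWN : ∀ w ∈ W, N w ∈ W) (hW : NonDeg B W)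
    (hk : 2 * finrank F ↥(W ⊓ LinearMap.ker N) = finrank F ↥(W ⊓ LinearMap.ker (N ^ 2)) + 1) :
    ∃ w ∈ W, N w = 0 ∧ B w w ≠ 0 ∧ ∀ v ∈ W, N v = 0 → ∃ α : F, B v v = α ^ 2 * B w w := by
  classical
  set K : Submodule F V := W ⊓ LinearMap.ker N with hK
  set K2 : Submodule F V := W ⊓ LinearMap.ker (N ^ 2) with hK2
  set R : Submodule F V := K2.map N with hR
  have hsq : ∀ x, (N ^ 2) x = N (N x) := fun x => by rw [pow_two, Module.End.mul_apply]
  have hKK2 : K ≤ K2 := by
    intro x hx
    refine Submodule.mem_inf.2 ⟨hx.1, ?_⟩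
    rw [LinearMap.mem_ker, hsq, LinearMap.mem_ker.1 hx.2, map_zero]
  have hRK : R ≤ K := by
    rintro _ ⟨x, hx, rfl⟩
    refine Submodule.mem_inf.2 ⟨hWN x hx.1, ?_⟩
    have := LinearMap.mem_ker.1 hx.2
    rw [hsq] at this
    exact LinearMap.mem_ker.2 this
  have hdimR : finrank F R + finrank F K = finrank F K2 := by
    have := finrank_map_add_finrank_inf_ker K2 N
    have e : K2 ⊓ LinearMap.ker N = K := by
      apply le_antisymm
      · intro x hx; exact ⟨hx.1.1, hx.2⟩
      · intro x hx; exact ⟨hKK2 hx, hx.2⟩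
    rw [e] at this
    exact this
  have hRortK : ∀ r ∈ R, ∀ k ∈ K, B r k = 0 := by
    rintro _ ⟨x, _, rfl⟩ k hk
    exact hN x k (LinearMap.mem_ker.1 hk.2)
  have hex : ∃ w ∈ K, B w w ≠ 0 := by
    by_contra hcon
    push Not at hcon
    have hKK : ∀ a ∈ K, ∀ b ∈ K, B a b = 0 := by
      intro a ha b hb
      have h1 := hcon (a + b) (K.add_mem ha hb)
      simp only [map_add, LinearMap.add_apply] at h1
      rw [hcon a ha, hcon b hb, hS b a] at h1
      have : (2 : F) * B a b = 0 := by linear_combination h1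
      exact (mul_eq_zero.1 this).resolve_left h2
    have hK' := finrank_orth_inf_of_nonDeg B hS K W inf_le_left hW
    have hNW : finrank F ↥(W.map N) + finrank F K = finrank F W := finrank_map_add_finrank_inf_ker W N
    have hle : W.map N ≤ B.orthogonal K ⊓ W := by
      rintro _ ⟨x, hx, rfl⟩
      refine Submodule.mem_inf.2 ⟨?_, hWN x hx⟩
      rw [LinearMap.BilinForm.mem_orthogonal_iff]
      intro k hk
      show B k (N x) = 0
      rw [hS]
      exact hN x k (LinearMap.mem_ker.1 hk.2)
    have heq : W.map N = B.orthogonal K ⊓ W :=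
      Submodule.eq_of_le_of_finrank_eq hle (by omega)
    have hKle : K ≤ W.map N := by
      rw [heq]
      intro a ha
      refine Submodule.mem_inf.2 ⟨?_, ha.1⟩
      rw [LinearMap.BilinForm.mem_orthogonal_iff]
      intro k hk
      exact hKK k hk a ha
    have hKR : K ≤ R := by
      intro a ha
      obtain ⟨x, hx, rfl⟩ := hKle ha
      refine ⟨x, Submodule.mem_inf.2 ⟨hx, ?_⟩, rfl⟩
      rw [LinearMap.mem_ker, hsq]
      exact LinearMap.mem_ker.1 ha.2
    have := Submodule.finrank_mono hKR
    omega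
  obtain ⟨w, hwK, hww⟩ := hex
  have hw0 : w ≠ 0 := by
    rintro rfl
    apply hww
    simp
  have hwR : w ∉ R := fun h => hww (hRortK w h w hwK)
  have hdisj : Submodule.span F {w} ⊓ R = ⊥ := by
    rw [eq_bot_iff]
    intro x hx
    obtain ⟨c, rfl⟩ := Submodule.mem_span_singleton.1 hx.1
    rw [Submodule.mem_bot]
    by_cases hc : c = 0
    · rw [hc, zero_smul]
    · exfalso
      apply hwR
      have := R.smul_mem c⁻¹ hx.2
      rwa [smul_smul, inv_mul_cancel₀ hc, one_smul] at this
  have hsup : Submodule.span F {w} ⊔ R = K := by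
    apply Submodule.eq_of_le_of_finrank_eq
    · apply sup_le _ hRK
      rw [Submodule.span_singleton_le_iff_mem]
      exact hwK
    · have h3 := Submodule.finrank_sup_add_finrank_inf_eq (Submodule.span F {w}) R
      rw [hdisj, finrank_bot, add_zero, finrank_span_singleton hw0] at h3
      omega
  refine ⟨w, hwK.1, LinearMap.mem_ker.1 hwK.2, hww, ?_⟩
  intro v hvW hNv
  have hvK : v ∈ K := ⟨hvW, LinearMap.mem_ker.2 hNv⟩
  rw [← hsup] at hvK
  obtain ⟨y, hy, r, hr, rfl⟩ := Submodule.mem_sup.1 hvK
  obtain ⟨α, rfl⟩ := Submodule.mem_span_singleton.1 hy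
  refine ⟨α, ?_⟩
  have h1 : B r w = 0 := hRortK r hr w hwK
  have h3 : B w r = 0 := by rw [hS]; exact h1
  have h4 : B r r = 0 := hRortK r hr r (hRK hr)
  simp only [map_add, LinearMap.add_apply, map_smul, LinearMap.smul_apply, smul_eq_mul, h1, h3, h4]
  ring

end Cfsg.Agent.Lib.Helper87.OMb
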