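import Cfsg.Agent.Lib.Helper87.BisetTransfer

set_option autoImplicit false

/-!
Tools for the Thompson transfer argument: a divisibility lemma for sums over a set with a group action, the transfer of
an involution, and the points moved inside their orbits.
-/

namespace Cfsg.Agent.Lib.Helper87

/-- If `f` is invariant under the action of the finite group `G` and `c * |G_v|` divides `f v` for all `v`, then
`c * |G|` divides the sum of `f`. -/
theorem dvd_sum_of_stabilizer {G : Type*} [Group G] [Finite G] {V : Type*} [Fintype V] [MulAction G V]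
    (f : V → ℕ) (hf : ∀ (g : G) (v : V), f (g • v) = f v) (c : ℕ)
    (hc : ∀ v, c * Nat.card (MulAction.stabilizer G v) ∣ f v) : c * Nat.card G ∣ ∑ v, f v := by
  classical
  haveI : Fintype G := Fintype.ofFinite G
  haveI : Fintype (Quotient (MulAction.orbitRel G V)) := Fintype.ofFinite _
  rw [← Finset.sum_fiberwise Finset.univ (fun v => Quotient.mk (MulAction.orbitRel G V) v) f]
  apply Finset.dvd_sum
  intro q _
  set v₀ : V := q.out with hv₀
  have hq : Quotient.mk (MulAction.orbitRel G V) v₀ = q := Quotient.out_eq q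
  have hfib : ∀ v, Quotient.mk (MulAction.orbitRel G V) v = q ↔ v ∈ MulAction.orbit G v₀ := by
    intro v
    rw [← hq, Quotient.eq]
    exact MulAction.orbitRel_apply
  have h1 : ∀ v ∈ Finset.univ.filter (fun v => Quotient.mk (MulAction.orbitRel G V) v = q), f v = f v₀ := by
    intro v hv
    obtain ⟨g, rfl⟩ := (hfib v).mp (Finset.mem_filter.mp hv).2
    exact hf g v₀
  rw [Finset.sum_congr rfl h1, Finset.sum_const, smul_eq_mul]
  have h2 : (Finset.univ.filter (fun v => Quotient.mk (MulAction.orbitRel G V) v = q)).card =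
      Fintype.card (MulAction.orbit G v₀) := by
    rw [Fintype.card_subtype]
    congr 1
    ext v
    simp only [Finset.mem_filter, Finset.mem_univ, true_and]
    exact hfib v
  rw [h2]
  obtain ⟨e, he⟩ := hc v₀
  have h3 := MulAction.card_orbit_mul_card_stabilizer_eq_card_group G v₀
  rw [he, Nat.card_eq_fintype_card, Nat.card_eq_fintype_card, ← h3]
  exact ⟨e, by ring⟩

section Involution

variable {T : Type*} [Group T] {X : Type*} [MulAction (T × T) X]
  {σ : RightOrb T X → X} (hσ : IsSection σ)
  (hfree : ∀ (t : T) (x : X), ((1 : T), t) • x = x → t = 1)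

include hfree in
/-- The transfer of an involution is the product over the fixed orbits. -/
theorem transferHom_involution {A : Type*} [CommGroup A] (κ : T →* A) [Fintype (RightOrb T X)]
    [DecidableEq (RightOrb T X)] (g : rightAut T X) (hg : g * g = 1) :
    transferHom hσ hfree κ g =
      ∏ j ∈ Finset.univ.filter (fun j : RightOrb T X => orbMap g j = j),
        κ (coc hσ ((g : Equiv.Perm X) (σ j))) := by
  rw [transferHom_apply, ← Finset.prod_filter_mul_prod_filter_not Finset.univ
    (fun j : RightOrb T X => orbMap g j = j)]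
  have hinv : ∀ j : RightOrb T X, orbMap g (orbMap g j) = j := by
    intro j
    rw [← orbMap_mul, hg, orbMap_one]
  have h2 : ∏ j ∈ Finset.univ.filter (fun j : RightOrb T X => ¬ orbMap g j = j),
      κ (coc hσ ((g : Equiv.Perm X) (σ j))) = 1 := by
    apply Finset.prod_involution (fun j _ => orbMap g j)
    · intro j _
      rw [← map_mul]
      have h3 := coc_aut hσ hfree g ((g : Equiv.Perm X) (σ j))
      have h4 : (g : Equiv.Perm X) ((g : Equiv.Perm X) (σ j)) = σ j := by
        have : ((g * g : rightAut T X) : Equiv.Perm X) (σ j) = σ j := by rw [hg]; rfl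
        exact this
      rw [h4, coc_section hσ hfree, ← orbMap_orbOf, hσ.orb] at h3
      rw [← h3, map_one]
    · intro j hj _
      exact (Finset.mem_filter.mp hj).2
    · intro j hj
      rw [Finset.mem_filter] at hj ⊢
      refine ⟨Finset.mem_univ _, fun h => hj.2 ?_⟩
      have := congrArg (orbMap g) h
      rw [hinv, hinv] at this
      exact this
    · intro j _
      exact hinv j
  rw [h2, mul_one]

include hfree in
/-- A point is moved inside its orbit by an element of the normal subgroup `N` exactly when its orbit is fixed and the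
cocycle of the orbit lies in `N`. -/
theorem moved_inside_iff (g : rightAut T X) (N : Subgroup T) [N.Normal] (x : X) :
    (∃ c ∈ N, (g : Equiv.Perm X) x = ((1 : T), c) • x) ↔
      orbMap g (orbOf x) = orbOf x ∧ coc hσ ((g : Equiv.Perm X) (σ (orbOf x))) ∈ N := by
  set j := orbOf (S := T) x with hj
  set t := coc hσ x with ht
  have hx : ((1 : T), t) • σ j = x := coc_spec hσ x
  constructor
  · rintro ⟨c, hc, h⟩
    have h1 : orbMap g j = j := by
      rw [hj, orbMap_orbOf, h, orbOf_smul]
    refine ⟨h1, ?_⟩
    -- `g (σ j) = (1, t⁻¹ c t) • σ j`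
    have h2 : (g : Equiv.Perm X) (σ j) = ((1 : T), t⁻¹ * c * t) • σ j := by
      have e1 : σ j = ((1 : T), t⁻¹) • x := by
        rw [← hx, smul_smul, Prod.mk_mul_mk, one_mul, inv_mul_cancel]
        exact (one_smul (T × T) _).symm
      calc (g : Equiv.Perm X) (σ j) = (g : Equiv.Perm X) (((1 : T), t⁻¹) • x) := by rw [← e1]
        _ = ((1 : T), t⁻¹) • (g : Equiv.Perm X) x := g.2 _ _
        _ = ((1 : T), t⁻¹) • (((1 : T), c) • x) := by rw [h]
        _ = ((1 : T), t⁻¹) • (((1 : T), c) • (((1 : T), t) • σ j)) := by rw [hx]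
        _ = ((1 : T), t⁻¹ * c * t) • σ j := by
            rw [smul_smul, smul_smul]
            simp [mul_assoc]
    have h3 : t⁻¹ * c * t = coc hσ ((g : Equiv.Perm X) (σ j)) := by
      apply coc_unique hσ hfree
      rw [← orbMap_orbOf, hσ.orb, h1]
      exact h2.symm
    rw [← h3]
    have := ‹N.Normal›.conj_mem c hc t⁻¹
    simpa using this
  · rintro ⟨h1, h2⟩
    set n := coc hσ ((g : Equiv.Perm X) (σ j)) with hn
    have h3 : ((1 : T), n) • σ j = (g : Equiv.Perm X) (σ j) := by
      have := coc_spec hσ ((g : Equiv.Perm X) (σ j))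
      rw [← orbMap_orbOf, hσ.orb, h1] at this
      exact this
    refine ⟨t * n * t⁻¹, ‹N.Normal›.conj_mem n h2 t, ?_⟩
    calc (g : Equiv.Perm X) x = (g : Equiv.Perm X) (((1 : T), t) • σ j) := by rw [hx]
      _ = ((1 : T), t) • (g : Equiv.Perm X) (σ j) := g.2 _ _
      _ = ((1 : T), t) • (((1 : T), n) • σ j) := by rw [h3]
      _ = ((1 : T), t * n * t⁻¹) • (((1 : T), t) • σ j) := by
          rw [smul_smul, smul_smul]
          simp [mul_assoc]
      _ = ((1 : T), t * n * t⁻¹) • x := by rw [hx]

include hσ hfree in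
/-- The number of points moved inside their orbits by an element of `N`. -/
theorem card_moved_inside [Finite T] [Finite X] [Fintype (RightOrb T X)] [DecidableEq (RightOrb T X)]
    (g : rightAut T X) (N : Subgroup T) [N.Normal] [DecidablePred (· ∈ N)] :
    Nat.card {x : X // ∃ c ∈ N, (g : Equiv.Perm X) x = ((1 : T), c) • x} =
      (Finset.univ.filter (fun j : RightOrb T X => orbMap g j = j ∧
        coc hσ ((g : Equiv.Perm X) (σ j)) ∈ N)).card * Nat.card T := by
  let e : X ≃ RightOrb T X × T :=
    { toFun := fun x => (orbOf x, coc hσ x)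
      invFun := fun y => ((1 : T), y.2) • σ y.1
      left_inv := fun x => coc_spec hσ x
      right_inv := by
        rintro ⟨i, t⟩
        apply Prod.ext
        · show orbOf (((1 : T), t) • σ i) = i
          rw [orbOf_smul, hσ.orb]
        · show coc hσ (((1 : T), t) • σ i) = t
          rw [coc_smul hσ hfree, coc_section hσ hfree, mul_one] }
  have h1 : Nat.card {x : X // ∃ c ∈ N, (g : Equiv.Perm X) x = ((1 : T), c) • x} =
      Nat.card {y : RightOrb T X × T // orbMap g y.1 = y.1 ∧ coc hσ ((g : Equiv.Perm X) (σ y.1)) ∈ N} := by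
    apply Nat.card_congr
    refine Equiv.subtypeEquiv e (fun x => ?_)
    exact moved_inside_iff hσ hfree g N x
  rw [h1]
  have h2 : {y : RightOrb T X × T // orbMap g y.1 = y.1 ∧ coc hσ ((g : Equiv.Perm X) (σ y.1)) ∈ N} ≃
      {j : RightOrb T X // orbMap g j = j ∧ coc hσ ((g : Equiv.Perm X) (σ j)) ∈ N} × T :=
    { toFun := fun y => (⟨y.1.1, y.2⟩, y.1.2)
      invFun := fun z => ⟨(z.1.1, z.2), z.1.2⟩
      left_inv := fun y => rfl
      right_inv := fun z => rfl }
  rw [Nat.card_congr h2, Nat.card_prod, Nat.card_eq_fintype_card, Fintype.card_subtype]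

end Involution

end Cfsg.Agent.Lib.Helper87
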