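import Cfsg.Agent.Lib.Helper87.BisetFocal
import Cfsg.Agent.Lib.Helper87.BisetThompson

set_option autoImplicit false

/-!
The transfer of the characteristic biset kills the focal subgroup; free actions of centralizers on fixed points.
-/

namespace Cfsg.Agent.Lib.Helper87

open Cfsg Cfsg.FusionSystem

variable {Ω : Type*} [Group Ω] {S : Subgroup Ω}

/-- The hyperfocal subgroup lies in the focal subgroup. -/
theorem hyperfocal_le_focal (F : FusionSystem S) (p : ℕ) : F.hyperfocalSubgroup p ≤ F.focalSubgroup := by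
  unfold hyperfocalSubgroup focalSubgroup
  apply Subgroup.closure_mono
  rintro y ⟨P, α, x, hP, _, rfl⟩
  refine ⟨P, P.subtype.comp ((α : MulAut P)).toMonoidHom, x, ?_, rfl⟩
  exact autGroup_hom_mem F hP α.2

/-- The transfer of a balanced biset kills the focal subgroup. -/
theorem focal_le_ker_transfer [Finite S] (F : FusionSystem S) (m : Subgroup (↥S × ↥S) → ℕ)
    (hm : ∀ D, D ∉ twisted F → m D = 0)
    (hbal : ∀ K K', K ∈ twisted F → ERel F K K' → bmark m K = bmark m K')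
    {σ : RightOrb ↥S (BSet m) → BSet m} (hσ : IsSection σ) {A : Type*} [CommGroup A] (κ : ↥S →* A)
    [Fintype (RightOrb ↥S (BSet m))] :
    F.focalSubgroup ≤
      (((transferHom hσ (bset_free F m hm) κ).comp (leftHom ↥S (BSet m))).ker).map S.subtype := by
  set t := (transferHom hσ (bset_free F m hm) κ).comp (leftHom ↥S (BSet m)) with ht
  have hstable : ∀ (P : Subgroup Ω) (φ : P →* Ω) (hφ : φ ∈ F.Hom P) (u : P),
      t ⟨φ u, hom_mem F hφ u⟩ = t ⟨u, hom_le F hφ u.2⟩ := by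
    intro P φ hφ u
    obtain ⟨g, hg⟩ := exists_conj_of_balanced F m hm hbal (hom_le F hφ) hφ (hom_mem F hφ)
    show (transferHom hσ (bset_free F m hm) κ) (leftHom ↥S (BSet m) ⟨φ u, _⟩) =
      (transferHom hσ (bset_free F m hm) κ) (leftHom ↥S (BSet m) ⟨u, _⟩)
    rw [hg u, map_mul, map_mul, map_inv, mul_comm, ← mul_assoc, inv_mul_cancel, one_mul]
  unfold focalSubgroup
  rw [Subgroup.closure_le]
  rintro y ⟨P, φ, x, hφ, rfl⟩
  refine ⟨⟨x, hom_le F hφ x.2⟩⁻¹ * ⟨φ x, hom_mem F hφ x⟩, ?_, rfl⟩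
  show t _ = 1
  rw [map_mul, map_inv, hstable P φ hφ x, inv_mul_cancel]

/-- A subgroup of order two is centralized by its normalizer. -/
theorem normalizerIn_le_centralizerIn_of_card_two {Q : Subgroup Ω} (hQ : Nat.card Q = 2) :
    normalizerIn S Q ≤ centralizerIn S Q := by
  rintro c ⟨hcS, hcN⟩
  have hcN' : c ∈ Subgroup.normalizer (Q : Set Ω) := hcN
  refine ⟨hcS, ?_⟩
  show c ∈ Subgroup.centralizer (Q : Set Ω)
  rw [Subgroup.mem_centralizer_iff]
  intro q hq
  obtain ⟨q₀, _, hq₀⟩ := (Nat.card_eq_two_iff' (1 : Q)).mp hQ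
  by_cases h1 : q = 1
  · rw [h1]; simp
  · have hq' : (⟨q, hq⟩ : Q) ≠ 1 := fun h => h1 (congrArg Subtype.val h)
    have hcq : c * q * c⁻¹ ∈ Q := (Subgroup.mem_normalizer_iff.mp hcN' q).mp hq
    have hcq' : (⟨c * q * c⁻¹, hcq⟩ : Q) ≠ 1 := by
      intro h
      have h2 : c * q * c⁻¹ = 1 := congrArg Subtype.val h
      apply h1
      have : q = c⁻¹ * (c * q * c⁻¹) * c := by group
      rw [this, h2]; group
    have e1 := hq₀ _ hq'
    have e2 := hq₀ _ hcq'
    have e3 : c * q * c⁻¹ = q := by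
      have := e2.trans e1.symm
      exact congrArg Subtype.val this
    calc q * c = c * q * c⁻¹ * c := by rw [e3]
      _ = c * q := by group

section FreeCentralizer

variable (F : FusionSystem S) (m : Subgroup (↥S × ↥S) → ℕ) (hm : ∀ D, D ∉ twisted F → m D = 0)

include hm in
/-- The centralizer of `Q` acts freely (through the second factor) on the fixed points of the diagonal of `Q`. -/
theorem card_centralizerIn_dvd_bmark_diagOn [Finite S] (Q : Subgroup Ω) :
    Nat.card (centralizerIn S Q) ∣ bmark m (diagOn S Q) := by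
  classical
  set K := centralizerIn S Q with hK
  have hKS : K ≤ S := centralizerIn_le S Q
  let Y := {x : BSet m // ∀ k ∈ diagOn S Q, k • x = x}
  have hstable : ∀ (c : K) (y : Y), ∀ k ∈ diagOn S Q,
      k • ((((1 : ↥S), (⟨c, hKS c.2⟩ : ↥S)) : ↥S × ↥S) • y.1) =
        (((1 : ↥S), (⟨c, hKS c.2⟩ : ↥S)) : ↥S × ↥S) • y.1 := by
    intro c y k hk
    obtain ⟨hk1, hk2⟩ := mem_diagOn.mp hk
    have hcomm : k * (((1 : ↥S), (⟨c, hKS c.2⟩ : ↥S)) : ↥S × ↥S) =
        (((1 : ↥S), (⟨c, hKS c.2⟩ : ↥S)) : ↥S × ↥S) * k := by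
      apply Prod.ext
      · simp
      · apply Subtype.ext
        show ((k.2 : ↥S) : Ω) * c = c * ((k.2 : ↥S) : Ω)
        have hc := (Subgroup.mem_centralizer_iff.mp c.2.2) ((k.2 : ↥S) : Ω) (by rw [← hk1]; exact hk2)
        exact hc
    rw [smul_smul, hcomm, mul_smul, y.2 k hk]
  letI : MulAction K Y :=
    { smul := fun c y => ⟨(((1 : ↥S), (⟨c, hKS c.2⟩ : ↥S)) : ↥S × ↥S) • y.1, hstable c y⟩
      one_smul := by
        intro y
        apply Subtype.ext
        show (((1 : ↥S), (⟨((1 : K) : Ω), _⟩ : ↥S)) : ↥S × ↥S) • y.1 = y.1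
        exact one_smul (↥S × ↥S) y.1
      mul_smul := by
        intro c c' y
        apply Subtype.ext
        show (((1 : ↥S), (⟨((c * c' : K) : Ω), _⟩ : ↥S)) : ↥S × ↥S) • y.1 =
          (((1 : ↥S), (⟨c, hKS c.2⟩ : ↥S)) : ↥S × ↥S) • ((((1 : ↥S), (⟨c', hKS c'.2⟩ : ↥S)) : ↥S × ↥S) • y.1)
        rw [smul_smul]
        congr 1
        apply Prod.ext
        · simp
        · rfl }
  have hfreeK : ∀ y : Y, MulAction.stabilizer K y = ⊥ := by
    intro y
    rw [eq_bot_iff]
    intro c hc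
    rw [MulAction.mem_stabilizer_iff] at hc
    have h1 : (((1 : ↥S), (⟨c, hKS c.2⟩ : ↥S)) : ↥S × ↥S) • y.1 = y.1 := congrArg Subtype.val hc
    have h2 := bset_free F m hm _ _ h1
    rw [Subgroup.mem_bot]
    apply Subtype.ext
    exact congrArg (fun z : ↥S => (z : Ω)) h2
  have e := MulAction.selfEquivOrbitsQuotientProd hfreeK
  have : bmark m (diagOn S Q) = Nat.card Y := rfl
  rw [this, Nat.card_congr e, Nat.card_prod]
  exact Dvd.intro_left _ rfl

end FreeCentralizer

end Cfsg.Agent.Lib.Helper87
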