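import Cfsg.Agent.Lib.Helper87.FusionRealized
import Cfsg.Agent.Lib.Helper87.FusionGroup
import Cfsg.Agent.Lib.Helper42.PResidual
import Cfsg.Agent.Lib.Helper90.SylowNormal
import Cfsg.Agent.Lib.Helper03.PGroupFrattini

set_option autoImplicit false

namespace Cfsg.Agent.Lib.Helper87

open Cfsg Cfsg.FusionSystem
open scoped commutatorElement

/-! ### `O^p` is functorial -/

theorem pResidual_map_le {A B : Type*} [Group A] [Group B] (p : ℕ) (f : A →* B) :
    (Cfsg.pResidual p A).map f ≤ Cfsg.pResidual p B := by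
  unfold Cfsg.pResidual
  rw [MonoidHom.map_closure, Subgroup.closure_le]
  rintro _ ⟨a, ha, rfl⟩
  apply Subgroup.subset_closure
  exact Nat.Coprime.coprime_dvd_left (orderOf_map_dvd f a) ha

/-! ### The fusion system of a subgroup `K` on `T ≤ K`, inside the ambient group -/

section Rel

variable {G : Type*} [Group G]

/-- The fusion system on `T` of the conjugations by elements of `K ≥ T`. -/
def relFusionSystem (K T : Subgroup G) (hTK : T ≤ K) : FusionSystem T where
  Hom P := {φ | P ≤ T ∧ (∀ x : P, φ x ∈ T) ∧ ∃ g ∈ K, ∀ x : P, φ x = g * (x : G) * g⁻¹}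
  le_of_mem h := ⟨h.1, h.2.1⟩
  injective_of_mem := by
    rintro P φ ⟨-, -, g, -, hg⟩ a b hab
    have h : g * (a : G) * g⁻¹ = g * (b : G) * g⁻¹ := ((hg a).symm.trans hab).trans (hg b)
    exact Subtype.ext (mul_left_cancel (mul_right_cancel h))
  conj_mem := by
    intro P g hP hg
    refine ⟨hP, fun x => ?_, g, hTK hg, fun x => rfl⟩
    show g * (x : G) * g⁻¹ ∈ T
    exact T.mul_mem (T.mul_mem hg (hP x.2)) (T.inv_mem hg)
  comp_mem := by
    rintro P Q φ ψ ⟨hP, hφS, g, hgK, hg⟩ ⟨-, hψS, k, hkK, hk⟩ h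
    refine ⟨hP, fun x => hψS _, k * g, K.mul_mem hkK hgK, fun x => ?_⟩
    show ψ (φ.codRestrict Q h x) = k * g * (x : G) * (k * g)⁻¹
    rw [hk]
    show k * φ x * k⁻¹ = _
    rw [hg, mul_inv_rev]
    simp only [mul_assoc]
  inv_mem := by
    rintro P φ ⟨hP, hφS, g, hgK, hg⟩
    refine ⟨conjHom φ.range g⁻¹, ⟨?_, ?_, g⁻¹, K.inv_mem hgK, fun y => rfl⟩, ?_⟩
    · rintro _ ⟨x, rfl⟩
      exact hφS x
    · rintro ⟨_, x, rfl⟩
      show g⁻¹ * φ x * g⁻¹⁻¹ ∈ T
      rw [hg, inv_inv]
      simpa only [mul_assoc, inv_mul_cancel, mul_one, inv_mul_cancel_left] using hP x.2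
    · intro x
      show g⁻¹ * φ x * g⁻¹⁻¹ = x
      rw [hg, inv_inv]
      simp only [mul_assoc, inv_mul_cancel, mul_one, inv_mul_cancel_left]

theorem relFusionSystem_realized (K T : Subgroup G) (hTK : T ≤ K) :
    (relFusionSystem K T hTK).IsRealizedBy (Subgroup.inclusion hTK) := by
  refine ⟨Subgroup.inclusion_injective hTK, fun P hP φ hφ => ?_⟩
  constructor
  · rintro ⟨-, -, g, hgK, hg⟩
    exact ⟨⟨g, hgK⟩, fun x => Subtype.ext (hg x)⟩
  · rintro ⟨k, hk⟩
    exact ⟨hP, hφ, k, k.2, fun x => congrArg Subtype.val (hk x)⟩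

theorem relFusionSystem_le_group (K T S : Subgroup G) (hTK : T ≤ K) (hTS : T ≤ S) (P : Subgroup G) :
    (relFusionSystem K T hTK).Hom P ⊆ (groupFusionSystem S).Hom P := by
  rintro φ ⟨hP, hφ, g, -, hg⟩
  exact ⟨hP.trans hTS, fun x => hTS (hφ x), g, hg⟩

end Rel

/-! ### Lifting `p'`-automorphisms to `O^p(G)` -/

section Lift

variable {G : Type*} [Group G]

theorem conj_pow_apply {P : Subgroup G} (α : MulAut P) (g : G)
    (h : ∀ x : P, ((α x : P) : G) = g * (x : G) * g⁻¹) (n : ℕ) (x : P) :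
    (((α ^ n) x : P) : G) = g ^ n * (x : G) * (g ^ n)⁻¹ := by
  induction n generalizing x with
  | zero => simp
  | succ n ih =>
    rw [pow_succ, MulAut.mul_apply, ih, h, pow_succ]
    simp [mul_assoc]

theorem exists_conj_mem_pResidual_of_coprime [Finite G] (p : ℕ) [Fact p.Prime] {P : Subgroup G}
    (β : MulAut P) (hβ : Nat.Coprime (orderOf β) p) (g : G)
    (h : ∀ x : P, ((β x : P) : G) = g * (x : G) * g⁻¹) :
    ∃ k ∈ Cfsg.pResidual p G, ∀ x : P, ((β x : P) : G) = k * (x : G) * k⁻¹ := by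
  have hn := Cfsg.Agent.Lib.Helper42.pResidual_normal p G
  obtain ⟨b, hb⟩ := Cfsg.Agent.Lib.Helper42.isPGroup_quotient_pResidual p G
    (QuotientGroup.mk g)
  rw [← QuotientGroup.mk_pow, QuotientGroup.eq_one_iff] at hb
  have hc : Nat.Coprime (p ^ b) (orderOf β) := (Nat.Coprime.pow_right b hβ).symm
  obtain ⟨m, hm⟩ := exists_pow_eq_self_of_coprime hc
  refine ⟨(g ^ p ^ b) ^ m, Subgroup.pow_mem _ hb m, fun x => ?_⟩
  have h1 := conj_pow_apply β g h (p ^ b)
  have h2 := conj_pow_apply (β ^ p ^ b) (g ^ p ^ b) h1 m x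
  rw [hm] at h2
  exact h2

end Lift

/-! ### The hyperfocal subgroup of `F_S(G)` lies in `O^p(G)` -/

section Dir1

variable {G : Type*} [Group G] [Finite G]

theorem hyperfocal_group_le (p : ℕ) [Fact p.Prime] (S : Subgroup G) :
    (groupFusionSystem S).hyperfocalSubgroup p ≤ S ⊓ Cfsg.pResidual p G := by
  have hn := Cfsg.Agent.Lib.Helper42.pResidual_normal p G
  unfold hyperfocalSubgroup
  rw [Subgroup.closure_le]
  rintro y ⟨P, α, x, hPS, hα, rfl⟩
  refine ⟨S.mul_mem (S.inv_mem (hPS x.2)) (hPS (Subtype.prop _)), ?_⟩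
  -- induction on `α`
  have key : ∀ α : (groupFusionSystem S).autGroup P, α ∈ Cfsg.pResidual p _ →
      ∀ x : P, (x : G)⁻¹ * (((α : MulAut P) x : P) : G) ∈ Cfsg.pResidual p G := by
    intro α hα
    unfold Cfsg.pResidual at hα
    induction hα using Subgroup.closure_induction with
    | mem β hβ =>
      intro x
      have hβ' : Nat.Coprime (orderOf (β : MulAut P)) p := by
        rw [Subgroup.orderOf_coe]; exact hβ
      have hmem := (mem_autGroup_iff (groupFusionSystem S) hPS).mp β.2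
      obtain ⟨-, -, g, hg⟩ := hmem
      obtain ⟨k, hk, hkx⟩ := exists_conj_mem_pResidual_of_coprime p (β : MulAut P) hβ' g hg
      rw [hkx x]
      have h3 : (x : G)⁻¹ * (k * (x : G) * k⁻¹) = ((x : G)⁻¹ * k * (x : G)⁻¹⁻¹) * k⁻¹ := by group
      rw [h3]
      exact Subgroup.mul_mem _ (hn.conj_mem k hk _) (Subgroup.inv_mem _ hk)
    | one =>
      intro x
      simp
    | mul a b _ _ ha hb =>
      intro x
      have h3 : (x : G)⁻¹ * ((((a * b : (groupFusionSystem S).autGroup P) : MulAut P) x : P) : G)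
          = ((x : G)⁻¹ * (((b : MulAut P) x : P) : G)) *
            ((((b : MulAut P) x : P) : G)⁻¹ * (((a : MulAut P) ((b : MulAut P) x) : P) : G)) := by
        simp [mul_assoc]
      rw [h3]
      exact Subgroup.mul_mem _ (hb x) (ha _)
    | inv a _ ha =>
      intro x
      have h4 := ha ((a : MulAut P)⁻¹ x)
      have h5 : (a : MulAut P) ((a : MulAut P)⁻¹ x) = x := by simp
      rw [h5] at h4
      have h3 : (x : G)⁻¹ * ((((a⁻¹ : (groupFusionSystem S).autGroup P) : MulAut P) x : P) : G)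
          = ((((a : MulAut P)⁻¹ x : P) : G)⁻¹ * (x : G))⁻¹ := by
        simp
      rw [h3]
      exact Subgroup.inv_mem _ h4
  exact key α hα x

end Dir1

/-! ### `p`-elements of `O^p(G)` lie in its derived subgroup -/

section Abel

variable {G : Type*} [Group G] [Finite G]

theorem mem_commutator_pResidual (p : ℕ) [Fact p.Prime] (x : Cfsg.pResidual p G) (a : ℕ)
    (hx : x ^ p ^ a = 1) : x ∈ commutator (Cfsg.pResidual p G) := by
  have hpos : Nat.card G ≠ 0 := Nat.card_pos.ne'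
  obtain ⟨e, m, hm, hcard⟩ := Nat.exists_eq_pow_mul_and_not_dvd hpos p (Fact.out : p.Prime).ne_one
  have hmp : Nat.Coprime m p := ((Nat.Prime.coprime_iff_not_dvd Fact.out).mpr hm).symm
  have hgen : ∀ g : G, Nat.Coprime (orderOf g) p → g ^ m = 1 := by
    intro g hg
    apply orderOf_dvd_iff_pow_eq_one.mp
    have h1 : orderOf g ∣ p ^ e * m := hcard ▸ orderOf_dvd_natCard g
    exact (Nat.Coprime.pow_right e hg).dvd_of_dvd_mul_left h1
  let N : Subgroup (Cfsg.pResidual p G) :=
    Subgroup.comap (Abelianization.of : Cfsg.pResidual p G →* Abelianization (Cfsg.pResidual p G))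
      (MonoidHom.ker (powMonoidHom m :
        Abelianization (Cfsg.pResidual p G) →* Abelianization (Cfsg.pResidual p G)))
  have hN : N = ⊤ := by
    rw [eq_top_iff]
    have h1 : Subgroup.closure (((↑) : Cfsg.pResidual p G → G) ⁻¹'
        {g : G | Nat.Coprime (orderOf g) p}) = ⊤ :=
      Subgroup.closure_closure_coe_preimage
    rw [← h1, Subgroup.closure_le]
    intro k hk
    have hk' : (k : G) ^ m = 1 := hgen _ hk
    have hk'' : k ^ m = 1 := Subtype.ext (by simpa using hk')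
    show Abelianization.of k ∈ MonoidHom.ker (powMonoidHom m)
    rw [MonoidHom.mem_ker, powMonoidHom_apply, ← map_pow, hk'', map_one]
  have hxN : x ∈ N := by rw [hN]; trivial
  have h1 : (Abelianization.of x) ^ m = 1 := by
    have : Abelianization.of x ∈ MonoidHom.ker (powMonoidHom m) := hxN
    rwa [MonoidHom.mem_ker, powMonoidHom_apply] at this
  have h2 : (Abelianization.of x) ^ p ^ a = 1 := by
    rw [← map_pow, hx, map_one]
  have h3 : Abelianization.of x = 1 := by
    have hd1 := orderOf_dvd_of_pow_eq_one h1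
    have hd2 := orderOf_dvd_of_pow_eq_one h2
    have hcop : Nat.Coprime m (p ^ a) := Nat.Coprime.pow_right a hmp
    have := Nat.eq_one_of_dvd_coprimes hcop hd1 hd2
    exact orderOf_eq_one_iff.mp this
  rw [← Abelianization.ker_of, MonoidHom.mem_ker]
  exact h3

end Abel

/-! ### `S ∩ O^p(G)` is its own focal subgroup in `O^p(G)` -/

section Focal

variable {G : Type*} [Group G]

theorem commutator_mem_focal_rel (K T : Subgroup G) (hTK : T ≤ K) (x u : G) (hx : x ∈ T)
    (hu : u ∈ K) (hg : ⁅x, u⁆ ∈ T) : ⁅x, u⁆ ∈ (relFusionSystem K T hTK).focalSubgroup := by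
  apply Subgroup.subset_closure
  let P : Subgroup G := T ⊓ T.comap (MulAut.conj u).toMonoidHom
  have hPT : P ≤ T := inf_le_left
  have hconj : u * x⁻¹ * u⁻¹ = x⁻¹ * ⁅x, u⁆ := by
    rw [commutatorElement_def]; group
  have hy : x⁻¹ ∈ P := by
    refine ⟨T.inv_mem hx, ?_⟩
    show u * x⁻¹ * u⁻¹ ∈ T
    rw [hconj]
    exact T.mul_mem (T.inv_mem hx) hg
  refine ⟨P, conjHom P u, ⟨x⁻¹, hy⟩, ⟨hPT, fun z => z.2.2, u, hu, fun z => rfl⟩, ?_⟩
  show ⁅x, u⁆ = x⁻¹⁻¹ * (u * x⁻¹ * u⁻¹)
  rw [commutatorElement_def]; group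

theorem le_focal_rel [Finite G] (p : ℕ) [Fact p.Prime] (S : Sylow p G) :
    (S : Subgroup G) ⊓ Cfsg.pResidual p G ≤
      (relFusionSystem (Cfsg.pResidual p G) ((S : Subgroup G) ⊓ Cfsg.pResidual p G)
        inf_le_right).focalSubgroup := by
  have hn := Cfsg.Agent.Lib.Helper42.pResidual_normal p G
  obtain ⟨T', hT'⟩ := Cfsg.Agent.Lib.Helper90.exists_sylow_eq_subgroupOf S (Cfsg.pResidual p G)
  have hfoc := Subgroup.commutator_inf_eq_focalSubgroup T'
  -- transport of the focal subgroup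
  have htrans : ∀ k : Cfsg.pResidual p G, k ∈ (T' : Subgroup (Cfsg.pResidual p G)).focalSubgroup →
      (k : G) ∈ (relFusionSystem (Cfsg.pResidual p G) ((S : Subgroup G) ⊓ Cfsg.pResidual p G)
        inf_le_right).focalSubgroup := by
    intro k hk
    rw [Subgroup.focalSubgroup_def] at hk
    induction hk using Subgroup.closure_induction with
    | mem g hg =>
      obtain ⟨hgT, x, hxT, u, rfl⟩ := hg
      rw [hT', Subgroup.mem_subgroupOf] at hgT hxT
      have h1 : ((⁅x, u⁆ : Cfsg.pResidual p G) : G) = ⁅(x : G), (u : G)⁆ := by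
        simp [commutatorElement_def]
      rw [h1]
      have hx' : (x : G) ∈ (S : Subgroup G) ⊓ Cfsg.pResidual p G := ⟨hxT, x.2⟩
      apply commutator_mem_focal_rel _ _ _ _ _ hx' u.2
      rw [← h1]
      exact ⟨hgT, Subtype.prop _⟩
    | one => exact Subgroup.one_mem _
    | mul a b _ _ ha hb => exact Subgroup.mul_mem _ ha hb
    | inv a _ ha => exact Subgroup.inv_mem _ ha
  rintro t ⟨htS, htK⟩
  have ht' : (⟨t, htK⟩ : Cfsg.pResidual p G) ∈ (T' : Subgroup (Cfsg.pResidual p G)) := by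
    rw [hT', Subgroup.mem_subgroupOf]; exact htS
  obtain ⟨a, ha⟩ := S.isPGroup' ⟨t, htS⟩
  have ha' : (⟨t, htK⟩ : Cfsg.pResidual p G) ^ p ^ a = 1 := by
    have := congrArg Subtype.val ha
    exact Subtype.ext (by simpa using this)
  have hcomm := mem_commutator_pResidual p _ a ha'
  have hmem : (⟨t, htK⟩ : Cfsg.pResidual p G) ∈
      (T' : Subgroup (Cfsg.pResidual p G)).focalSubgroup := by
    rw [← hfoc]; exact ⟨hcomm, ht'⟩
  exact htrans _ hmem

end Focal

/-! ### Comparison of hyperfocal subgroups, and the Frattini argument -/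

section Compare

theorem hyperfocal_le_self {Ω : Type*} [Group Ω] {T : Subgroup Ω} (E : FusionSystem T) (p : ℕ) :
    E.hyperfocalSubgroup p ≤ T := by
  unfold hyperfocalSubgroup
  rw [Subgroup.closure_le]
  rintro y ⟨P, α, x, hPT, -, rfl⟩
  exact T.mul_mem (T.inv_mem (hPT x.2)) (hPT (Subtype.prop _))

theorem hyperfocal_rel_le {G : Type*} [Group G] (p : ℕ) (K T S : Subgroup G) (hTK : T ≤ K)
    (hTS : T ≤ S) :
    (relFusionSystem K T hTK).hyperfocalSubgroup p ≤ (groupFusionSystem S).hyperfocalSubgroup p := by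
  unfold hyperfocalSubgroup
  rw [Subgroup.closure_le]
  rintro y ⟨P, α, x, hPT, hα, rfl⟩
  have hPS : P ≤ S := hPT.trans hTS
  have hle : (relFusionSystem K T hTK).autGroup P ≤ (groupFusionSystem S).autGroup P :=
    Subgroup.closure_mono (fun β hβ => relFusionSystem_le_group K T S hTK hTS P hβ)
  apply Subgroup.subset_closure
  refine ⟨P, Subgroup.inclusion hle α, x, hPS, ?_, rfl⟩
  exact pResidual_map_le p (Subgroup.inclusion hle) (Subgroup.mem_map_of_mem _ hα)

theorem le_hyperfocal_of_le_sup {Ω : Type*} [Group Ω] {T : Subgroup Ω} [Finite T] (p : ℕ)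
    [Fact p.Prime] (hTp : IsPGroup p T) (E : FusionSystem T)
    (h2 : T ≤ E.hyperfocalSubgroup p ⊔ ⁅T, T⁆) : T ≤ E.hyperfocalSubgroup p := by
  have h3 := hyperfocal_le_self E p
  have hcT : ⁅T, T⁆ ≤ T := by
    rw [← Subgroup.map_subtype_commutator]
    rintro _ ⟨t, -, rfl⟩
    exact t.2
  have h5 : (E.hyperfocalSubgroup p ⊔ ⁅T, T⁆).subgroupOf T = ⊤ :=
    Subgroup.subgroupOf_eq_top.mpr h2
  rw [Subgroup.subgroupOf_sup h3 hcT] at h5
  have h6 : (⁅T, T⁆ : Subgroup Ω).subgroupOf T = commutator T := by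
    rw [← Subgroup.map_subtype_commutator]
    exact Subgroup.comap_map_eq_self_of_injective (Subgroup.subtype_injective T) _
  rw [h6] at h5
  have h7 : (E.hyperfocalSubgroup p).subgroupOf T ⊔ frattini T = ⊤ := by
    rw [eq_top_iff, ← h5]
    exact sup_le_sup_left (Cfsg.Agent.Lib.Helper03.commutator_le_frattini_of_isPGroup hTp) _
  have h8 := frattini_nongenerating h7
  exact Subgroup.subgroupOf_eq_top.mp h8

end Compare

end Cfsg.Agent.Lib.Helper87
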