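import Cfsg.Agent.S5082
import Cfsg.Agent.Lib.Helper87.Hyperfocal

set_option autoImplicit false

namespace Cfsg.Agent.Lib.Helper87

open Cfsg Cfsg.FusionSystem

variable {Ω : Type*} [Group Ω]

theorem self_isFullyNormalized' {S : Subgroup Ω} [Finite S] (F : FusionSystem S) :
    F.IsFullyNormalized S := by
  refine ⟨le_refl _, fun Q _ => ?_⟩
  have h1 : normalizerIn S S = S := by
    apply le_antisymm (normalizerIn_le S S) (le_normalizerIn (le_refl S))
  have h2 := card_le_of_le (normalizerIn_le S Q)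
  rw [h1]
  exact h2

/-- A saturated subsystem `E₁` of `F` over `T` lies in every fusion system `E₂` over `T` whose automorphism
groups contain `O^p(Aut_F(P))` for all `P ≤ T`. -/
theorem le_of_saturated_of_pResidual_le {S T : Subgroup Ω} [Finite T] (p : ℕ) [Fact p.Prime]
    (hT : IsPGroup p T) (F : FusionSystem S) (E₁ E₂ : FusionSystem T) (hsat : E₁.IsSaturated p)
    (hsub : E₁.IsSubsystemOf F)
    (h2 : ∀ P : Subgroup Ω, P ≤ T →
      (Cfsg.pResidual p (F.autGroup P)).map (F.autGroup P).subtype ≤ E₂.autGroup P) :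
    E₁ ≤ E₂ := by
  apply Cfsg.Agent.S5082.result p hT E₁ hsat E₂
  intro P hP
  have hPfn : E₁.IsFullyNormalized P := by
    rcases hP with rfl | hP
    · exact self_isFullyNormalized' E₁
    · exact hP.2.1
  have hPT : P ≤ T := hPfn.1
  obtain ⟨-, -, R, hR⟩ := fullyNormalized_props p hT E₁ hsat P hPfn
  have : Finite (E₁.autGroup P) := finite_autGroup E₁ hPT
  intro α hα
  have hidx : ¬ p ∣ ((autInducedBy T P).subgroupOf (E₁.autGroup P)).index := by
    rw [← hR]; exact R.not_dvd_index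
  have htop := Cfsg.Agent.Lib.Helper42.pResidual_sup_eq_top p (E₁.autGroup P) _ hidx
  have hnorm := Cfsg.Agent.Lib.Helper42.pResidual_normal p (E₁.autGroup P)
  have hmem : (⟨α, hα⟩ : E₁.autGroup P) ∈
      Cfsg.pResidual p (E₁.autGroup P) ⊔ (autInducedBy T P).subgroupOf (E₁.autGroup P) := by
    rw [htop]; trivial
  rw [← SetLike.mem_coe, Subgroup.normal_mul, Set.mem_mul] at hmem
  obtain ⟨β, hβ, γ, hγ, hβγ⟩ := hmem
  have hα' : α = (β : MulAut P) * (γ : MulAut P) := by
    have := congrArg Subtype.val hβγ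
    simpa using this.symm
  rw [hα']
  apply Subgroup.mul_mem
  · have hle : E₁.autGroup P ≤ F.autGroup P :=
      Subgroup.closure_mono (fun δ hδ => hsub P hδ)
    have h3 := pResidual_map_le p (Subgroup.inclusion hle) (Subgroup.mem_map_of_mem _ hβ)
    exact h2 P hPT ⟨_, h3, rfl⟩
  · exact autInducedBy_le_autGroup E₂ hPT (Subgroup.mem_subgroupOf.mp hγ)

/-- The same across an equality of the underlying subgroups. -/
theorem hom_subset_of_saturated_of_pResidual_le {S T₁ T₂ : Subgroup Ω} [Finite T₁] (p : ℕ)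
    [Fact p.Prime] (hT : IsPGroup p T₁) (hTT : T₁ = T₂) (F : FusionSystem S)
    (E₁ : FusionSystem T₁) (E₂ : FusionSystem T₂) (hsat : E₁.IsSaturated p)
    (hsub : E₁.IsSubsystemOf F)
    (h2 : ∀ P : Subgroup Ω, P ≤ T₂ →
      (Cfsg.pResidual p (F.autGroup P)).map (F.autGroup P).subtype ≤ E₂.autGroup P)
    (P : Subgroup Ω) : E₁.Hom P ⊆ E₂.Hom P := by
  subst hTT
  exact le_of_saturated_of_pResidual_le p hT F E₁ E₂ hsat hsub h2 P

/-- `O^p(Aut_G(P)) ≤ Aut_{O^p(G)}(P)` for `P ≤ S ∩ O^p(G)`. -/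
theorem pResidual_autGroup_le_rel {G : Type*} [Group G] [Finite G] (p : ℕ) [Fact p.Prime]
    (S T : Subgroup G) (hTK : T ≤ Cfsg.pResidual p G) (hTS : T ≤ S) (P : Subgroup G) (hPT : P ≤ T) :
    (Cfsg.pResidual p ((groupFusionSystem S).autGroup P)).map
      ((groupFusionSystem S).autGroup P).subtype ≤
      (fusionSystemOfSubgroup (Cfsg.pResidual p G) T hTK).autGroup P := by
  rw [Subgroup.map_le_iff_le_comap]
  unfold Cfsg.pResidual
  rw [Subgroup.closure_le]
  intro β hβ
  show (β : MulAut P) ∈ (fusionSystemOfSubgroup _ T hTK).autGroup P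
  have hβ' : Nat.Coprime (orderOf (β : MulAut P)) p := by
    rw [Subgroup.orderOf_coe]; exact hβ
  have hPS : P ≤ S := hPT.trans hTS
  obtain ⟨-, -, g, hg⟩ := (mem_autGroup_iff (groupFusionSystem S) hPS).mp β.2
  obtain ⟨k, hk, hkx⟩ := exists_conj_mem_pResidual_of_coprime p (β : MulAut P) hβ' g hg
  apply Subgroup.subset_closure
  exact ⟨hPT, fun x => hPT (Subtype.prop _), k, hk, hkx⟩

end Cfsg.Agent.Lib.Helper87

namespace Cfsg.Agent.Lib.Helper87

open Cfsg Cfsg.FusionSystem

theorem relFusionSystem_eq {G : Type*} [Group G] (K T : Subgroup G) (hTK : T ≤ K) :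
    relFusionSystem K T hTK = fusionSystemOfSubgroup K T hTK := rfl

/-- For `K` normal in the finite group `G` and `S` a Sylow `p`-subgroup, `F_{S ∩ K}(K)` is saturated. -/
theorem fusionSystemOfSubgroup_saturated {G : Type*} [Group G] [Finite G] (p : ℕ) [Fact p.Prime]
    (S : Sylow p G) (K : Subgroup G) [K.Normal] :
    (fusionSystemOfSubgroup K ((S : Subgroup G) ⊓ K) inf_le_right).IsSaturated p := by
  obtain ⟨T', hT'⟩ := Cfsg.Agent.Lib.Helper90.exists_sylow_eq_subgroupOf S K
  rw [← relFusionSystem_eq]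
  apply isSaturated_of_realized _ (relFusionSystem_realized _ _ inf_le_right) T'
  rw [hT']
  ext k
  rw [Subgroup.mem_subgroupOf]
  constructor
  · intro hk
    exact ⟨⟨k, hk, k.2⟩, rfl⟩
  · rintro ⟨t, rfl⟩
    exact t.2.1

theorem fusionSystemOfSubgroup_isSubsystemOf {G : Type*} [Group G] (K T S : Subgroup G)
    (hTK : T ≤ K) (hTS : T ≤ S) :
    (fusionSystemOfSubgroup K T hTK).IsSubsystemOf (groupFusionSystem S) :=
  fun P => relFusionSystem_le_group K T S hTK hTS P

end Cfsg.Agent.Lib.Helper87
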