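import Cfsg.Agent.Lib.Helper87.Tate5
import Cfsg.Agent.Lib.Helper87.BisetThompson2
import Cfsg.Agent.Lib.Helper88.FusionHP19
import Cfsg.Agent.Lib.Helper54.FrattiniLib
import Cfsg.Agent.S5092

set_option autoImplicit false

/-!
Tate's theorem for fusion systems: if `Φ(S) foc(F) = Φ(S) foc(H)` for saturated `H ≤ F` over `S` then `hyp(F) = hyp(H)`.
-/

namespace Cfsg.Agent.Lib.Helper87.Tate

open Cfsg Cfsg.FusionSystem Cfsg.Agent.Lib.Helper87

universe u

set_option maxHeartbeats 1600000 in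
/-- **Tate's theorem** for fusion systems, the main implication. -/
theorem hyperfocal_eq_of_frattini_focal {Ω : Type u} [Group Ω] {S : Subgroup Ω} [Finite S] (p : ℕ) [Fact p.Prime]
    (hS : IsPGroup p S) (F : FusionSystem S) (hF : F.IsSaturated p) (H : FusionSystem S)
    (hH : H.IsSaturated p) (hHF : H.IsSubsystemOf F)
    (h : (frattini ↥S).map S.subtype ⊔ F.focalSubgroup = (frattini ↥S).map S.subtype ⊔ H.focalSubgroup) :
    F.hyperfocalSubgroup p = H.hyperfocalSubgroup p := by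
  have hUT : H.hyperfocalSubgroup p ≤ F.hyperfocalSubgroup p :=
    Cfsg.Agent.Lib.Helper88.hyperfocal_le_of_sub p H F le_rfl hHF
  by_contra hne
  have hne' : H.hyperfocalSubgroup p ≠ F.hyperfocalSubgroup p := fun h => hne h.symm
  have hTS : F.hyperfocalSubgroup p ≤ S := Cfsg.Agent.Lib.Helper88.hyperfocalSubgroup_le F p
  have hUn : S ≤ Subgroup.normalizer ((H.hyperfocalSubgroup p : Subgroup Ω) : Set Ω) :=
    le_normalizer_of_conj_mem'
      (fun g hg y hy => Cfsg.Agent.Lib.Helper88.conj_mem_hyperfocalSubgroup H p hg hy)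
  have hTn : S ≤ Subgroup.normalizer ((F.hyperfocalSubgroup p : Subgroup Ω) : Set Ω) :=
    le_normalizer_of_conj_mem'
      (fun g hg y hy => Cfsg.Agent.Lib.Helper88.conj_mem_hyperfocalSubgroup F p hg hy)
  obtain ⟨V, hUV, hVT, hVne, hVn, hcomm, hpow⟩ := exists_central_step hS hUT hTS hne' hUn hTn
  haveI hnorm : (V.subgroupOf S).Normal := subgroupOf_normal_of_le_normalizer hVn
  -- the image of the hyperfocal subgroup is central of exponent `p`
  have hTC : ∀ t : ↥S, (t : Ω) ∈ F.hyperfocalSubgroup p → piV S V t ∈ CC S V p := by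
    intro t ht
    refine ⟨?_, ?_⟩
    · rw [Subgroup.mem_center_iff]
      intro g
      obtain ⟨s, rfl⟩ := piV_surjective S V g
      have h1 := hcomm t ht s s.2
      have h2 : piV S V (t * s * t⁻¹ * s⁻¹) = 1 := (piV_eq_one_iff S V _).mpr h1
      rw [map_mul, map_mul, map_mul, map_inv, map_inv] at h2
      have h3 : piV S V t * piV S V s = piV S V s * piV S V t := by
        calc piV S V t * piV S V s
            = (piV S V t * piV S V s * (piV S V t)⁻¹ * (piV S V s)⁻¹) * (piV S V s * piV S V t) := by group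
          _ = piV S V s * piV S V t := by rw [h2, one_mul]
      exact h3.symm
    · show piV S V t ^ p = 1
      rw [← map_pow]
      exact (piV_eq_one_iff S V _).mpr (hpow t ht)
  obtain ⟨E, hEsat, hEidx⟩ := exists_Ft V p hS F hF hTC
  have hStp : IsPGroup p ↥(St S V p) := (isPGroup_prod_top S V p hS).to_le (St_le S V p)
  apply hVne
  apply le_antisymm hVT
  intro x hx
  have hxS : x ∈ S := hTS hx
  set c : ↥(CC S V p) := ⟨piV S V ⟨x, hxS⟩, hTC _ hx⟩ with hc
  obtain ⟨t, k, hpk, htfoc, htz⟩ := exists_transfer p hStp E hEsat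
    (weaklyCentral_gam V p F E hEidx.1 c) (kap S V p)
  rw [kap_gam] at htz
  -- the composite `S → S̃ → C`
  set τ : ↥S →* ↥(CC S V p) := t.comp (delta S V p) with hτ
  have hfrat : frattini ↥S ≤ τ.ker := by
    apply Cfsg.Agent.Lib.Helper54.frattini_le_of_commutator_le_of_pow_mem (p := p)
    · exact Abelianization.commutator_subset_ker τ
    · intro y
      rw [MonoidHom.mem_ker, map_pow]
      exact pTorsionCenter_pow _ p _
  have hinl : ∀ y, y ∈ F.hyperfocalSubgroup p →
      ∀ hySt : ((y, 1) : Ω × Q2 S V) ∈ St S V p, t ⟨(y, 1), hySt⟩ = 1 := by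
    intro y hy hySt
    exact htfoc _ (inl_hyperfocal_mem_focal V p hS F hF hTC E hEidx hy)
  have hU : H.hyperfocalSubgroup p ≤ τ.ker.map S.subtype := by
    intro u hu
    have huS : u ∈ S := hTS (hUT hu)
    refine ⟨⟨u, huS⟩, ?_, rfl⟩
    show t (delta S V p ⟨u, huS⟩) = 1
    have h1 : piV S V ⟨u, huS⟩ = 1 := (piV_eq_one_iff S V _).mpr (hUV hu)
    have h2 : ((delta S V p ⟨u, huS⟩ : ↥(St S V p)) : Ω × Q2 S V) = (u, 1) := by
      rw [delta_coe, h1]
    have h3 : ((u, 1) : Ω × Q2 S V) ∈ St S V p := by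
      rw [← h2]; exact (delta S V p ⟨u, huS⟩).2
    have h4 : delta S V p ⟨u, huS⟩ = ⟨(u, 1), h3⟩ := Subtype.ext h2
    rw [h4]
    exact hinl u (hUT hu) h3
  have hcomm' : ⁅(S : Subgroup Ω), (S : Subgroup Ω)⁆ ≤ τ.ker.map S.subtype := by
    have hmap : (commutator ↥S).map S.subtype = ⁅(S : Subgroup Ω), (S : Subgroup Ω)⁆ := by
      rw [commutator_def, Subgroup.map_commutator, ← MonoidHom.range_eq_map, Subgroup.range_subtype]
    rw [← hmap]
    exact Subgroup.map_mono (Abelianization.commutator_subset_ker τ)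
  have hxker : x ∈ τ.ker.map S.subtype := by
    have h1 : x ∈ F.focalSubgroup := hyperfocal_le_focal F p hx
    have h2 : x ∈ (frattini ↥S).map S.subtype ⊔ H.focalSubgroup := by
      rw [← h]; exact (le_sup_right : F.focalSubgroup ≤ _) h1
    rw [Cfsg.Agent.S5092.result p hS H hH] at h2
    have h3 : (frattini ↥S).map S.subtype ⊔ (H.hyperfocalSubgroup p ⊔ ⁅(S : Subgroup Ω), (S : Subgroup Ω)⁆) ≤
        τ.ker.map S.subtype :=
      sup_le (Subgroup.map_mono hfrat) (sup_le hU hcomm')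
    exact h3 h2
  have hτx : t (delta S V p ⟨x, hxS⟩) = 1 := by
    obtain ⟨x', hx', hxx'⟩ := hxker
    have : x' = ⟨x, hxS⟩ := Subtype.ext hxx'
    rw [this] at hx'
    exact hx'
  -- decomposition of `δ x`
  have hx1St : ((x, 1) : Ω × Q2 S V) ∈ St S V p :=
    hyperfocal_prod_le_St V p F hTC (Subgroup.mem_prod.mpr ⟨hx, Subgroup.one_mem _⟩)
  have hdec : delta S V p ⟨x, hxS⟩ = ⟨(x, 1), hx1St⟩ * gam S V p c := by
    apply Subtype.ext
    rw [Subgroup.coe_mul, delta_coe, gam_coe]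
    apply Prod.ext
    · show x = x * 1
      rw [mul_one]
    · show piV S V ⟨x, hxS⟩ = 1 * (c : Q2 S V)
      rw [one_mul]
  rw [hdec, map_mul, hinl x hx hx1St, one_mul, htz, inv_eq_one] at hτx
  -- `c ^ k = 1` and `c ^ p = 1`
  have hcp : c ^ p = 1 := pTorsionCenter_pow _ p c
  have hc1 : c = 1 := by
    have hd1 : orderOf c ∣ k := orderOf_dvd_of_pow_eq_one hτx
    have hd2 : orderOf c ∣ p := orderOf_dvd_of_pow_eq_one hcp
    have hcop : Nat.Coprime p k := (Nat.Prime.coprime_iff_not_dvd (Fact.out : p.Prime)).mpr hpk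
    have hd3 : orderOf c ∣ 1 := by
      have := Nat.dvd_gcd hd2 hd1
      rwa [hcop.gcd_eq_one] at this
    exact orderOf_eq_one_iff.mp (Nat.dvd_one.mp hd3)
  have hpi : piV S V ⟨x, hxS⟩ = 1 := by
    have := congrArg (fun z : ↥(CC S V p) => (z : Q2 S V)) hc1
    exact this
  exact (piV_eq_one_iff S V _).mp hpi

end Cfsg.Agent.Lib.Helper87.Tate
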