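import Mathlib
import Cfsg.Prelude.Def_Solvable
import Cfsg.Prelude.Def_Local
import Cfsg.Prelude.Def_SolvableStructure
import Cfsg.Agent.Lib.Helper41.SchmidtPLDefs

/-!
# K-SPL-SA2 (keystone 439402, architect helper41): `C_P(K) = Z(P)` and `P' ≤ Z(P)` for operator data with `P` nonabelian.
-/

set_option autoImplicit false

namespace Cfsg.Agent.Lib.Helper87.SPL

open Cfsg Cfsg.Agent.Lib.Helper41.SchmidtPL
open scoped commutatorElement

section
variable {X : Type*} [Group X]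

/-- coprime stability, elementwise: if `k x k⁻¹ = m x` with `k`, `m` commuting of coprime orders, then `m = 1`. -/
theorem eq_one_of_conj_eq_mul {p r : ℕ} [Fact p.Prime] (hr : r.Prime) (hrp : r ≠ p)
    {P K : Subgroup X} (hP : IsPGroup p P) (hK : IsPGroup r K) {k m x : X} (hk : k ∈ K) (hm : m ∈ P)
    (hkm : k * m = m * k) (hx : k * x * k⁻¹ = m * x) : m = 1 := by
  have : Fact r.Prime := ⟨hr⟩
  have hc : Commute k m := hkm
  have key : ∀ n : ℕ, k ^ n * x * (k ^ n)⁻¹ = m ^ n * x := by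
    intro n
    induction n with
    | zero => simp
    | succ n ih =>
      have hkmn : k * m ^ n * k⁻¹ = m ^ n := by
        rw [(hc.pow_right n).eq, mul_inv_cancel_right]
      calc k ^ (n + 1) * x * (k ^ (n + 1))⁻¹ = k * (k ^ n * x * (k ^ n)⁻¹) * k⁻¹ := by
            rw [pow_succ']; group
        _ = k * (m ^ n * x) * k⁻¹ := by rw [ih]
        _ = (k * m ^ n * k⁻¹) * (k * x * k⁻¹) := by group
        _ = m ^ n * (m * x) := by rw [hx, hkmn]
        _ = m ^ (n + 1) * x := by rw [pow_succ, mul_assoc]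
  have h1 := key (orderOf k)
  rw [pow_orderOf_eq_one, one_mul, inv_one, mul_one] at h1
  have h2 : m ^ orderOf k = 1 := by
    have := congrArg (· * x⁻¹) h1
    simpa using this.symm
  obtain ⟨a, ha⟩ := (IsPGroup.iff_orderOf.1 hK) ⟨k, hk⟩
  obtain ⟨b, hb⟩ := (IsPGroup.iff_orderOf.1 hP) ⟨m, hm⟩
  rw [Subgroup.orderOf_mk] at ha hb
  have hdvd : orderOf m ∣ orderOf k := orderOf_dvd_of_pow_eq_one h2
  rw [ha, hb] at hdvd
  have hcop : Nat.Coprime (p ^ b) (r ^ a) :=
    Nat.Coprime.pow _ _ ((Nat.coprime_primes (Fact.out : p.Prime) hr).2 (Ne.symm hrp))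
  have : p ^ b = 1 := Nat.Coprime.eq_one_of_dvd hcop hdvd
  rw [this] at hb
  exact orderOf_eq_one_iff.1 hb

end

theorem opData_center {X : Type*} [Group X] [Finite X] {p r : ℕ} [Fact p.Prime] {P K : Subgroup X}
    (h : OpData p r P K) (hnab : ∃ x ∈ P, ∃ y ∈ P, x * y ≠ y * x) :
    (∀ x ∈ P, (∀ k ∈ K, k * x = x * k) ↔ x ∈ zIn P) ∧ (∀ x ∈ P, ∀ y ∈ P, ⁅x, y⁆ ∈ zIn P) := by
  classical
  -- the fixed points
  set C : Subgroup X := P ⊓ Subgroup.centralizer (K : Set X) with hCdef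
  have hCmem : ∀ x, x ∈ C ↔ x ∈ P ∧ ∀ k ∈ K, k * x = x * k := by
    intro x
    rw [hCdef, Subgroup.mem_inf, Subgroup.mem_centralizer_iff]
    rfl
  have hCP : C ≤ P := inf_le_left
  have hKinv : ∀ k ∈ K, k⁻¹ ∈ K := fun k hk => K.inv_mem hk
  -- (1) invariant proper subgroups are fixed
  have h1 : ∀ P0 : Subgroup X, P0 ≤ P → P0 ≠ P → (∀ k ∈ K, ∀ x ∈ P0, k * x * k⁻¹ ∈ P0) → P0 ≤ C := by
    intro P0 hle hne hinv x hx
    rw [hCmem]
    exact ⟨hle hx, fun k hk => h.sub P0 K hle le_rfl hinv (Or.inl hne) k hk x hx⟩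
  -- `C ≠ P`
  have hCne : ¬ P ≤ C := by
    intro hle
    obtain ⟨k, hk, x, hx, hkx⟩ := h.nontriv
    exact hkx (((hCmem x).1 (hle hx)).2 k hk)
  -- conjugation by `K` fixes `C` pointwise
  have hconjC : ∀ k ∈ K, ∀ c ∈ C, k * c * k⁻¹ = c := by
    intro k hk c hc
    rw [((hCmem c).1 hc).2 k hk, mul_inv_cancel_right]
  -- (2) `C` is normal in `P`
  have hnorm : P ≤ Subgroup.normalizer C := by
    set N : Subgroup X := P ⊓ Subgroup.normalizer C with hNdef
    have hNinv : ∀ k ∈ K, ∀ x ∈ N, k * x * k⁻¹ ∈ N := by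
      intro k hk n hn
      rw [hNdef, Subgroup.mem_inf] at hn ⊢
      refine ⟨h.norm k hk n hn.1, ?_⟩
      rw [Subgroup.mem_normalizer_iff]
      intro c
      have hn2 := Subgroup.mem_normalizer_iff.1 hn.2
      have e : k * n * k⁻¹ * c * (k * n * k⁻¹)⁻¹ = k * (n * (k⁻¹ * c * k⁻¹⁻¹) * n⁻¹) * k⁻¹ := by group
      rw [e]
      constructor
      · intro hc
        rw [hconjC k⁻¹ (hKinv k hk) c hc]
        have h3 := (hn2 c).1 hc
        rw [hconjC k hk _ h3]
        exact h3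
      · intro hc
        -- conj by k⁻¹
        have h4 : n * (k⁻¹ * c * k⁻¹⁻¹) * n⁻¹ ∈ C := by
          have := hconjC k⁻¹ (hKinv k hk) _ hc
          have e2 : k⁻¹ * (k * (n * (k⁻¹ * c * k⁻¹⁻¹) * n⁻¹) * k⁻¹) * k⁻¹⁻¹ = n * (k⁻¹ * c * k⁻¹⁻¹) * n⁻¹ := by
            group
          rw [e2] at this
          rw [this]
          exact hc
        have h5 : k⁻¹ * c * k⁻¹⁻¹ ∈ C := (hn2 _).2 h4
        have := hconjC k hk _ h5
        have e3 : k * (k⁻¹ * c * k⁻¹⁻¹) * k⁻¹ = c := by group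
        rw [e3] at this
        rw [this]
        exact h5
    by_contra hcon
    have hNne : N ≠ P := by
      intro hN
      apply hcon
      rw [← hN]
      exact inf_le_right
    have hNC : N ≤ C := h1 N inf_le_left hNne hNinv
    -- normalizers grow
    have : Group.IsNilpotent P := h.hP.isNilpotent
    have hnc : NormalizerCondition P := Group.normalizerCondition_of_isNilpotent
    have hlt : C.subgroupOf P < ⊤ := by
      rw [lt_top_iff_ne_top, Ne, Subgroup.subgroupOf_eq_top]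
      exact hCne
    have hgrow := hnc _ hlt
    obtain ⟨n, hn1, hn2⟩ := SetLike.exists_of_lt hgrow
    rw [← Subgroup.subgroupOf_normalizer_eq hCP, Subgroup.mem_subgroupOf] at hn1
    apply hn2
    rw [Subgroup.mem_subgroupOf]
    exact hNC (Subgroup.mem_inf.2 ⟨n.2, hn1⟩)
  -- (3) `[K, P] = P`
  have hKPle : ⁅K, P⁆ ≤ P := by
    rw [Subgroup.commutator_le]
    intro k hk x hx
    rw [commutatorElement_def]
    exact P.mul_mem (h.norm k hk x hx) (P.inv_mem hx)
  have hconj_le : ∀ k ∈ K, ∀ (A B : Subgroup X), (∀ x ∈ A, k * x * k⁻¹ ∈ A) → (∀ x ∈ B, k * x * k⁻¹ ∈ B) →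
      ∀ x ∈ ⁅A, B⁆, k * x * k⁻¹ ∈ ⁅A, B⁆ := by
    intro k hk A B hA hB x hx
    have hmap : (⁅A, B⁆).map (MulAut.conj k).toMonoidHom ≤ ⁅A, B⁆ := by
      rw [Subgroup.map_commutator]
      apply Subgroup.commutator_mono
      · rintro _ ⟨a, ha, rfl⟩
        exact hA a ha
      · rintro _ ⟨b, hb, rfl⟩
        exact hB b hb
    exact hmap ⟨x, hx, rfl⟩
  have hKK : ∀ k ∈ K, ∀ x ∈ K, k * x * k⁻¹ ∈ K := fun k hk x hx => K.mul_mem (K.mul_mem hk hx) (K.inv_mem hk)
  have hKP : ⁅K, P⁆ = P := by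
    by_contra hne
    have hM : ⁅K, P⁆ ≤ C := h1 _ hKPle hne (fun k hk => hconj_le k hk K P (hKK k hk) (h.norm k hk))
    obtain ⟨k, hk, x, hx, hkx⟩ := h.nontriv
    apply hkx
    have hm : ⁅k, x⁆ ∈ ⁅K, P⁆ := Subgroup.commutator_mem_commutator hk hx
    have hmC := hM hm
    have hm1 : ⁅k, x⁆ = 1 := by
      apply eq_one_of_conj_eq_mul h.hr h.hrp h.hP h.hK hk (hCP hmC) (((hCmem _).1 hmC).2 k hk) (x := x)
      rw [commutatorElement_def]; group
    rw [commutatorElement_def] at hm1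
    have := congrArg (· * x * k) hm1
    simpa [mul_assoc] using this
  -- (4) three subgroups
  have hCK : ⁅C, K⁆ = ⊥ := by
    rw [Subgroup.commutator_eq_bot_iff_le_centralizer]
    exact inf_le_right
  have hPC : ⁅P, C⁆ ≤ C := by
    rw [Subgroup.commutator_le]
    intro x hx c hc
    rw [commutatorElement_def]
    exact C.mul_mem ((Subgroup.mem_normalizer_iff.1 (hnorm hx) c).1 hc) (C.inv_mem hc)
  have h3a : ⁅⁅P, C⁆, K⁆ = ⊥ := by
    rw [eq_bot_iff, ← hCK]
    exact Subgroup.commutator_mono hPC le_rfl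
  have h3b : ⁅⁅C, K⁆, P⁆ = ⊥ := by
    rw [hCK, Subgroup.commutator_bot_left]
  have h3 : ⁅⁅K, P⁆, C⁆ = ⊥ := Subgroup.commutator_commutator_eq_bot_of_rotate h3a h3b
  rw [hKP, Subgroup.commutator_eq_bot_iff_le_centralizer] at h3
  have hCZ : C ≤ zIn P := by
    intro c hc
    rw [mem_zIn]
    refine ⟨hCP hc, fun x hx => ?_⟩
    have := Subgroup.mem_centralizer_iff.1 (h3 hx) c hc
    exact this.symm
  -- (5) the centre is invariant and proper
  have hZP : zIn P ≤ P := inf_le_left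
  have hZne : zIn P ≠ P := by
    intro hZ
    obtain ⟨x, hx, y, hy, hxy⟩ := hnab
    have : y ∈ zIn P := by rw [hZ]; exact hy
    exact hxy ((mem_zIn.1 this).2 x hx)
  have hZinv : ∀ k ∈ K, ∀ z ∈ zIn P, k * z * k⁻¹ ∈ zIn P := by
    intro k hk z hz
    rw [mem_zIn] at hz ⊢
    refine ⟨h.norm k hk z hz.1, fun x hx => ?_⟩
    have hx' : k⁻¹ * x * k⁻¹⁻¹ ∈ P := h.norm k⁻¹ (hKinv k hk) x hx
    have := hz.2 _ hx'
    calc x * (k * z * k⁻¹) = k * ((k⁻¹ * x * k⁻¹⁻¹) * z) * k⁻¹ := by group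
      _ = k * (z * (k⁻¹ * x * k⁻¹⁻¹)) * k⁻¹ := by rw [this]
      _ = k * z * k⁻¹ * x := by group
  have hZC : zIn P ≤ C := h1 _ hZP hZne hZinv
  refine ⟨?_, ?_⟩
  · intro x hx
    constructor
    · intro hk
      exact hCZ ((hCmem x).2 ⟨hx, hk⟩)
    · intro hz
      exact ((hCmem x).1 (hZC hz)).2
  · -- (6) the derived subgroup
    have hDle : ⁅P, P⁆ ≤ P := by
      rw [Subgroup.commutator_le]
      intro x hx y hy
      exact P.mul_mem (P.mul_mem (P.mul_mem hx hy) (P.inv_mem hx)) (P.inv_mem hy)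
    have hDne : ⁅P, P⁆ ≠ P := by
      intro hD
      have : Group.IsNilpotent P := h.hP.isNilpotent
      have : Nontrivial P := by
        obtain ⟨x, hx, y, hy, hxy⟩ := hnab
        refine ⟨⟨⟨x, hx⟩, 1, ?_⟩⟩
        intro h1x
        have : x = 1 := congrArg Subtype.val h1x
        apply hxy
        rw [this, one_mul, mul_one]
      have hlt := Group.IsSolvable.commutator_lt_top_of_nontrivial P
      have hmap : (_root_.commutator P).map P.subtype = (⊤ : Subgroup P).map P.subtype := by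
        rw [Subgroup.map_subtype_commutator, hD, ← MonoidHom.range_eq_map, Subgroup.range_subtype]
      have := Subgroup.map_injective (Subgroup.subtype_injective P) hmap
      exact hlt.ne this
    have hDC : ⁅P, P⁆ ≤ C := h1 _ hDle hDne (fun k hk => hconj_le k hk P P (h.norm k hk) (h.norm k hk))
    intro x hx y hy
    exact hCZ (hDC (Subgroup.commutator_mem_commutator hx hy))

end Cfsg.Agent.Lib.Helper87.SPL
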