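import Mathlib
import Cfsg.Prelude.Def_Solvable
import Cfsg.Prelude.Def_Local
import Cfsg.Prelude.Def_SolvableStructure
import Cfsg.Agent.Lib.Helper41.SchmidtPLDefs

/-!
# K-SPL-M2 (keystone 439415, architect helper41): module lemma, part 1 (coprime decomposition via the norm map).
-/

set_option autoImplicit false

namespace Cfsg.Agent.Lib.Helper87.SPL

open Cfsg Cfsg.Agent.Lib.Helper41.SchmidtPL

/-- the commutative version -/
theorem module_fixed_trivial_aux {Γ Y : Type*} [Group Γ] [Finite Γ] [CommGroup Y] [Finite Y] (p : ℕ)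
    [Fact p.Prime] (φ : Γ →* MulAut Y) (hφ : Function.Injective φ)
    (hexpY : ∀ y : Y, y ^ p = 1)
    (A : Subgroup Γ) (Z : Subgroup Y) (hZ1 : Z ≠ ⊥) (hZtop : Z ≠ ⊤)
    (hdich : ∀ V : Subgroup Y, (∀ a ∈ A, ∀ v ∈ V, φ a v ∈ V) → V ≤ Z ∨ Z ≤ V)
    (T0 : Subgroup Γ) (hT0 : (Nat.card T0).Coprime p) (hT01 : T0 ≠ ⊥)
    (hAT0 : ∀ a ∈ A, ∀ t ∈ T0, a * t * a⁻¹ ∈ T0) :
    ∀ y : Y, (∀ t ∈ T0, φ t y = y) → y = 1 := by
  classical
  letI : Fintype T0 := Fintype.ofFinite T0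
  have hp : p.Prime := Fact.out
  set n := Fintype.card T0 with hn
  have hncop : Nat.Coprime n p := by rw [hn, ← Nat.card_eq_fintype_card]; exact hT0
  -- the norm map
  let N : Y →* Y := ∏ t : T0, (φ (t : Γ)).toMonoidHom
  have hN : ∀ y, N y = ∏ t : T0, φ (t : Γ) y := by
    intro y
    simp only [N, MonoidHom.finsetProd_apply]
    rfl
  have hNphi : ∀ s ∈ T0, ∀ y, N (φ s y) = N y := by
    intro s hs y
    rw [hN, hN]
    have : ∀ t : T0, φ (t : Γ) (φ s y) = φ (((Equiv.mulRight (⟨s, hs⟩ : T0)) t : T0) : Γ) y := by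
      intro t
      simp [map_mul, MulAut.mul_apply]
    simp_rw [this]
    exact Fintype.prod_equiv (Equiv.mulRight (⟨s, hs⟩ : T0)) _ _ (fun t => rfl)
  have hphiN : ∀ s ∈ T0, ∀ y, φ s (N y) = N y := by
    intro s hs y
    rw [hN, map_prod]
    have : ∀ t : T0, φ s (φ (t : Γ) y) = φ (((Equiv.mulLeft (⟨s, hs⟩ : T0)) t : T0) : Γ) y := by
      intro t
      simp [map_mul, MulAut.mul_apply]
    simp_rw [this]
    exact Fintype.prod_equiv (Equiv.mulLeft (⟨s, hs⟩ : T0)) _ _ (fun t => rfl)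
  -- fixed points and commutator
  let C : Subgroup Y :=
    { carrier := {y | ∀ t ∈ T0, φ t y = y}
      mul_mem' := by
        intro a b ha hb t ht
        rw [map_mul, ha t ht, hb t ht]
      one_mem' := by
        intro t _
        exact map_one _
      inv_mem' := by
        intro a ha t ht
        rw [map_inv, ha t ht] }
  have hCmem : ∀ y, y ∈ C ↔ ∀ t ∈ T0, φ t y = y := fun y => Iff.rfl
  let D : Subgroup Y := Subgroup.closure {d | ∃ t ∈ T0, ∃ y : Y, d = φ t y * y⁻¹}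
  have hgen : ∀ t ∈ T0, ∀ y : Y, φ t y * y⁻¹ ∈ D := fun t ht y => Subgroup.subset_closure ⟨t, ht, y, rfl⟩
  have hND : ∀ d ∈ D, N d = 1 := by
    have : D ≤ N.ker := by
      rw [Subgroup.closure_le]
      rintro _ ⟨t, ht, y, rfl⟩
      show N (φ t y * y⁻¹) = 1
      rw [map_mul, map_inv, hNphi t ht, mul_inv_cancel]
    intro d hd
    exact this hd
  have hNC : ∀ c ∈ C, N c = c ^ n := by
    intro c hc
    rw [hN]
    have : ∀ t : T0, φ (t : Γ) c = c := fun t => hc t t.2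
    simp_rw [this]
    rw [Finset.prod_const, Finset.card_univ]
  have hpow1 : ∀ y : Y, y ^ n = 1 → y = 1 := by
    intro y hy
    have := (pow_gcd_eq_one (a := y) (m := n) (n := p)).2 ⟨hy, hexpY y⟩
    rw [Nat.Coprime.gcd_eq_one hncop, pow_one] at this
    exact this
  have hCD : C ⊓ D = ⊥ := by
    rw [eq_bot_iff]
    intro y hy
    rw [Subgroup.mem_inf] at hy
    rw [Subgroup.mem_bot]
    apply hpow1
    rw [← hNC y hy.1]
    exact hND y hy.2
  have hsup : C ⊔ D = ⊤ := by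
    rw [eq_top_iff]
    intro y _
    have h1 : y ^ n = N y * ∏ t : T0, (y * (φ (t : Γ) y)⁻¹) := by
      rw [Finset.prod_mul_distrib, Finset.prod_inv_distrib, Finset.prod_const, Finset.card_univ, ← hN]
      rw [mul_comm (y ^ Fintype.card T0), ← mul_assoc, mul_inv_cancel, one_mul]
    have h2 : N y ∈ C := fun t ht => hphiN t ht y
    have h3 : ∏ t : T0, (y * (φ (t : Γ) y)⁻¹) ∈ D := by
      apply Subgroup.prod_mem
      intro t _
      have := D.inv_mem (hgen t t.2 y)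
      rwa [mul_inv_rev, inv_inv] at this
    have h4 : y ^ n ∈ C ⊔ D := by
      rw [h1]
      exact Subgroup.mul_mem_sup h2 h3
    obtain ⟨m, -, hm⟩ := Nat.exists_mul_mod_eq_one_of_coprime hncop hp.one_lt
    have h5 : (y ^ n) ^ m = y := by
      rw [← pow_mul, pow_eq_pow_mod (n * m) (hexpY y), hm, pow_one]
    rw [← h5]
    exact Subgroup.pow_mem _ h4 m
  have hD1 : D ≠ ⊥ := by
    obtain ⟨t, ht1⟩ := (Subgroup.ne_bot_iff_exists_ne_one (H := T0)).1 hT01
    have hφt : φ (t : Γ) ≠ 1 := by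
      intro h
      apply ht1
      have : (t : Γ) = 1 := hφ (by rw [h, map_one])
      exact Subtype.ext this
    have : ∃ y, φ (t : Γ) y ≠ y := by
      by_contra hcon
      apply hφt
      ext y
      by_contra hy
      exact hcon ⟨y, hy⟩
    obtain ⟨y, hy⟩ := this
    intro hD
    have := hgen t t.2 y
    rw [hD, Subgroup.mem_bot] at this
    apply hy
    rwa [mul_inv_eq_one] at this
  -- invariance under `A`
  have hAinv : ∀ a ∈ A, a⁻¹ ∈ A := fun a ha => A.inv_mem ha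
  have hCinv : ∀ a ∈ A, ∀ v ∈ C, φ a v ∈ C := by
    intro a ha v hv t ht
    have h1 : a⁻¹ * t * a⁻¹⁻¹ ∈ T0 := hAT0 a⁻¹ (hAinv a ha) t ht
    have h2 : t * a = a * (a⁻¹ * t * a⁻¹⁻¹) := by group
    calc φ t (φ a v) = φ (t * a) v := by rw [map_mul, MulAut.mul_apply]
      _ = φ (a * (a⁻¹ * t * a⁻¹⁻¹)) v := by rw [h2]
      _ = φ a (φ (a⁻¹ * t * a⁻¹⁻¹) v) := by rw [map_mul, MulAut.mul_apply]
      _ = φ a v := by rw [hv _ h1]
  have hDinv : ∀ a ∈ A, ∀ v ∈ D, φ a v ∈ D := by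
    intro a ha v hv
    have : D ≤ D.comap (φ a).toMonoidHom := by
      rw [Subgroup.closure_le]
      rintro _ ⟨t, ht, y, rfl⟩
      show φ a (φ t y * y⁻¹) ∈ D
      have h1 : a * t * a⁻¹ ∈ T0 := hAT0 a ha t ht
      have h2 : φ a (φ t y * y⁻¹) = φ (a * t * a⁻¹) (φ a y) * (φ a y)⁻¹ := by
        rw [map_mul, map_inv]
        congr 1
        rw [← MulAut.mul_apply, ← MulAut.mul_apply, ← map_mul, ← map_mul]
        congr 2
        group
      rw [h2]
      exact hgen _ h1 _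
    exact this hv
  -- dichotomy
  have hCbot : C = ⊥ := by
    rcases hdich D hDinv with hDZ | hZD
    · rcases hdich C hCinv with hCZ | hZC
      · exfalso
        apply hZtop
        rw [eq_top_iff, ← hsup]
        exact sup_le hCZ hDZ
      · exfalso
        apply hD1
        rw [eq_bot_iff, ← hCD]
        exact le_inf (hDZ.trans hZC) le_rfl
    · rcases hdich C hCinv with hCZ | hZC
      · rw [eq_bot_iff, ← hCD]
        exact le_inf le_rfl (hCZ.trans hZD)
      · exfalso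
        apply hZ1
        rw [eq_bot_iff, ← hCD]
        exact le_inf hZC hZD
  intro y hy
  have : y ∈ C := hy
  rw [hCbot, Subgroup.mem_bot] at this
  exact this

theorem module_fixed_trivial {Γ Y : Type*} [Group Γ] [Finite Γ] [Group Y] [Finite Y] (p : ℕ)
    [Fact p.Prime] (φ : Γ →* MulAut Y) (hφ : Function.Injective φ)
    (hYc : ∀ x y : Y, x * y = y * x) (hexpY : ∀ y : Y, y ^ p = 1)
    (A : Subgroup Γ) (Z : Subgroup Y) (hZ1 : Z ≠ ⊥) (hZtop : Z ≠ ⊤)
    (hdich : ∀ V : Subgroup Y, (∀ a ∈ A, ∀ v ∈ V, φ a v ∈ V) → V ≤ Z ∨ Z ≤ V)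
    (T0 : Subgroup Γ) (hT0 : (Nat.card T0).Coprime p) (hT01 : T0 ≠ ⊥)
    (hAT0 : ∀ a ∈ A, ∀ t ∈ T0, a * t * a⁻¹ ∈ T0) :
    ∀ y : Y, (∀ t ∈ T0, φ t y = y) → y = 1 := by
  letI : CommGroup Y := { (inferInstance : Group Y) with mul_comm := hYc }
  exact module_fixed_trivial_aux p φ hφ hexpY A Z hZ1 hZtop hdich T0 hT0 hT01 hAT0

end Cfsg.Agent.Lib.Helper87.SPL
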