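import Mathlib
import Cfsg.Prelude.Def_Solvable
import Cfsg.Prelude.Def_Local
import Cfsg.Prelude.Def_SolvableStructure
import Cfsg.Agent.Lib.Helper41.SchmidtPLDefs
import Cfsg.Agent.Lib.Helper81.Cores

/-!
# K-SPL-M3a (keystone 439416, architect helper41): module lemma, part 2 (a minimal invariant `p'`-subgroup with
nontrivial faithful action).
-/

set_option autoImplicit false

namespace Cfsg.Agent.Lib.Helper87.SPL

open Cfsg Cfsg.Agent.Lib.Helper41.SchmidtPL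
open scoped commutatorElement

/-- coprime stability, elementwise, general form. -/
theorem eq_one_of_conj_eq_mul_of_coprime {X : Type*} [Group X] {k m x : X}
    (hkm : k * m = m * k) (hx : k * x * k⁻¹ = m * x) (hcop : (orderOf m).Coprime (orderOf k)) : m = 1 := by
  have hc : Commute k m := hkm
  have key : ∀ n : ℕ, k ^ n * x * (k ^ n)⁻¹ = m ^ n * x := by
    intro n
    induction n with
    | zero => simp
    | succ n ih =>
      have hkmn : k * m ^ n * k⁻¹ = m ^ n := by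
        rw [(hc.pow_right n).eq, mul_inv_cancel_right]
      calc k ^ (n + 1) * x * (k ^ (n + 1))⁻¹ = k * (k ^ n * x * (k ^ n)⁻¹) * k⁻¹ := by
            rw [pow_succ']; group
        _ = k * (m ^ n * x) * k⁻¹ := by rw [ih]
        _ = (k * m ^ n * k⁻¹) * (k * x * k⁻¹) := by group
        _ = m ^ n * (m * x) := by rw [hx, hkmn]
        _ = m ^ (n + 1) * x := by rw [pow_succ, mul_assoc]
  have h1 := key (orderOf k)
  rw [pow_orderOf_eq_one, one_mul, inv_one, mul_one] at h1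
  have h2 : m ^ orderOf k = 1 := by
    have := congrArg (· * x⁻¹) h1
    simpa using this.symm
  have hdvd : orderOf m ∣ orderOf k := orderOf_dvd_of_pow_eq_one h2
  have : orderOf m = 1 := Nat.Coprime.eq_one_of_dvd hcop hdvd
  exact orderOf_eq_one_iff.1 this

theorem exists_min_faithful {Γ Y : Type*} [Group Γ] [Finite Γ] [Group Y] [Finite Y] (p : ℕ)
    [Fact p.Prime] (φ : Γ →* MulAut Y) (hφ : Function.Injective φ)
    (A : Subgroup Γ) (hAexp : ∀ a ∈ A, a ^ p = 1) (hA1 : A ≠ ⊥)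
    (hT : Subgroup.centralizer (Cfsg.pPrimeCore p Γ : Set Γ) ≤ Cfsg.pPrimeCore p Γ)
    (Z : Subgroup Y) (hfix : ∀ a ∈ A, ∀ z ∈ Z, φ a z = z)
    (hcomm : ∀ a ∈ A, ∀ y : Y, φ a y * y⁻¹ ∈ Z)
    (hM2 : ∀ T0 : Subgroup Γ, (Nat.card T0).Coprime p → T0 ≠ ⊥ →
      (∀ a ∈ A, ∀ t ∈ T0, a * t * a⁻¹ ∈ T0) → ∀ y : Y, (∀ t ∈ T0, φ t y = y) → y = 1) :
    ∃ T1 : Subgroup Γ, (Nat.card T1).Coprime p ∧ (∀ a ∈ A, ∀ t ∈ T1, a * t * a⁻¹ ∈ T1) ∧
      (∃ a ∈ A, ∃ t ∈ T1, a * t ≠ t * a) ∧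
      (∀ T0 : Subgroup Γ, T0 ≤ T1 → T0 ≠ T1 → (∀ a ∈ A, ∀ t ∈ T0, a * t * a⁻¹ ∈ T0) →
        ∀ a ∈ A, ∀ t ∈ T0, a * t = t * a) ∧
      (∀ a ∈ A, (∀ t ∈ T1, a * t = t * a) → a = 1) := by
  classical
  have hp : p.Prime := Fact.out
  set T : Subgroup Γ := Cfsg.pPrimeCore p Γ with hTdef
  have hTn : T.Normal := Cfsg.Agent.Lib.Helper81.pPrimeCore_normal p
  have hTc : (Nat.card T).Coprime p := Cfsg.Agent.Lib.Helper81.card_pPrimeCore_coprime p
  -- orders of elements of `A`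
  have hAord : ∀ a ∈ A, orderOf a ∣ p := fun a ha => orderOf_dvd_of_pow_eq_one (hAexp a ha)
  have hcop : ∀ (T' : Subgroup Γ), (Nat.card T').Coprime p → ∀ a ∈ A, ∀ m ∈ T', (orderOf m).Coprime (orderOf a) := by
    intro T' hT' a ha m hm
    have h1 : orderOf m ∣ Nat.card T' := by
      have := orderOf_dvd_natCard (⟨m, hm⟩ : T')
      rwa [Subgroup.orderOf_mk] at this
    exact Nat.Coprime.coprime_dvd_left h1 (Nat.Coprime.coprime_dvd_right (hAord a ha) hT')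
  -- the set of candidates
  let S : Set (Subgroup Γ) := {T' | (Nat.card T').Coprime p ∧ (∀ a ∈ A, ∀ t ∈ T', a * t * a⁻¹ ∈ T') ∧
    ∃ a ∈ A, ∃ t ∈ T', a * t ≠ t * a}
  have hTS : T ∈ S := by
    refine ⟨hTc, fun a _ t ht => hTn.conj_mem t ht a, ?_⟩
    by_contra hcon
    obtain ⟨a, ha1⟩ := (Subgroup.ne_bot_iff_exists_ne_one (H := A)).1 hA1
    have haT : (a : Γ) ∈ T := by
      apply hT
      rw [Subgroup.mem_centralizer_iff]
      intro t ht
      by_contra hne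
      exact hcon ⟨a, a.2, t, ht, fun h => hne h.symm⟩
    have h1 : orderOf (a : Γ) ∣ Nat.card T := by
      have := orderOf_dvd_natCard (⟨a, haT⟩ : T)
      rwa [Subgroup.orderOf_mk] at this
    have h2 : orderOf (a : Γ) ∣ p := hAord a a.2
    have h3 : orderOf (a : Γ) = 1 := Nat.Coprime.eq_one_of_dvd (Nat.Coprime.coprime_dvd_left h1 hTc) h2
    apply ha1
    exact Subtype.ext (orderOf_eq_one_iff.1 h3)
  -- a minimal candidate
  obtain ⟨T1, hT1S, hT1min⟩ := WellFounded.has_min (wellFounded_lt (α := Subgroup Γ)) S ⟨T, hTS⟩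
  obtain ⟨hT1c, hT1inv, hT1nt⟩ := hT1S
  have hmin : ∀ T0 : Subgroup Γ, T0 ≤ T1 → T0 ≠ T1 → (∀ a ∈ A, ∀ t ∈ T0, a * t * a⁻¹ ∈ T0) →
      ∀ a ∈ A, ∀ t ∈ T0, a * t = t * a := by
    intro T0 hle hne hinv a ha t ht
    by_contra hat
    have hT0S : T0 ∈ S := by
      refine ⟨?_, hinv, a, ha, t, ht, hat⟩
      exact Nat.Coprime.coprime_dvd_left (Subgroup.card_dvd_of_le hle) hT1c
    exact hT1min T0 hT0S (lt_of_le_of_ne hle hne)
  refine ⟨T1, hT1c, hT1inv, hT1nt, hmin, ?_⟩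
  -- `[A, T1] = T1`
  have hAinv : ∀ a ∈ A, a⁻¹ ∈ A := fun a ha => A.inv_mem ha
  have hATle : ⁅A, T1⁆ ≤ T1 := by
    rw [Subgroup.commutator_le]
    intro a ha t ht
    rw [commutatorElement_def]
    exact T1.mul_mem (hT1inv a ha t ht) (T1.inv_mem ht)
  have hAA : ∀ a ∈ A, ∀ x ∈ A, a * x * a⁻¹ ∈ A := fun a ha x hx => A.mul_mem (A.mul_mem ha hx) (A.inv_mem ha)
  have hATinv : ∀ a ∈ A, ∀ x ∈ ⁅A, T1⁆, a * x * a⁻¹ ∈ ⁅A, T1⁆ := by
    intro a ha x hx
    have hmap : (⁅A, T1⁆).map (MulAut.conj a).toMonoidHom ≤ ⁅A, T1⁆ := by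
      rw [Subgroup.map_commutator]
      apply Subgroup.commutator_mono
      · rintro _ ⟨b, hb, rfl⟩
        exact hAA a ha b hb
      · rintro _ ⟨b, hb, rfl⟩
        exact hT1inv a ha b hb
    exact hmap ⟨x, hx, rfl⟩
  have hAT : ⁅A, T1⁆ = T1 := by
    by_contra hne
    have hM := hmin _ hATle hne hATinv
    obtain ⟨a, ha, t, ht, hat⟩ := hT1nt
    apply hat
    have hm : ⁅a, t⁆ ∈ ⁅A, T1⁆ := Subgroup.commutator_mem_commutator ha ht
    have hm1 : ⁅a, t⁆ = 1 := by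
      apply eq_one_of_conj_eq_mul_of_coprime (k := a) (x := t) (hM a ha _ hm)
      · rw [commutatorElement_def]; group
      · exact hcop T1 hT1c a ha _ (hATle hm)
    rw [commutatorElement_def] at hm1
    have := congrArg (· * t * a) hm1
    simpa [mul_assoc] using this
  intro b hb hbT
  -- the subgroup `W0`
  let W0 : Subgroup Y := Subgroup.closure {w | ∃ y : Y, w = φ b y * y⁻¹}
  have hW0Z : W0 ≤ Z := by
    rw [Subgroup.closure_le]
    rintro _ ⟨y, rfl⟩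
    exact hcomm b hb y
  have hW0T : ∀ t ∈ T1, ∀ w ∈ W0, φ t w ∈ W0 := by
    intro t ht w hw
    have : W0 ≤ W0.comap (φ t).toMonoidHom := by
      rw [Subgroup.closure_le]
      rintro _ ⟨y, rfl⟩
      show φ t (φ b y * y⁻¹) ∈ W0
      have h2 : φ t (φ b y * y⁻¹) = φ b (φ t y) * (φ t y)⁻¹ := by
        rw [map_mul, map_inv]
        congr 1
        rw [← MulAut.mul_apply, ← MulAut.mul_apply, ← map_mul, ← map_mul, hbT t ht]
      rw [h2]
      exact Subgroup.subset_closure ⟨_, rfl⟩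
    exact this hw
  have hW0A : ∀ a ∈ A, ∀ w ∈ W0, φ a w = w := fun a ha w hw => hfix a ha w (hW0Z hw)
  -- the elements of `T1` fixing `W0` pointwise
  let T1' : Subgroup Γ :=
    { carrier := {t | t ∈ T1 ∧ ∀ w ∈ W0, φ t w = w}
      mul_mem' := by
        rintro s t ⟨hs, hs2⟩ ⟨ht, ht2⟩
        refine ⟨T1.mul_mem hs ht, fun w hw => ?_⟩
        rw [map_mul, MulAut.mul_apply, ht2 w hw, hs2 w hw]
      one_mem' := ⟨T1.one_mem, fun w _ => by rw [map_one]; rfl⟩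
      inv_mem' := by
        rintro t ⟨ht, ht2⟩
        refine ⟨T1.inv_mem ht, fun w hw => ?_⟩
        have := ht2 w hw
        rw [map_inv]
        conv_lhs => rw [← this]
        rw [← MulAut.mul_apply, inv_mul_cancel]
        rfl }
  have hcomT1' : ⁅A, T1⁆ ≤ T1' := by
    rw [Subgroup.commutator_le]
    intro a ha t ht
    refine ⟨hATle (Subgroup.commutator_mem_commutator ha ht), fun w hw => ?_⟩
    rw [commutatorElement_def]
    have h1 : φ t⁻¹ w ∈ W0 := hW0T _ (T1.inv_mem ht) w hw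
    have h2 : φ a⁻¹ (φ t⁻¹ w) = φ t⁻¹ w := hW0A a⁻¹ (hAinv a ha) _ h1
    have h3 : φ t (φ t⁻¹ w) = w := by
      rw [← MulAut.mul_apply, ← map_mul, mul_inv_cancel, map_one]; rfl
    calc φ (a * t * a⁻¹ * t⁻¹) w = φ a (φ t (φ a⁻¹ (φ t⁻¹ w))) := by
          simp only [map_mul, MulAut.mul_apply]
      _ = φ a (φ t (φ t⁻¹ w)) := by rw [h2]
      _ = φ a w := by rw [h3]
      _ = w := hW0A a ha w hw
  have hT1fix : ∀ t ∈ T1, ∀ w ∈ W0, φ t w = w := by
    intro t ht w hw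
    have : t ∈ T1' := hcomT1' (by rw [hAT]; exact ht)
    exact this.2 w hw
  have hT1ne : T1 ≠ ⊥ := by
    intro h
    obtain ⟨a, ha, t, ht, hat⟩ := hT1nt
    rw [h, Subgroup.mem_bot] at ht
    apply hat
    rw [ht, mul_one, one_mul]
  have hW0bot : ∀ w ∈ W0, w = 1 := fun w hw => hM2 T1 hT1c hT1ne hT1inv w (fun t ht => hT1fix t ht w hw)
  apply hφ
  rw [map_one]
  ext y
  have := hW0bot _ (Subgroup.subset_closure ⟨y, rfl⟩ : φ b y * y⁻¹ ∈ W0)
  rw [mul_inv_eq_one] at this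
  exact this

end Cfsg.Agent.Lib.Helper87.SPL
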