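import Mathlib
import Cfsg.Prelude.Def_GeometricClasses
import Cfsg.Agent.Lib.Helper61.AschDefs
import Cfsg.Agent.Lib.Helper43.SpAschDefs
import Cfsg.Agent.Lib.Helper43.SpAschDefs2

/-!
# K-SpAsch-D2m: the extraspecial group inside a symplectic group is of minus type

Commuting involutive isometries with vanishing traces: the group-algebra idempotents split the space into at least
`|A| / 2` nonzero nondegenerate (hence at least two-dimensional) pieces.
-/

set_option autoImplicit false

namespace Cfsg.Agent.Lib.Helper87.SpAsch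

open Cfsg Cfsg.Geo Cfsg.Agent.Lib.Helper61.Asch Cfsg.Agent.Lib.Helper43.SpAsch
open scoped Matrix Kronecker MatrixGroups

section Aux

variable {F : Type*} [Field F] {n : ℕ}

local notation "V" => (Fin n → F)
local notation "Mat" => Matrix (Fin n) (Fin n) F

/-- `e` is self-adjoint for the form `f`. -/
def SelfAdj (f : V → V → F) (e : Mat) : Prop := ∀ u v : V, f (e *ᵥ u) v = f u (e *ᵥ v)

theorem selfAdj_one (f : V → V → F) : SelfAdj f (1 : Mat) := fun u v => by simp

theorem SelfAdj.mul {f : V → V → F} {a b : Mat} (ha : SelfAdj f a) (hb : SelfAdj f b) (hab : a * b = b * a) :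
    SelfAdj f (a * b) := by
  intro u v
  rw [← Matrix.mulVec_mulVec, ha, hb, Matrix.mulVec_mulVec, hab]

theorem SelfAdj.add {f : V → V → F} (hf : IsBilinearForm f) {a b : Mat} (ha : SelfAdj f a) (hb : SelfAdj f b) :
    SelfAdj f (a + b) := by
  intro u v
  rw [Matrix.add_mulVec, Matrix.add_mulVec, hf.add_left, hf.add_right, ha, hb]

theorem SelfAdj.sub {f : V → V → F} (hf : IsBilinearForm f) {a b : Mat} (ha : SelfAdj f a) (hb : SelfAdj f b) :
    SelfAdj f (a - b) := by
  intro u v
  have hneg : ∀ w z : V, f (-w) z = - f w z := by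
    intro w z
    have := hf.smul_left (-1) w z
    simpa using this
  have hneg' : ∀ w z : V, f w (-z) = - f w z := by
    intro w z
    have := hf.smul_right (-1) w z
    simpa using this
  rw [Matrix.sub_mulVec, Matrix.sub_mulVec, sub_eq_add_neg, sub_eq_add_neg, hf.add_left, hf.add_right, hneg, hneg',
    ha, hb]

theorem SelfAdj.smul {f : V → V → F} (hf : IsBilinearForm f) {a : Mat} (ha : SelfAdj f a) (c : F) :
    SelfAdj f (c • a) := by
  intro u v
  rw [Matrix.smul_mulVec, Matrix.smul_mulVec, hf.smul_left, hf.smul_right, ha]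

/-- A nonzero self-adjoint idempotent has rank at least two. -/
theorem two_le_rank {f : V → V → F} (hf : IsSymplecticForm f) {e : Mat} (he : e * e = e) (hsa : SelfAdj f e)
    (h0 : e ≠ 0) : 2 ≤ e.rank := by
  have hex : ∃ v : V, e *ᵥ v ≠ 0 := by
    by_contra hcon
    push_neg at hcon
    apply h0
    apply Matrix.toLin'.injective
    apply LinearMap.ext
    intro v
    simpa using hcon v
  obtain ⟨v, hv⟩ := hex
  set u : V := e *ᵥ v with hu
  have heu : e *ᵥ u = u := by rw [hu, Matrix.mulVec_mulVec, he]
  obtain ⟨-, w, hw⟩ := hf.nondegenerate u hv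
  have hw' : f u (e *ᵥ w) ≠ 0 := by
    rw [← hsa, heu]; exact hw
  -- two independent vectors in the range
  have hli : LinearIndependent F ![u, e *ᵥ w] := by
    rw [LinearIndependent.pair_iff]
    intro s t hst
    have h1 : f u (s • u + t • (e *ᵥ w)) = 0 := by rw [hst]; simpa using hf.bilinear.smul_right 0 u 0
    rw [hf.bilinear.add_right, hf.bilinear.smul_right, hf.bilinear.smul_right, hf.alternating, mul_zero,
      zero_add] at h1
    have ht : t = 0 := by
      rcases mul_eq_zero.mp h1 with h | h
      · exact h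
      · exact absurd h hw'
    rw [ht, zero_smul, add_zero] at hst
    have hs : s = 0 := by
      rcases smul_eq_zero.mp hst with h | h
      · exact h
      · exact absurd h hv
    exact ⟨hs, ht⟩
  have hmem : ∀ i, ![u, e *ᵥ w] i ∈ LinearMap.range e.mulVecLin := by
    intro i
    fin_cases i
    · exact ⟨v, rfl⟩
    · exact ⟨w, rfl⟩
  have hli' : LinearIndependent F (fun i => (⟨![u, e *ᵥ w] i, hmem i⟩ : LinearMap.range e.mulVecLin)) := by
    apply LinearIndependent.of_comp (LinearMap.range e.mulVecLin).subtype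
    exact hli
  have := hli'.fintype_card_le_finrank
  simpa [Matrix.rank] using this

/-- Ranks of orthogonal idempotents below `e` add up to at most the rank of `e`. -/
theorem rank_add_le {e e₁ e₂ : Mat} (h1 : e * e₁ = e₁) (h2 : e * e₂ = e₂) (h11 : e₁ * e₁ = e₁)
    (h12 : e₁ * e₂ = 0) : e₁.rank + e₂.rank ≤ e.rank := by
  unfold Matrix.rank
  have hle1 : LinearMap.range e₁.mulVecLin ≤ LinearMap.range e.mulVecLin := by
    rintro _ ⟨v, rfl⟩
    refine ⟨e₁ *ᵥ v, ?_⟩
    simp only [Matrix.mulVecLin_apply]
    rw [Matrix.mulVec_mulVec, h1]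
  have hle2 : LinearMap.range e₂.mulVecLin ≤ LinearMap.range e.mulVecLin := by
    rintro _ ⟨v, rfl⟩
    refine ⟨e₂ *ᵥ v, ?_⟩
    simp only [Matrix.mulVecLin_apply]
    rw [Matrix.mulVec_mulVec, h2]
  have hdisj : LinearMap.range e₁.mulVecLin ⊓ LinearMap.range e₂.mulVecLin = ⊥ := by
    rw [eq_bot_iff]
    rintro w ⟨⟨a, ha⟩, ⟨b, hb⟩⟩
    simp only [Matrix.mulVecLin_apply] at ha hb
    have e1 : e₁ *ᵥ w = w := by rw [← ha, Matrix.mulVec_mulVec, h11]
    have e2 : e₁ *ᵥ w = 0 := by rw [← hb, Matrix.mulVec_mulVec, h12, Matrix.zero_mulVec]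
    rw [Submodule.mem_bot, ← e1, e2]
  have hsum := Submodule.finrank_sup_add_finrank_inf_eq (LinearMap.range e₁.mulVecLin)
    (LinearMap.range e₂.mulVecLin)
  rw [hdisj, finrank_bot, add_zero] at hsum
  rw [← hsum]
  exact Submodule.finrank_mono (sup_le hle1 hle2)

open Classical in
/-- The splitting induction. -/
theorem two_mul_card_le {f : V → V → F} (hf : IsSymplecticForm f) (h2 : (2 : F) ≠ 0) (𝔅 : Finset Mat)
    (hmul : ∀ a ∈ 𝔅, ∀ b ∈ 𝔅, a * b ∈ 𝔅) (hcomm : ∀ a ∈ 𝔅, ∀ b ∈ 𝔅, a * b = b * a)
    (hsq : ∀ a ∈ 𝔅, a * a = 1) (hsa : ∀ a ∈ 𝔅, SelfAdj f a) :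
    ∀ (d : ℕ) (e : Mat), e * e = e → SelfAdj f e → (∀ b ∈ 𝔅, e * b = b * e) → e.trace ≠ 0 →
      (∀ b ∈ 𝔅, (e * b).trace = 0 ∨ e * b = e ∨ e * b = -e) →
      𝔅.card - (𝔅.filter (fun b => (e * b).trace ≠ 0)).card = d →
      2 * 𝔅.card ≤ e.rank * (𝔅.filter (fun b => (e * b).trace ≠ 0)).card := by
  intro d
  induction d using Nat.strong_induction_on with
  | _ d ih =>
    intro e he hsae hce htr hH hd
    have hb := hf.bilinear
    have hTsub : 𝔅.filter (fun b => (e * b).trace ≠ 0) ⊆ 𝔅 := Finset.filter_subset _ _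
    have hTcard : (𝔅.filter (fun b => (e * b).trace ≠ 0)).card ≤ 𝔅.card := Finset.card_le_card hTsub
    have he0 : e ≠ 0 := by
      rintro rfl
      simp at htr
    have hr2 := two_le_rank hf he hsae he0
    by_cases hx : ∃ x ∈ 𝔅, (e * x).trace = 0
    · obtain ⟨x, hx𝔅, hxtr⟩ := hx
      have hc0 : (2⁻¹ : F) ≠ 0 := inv_ne_zero h2
      have hc2 : (2⁻¹ : F) * 2 = 1 := inv_mul_cancel₀ h2
      have hxx : x * x = 1 := hsq x hx𝔅
      have hex : e * x = x * e := hce x hx𝔅
      have h_exe : e * x * e = e * x := by rw [mul_assoc, ← hex, ← mul_assoc, he]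
      have h_exex : e * x * (e * x) = e := by rw [← mul_assoc, h_exe, mul_assoc, hxx, mul_one]
      have h_eex : e * (e * x) = e * x := by rw [← mul_assoc, he]
      have hpp : (e + e * x) * (e + e * x) = (2 : F) • (e + e * x) := by
        rw [add_mul, mul_add, mul_add, he, h_eex, h_exe, h_exex, two_smul]
        abel
      have hmm : (e - e * x) * (e - e * x) = (2 : F) • (e - e * x) := by
        rw [sub_mul, mul_sub, mul_sub, he, h_eex, h_exe, h_exex, two_smul]
        abel
      have hpm : (e + e * x) * (e - e * x) = 0 := by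
        rw [add_mul, mul_sub, mul_sub, he, h_eex, h_exe, h_exex]
        abel
      have hmp : (e - e * x) * (e + e * x) = 0 := by
        rw [sub_mul, mul_add, mul_add, he, h_eex, h_exe, h_exex]
        abel
      set ep : Mat := (2⁻¹ : F) • (e + e * x) with hep
      set em : Mat := (2⁻¹ : F) • (e - e * x) with hem
      have hcc : (2⁻¹ : F) * 2⁻¹ * 2 = 2⁻¹ := by rw [mul_assoc, hc2, mul_one]
      have hepep : ep * ep = ep := by
        rw [hep, smul_mul_smul_comm, hpp, smul_smul, hcc]
      have hemem : em * em = em := by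
        rw [hem, smul_mul_smul_comm, hmm, smul_smul, hcc]
      have hepem : ep * em = 0 := by
        rw [hep, hem, smul_mul_smul_comm, hpm, smul_zero]
      have hemep : em * ep = 0 := by
        rw [hep, hem, smul_mul_smul_comm, hmp, smul_zero]
      have heep : e * ep = ep := by
        rw [hep, mul_smul_comm, mul_add, he, h_eex]
      have heem : e * em = em := by
        rw [hem, mul_smul_comm, mul_sub, he, h_eex]
      have hsaex : SelfAdj f (e * x) := hsae.mul (hsa x hx𝔅) hex
      have hsap : SelfAdj f ep := (hsae.add hb hsaex).smul hb _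
      have hsam : SelfAdj f em := (hsae.sub hb hsaex).smul hb _
      have hexb : ∀ b ∈ 𝔅, e * x * b = b * (e * x) := by
        intro b hb'
        rw [mul_assoc, hcomm x hx𝔅 b hb', ← mul_assoc, hce b hb', mul_assoc]
      have hcp : ∀ b ∈ 𝔅, ep * b = b * ep := by
        intro b hb'
        rw [hep, smul_mul_assoc, mul_smul_comm, add_mul, mul_add, hce b hb', hexb b hb']
      have hcm : ∀ b ∈ 𝔅, em * b = b * em := by
        intro b hb'
        rw [hem, smul_mul_assoc, mul_smul_comm, sub_mul, mul_sub, hce b hb', hexb b hb']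
      have htrp : ep.trace ≠ 0 := by
        rw [hep, Matrix.trace_smul, Matrix.trace_add, hxtr, add_zero, smul_eq_mul]
        exact mul_ne_zero hc0 htr
      have htrm : em.trace ≠ 0 := by
        rw [hem, Matrix.trace_smul, Matrix.trace_sub, hxtr, sub_zero, smul_eq_mul]
        exact mul_ne_zero hc0 htr
      -- the action on the two pieces
      have hepb : ∀ b : Mat, ep * b = (2⁻¹ : F) • (e * b + e * (x * b)) := by
        intro b
        rw [hep, smul_mul_assoc, add_mul, mul_assoc e x b]
      have hemb : ∀ b : Mat, em * b = (2⁻¹ : F) • (e * b - e * (x * b)) := by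
        intro b
        rw [hem, smul_mul_assoc, sub_mul, mul_assoc e x b]
      have hA : ∀ b : Mat, e * b = e → e * (x * b) = e * x := by
        intro b h
        rw [← mul_assoc, hex, mul_assoc, h]
      have hA' : ∀ b : Mat, e * b = -e → e * (x * b) = -(e * x) := by
        intro b h
        rw [← mul_assoc, hex, mul_assoc, h, mul_neg]
      have hxxb : ∀ b : Mat, x * (x * b) = b := by
        intro b
        rw [← mul_assoc, hxx, one_mul]
      have hHp : ∀ b ∈ 𝔅, (ep * b).trace = 0 ∨ ep * b = ep ∨ ep * b = -ep := by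
        intro b hb'
        have hy : x * b ∈ 𝔅 := hmul x hx𝔅 b hb'
        rcases hH b hb' with h1 | h1 | h1
        · rcases hH (x * b) hy with h2' | h2' | h2'
          · left
            rw [hepb, Matrix.trace_smul, Matrix.trace_add, h1, h2', add_zero, smul_zero]
          · right; left
            have := hA (x * b) h2'
            rw [hxxb] at this
            rw [hepb, this, h2', hep, add_comm]
          · right; right
            have := hA' (x * b) h2'
            rw [hxxb] at this
            rw [hepb, this, h2', hep, ← smul_neg, neg_add, add_comm]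
        · right; left
          rw [hepb, h1, hA b h1]
        · right; right
          rw [hepb, h1, hA' b h1, hep, ← smul_neg, neg_add]
      have hHm : ∀ b ∈ 𝔅, (em * b).trace = 0 ∨ em * b = em ∨ em * b = -em := by
        intro b hb'
        have hy : x * b ∈ 𝔅 := hmul x hx𝔅 b hb'
        rcases hH b hb' with h1 | h1 | h1
        · rcases hH (x * b) hy with h2' | h2' | h2'
          · left
            rw [hemb, Matrix.trace_smul, Matrix.trace_sub, h1, h2', sub_zero, smul_zero]
          · right; right
            have := hA (x * b) h2'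
            rw [hxxb] at this
            rw [hemb, this, h2', hem, ← smul_neg, neg_sub]
          · right; left
            have := hA' (x * b) h2'
            rw [hxxb] at this
            rw [hemb, this, h2', hem]
            congr 1
            abel
        · right; left
          rw [hemb, h1, hA b h1]
        · right; right
          rw [hemb, h1, hA' b h1, hem, ← smul_neg]
          congr 1
          abel
      -- the counting sets
      have hTp_sub : 𝔅.filter (fun b => (e * b).trace ≠ 0) ⊆ 𝔅.filter (fun b => (ep * b).trace ≠ 0) := by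
        intro b hb'
        rw [Finset.mem_filter] at hb' ⊢
        refine ⟨hb'.1, ?_⟩
        rcases hH b hb'.1 with h1 | h1 | h1
        · exact absurd h1 hb'.2
        · rw [hepb, h1, hA b h1, ← hep]; exact htrp
        · rw [hepb, h1, hA' b h1, ← neg_add, smul_neg, ← hep, Matrix.trace_neg]
          exact neg_ne_zero.mpr htrp
      have hTm_sub : 𝔅.filter (fun b => (e * b).trace ≠ 0) ⊆ 𝔅.filter (fun b => (em * b).trace ≠ 0) := by
        intro b hb'
        rw [Finset.mem_filter] at hb' ⊢
        refine ⟨hb'.1, ?_⟩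
        rcases hH b hb'.1 with h1 | h1 | h1
        · exact absurd h1 hb'.2
        · rw [hemb, h1, hA b h1, ← hem]; exact htrm
        · rw [hemb, h1, hA' b h1]
          have : -e - -(e * x) = -(e - e * x) := by abel
          rw [this, smul_neg, ← hem, Matrix.trace_neg]
          exact neg_ne_zero.mpr htrm
      have hxnot : x ∉ 𝔅.filter (fun b => (e * b).trace ≠ 0) := by
        rw [Finset.mem_filter]
        rintro ⟨-, h⟩
        exact h hxtr
      have hxp : x ∈ 𝔅.filter (fun b => (ep * b).trace ≠ 0) := by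
        rw [Finset.mem_filter]
        refine ⟨hx𝔅, ?_⟩
        rw [hepb, hxx, mul_one, Matrix.trace_smul, Matrix.trace_add, hxtr, zero_add, smul_eq_mul]
        exact mul_ne_zero hc0 htr
      have hxm : x ∈ 𝔅.filter (fun b => (em * b).trace ≠ 0) := by
        rw [Finset.mem_filter]
        refine ⟨hx𝔅, ?_⟩
        rw [hemb, hxx, mul_one, Matrix.trace_smul, Matrix.trace_sub, hxtr, zero_sub, smul_eq_mul]
        exact mul_ne_zero hc0 (neg_ne_zero.mpr htr)
      have hltp : (𝔅.filter (fun b => (e * b).trace ≠ 0)).card <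
          (𝔅.filter (fun b => (ep * b).trace ≠ 0)).card :=
        Finset.card_lt_card ⟨hTp_sub, fun h => hxnot (h hxp)⟩
      have hltm : (𝔅.filter (fun b => (e * b).trace ≠ 0)).card <
          (𝔅.filter (fun b => (em * b).trace ≠ 0)).card :=
        Finset.card_lt_card ⟨hTm_sub, fun h => hxnot (h hxm)⟩
      have hTp_le : (𝔅.filter (fun b => (ep * b).trace ≠ 0)).card ≤ 𝔅.card :=
        Finset.card_le_card (Finset.filter_subset _ _)
      have hTm_le : (𝔅.filter (fun b => (em * b).trace ≠ 0)).card ≤ 𝔅.card :=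
        Finset.card_le_card (Finset.filter_subset _ _)
      have hupp : (𝔅.filter (fun b => (ep * b).trace ≠ 0)).card ≤
          2 * (𝔅.filter (fun b => (e * b).trace ≠ 0)).card := by
        have hsub : 𝔅.filter (fun b => (ep * b).trace ≠ 0) ⊆
            𝔅.filter (fun b => (e * b).trace ≠ 0) ∪
              (𝔅.filter (fun b => (e * b).trace ≠ 0)).image (fun b => x * b) := by
          intro b hb'
          rw [Finset.mem_filter] at hb'
          rw [Finset.mem_union, Finset.mem_filter, Finset.mem_image]
          by_cases h1 : (e * b).trace = 0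
          · right
            refine ⟨x * b, ?_, hxxb b⟩
            rw [Finset.mem_filter]
            refine ⟨hmul x hx𝔅 b hb'.1, fun h2' => hb'.2 ?_⟩
            rw [hepb, Matrix.trace_smul, Matrix.trace_add, h1, h2', add_zero, smul_zero]
          · left
            exact ⟨hb'.1, h1⟩
        calc _ ≤ _ := Finset.card_le_card hsub
          _ ≤ _ := Finset.card_union_le _ _
          _ ≤ _ := by
            have := Finset.card_image_le (s := 𝔅.filter (fun b => (e * b).trace ≠ 0)) (f := fun b => x * b)
            omega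
      have hupm : (𝔅.filter (fun b => (em * b).trace ≠ 0)).card ≤
          2 * (𝔅.filter (fun b => (e * b).trace ≠ 0)).card := by
        have hsub : 𝔅.filter (fun b => (em * b).trace ≠ 0) ⊆
            𝔅.filter (fun b => (e * b).trace ≠ 0) ∪
              (𝔅.filter (fun b => (e * b).trace ≠ 0)).image (fun b => x * b) := by
          intro b hb'
          rw [Finset.mem_filter] at hb'
          rw [Finset.mem_union, Finset.mem_filter, Finset.mem_image]
          by_cases h1 : (e * b).trace = 0
          · right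
            refine ⟨x * b, ?_, hxxb b⟩
            rw [Finset.mem_filter]
            refine ⟨hmul x hx𝔅 b hb'.1, fun h2' => hb'.2 ?_⟩
            rw [hemb, Matrix.trace_smul, Matrix.trace_sub, h1, h2', sub_zero, smul_zero]
          · left
            exact ⟨hb'.1, h1⟩
        calc _ ≤ _ := Finset.card_le_card hsub
          _ ≤ _ := Finset.card_union_le _ _
          _ ≤ _ := by
            have := Finset.card_image_le (s := 𝔅.filter (fun b => (e * b).trace ≠ 0)) (f := fun b => x * b)
            omega
      have ihp := ih (𝔅.card - (𝔅.filter (fun b => (ep * b).trace ≠ 0)).card) (by omega) ep hepep hsap hcp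
        htrp hHp rfl
      have ihm := ih (𝔅.card - (𝔅.filter (fun b => (em * b).trace ≠ 0)).card) (by omega) em hemem hsam hcm
        htrm hHm rfl
      have hrank := rank_add_le heep heem hepep hepem
      have h1 : 2 * 𝔅.card ≤ ep.rank * (2 * (𝔅.filter (fun b => (e * b).trace ≠ 0)).card) :=
        ihp.trans (Nat.mul_le_mul_left _ hupp)
      have h2' : 2 * 𝔅.card ≤ em.rank * (2 * (𝔅.filter (fun b => (e * b).trace ≠ 0)).card) :=
        ihm.trans (Nat.mul_le_mul_left _ hupm)
      have h3 : (ep.rank + em.rank) * (𝔅.filter (fun b => (e * b).trace ≠ 0)).card ≤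
          e.rank * (𝔅.filter (fun b => (e * b).trace ≠ 0)).card := Nat.mul_le_mul_right _ hrank
      nlinarith
    · push_neg at hx
      have hT : 𝔅.filter (fun b => (e * b).trace ≠ 0) = 𝔅 := Finset.filter_true_of_mem hx
      rw [hT]
      exact Nat.mul_le_mul_right _ hr2

end Aux

section Main

variable {F : Type*} [Field F] [Fintype F] {n : ℕ}

local notation "V" => (Fin n → F)
local notation "Mat" => Matrix (Fin n) (Fin n) F
local notation "Z" => scalars (Fin n) F

theorem two_ne_zero_of_odd_card (hq : Odd (Fintype.card F)) : (2 : F) ≠ 0 := by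
  intro h
  have hchar : ringChar F = 2 := by
    have hdvd : ringChar F ∣ 2 := by
      have : ((2 : ℕ) : F) = 0 := by simpa using h
      exact (ringChar.spec F 2).mp this
    have hne1 : ringChar F ≠ 1 := CharP.ringChar_ne_one
    rcases (Nat.dvd_prime Nat.prime_two).mp hdvd with h1 | h1
    · exact absurd h1 hne1
    · exact h1
  have := FiniteField.even_card_of_char_two hchar
  rcases hq with ⟨m, hm⟩
  omega

/-- **K-SpAsch-D2m**. -/
theorem isOfMinusType_of_sp {f : V → V → F} (hf : IsSymplecticForm f) (hq : Odd (Fintype.card F))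
    (R : Subgroup (GL (Fin n) F)) (k : ℕ) (hRf : R ≤ isoGL f) (hnk : n = 2 ^ k) (hk : 1 ≤ k)
    (hcard : Nat.card R = 2 ^ (1 + 2 * k)) (hneg : (-1 : GL (Fin n) F) ∈ R)
    (htr : ∀ x ∈ R, x ∈ Z ∨ Matrix.trace ((x : GL (Fin n) F) : Mat) = 0) : IsOfMinusType k R := by
  intro A hAc hAexp
  by_contra hge
  push_neg at hge
  haveI : Finite R := Nat.finite_of_card_ne_zero (by rw [hcard]; positivity)
  haveI : Fintype A := Fintype.ofFinite A
  classical
  have h2 : (2 : F) ≠ 0 := two_ne_zero_of_odd_card hq
  have hnpos : 0 < n := by rw [hnk]; positivity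
  set φ : A → Mat := fun a => (((a : R) : GL (Fin n) F) : Mat) with hφ
  have hφinj : Function.Injective φ := by
    intro a b hab
    exact Subtype.ext (Subtype.ext (Units.ext hab))
  set 𝔅 : Finset Mat := Finset.univ.image φ with h𝔅
  have hcard𝔅 : 𝔅.card = Nat.card A := by
    rw [h𝔅, Finset.card_image_of_injective _ hφinj, Finset.card_univ, Nat.card_eq_fintype_card]
  have hφmul : ∀ a b : A, φ (a * b) = φ a * φ b := fun a b => rfl
  have hφone : φ 1 = 1 := rfl
  have hall : ∀ (P : Mat → Prop), (∀ a : A, P (φ a)) → ∀ b ∈ 𝔅, P b := by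
    intro P hP b hb
    obtain ⟨a, -, rfl⟩ := Finset.mem_image.mp hb
    exact hP a
  have hsqA : ∀ a : A, a * a = 1 := by
    intro a
    apply Subtype.ext
    exact hAexp (a : R) a.2
  have hmul : ∀ a ∈ 𝔅, ∀ b ∈ 𝔅, a * b ∈ 𝔅 := by
    intro a ha b hb
    obtain ⟨a', -, rfl⟩ := Finset.mem_image.mp ha
    obtain ⟨b', -, rfl⟩ := Finset.mem_image.mp hb
    exact Finset.mem_image.mpr ⟨a' * b', Finset.mem_univ _, hφmul a' b'⟩
  have hcomm : ∀ a ∈ 𝔅, ∀ b ∈ 𝔅, a * b = b * a := by
    intro a ha b hb
    obtain ⟨a', -, rfl⟩ := Finset.mem_image.mp ha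
    obtain ⟨b', -, rfl⟩ := Finset.mem_image.mp hb
    rw [← hφmul, ← hφmul, hAc.is_comm.comm a' b']
  have hsq : ∀ a ∈ 𝔅, a * a = 1 := by
    apply hall
    intro a
    rw [← hφmul, hsqA a, hφone]
  have hsa : ∀ a ∈ 𝔅, SelfAdj f a := by
    apply hall
    intro a u v
    have hiso := (mem_isoGL_iff f ((a : R) : GL (Fin n) F)).mp (hRf (a : R).2)
    have hgg : φ a *ᵥ (φ a *ᵥ v) = v := by
      rw [Matrix.mulVec_mulVec, ← hφmul, hsqA a, hφone, Matrix.one_mulVec]
    calc f (φ a *ᵥ u) v = f (φ a *ᵥ u) (φ a *ᵥ (φ a *ᵥ v)) := by rw [hgg]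
      _ = f u (φ a *ᵥ v) := hiso u _
  have hH1 : ∀ b ∈ 𝔅, ((1 : Mat) * b).trace = 0 ∨ (1 : Mat) * b = 1 ∨ (1 : Mat) * b = -1 := by
    apply hall
    intro a
    rw [one_mul]
    rcases htr ((a : R) : GL (Fin n) F) (a : R).2 with hz | ht
    · right
      obtain ⟨c, hc⟩ := (mem_scalars_iff _).mp hz
      have hc' : φ a = (c : F) • (1 : Mat) := hc
      have h1 : φ a * φ a = 1 := by rw [← hφmul, hsqA a, hφone]
      rw [hc', smul_mul_smul_comm, mul_one] at h1
      have h3 : (c : F) * c = 1 := by
        have := congrFun (congrFun h1 ⟨0, hnpos⟩) ⟨0, hnpos⟩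
        simpa using this
      have h4 : ((c : F) - 1) * ((c : F) + 1) = 0 := by ring_nf; rw [sq, h3]; ring
      rcases mul_eq_zero.mp h4 with h5 | h5
      · left
        rw [hc', sub_eq_zero.mp h5, one_smul]
      · right
        rw [hc', eq_neg_of_add_eq_zero_left h5, neg_smul, one_smul]
    · left
      exact ht
  have htr1 : (1 : Mat).trace ≠ 0 := by
    rw [Matrix.trace_one, Fintype.card_fin, hnk]
    push_cast
    exact pow_ne_zero k h2
  have key := two_mul_card_le hf h2 𝔅 hmul hcomm hsq hsa _ 1 (one_mul 1) (selfAdj_one f)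
    (fun b _ => by rw [one_mul, mul_one]) htr1 hH1 rfl
  have hT : (𝔅.filter (fun b => ((1 : Mat) * b).trace ≠ 0)).card ≤ 2 := by
    have hsub : 𝔅.filter (fun b => ((1 : Mat) * b).trace ≠ 0) ⊆ {1, -1} := by
      intro b hb
      rw [Finset.mem_filter] at hb
      rw [Finset.mem_insert, Finset.mem_singleton]
      rcases hH1 b hb.1 with h | h | h
      · exact absurd h hb.2
      · left; rw [← h, one_mul]
      · right; rw [← h, one_mul]
    exact (Finset.card_le_card hsub).trans Finset.card_le_two
  have hrank : (1 : Mat).rank = n := by rw [Matrix.rank_one, Fintype.card_fin]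
  rw [hrank, hcard𝔅] at key
  have h5 : 2 * Nat.card A ≤ n * 2 := key.trans (Nat.mul_le_mul_left _ hT)
  have h6 : 2 ^ (k + 1) = 2 * n := by rw [hnk, pow_succ]; ring
  omega

end Main

end Cfsg.Agent.Lib.Helper87.SpAsch
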