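import Cfsg.Agent.Lib.Helper87.Model
import Cfsg.Agent.Lib.Helper56.AxB

set_option autoImplicit false

/-!
General facts on models: the image of a subgroup normal in the system is normal in the model, and the image of a
normal centric subgroup is self-centralizing in the model.
-/

namespace Cfsg.Agent.Lib.Helper87

open Cfsg Cfsg.FusionSystem

section General

variable {Ω : Type*} [Group Ω]

/-- An injective homomorphism mapping the finite subgroup `R` into itself maps it onto itself. -/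
theorem map_subgroupOf_eq_of_forall_mem {A R : Subgroup Ω} [Finite R] (hRA : R ≤ A) (f : A →* Ω)
    (hinj : Function.Injective f) (h : ∀ x : A, (x : Ω) ∈ R → f x ∈ R) :
    (R.subgroupOf A).map f = R := by
  have hle : (R.subgroupOf A).map f ≤ R := by
    rintro _ ⟨x, hx, rfl⟩
    exact h x (Subgroup.mem_subgroupOf.mp hx)
  apply Subgroup.eq_of_le_of_card_ge hle
  rw [Subgroup.card_map_of_injective hinj]
  exact le_of_eq (Nat.card_congr (Subgroup.subgroupOfEquivOfLe hRA).toEquiv).symm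

end General

section ModelNormal

variable {Ω : Type*} [Group Ω] {N : Subgroup Ω} [Finite N] {G : Type*} [Group G]

/-- In a model of a fusion system, the image of a subgroup normal in the system is normal. -/
theorem push_normal_of_isNormal (p : ℕ) [Fact p.Prime]
    (hN : IsPGroup p N) (E : FusionSystem N) (ι : N →* G)
    (hmodel : E.IsModel p G ι) (R : Subgroup Ω) (hR : E.IsNormal R) :
    (push ι R).Normal := by
  obtain ⟨hfin, hreal, ⟨T, hT⟩, hC⟩ := hmodel
  have hinj := hreal.1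
  have hRN : R ≤ N := hR.1
  have hfinR : Finite R := finite_of_le hRN
  have hsc := Cfsg.Agent.Lib.Helper90.IsNormal.stronglyClosed E hR
  have hRnorm : ∀ n ∈ N, ∀ y ∈ R, n * y * n⁻¹ ∈ R :=
    Cfsg.Agent.Lib.Helper90.StronglyClosed.conj_mem E hsc
  have hQn : (Cfsg.pCore p G).Normal := Cfsg.Agent.Lib.Helper52.pCore_normal p G
  have hQT : Cfsg.pCore p G ≤ ι.range := by
    rw [← hT]; exact Cfsg.Agent.Lib.Helper52.pCore_le_sylow p G T
  have hQ'N : pull ι (Cfsg.pCore p G) ≤ N := pull_le ι _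
  refine ⟨fun u hu g => ?_⟩
  have h1 : ∀ x : pull ι (Cfsg.pCore p G), g * ι ⟨x, hQ'N x.2⟩ * g⁻¹ ∈ ι.range := by
    intro x
    obtain ⟨hxN, hx⟩ := mem_pull.mp x.2
    exact hQT (hQn.conj_mem _ hx g)
  have hφg := pullConj_mem_hom E hreal _ hQ'N g h1
  obtain ⟨ψ, hψ, hψφ, hψR⟩ := hR.2 _ _ hφg
  obtain ⟨h, hh⟩ := exists_conj_of_mem_hom E hreal hψ
  -- `h⁻¹ g` centralizes `O_p(G)`
  have hc : h⁻¹ * g ∈ Subgroup.centralizer ((Cfsg.pCore p G : Subgroup G) : Set G) := by
    rw [Subgroup.mem_centralizer_iff]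
    intro q hq
    obtain ⟨n, rfl⟩ := hQT hq
    have hnQ' : (n : Ω) ∈ pull ι (Cfsg.pCore p G) := mem_pull.mpr ⟨n.2, hq⟩
    have e1 := hh (Subgroup.inclusion le_sup_left ⟨n, hnQ'⟩)
    have e2 := ι_pullConj ι hinj _ hQ'N g h1 ⟨n, hnQ'⟩
    have e3 : h * ι n * h⁻¹ = g * ι n * g⁻¹ :=
      e1.symm.trans ((congrArg ι (Subtype.ext (hψφ ⟨n, hnQ'⟩))).trans e2)
    calc ι n * (h⁻¹ * g) = h⁻¹ * (h * ι n * h⁻¹) * g := by group
      _ = h⁻¹ * (g * ι n * g⁻¹) * g := by rw [e3]
      _ = h⁻¹ * g * ι n := by group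
  obtain ⟨n₀, hn₀⟩ := hQT (hC hc)
  obtain ⟨r, hr, rfl⟩ := hu
  have hrR : (r : Ω) ∈ R := hr
  have hr' : (n₀ : Ω) * r * (n₀ : Ω)⁻¹ ∈ R := hRnorm n₀ n₀.2 r hrR
  have hr'PR : (n₀ : Ω) * r * (n₀ : Ω)⁻¹ ∈ pull ι (Cfsg.pCore p G) ⊔ R :=
    (le_sup_right : R ≤ _) hr'
  have e4 := hh ⟨_, hr'PR⟩
  have e5 : g * ι r * g⁻¹ = h * ι (n₀ * r * n₀⁻¹) * h⁻¹ := by
    rw [map_mul, map_mul, map_inv, hn₀]
    group
  rw [e5]
  have e6 : ι (n₀ * r * n₀⁻¹) = ι ⟨((⟨_, hr'PR⟩ : ↥(pull ι (Cfsg.pCore p G) ⊔ R)) : Ω),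
      hom_le E hψ hr'PR⟩ := rfl
  rw [e6, ← e4]
  refine ⟨_, ?_, rfl⟩
  show ψ ⟨_, hr'PR⟩ ∈ R
  exact hψR.le ⟨⟨_, hr'PR⟩, hr', rfl⟩

/-- In a model of a fusion system, the image of a normal centric subgroup contains its centralizer. -/
theorem centralizer_push_le (p : ℕ) [Fact p.Prime]
    (hN : IsPGroup p N) (E : FusionSystem N) (ι : N →* G)
    (hmodel : E.IsModel p G ι) (R : Subgroup Ω) (hR : E.IsNormal R) (hRc : E.IsCentric R) :
    Subgroup.centralizer ((push ι R : Subgroup G) : Set G) ≤ push ι R := by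
  have hRnormal := push_normal_of_isNormal p hN E ι hmodel R hR
  obtain ⟨hfin, hreal, ⟨T, hT⟩, hC⟩ := hmodel
  have hinj := hreal.1
  have hRN : R ≤ N := hR.1
  have hUn : (Cfsg.pCore p G).Normal := Cfsg.Agent.Lib.Helper52.pCore_normal p G
  have hUp : IsPGroup p (Cfsg.pCore p G) := Cfsg.Agent.Lib.Helper52.pCore_isPGroup p G
  have hUT : Cfsg.pCore p G ≤ ι.range := by
    rw [← hT]; exact Cfsg.Agent.Lib.Helper52.pCore_le_sylow p G T
  have hBp : IsPGroup p (push ι R) := (hN.to_subgroup _).map ι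
  have hBU : push ι R ≤ Cfsg.pCore p G := Cfsg.Agent.Lib.Helper52.le_pCore hRnormal hBp
  -- elements of `U` centralizing `push ι R` lie in `push ι R`
  have hCU : ∀ a ∈ Cfsg.pCore p G, (∀ b ∈ push ι R, b * a = a * b) → a ∈ push ι R := by
    intro a ha hab
    obtain ⟨n, rfl⟩ := hUT ha
    refine mem_push.mpr ⟨n, ?_, rfl⟩
    apply hRc.2 R (isConj_refl E hRN)
    rw [mem_centralizerIn]
    refine ⟨n.2, fun y hy => ?_⟩
    have h1 := hab (ι ⟨y, hRN hy⟩) (mem_push.mpr ⟨⟨y, hRN hy⟩, hy, rfl⟩)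
    rw [← map_mul, ← map_mul] at h1
    have h2 := hinj h1
    have h3 : y * (n : Ω) = n * y := congrArg Subtype.val h2
    exact h3
  -- the centralizer is normal
  have := hRnormal
  have hCn : (Subgroup.centralizer ((push ι R : Subgroup G) : Set G)).Normal := inferInstance
  have hnormU : ∀ b : G, b ∈ Subgroup.normalizer ((Cfsg.pCore p G : Subgroup G) : Set G) := by
    intro b
    rw [Subgroup.mem_normalizer_iff]
    intro y
    refine ⟨fun hy => hUn.conj_mem y hy b, fun hy => ?_⟩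
    have := hUn.conj_mem _ hy b⁻¹
    simpa [mul_assoc] using this
  -- p'-elements of the centralizer are trivial
  have hpp : ∀ x ∈ Subgroup.centralizer ((push ι R : Subgroup G) : Set G),
      (orderOf x).Coprime p → x = 1 := by
    intro x hx hxo
    have hxB : ∀ b ∈ push ι R, b * x = x * b := fun b hb =>
      (Subgroup.mem_centralizer_iff.mp hx) b hb
    have h1 := Cfsg.Agent.Lib.Helper56.axb_lemma (p := p) (Cfsg.pCore p G) (push ι R) x hUp hBp
      (fun b _ => hnormU b) (hnormU x) hxB hxo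
      (fun a ha hab => by
        have haR := hCU a ha hab
        exact hxB a haR)
    have hxc : x ∈ Subgroup.centralizer ((Cfsg.pCore p G : Subgroup G) : Set G) := by
      rw [Subgroup.mem_centralizer_iff]
      intro a ha
      exact h1 a ha
    have hxU : x ∈ Cfsg.pCore p G := hC hxc
    obtain ⟨k, hk⟩ := hUp ⟨x, hxU⟩
    have hk' : x ^ p ^ k = 1 := by
      have := congrArg Subtype.val hk
      simpa using this
    have hdvd : orderOf x ∣ p ^ k := orderOf_dvd_of_pow_eq_one hk'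
    have hcop : (orderOf x).Coprime (p ^ k) := Nat.Coprime.pow_right k hxo
    have h1' : orderOf x = 1 := Nat.Coprime.eq_one_of_dvd hcop hdvd
    exact orderOf_eq_one_iff.mp h1'
  -- so the centralizer is a `p`-group
  have hCp : IsPGroup p (Subgroup.centralizer ((push ι R : Subgroup G) : Set G)) := by
    intro c
    have hpos : 0 < orderOf (c : G) := orderOf_pos (c : G)
    obtain ⟨a, m, hm, hn⟩ := Nat.exists_eq_pow_mul_and_not_dvd hpos.ne' p (Fact.out : p.Prime).ne_one
    refine ⟨a, ?_⟩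
    have hx : (c : G) ^ p ^ a ∈ Subgroup.centralizer ((push ι R : Subgroup G) : Set G) :=
      Subgroup.pow_mem _ c.2 _
    have hord : orderOf ((c : G) ^ p ^ a) = m := by
      rw [orderOf_pow_of_dvd (pow_ne_zero a (Fact.out : p.Prime).ne_zero) (by rw [hn]; exact dvd_mul_right _ _), hn]
      exact Nat.mul_div_cancel_left m (pow_pos (Fact.out : p.Prime).pos a)
    have hcop : (orderOf ((c : G) ^ p ^ a)).Coprime p := by
      rw [hord]
      exact (((Nat.Prime.coprime_iff_not_dvd (Fact.out : p.Prime)).mpr hm)).symm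
    have := hpp _ hx hcop
    exact Subtype.ext (by simpa using this)
  have hCU' : Subgroup.centralizer ((push ι R : Subgroup G) : Set G) ≤ Cfsg.pCore p G :=
    Cfsg.Agent.Lib.Helper52.le_pCore hCn hCp
  intro c hc
  exact hCU c (hCU' hc) (fun b hb => (Subgroup.mem_centralizer_iff.mp hc) b hb)

end ModelNormal

end Cfsg.Agent.Lib.Helper87
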