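import Cfsg.Agent.Lib.Helper87.BisetTransfer

set_option autoImplicit false

/-!
A section of the orbit map of `1 × S` adapted to a permutation `g` commuting with `1 × S` whose powers never move a
point inside its orbit.
-/

namespace Cfsg.Agent.Lib.Helper87

section Adapted

variable {S : Type*} [Group S] {X : Type*} [MulAction (S × S) X]

/-- The action of the powers of `g`. -/
def pw (g : rightAut S X) (n : ℤ) (x : X) : X := ((g ^ n : rightAut S X) : Equiv.Perm X) x

theorem pw_zero (g : rightAut S X) (x : X) : pw g 0 x = x := by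
  unfold pw; rw [zpow_zero]; rfl

theorem pw_one (g : rightAut S X) (x : X) : pw g 1 x = (g : Equiv.Perm X) x := by
  unfold pw; rw [zpow_one]

theorem pw_add (g : rightAut S X) (a b : ℤ) (x : X) : pw g (a + b) x = pw g a (pw g b x) := by
  unfold pw; rw [zpow_add]; rfl

theorem pw_smul (g : rightAut S X) (n : ℤ) (t : S) (x : X) :
    pw g n (((1 : S), t) • x) = ((1 : S), t) • pw g n x :=
  (g ^ n).2 t x

/-- The powers of `g` never move a point inside its orbit under `1 × S`. -/
def IsOrbFree (g : rightAut S X) : Prop :=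
  ∀ (n : ℤ) (x : X) (t : S), pw g n x = ((1 : S), t) • x → t = 1

/-- The orbit relation of `⟨g⟩ × (1 × S)`. -/
def bigSetoid (g : rightAut S X) : Setoid X where
  r x y := ∃ (n : ℤ) (t : S), y = ((1 : S), t) • pw g n x
  iseqv := by
    refine ⟨fun x => ⟨0, 1, ?_⟩, ?_, ?_⟩
    · rw [pw_zero]
      show x = (1 : S × S) • x
      rw [one_smul]
    · rintro x y ⟨n, t, rfl⟩
      refine ⟨-n, t⁻¹, ?_⟩
      rw [pw_smul, ← pw_add, neg_add_cancel, pw_zero, smul_smul, Prod.mk_mul_mk, one_mul, inv_mul_cancel]
      show x = (1 : S × S) • x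
      rw [one_smul]
    · rintro x y z ⟨n, t, rfl⟩ ⟨n', t', rfl⟩
      refine ⟨n' + n, t' * t, ?_⟩
      rw [pw_smul, ← pw_add, smul_smul, Prod.mk_mul_mk, one_mul]

theorem exists_adapted_section (g : rightAut S X) (hg : IsOrbFree g) :
    ∃ σ : RightOrb S X → X, IsSection σ ∧ ∀ i, (g : Equiv.Perm X) (σ i) = σ (orbMap g i) := by
  classical
  -- representatives of the big classes
  set base : X → X := fun x => (Quotient.mk (bigSetoid g) x).out with hbase
  have hbase1 : ∀ x, ∃ (n : ℤ) (t : S), x = ((1 : S), t) • pw g n (base x) := by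
    intro x
    exact Quotient.exact (Quotient.out_eq (Quotient.mk (bigSetoid g) x))
  have hbase2 : ∀ x y, (bigSetoid g).r x y → base x = base y := by
    intro x y h
    simp only [hbase]
    rw [Quotient.sound (s := bigSetoid g) h]
  -- the uniqueness
  have huniq : ∀ (y : X) (a b : ℤ), orbOf (S := S) (pw g a y) = orbOf (pw g b y) → pw g a y = pw g b y := by
    intro y a b h
    obtain ⟨t, ht⟩ := orbOf_eq_iff.mp h
    have h1 : pw g (b - a) (pw g a y) = ((1 : S), t) • pw g a y := by
      rw [← pw_add, sub_add_cancel, ht]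
    have := hg _ _ _ h1
    rw [this] at ht
    rw [← ht]
    show pw g a y = (1 : S × S) • pw g a y
    rw [one_smul]
  -- the exponents
  have hex : ∀ i : RightOrb S X, ∃ n : ℤ, orbOf (S := S) (pw g n (base i.out)) = i := by
    intro i
    obtain ⟨n, t, h⟩ := hbase1 i.out
    refine ⟨n, ?_⟩
    have h2 : orbOf (S := S) i.out = i := Quotient.out_eq i
    calc orbOf (S := S) (pw g n (base i.out))
        = orbOf (((1 : S), t) • pw g n (base i.out)) := (orbOf_smul _ _).symm
      _ = orbOf i.out := by rw [← h]
      _ = i := h2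
  set σ : RightOrb S X → X := fun i => pw g (hex i).choose (base i.out) with hσ
  have hσorb : ∀ i, orbOf (σ i) = i := fun i => (hex i).choose_spec
  refine ⟨σ, ⟨hσorb⟩, fun i => ?_⟩
  -- the base point of the image orbit
  have hb : base (orbMap g i).out = base i.out := by
    have h1 : orbOf (S := S) (orbMap g i).out = orbOf ((g : Equiv.Perm X) (σ i)) := by
      rw [← orbMap_orbOf, hσorb]
      exact Quotient.out_eq _
    obtain ⟨t, ht⟩ := orbOf_eq_iff.mp h1.symm
    obtain ⟨n, t', h2⟩ := hbase1 i.out
    -- `(orbMap g i).out` is related to `base i.out`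
    have h3 : (bigSetoid g).r (base i.out) (orbMap g i).out := by
      refine ⟨1 + (hex i).choose, t, ?_⟩
      rw [← ht, pw_add, pw_one]
    have h4 := hbase2 _ _ h3
    have h5 : base (base i.out) = base i.out := by
      have : (bigSetoid g).r (base i.out) i.out := ⟨n, t', h2⟩
      exact hbase2 _ _ this
    rw [← h4, h5]
  have h1 : (g : Equiv.Perm X) (σ i) = pw g (1 + (hex i).choose) (base i.out) := by
    rw [pw_add, pw_one]
  have h2 : ∀ n' : ℤ, orbOf (S := S) (pw g n' (base (orbMap g i).out)) = orbMap g i →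
      pw g n' (base (orbMap g i).out) = (g : Equiv.Perm X) (σ i) := by
    intro n' hn'
    rw [hb] at hn' ⊢
    rw [h1]
    apply huniq
    rw [hn', ← h1, ← orbMap_orbOf, hσorb]
  exact (h2 _ (hex (orbMap g i)).choose_spec).symm

end Adapted

end Cfsg.Agent.Lib.Helper87
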