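import Cfsg.Agent.Lib.Helper87.BisetChar
import Cfsg.Agent.Lib.Helper87.BisetSection
import Cfsg.Agent.Lib.Helper88.FusionBasic

set_option autoImplicit false

/-!
The transfer of the characteristic biset: stability, and the elements of the centre of the system.
-/

namespace Cfsg.Agent.Lib.Helper87

open Cfsg Cfsg.FusionSystem

variable {Ω : Type*} [Group Ω] {S : Subgroup Ω}

section Stable

variable (F : FusionSystem S) (m : Subgroup (↥S × ↥S) → ℕ) (hm : ∀ D, D ∉ twisted F → m D = 0)

include hm in
/-- The second factor acts freely on `BSet m`. -/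
theorem bset_free (t : ↥S) (x : BSet m) (h : (((1 : ↥S), t) : ↥S × ↥S) • x = x) : t = 1 := by
  have hst : MulAction.stabilizer (↥S × ↥S) x ∈ twisted F :=
    bset_stabilizer_mem (twisted F) (fun K D h hK => twisted_of_sconj F h hK) m hm x
  obtain ⟨R, ρ, hρ, hD⟩ := hst
  obtain ⟨r, e1, e2⟩ := (hD _).mp (MulAction.mem_stabilizer_iff.mpr h)
  have e1' : (1 : Ω) = ρ r := e1
  have hr : r = 1 := by
    apply F.injective_of_mem hρ
    rw [← e1', map_one]
  apply Subtype.ext
  show (t : Ω) = 1
  have e2' : (t : Ω) = r := e2
  rw [e2', hr]; rfl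

theorem srcOf_map_left_eq {P : Subgroup Ω} (hP : P ≤ S) {φ : P →* Ω} (hφS : ∀ x : P, φ x ∈ S)
    (K : Subgroup (↥P × ↥S)) :
    srcOf (K.map ((Subgroup.inclusion hP).prodMap (MonoidHom.id ↥S))) =
      srcOf (K.map ((φ.codRestrict S hφS).prodMap (MonoidHom.id ↥S))) := by
  ext y
  rw [mem_srcOf, mem_srcOf]
  constructor
  · rintro ⟨_, ⟨k, hk, rfl⟩, h⟩
    exact ⟨_, ⟨k, hk, rfl⟩, h⟩
  · rintro ⟨_, ⟨k, hk, rfl⟩, h⟩
    exact ⟨_, ⟨k, hk, rfl⟩, h⟩

include hm in
/-- **Stability.**  If the marks of `BSet m` depend only on the class of the source, every map of the system becomes a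
conjugation in the group of permutations commuting with the second factor. -/
theorem exists_conj_of_balanced [Finite S]
    (hbal : ∀ K K', K ∈ twisted F → ERel F K K' → bmark m K = bmark m K')
    {P : Subgroup Ω} (hP : P ≤ S) {φ : P →* Ω} (hφ : φ ∈ F.Hom P) (hφS : ∀ x : P, φ x ∈ S) :
    ∃ g : rightAut ↥S (BSet m), ∀ u : P,
      leftHom ↥S (BSet m) ⟨φ u, hφS u⟩ = g * leftHom ↥S (BSet m) ⟨u, hP u.2⟩ * g⁻¹ := by
  haveI : Finite P := finite_of_le hP
  have hmarks : ∀ K : Subgroup (↥P × ↥S),
      Nat.card {x : BSet m // ∀ k ∈ K.map ((Subgroup.inclusion hP).prodMap (MonoidHom.id ↥S)), k • x = x} =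
      Nat.card {x : BSet m // ∀ k ∈ K.map ((φ.codRestrict S hφS).prodMap (MonoidHom.id ↥S)), k • x = x} := by
    intro K
    show bmark m _ = bmark m _
    by_cases hK : K.map ((Subgroup.inclusion hP).prodMap (MonoidHom.id ↥S)) ∈ twisted F
    · have hK' := (twisted_map_left_iff F hP hφ hφS K).mp hK
      apply hbal _ _ hK
      refine Or.inl ⟨hK, hK', ?_⟩
      rw [srcOf_map_left_eq hP hφS K]
      exact isConj_refl F (srcOf_le _)
    · have hK' : K.map ((φ.codRestrict S hφS).prodMap (MonoidHom.id ↥S)) ∉ twisted F :=
        fun h => hK ((twisted_map_left_iff F hP hφ hφS K).mpr h)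
      rw [bmark_eq_zero_of_not_mem (twisted F) (fun K D h hK => twisted_of_sconj F h hK)
        (fun K D h hD => twisted_of_le F h hD) m hm hK,
        bmark_eq_zero_of_not_mem (twisted F) (fun K D h hK => twisted_of_sconj F h hK)
        (fun K D h hD => twisted_of_le F h hD) m hm hK']
  obtain ⟨g, hg⟩ := exists_rightAut_of_marks (X := BSet m) (Subgroup.inclusion hP)
    (φ.codRestrict S hφS) hmarks
  exact ⟨g, fun x => hg x⟩

end Stable

/-! ### Central elements -/

section Central

variable {T : Type*} [Group T] {X : Type*} [MulAction (T × T) X]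

/-- The diagonal action of a central element. -/
def centralAut : Subgroup.center T →* rightAut T X where
  toFun z := ⟨MulAction.toPerm (((z : T), (z : T)) : T × T), by
    intro t x
    show (((z : T), (z : T)) : T × T) • (((1 : T), t) • x) = ((1 : T), t) • ((((z : T), (z : T)) : T × T) • x)
    rw [smul_smul, smul_smul]
    congr 1
    have := Subgroup.mem_center_iff.mp z.2 t
    simp [this]⟩
  map_one' := by
    apply Subtype.ext
    ext x
    show ((((1 : Subgroup.center T) : T), ((1 : Subgroup.center T) : T)) : T × T) • x = x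
    rw [Subgroup.coe_one]
    exact one_smul (T × T) x
  map_mul' := by
    intro z z'
    apply Subtype.ext
    ext x
    show ((((z * z' : Subgroup.center T) : T), ((z * z' : Subgroup.center T) : T)) : T × T) • x =
      (((z : T), (z : T)) : T × T) • ((((z' : T), (z' : T)) : T × T) • x)
    rw [smul_smul]
    rfl

/-- The action of a central element through the second factor. -/
def rightCentral : Subgroup.center T →* rightAut T X where
  toFun z := ⟨MulAction.toPerm (((1 : T), (z : T)) : T × T), by
    intro t x
    show (((1 : T), (z : T)) : T × T) • (((1 : T), t) • x) = ((1 : T), t) • ((((1 : T), (z : T)) : T × T) • x)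
    rw [smul_smul, smul_smul]
    congr 1
    have := Subgroup.mem_center_iff.mp z.2 t
    simp [this]⟩
  map_one' := by
    apply Subtype.ext
    ext x
    show (((1 : T), ((1 : Subgroup.center T) : T)) : T × T) • x = x
    rw [Subgroup.coe_one]
    exact one_smul (T × T) x
  map_mul' := by
    intro z z'
    apply Subtype.ext
    ext x
    show (((1 : T), ((z * z' : Subgroup.center T) : T)) : T × T) • x =
      (((1 : T), (z : T)) : T × T) • ((((1 : T), (z' : T)) : T × T) • x)
    rw [smul_smul]
    simp

theorem centralAut_apply (z : Subgroup.center T) (x : X) :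
    ((centralAut z : rightAut T X) : Equiv.Perm X) x = (((z : T), (z : T)) : T × T) • x := rfl

theorem rightCentral_apply (z : Subgroup.center T) (x : X) :
    ((rightCentral z : rightAut T X) : Equiv.Perm X) x = (((1 : T), (z : T)) : T × T) • x := rfl

theorem leftHom_eq_central (z : Subgroup.center T) :
    leftHom T X (z : T) = centralAut z * (rightCentral z)⁻¹ := by
  rw [eq_mul_inv_iff_mul_eq]
  apply Subtype.ext
  ext x
  show (((z : T), (1 : T)) : T × T) • ((((1 : T), (z : T)) : T × T) • x) = (((z : T), (z : T)) : T × T) • x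
  rw [smul_smul]
  simp

theorem pw_centralAut (z : Subgroup.center T) (n : ℤ) (x : X) :
    pw (centralAut z : rightAut T X) n x = ((((z ^ n : Subgroup.center T) : T), ((z ^ n : Subgroup.center T) : T)) : T × T) • x := by
  unfold pw
  rw [← map_zpow]
  rfl

/-- The transfer of the action of a central element through the second factor. -/
theorem transferHom_rightCentral {σ : RightOrb T X → X} (hσ : IsSection σ)
    (hfree : ∀ (t : T) (x : X), ((1 : T), t) • x = x → t = 1) {A : Type*} [CommGroup A] (κ : T →* A)
    [Fintype (RightOrb T X)] (z : Subgroup.center T) :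
    transferHom hσ hfree κ (rightCentral z) = κ (z : T) ^ Fintype.card (RightOrb T X) := by
  rw [transferHom_apply]
  have : ∀ i : RightOrb T X, κ (coc hσ (((rightCentral z : rightAut T X) : Equiv.Perm X) (σ i))) = κ (z : T) := by
    intro i
    rw [rightCentral_apply, coc_smul hσ hfree, coc_section hσ hfree, mul_one]
  rw [Finset.prod_congr rfl (fun i _ => this i), Finset.prod_const, Finset.card_univ]

end Central

end Cfsg.Agent.Lib.Helper87
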