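import Cfsg.Agent.Lib.Helper87.FusionNormalizer

set_option autoImplicit false

/-!
Basic facts on normalizer systems.
-/

namespace Cfsg.Agent.Lib.Helper87

open Cfsg Cfsg.FusionSystem

variable {Ω : Type*} [Group Ω] {S : Subgroup Ω}

theorem isFullyNormalized_of_normalizerIn_eq [Finite S] (F : FusionSystem S) {Q : Subgroup Ω}
    (hQ : Q ≤ S) (h : normalizerIn S Q = S) : F.IsFullyNormalized Q := by
  refine ⟨hQ, fun Q' _ => ?_⟩
  rw [h]
  exact card_le_of_le (normalizerIn_le S Q')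

/-- `Q` is normal in its normalizer system. -/
theorem isNormal_of_isNormalizerSystem (F : FusionSystem S) {Q : Subgroup Ω} (hQ : Q ≤ S)
    (N : FusionSystem (normalizerIn S Q)) (hN : F.IsNormalizerSystem Q N) : N.IsNormal Q := by
  refine ⟨le_normalizerIn hQ, ?_⟩
  intro P φ hφ
  rw [hN P] at hφ
  obtain ⟨hφF, hPN, hφN, ψ, hψF, hψφ, hψQ⟩ := hφ
  refine ⟨ψ, ?_, hψφ, hψQ⟩
  rw [hN (P ⊔ Q)]
  have hPQN : P ⊔ Q ≤ normalizerIn S Q := sup_le hPN (le_normalizerIn hQ)
  refine ⟨hψF, hPQN, ?_, ?_⟩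
  · intro x
    -- ψ x ∈ S and normalizes Q: use sup_hom_mem
    have : ∀ y : ↥(P ⊔ Q), ψ y ∈ normalizerIn S Q := by
      apply sup_hom_mem ψ
      · intro y; rw [hψφ]; exact hφN y
      · intro y
        apply le_normalizerIn hQ
        have hy : ψ (Subgroup.inclusion le_sup_right y) ∈ (Q.subgroupOf (P ⊔ Q)).map ψ :=
          ⟨Subgroup.inclusion le_sup_right y, by simp [Subgroup.mem_subgroupOf], rfl⟩
        rw [hψQ] at hy
        exact hy
    exact this x
  · -- extension to (P ⊔ Q) ⊔ Q = P ⊔ Q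
    have heq : (P ⊔ Q) ⊔ Q = P ⊔ Q := sup_eq_left.mpr le_sup_right
    refine ⟨ψ.comp (Subgroup.inclusion (le_of_eq heq)), cast_mem F heq hψF, fun x => rfl, ?_⟩
    ext y
    constructor
    · rintro ⟨x, hx, rfl⟩
      have h : ψ (Subgroup.inclusion (le_of_eq heq) x) ∈ (Q.subgroupOf (P ⊔ Q)).map ψ :=
        ⟨Subgroup.inclusion (le_of_eq heq) x, hx, rfl⟩
      rw [hψQ] at h
      exact h
    · intro hy
      have hy' : y ∈ (Q.subgroupOf (P ⊔ Q)).map ψ := by rw [hψQ]; exact hy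
      obtain ⟨x, hx, rfl⟩ := hy'
      exact ⟨Subgroup.inclusion (le_of_eq heq.symm) x, hx, rfl⟩

/-- In a system all of whose maps are inner, `Z(S)` is central. -/
theorem isCentral_center_of_inner (E : FusionSystem S)
    (hE : ∀ P : Subgroup Ω, E.Hom P = (innerFusionSystem S).Hom P) :
    E.IsCentral (S ⊓ Subgroup.centralizer (S : Set Ω)) := by
  refine ⟨inf_le_left, ?_⟩
  intro P φ hφ
  rw [hE P] at hφ
  obtain ⟨hPS, g, hg, hφg⟩ := hφ
  set Z := S ⊓ Subgroup.centralizer (S : Set Ω)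
  refine ⟨conjHom (P ⊔ Z) g, ?_, fun x => (hφg x).symm, ?_⟩
  · rw [hE]
    exact ⟨sup_le hPS inf_le_left, g, hg, fun x => rfl⟩
  · intro x
    show g * (x : Ω) * g⁻¹ = x
    have := (Subgroup.mem_centralizer_iff.mp x.2.2) g hg
    rw [this, mul_assoc, mul_inv_cancel, mul_one]

/-- Every `N_F(R)`-conjugate of `R` is `R`. -/
theorem conj_eq_self_of_isNormalizerSystem (F : FusionSystem S) (R : Subgroup Ω)
    (E : FusionSystem (normalizerIn S R)) (hE : F.IsNormalizerSystem R E) {R' : Subgroup Ω}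
    (hconj : E.IsConj R R') : R' = R := by
  obtain ⟨φ, hφ, hφr⟩ := hconj
  rw [hE] at hφ
  obtain ⟨-, -, -, ψ, hψ, hψR₁, hψR⟩ := hφ
  rw [← hφr]
  ext y
  constructor
  · rintro ⟨x, rfl⟩
    rw [← hψR₁]
    exact hψR.le ⟨_, x.2, rfl⟩
  · intro hy
    obtain ⟨z, hz, rfl⟩ := hψR.ge hy
    have hzR : (z : Ω) ∈ R := hz
    refine ⟨⟨z, hzR⟩, ?_⟩
    rw [← hψR₁]
    rfl

/-- A subgroup centric in `F` is centric in its normalizer system. -/
theorem isCentric_of_isNormalizerSystem (F : FusionSystem S) (R : Subgroup Ω) (hRc : F.IsCentric R)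
    (E : FusionSystem (normalizerIn S R)) (hE : F.IsNormalizerSystem R E) : E.IsCentric R := by
  have hRS := hRc.1
  refine ⟨le_normalizerIn hRS, fun R' hconj => ?_⟩
  rw [conj_eq_self_of_isNormalizerSystem F R E hE hconj]
  intro g hg
  rw [mem_centralizerIn] at hg
  apply hRc.2 R (isConj_refl F hRS)
  exact mem_centralizerIn.mpr ⟨normalizerIn_le S R hg.1, hg.2⟩

end Cfsg.Agent.Lib.Helper87
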