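import Mathlib
import Cfsg.Agent.Lib.Helper65.RU5Defs

set_option autoImplicit false

/-!
Leaf L6 of the sub-pack K-RU5 (S2279): the vectors `c_k`, `k ≤ m+1`, span `{v | v 0 = 0}` (parallel hand).
-/

namespace Cfsg.Agent.Lib.Helper87.RU5x

open Matrix Cfsg.Agent.Lib.Helper73.RU Cfsg.Agent.Lib.Helper65.RU5

theorem mem_of_cvec {m : ℕ} {F : Type*} [Field F] (M : Set (Fin (m + 3) → F))
    (h0 : (0 : Fin (m + 3) → F) ∈ M) (hadd : ∀ v w, v ∈ M → w ∈ M → v + w ∈ M)
    (hcM : ∀ k, k ≤ m + 1 → ∀ s : F, s • cvec m F k ∈ M) :
    ∀ v : Fin (m + 3) → F, v 0 = 0 → v ∈ M := by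
  have key : ∀ k : ℕ, k ≤ m + 2 → ∀ v : Fin (m + 3) → F,
      (∀ i : Fin (m + 3), i.val + k < m + 3 → v i = 0) → v ∈ M := by
    intro k
    induction k with
    | zero =>
      intro _ v hv
      have : v = 0 := by
        funext i
        exact hv i (by simpa using i.isLt)
      rw [this]; exact h0
    | succ k ih =>
      intro hk v hv
      have hk' : k ≤ m + 1 := by omega
      have hi0 : m + 2 - k < m + 3 := by omega
      have hw : v - v ⟨m + 2 - k, hi0⟩ • cvec m F k ∈ M := by
        apply ih (by omega)
        intro i hi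
        rw [Pi.sub_apply, Pi.smul_apply, smul_eq_mul]
        by_cases h : i.val + (k + 1) < m + 3
        · rw [hv i h]
          have hc : cvec m F k i = 0 := by
            unfold cvec
            rw [Nat.choose_eq_zero_of_lt (by omega)]
            simp
          rw [hc]; simp
        · have hieq : i = ⟨m + 2 - k, hi0⟩ := by
            apply Fin.ext
            simp only
            omega
          have hc : cvec m F k ⟨m + 2 - k, hi0⟩ = 1 := by
            unfold cvec
            simp only
            rw [show m + 2 - (m + 2 - k) = k by omega, Nat.choose_self]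
            simp
          rw [hieq, hc]; ring
      have := hadd _ _ hw (hcM k hk' (v ⟨m + 2 - k, hi0⟩))
      rwa [sub_add_cancel] at this
  intro v hv0
  apply key (m + 2) le_rfl
  intro i hi
  have : i = 0 := by
    apply Fin.ext
    simp only [Fin.val_zero]
    omega
  rw [this]; exact hv0

end Cfsg.Agent.Lib.Helper87.RU5x
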