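import Mathlib
import Cfsg.Agent.S0175
import Cfsg.Agent.Lib.Helper42.CD3DIV
import Cfsg.Agent.Lib.Helper61.CD3N10

/-!
# S4464: all irreducible character degrees `< p` => normal abelian Sylow `p`-subgroup (helper87)

Elementary proof of normality: `N = N_G(P)`, `π = 1_N^G = ∑ a_χ χ`, `a_1 = 1`;
`[π, π] = ∑ a_χ² = |N|⁻² ∑_x |N ∩ x N x⁻¹|` and `p |N ∩ x N x⁻¹| ≤ |N|` for `x ∉ N`, so
`p (r - 1) ≤ n - 1`; but `n - 1 = ∑_{χ ≠ 1} a_χ χ(1) ≤ (p - 1)(r - 1)`. Hence `n = 1`.
-/

set_option autoImplicit false

namespace Cfsg.Agent.Lib.Helper87.MaxDeg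


universe u

open Subgroup

/-- A subgroup `D` of the normalizer `N` of a Sylow `p`-subgroup `P` with `p ∤ [N : D]`
contains `P`. -/
theorem sylow_le_of_not_dvd_relIndex {G : Type u} [Group G] [Finite G] {p : ℕ} [hp : Fact p.Prime]
    (P : Sylow p G) (D : Subgroup G) (hDN : D ≤ (Subgroup.normalizer (P : Set G)))
    (hnd : ¬ p ∣ D.relIndex (Subgroup.normalizer (P : Set G))) : (P : Subgroup G) ≤ D := by
  classical
  set N := (Subgroup.normalizer (P : Set G)) with hN
  obtain ⟨Q₀⟩ : Nonempty (Sylow p D) := inferInstance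
  set Q : Subgroup G := (Q₀ : Subgroup D).map D.subtype with hQ
  have hQD : Q ≤ D := Subgroup.map_subtype_le _
  have hQp : IsPGroup p Q := Q₀.2.map _
  have hQcard : Nat.card Q = p ^ (Nat.card D).factorization p := by
    rw [hQ, Subgroup.card_map_of_injective D.subtype_injective]
    exact Q₀.card_eq_multiplicity
  have hPcard : Nat.card P = p ^ (Nat.card G).factorization p := P.card_eq_multiplicity
  have hPN : (P : Subgroup G) ≤ N := Subgroup.le_normalizer
  -- `|P|` divides `|D|`
  have h1 : Nat.card (P : Subgroup G) ∣ Nat.card N := Subgroup.card_dvd_of_le hPN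
  have h2 : Nat.card N = Nat.card D * D.relIndex N := by
    have := (D.subgroupOf N).card_mul_index
    rw [← this, Subgroup.relIndex]
    congr 1
    exact (Nat.card_congr (Subgroup.subgroupOfEquivOfLe hDN).toEquiv)
  have h3 : Nat.card (P : Subgroup G) ∣ Nat.card D := by
    rw [h2] at h1
    have hcop : Nat.Coprime (Nat.card (P : Subgroup G)) (D.relIndex N) := by
      rw [hPcard]
      exact Nat.Coprime.pow_left _ ((Nat.Prime.coprime_iff_not_dvd hp.out).2 hnd)
    exact hcop.dvd_of_dvd_mul_right h1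
  have h4 : Nat.card (P : Subgroup G) ≤ Nat.card Q := by
    rw [hQcard, hPcard] at *
    have hDpos : Nat.card D ≠ 0 := Nat.card_pos.ne'
    have := (hp.out.pow_dvd_iff_le_factorization hDpos).1 h3
    exact Nat.pow_le_pow_right hp.out.pos this
  -- `Q ≤ P`
  have h5 : Q ≤ (P : Subgroup G) := by
    have := hQp.inf_normalizer_sylow P
    have h6 : Q ⊓ (Subgroup.normalizer (P : Set G)) = Q := inf_eq_left.2 (hQD.trans hDN)
    rw [h6] at this
    exact inf_eq_left.1 this.symm
  have h7 : Q = (P : Subgroup G) := Subgroup.eq_of_le_of_card_ge h5 h4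
  rw [← h7]
  exact hQD

/-- the subgroup `{h ∈ N | x⁻¹ h x ∈ N}` -/
def dx {G : Type u} [Group G] (N : Subgroup G) (x : G) : Subgroup G :=
  N ⊓ N.comap (MulAut.conj x⁻¹).toMonoidHom

theorem mem_dx {G : Type u} [Group G] (N : Subgroup G) (x h : G) :
    h ∈ dx N x ↔ h ∈ N ∧ x⁻¹ * h * x ∈ N := by
  simp [dx, Subgroup.mem_inf, Subgroup.mem_comap]

/-- For `x` outside the normalizer `N` of a Sylow `p`-subgroup, `p * |N ∩ x N x⁻¹| ≤ |N|`. -/
theorem card_dx_le {G : Type u} [Group G] [Finite G] {p : ℕ} [hp : Fact p.Prime]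
    (P : Sylow p G) (x : G) (hx : x ∉ (Subgroup.normalizer (P : Set G))) :
    p * Nat.card (dx (Subgroup.normalizer (P : Set G)) x) ≤ Nat.card (Subgroup.normalizer (P : Set G)) := by
  classical
  set N := (Subgroup.normalizer (P : Set G)) with hN
  have hDN : dx N x ≤ N := inf_le_left
  have h2 : Nat.card N = Nat.card (dx N x) * (dx N x).relIndex N := by
    have := ((dx N x).subgroupOf N).card_mul_index
    rw [← this, Subgroup.relIndex]
    congr 1
    exact (Nat.card_congr (Subgroup.subgroupOfEquivOfLe hDN).toEquiv)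
  have hdvd : p ∣ (dx N x).relIndex N := by
    by_contra hnd
    have hPD := sylow_le_of_not_dvd_relIndex P (dx N x) hDN hnd
    apply hx
    -- the conjugate Sylow subgroup `x⁻¹ • P` lies in `N`
    have hle : ((x⁻¹ • P : Sylow p G) : Subgroup G) ≤ N := by
      intro h hh
      rw [Sylow.coe_subgroup_smul, Subgroup.mem_pointwise_smul_iff_inv_smul_mem] at hh
      have h' : x * h * x⁻¹ ∈ (P : Subgroup G) := by
        simpa [MulAut.smul_def] using hh
      have := ((mem_dx N x _).1 (hPD h')).2
      simpa [mul_assoc] using this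
    have hle2 : ((x⁻¹ • P : Sylow p G) : Subgroup G) ≤ (P : Subgroup G) := by
      have := (x⁻¹ • P : Sylow p G).2.inf_normalizer_sylow P
      rw [inf_eq_left.2 hle] at this
      exact inf_eq_left.1 this.symm
    have heq : (P : Subgroup G) = ((x⁻¹ • P : Sylow p G) : Subgroup G) :=
      (x⁻¹ • P : Sylow p G).is_maximal' P.2 hle2
    have heq' : x⁻¹ • P = P := Sylow.ext heq.symm
    have := Sylow.smul_eq_iff_mem_normalizer.1 heq'
    simpa using N.inv_mem this
  obtain ⟨k, hk⟩ := hdvd
  rw [h2, hk]
  have hkpos : 0 < k := by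
    rcases Nat.eq_zero_or_pos k with h0 | h0
    · exfalso
      rw [h0, mul_zero] at hk
      rw [hk, mul_zero] at h2
      exact (Nat.card_pos (α := N)).ne' h2
    · exact h0
  rw [mul_comm]
  exact Nat.mul_le_mul_left _ (Nat.le_mul_of_pos_right _ hkpos)


open Cfsg Cfsg.Agent.Lib.Helper80 Cfsg.Agent.Lib.Helper85 Cfsg.Agent.Lib.Helper83
open scoped ComplexConjugate Classical




/-- value of the permutation character on the cosets of `N`. -/
theorem perm_apply {G : Type u} [Group G] [Fintype G] (N : Subgroup G) (g : G) :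
    Cfsg.indFun N (fun _ => (1 : ℂ)) g =
      (Nat.card N : ℂ)⁻¹ * ((Finset.univ.filter fun x : G => x⁻¹ * g * x ∈ N).card : ℂ) := by
  classical
  rw [Cfsg.Agent.Lib.Helper04.indFun_apply]
  congr 1
  have hext : ∀ y : G, Cfsg.extendByZero N (fun _ => (1 : ℂ)) y = if y ∈ N then 1 else 0 := by
    intro y
    split_ifs with hy
    · rw [Cfsg.Agent.Lib.Helper04.extendByZero_apply_of_mem _ _ y hy]
    · rw [Cfsg.Agent.Lib.Helper04.extendByZero_apply_not_mem _ _ y hy]
  simp only [hext]
  rw [Finset.sum_boole]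

/-- number of `h ∈ N` with `x⁻¹ h x ∈ N`. -/
theorem card_filter_eq_card_dx {G : Type u} [Group G] [Fintype G] (N : Subgroup G) [Fintype N]
    (x : G) :
    (Finset.univ.filter fun h : N => x⁻¹ * (h : G) * x ∈ N).card = Nat.card (dx N x) := by
  classical
  rw [← Fintype.card_subtype, ← Nat.card_eq_fintype_card]
  apply Nat.card_congr
  exact
    { toFun := fun h => ⟨h.1.1, (mem_dx N x _).2 ⟨h.1.2, h.2⟩⟩
      invFun := fun g => ⟨⟨g.1, ((mem_dx N x g.1).1 g.2).1⟩, ((mem_dx N x g.1).1 g.2).2⟩
      left_inv := fun _ => rfl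
      right_inv := fun _ => rfl }

/-- the norm of the permutation character counts pairs. -/
theorem classInner_perm_self {G : Type u} [Group G] [Fintype G] (N : Subgroup G) :
    classInner (Cfsg.indFun N (fun _ => (1 : ℂ))) (Cfsg.indFun N (fun _ => (1 : ℂ))) =
      (Nat.card N : ℂ)⁻¹ * ((Nat.card N : ℂ)⁻¹ * ((∑ x : G, Nat.card (dx N x) : ℕ) : ℂ)) := by
  classical
  letI : Fintype N := Fintype.ofFinite _
  rw [Cfsg.Agent.Lib.Helper04.frobenius_reciprocity N _ _
    (Cfsg.Agent.Lib.Helper04.indFun_isClassFunction N _)]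
  unfold Cfsg.classInner
  congr 1
  have h1 : ∀ h : N, (1 : ℂ) * conj (Cfsg.indFun N (fun _ => (1 : ℂ)) (h : G)) =
      (Nat.card N : ℂ)⁻¹ *
        ((Finset.univ.filter fun x : G => x⁻¹ * (h : G) * x ∈ N).card : ℂ) := by
    intro h
    rw [perm_apply, one_mul, map_mul, map_inv₀, Complex.conj_natCast, Complex.conj_natCast]
  rw [Finset.sum_congr rfl fun h _ => h1 h, ← Finset.mul_sum]
  congr 1
  rw [← Nat.cast_sum]
  congr 1
  simp only [← card_filter_eq_card_dx, Finset.card_filter]
  exact Finset.sum_comm' (by simp)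





/-- If all irreducible character degrees are `< p`, the Sylow `p`-subgroup is normal. -/
theorem sylow_normal_of_degrees_lt {G : Type u} [Group G] [Fintype G] (p : ℕ)
    [hp : Fact p.Prime] (hb : ∀ χ : IrrCharacter G, charDegree (χ : G → ℂ) < p)
    (P : Sylow p G) : (P : Subgroup G).Normal := by
  classical
  letI : Fintype (IrrCharacter G) := Fintype.ofFinite _
  set N : Subgroup G := Subgroup.normalizer (P : Set G) with hN
  letI : Fintype N := Fintype.ofFinite _
  set π : G → ℂ := Cfsg.indFun N fun _ => (1 : ℂ) with hπdef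
  have hπ : IsCharacter G π := Cfsg.Agent.Lib.Helper34.isCharacter_indFun N isCharacter_one
  have hdec := char_eq_sum_irrMult hπ
  have h1 : π 1 = ((N.index : ℕ) : ℂ) := by
    rw [hπdef, indFun_apply_one, mul_one]
  have hsum : N.index = ∑ φ : IrrCharacter G, irrMult π φ * charDegree (φ : G → ℂ) := by
    have h2 := congrFun hdec 1
    rw [h1] at h2
    simp only [Finset.sum_apply, Pi.smul_apply, smul_eq_mul] at h2
    have h3 : ∀ φ : IrrCharacter G, (irrMult π φ : ℂ) * (φ : G → ℂ) 1 =
        ((irrMult π φ * charDegree (φ : G → ℂ) : ℕ) : ℂ) := by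
      intro φ
      rw [Nat.cast_mul, charDegree_cast (IrrCharacter_isCharacter φ)]
    rw [Finset.sum_congr rfl fun φ _ => h3 φ, ← Nat.cast_sum] at h2
    exact_mod_cast h2
  have hτ : irrMult π (trivChar G) = 1 := by
    have h4 := irrMult_cast hπ (trivChar G)
    rw [hπdef, Cfsg.Agent.Lib.Helper04.frobenius_reciprocity N _ _
      (char_isClassFunction (IrrCharacter_isCharacter (trivChar G)))] at h4
    have h5 : Cfsg.classInner (fun _ : N => (1 : ℂ)) (fun h : N => (trivChar G : G → ℂ) h) = 1 := by
      unfold Cfsg.classInner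
      simp only [trivChar_apply, map_one, mul_one, Finset.sum_const, Finset.card_univ,
        nsmul_eq_mul]
      rw [Nat.card_eq_fintype_card]
      have : (Fintype.card N : ℂ) ≠ 0 := by
        have : 0 < Fintype.card N := Fintype.card_pos
        exact_mod_cast this.ne'
      field_simp
    rw [h5] at h4
    exact_mod_cast h4
  have hdegτ : charDegree ((trivChar G : IrrCharacter G) : G → ℂ) = 1 := by
    have := charDegree_cast (IrrCharacter_isCharacter (trivChar G))
    rw [trivChar_apply] at this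
    exact_mod_cast this
  -- the norm of `π`
  have hnorm : classInner π π = ((∑ φ : IrrCharacter G, irrMult π φ ^ 2 : ℕ) : ℂ) := by
    have h6 := classInner_sum_irr_self (fun φ : IrrCharacter G => (irrMult π φ : ℂ))
    rw [← hdec] at h6
    rw [h6, Nat.cast_sum]
    apply Finset.sum_congr rfl
    intro φ _
    rw [Complex.conj_natCast, Nat.cast_pow, sq]
  have hcount := classInner_perm_self N
  rw [← hπdef] at hcount
  set m : ℕ := Nat.card N with hm
  have hmpos : 0 < m := Nat.card_pos
  set S : ℕ := ∑ x : G, Nat.card (dx N x) with hS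
  set r : ℕ := ∑ φ : IrrCharacter G, irrMult π φ ^ 2 with hr
  have hIV : r * m * m = S := by
    have hm0 : (m : ℂ) ≠ 0 := by exact_mod_cast hmpos.ne'
    have h7 : (r : ℂ) * m * m = S := by
      rw [← hnorm, hcount]
      field_simp
    exact_mod_cast h7
  -- the count
  have hV : p * S ≤ ∑ x : G, (if x ∈ N then p * m else m) := by
    rw [hS, Finset.mul_sum]
    apply Finset.sum_le_sum
    intro x _
    split_ifs with hx
    · apply Nat.mul_le_mul_left
      exact Subgroup.card_le_of_le (inf_le_left : dx N x ≤ N)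
    · exact card_dx_le P x hx
  have hcN : (Finset.univ.filter fun x : G => x ∈ N).card = m := by
    rw [hm, Nat.card_eq_fintype_card, Fintype.card_subtype]
  have hcG : Fintype.card G = m * N.index := by
    rw [← Nat.card_eq_fintype_card, hm]
    exact N.card_mul_index.symm
  have hsplit : ∑ x : G, (if x ∈ N then p * m else m) =
      m * (p * m) + (Finset.univ.filter fun x : G => x ∉ N).card * m := by
    rw [Finset.sum_ite, Finset.sum_const, Finset.sum_const, hcN, smul_eq_mul, smul_eq_mul]
  have hcN' : m + (Finset.univ.filter fun x : G => x ∉ N).card = m * N.index := by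
    rw [← hcG, ← hcN]
    rw [← Finset.card_univ]
    exact Finset.card_filter_add_card_filter_not _
  -- split off the trivial character
  have hr1 : r = 1 + ∑ φ ∈ Finset.univ.erase (trivChar G), irrMult π φ ^ 2 := by
    rw [hr, ← Finset.add_sum_erase Finset.univ _ (Finset.mem_univ (trivChar G)), hτ, one_pow]
  have hn1 : N.index = 1 + ∑ φ ∈ Finset.univ.erase (trivChar G),
      irrMult π φ * charDegree (φ : G → ℂ) := by
    rw [hsum, ← Finset.add_sum_erase Finset.univ _ (Finset.mem_univ (trivChar G)), hτ, hdegτ]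
  set s : ℕ := ∑ φ ∈ Finset.univ.erase (trivChar G), irrMult π φ ^ 2 with hs
  set t : ℕ := ∑ φ ∈ Finset.univ.erase (trivChar G),
    irrMult π φ * charDegree (φ : G → ℂ) with ht
  have hts : t ≤ (p - 1) * s := by
    rw [ht, hs, Finset.mul_sum]
    apply Finset.sum_le_sum
    intro φ _
    have h8 : charDegree (φ : G → ℂ) ≤ p - 1 := Nat.le_pred_of_lt (hb φ)
    calc irrMult π φ * charDegree (φ : G → ℂ) ≤ irrMult π φ * (p - 1) :=
          Nat.mul_le_mul_left _ h8
      _ ≤ irrMult π φ ^ 2 * (p - 1) := by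
          apply Nat.mul_le_mul_right
          rw [sq]
          exact Nat.le_mul_self _
      _ = (p - 1) * irrMult π φ ^ 2 := mul_comm _ _
  have hcN'' : (Finset.univ.filter fun x : G => x ∉ N).card = m * t := by
    rw [hn1] at hcN'
    have : m * (1 + t) = m + m * t := by ring
    omega
  have hps : p * s ≤ t := by
    have h9 : p * (r * m * m) ≤ m * (p * m) + m * t * m := by
      rw [hIV]
      calc p * S ≤ _ := hV
        _ = _ := by rw [hsplit, hcN'']
    rw [hr1] at h9
    have h10 : (p * s) * (m * m) ≤ t * (m * m) := by nlinarith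
    exact Nat.le_of_mul_le_mul_right h10 (Nat.mul_pos hmpos hmpos)
  have hp1 : 1 ≤ p := hp.out.one_lt.le
  have hs0 : s = 0 := by
    by_contra hne
    have hspos : 0 < s := Nat.pos_of_ne_zero hne
    have h11 : p * s ≤ (p - 1) * s := hps.trans hts
    have h12 : (p - 1) * s < p * s := Nat.mul_lt_mul_of_pos_right (by omega) hspos
    omega
  have ht0 : t = 0 := by
    rw [hs0, mul_zero] at hts
    omega
  have hidx : N.index = 1 := by rw [hn1, ht0]
  rw [Subgroup.index_eq_one] at hidx
  exact Subgroup.normalizer_eq_top_iff.1 hidx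

end Cfsg.Agent.Lib.Helper87.MaxDeg
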