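import Cfsg.Agent.Lib.Helper87.OQFR2aAux
import Cfsg.Agent.Lib.Helper74.OQFFRa
import Cfsg.Agent.Lib.Helper70.OQFPL

/-!
# K-OQF-R2a (keystone 597711, architect helper72): exact-signature wrapper.
-/

set_option autoImplicit false

namespace Cfsg.Agent.Lib.Helper87.OQF

open Cfsg Cfsg.Geo Cfsg.Agent.Lib.Helper72.OQF
open scoped Matrix MatrixGroups

variable {F : Type*} [Field F] {ι : Type} [Fintype ι] [DecidableEq ι]

/-- **K-OQF-R2a** (597711). -/
theorem exists_theta_of_invol [Fintype F] (hodd : Odd (Fintype.card F)) (Q : QuadraticForm F (ι → F))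
    (hQ : (QuadraticMap.polarBilin Q).Nondegenerate) (heven : Even (Fintype.card ι)) (hpos : 0 < Fintype.card ι)
    (δ : F) (x : GL ι F) (hx : x ∈ Cfsg.isometryGroup F (⇑Q))
    (hx2 : (x : Matrix ι ι F) * (x : Matrix ι ι F) = 1) (hdet : (x : Matrix ι ι F).det = 1) :
    ∃ (θ : Matrix ι ι F) (τ : GL ι F), θ * θ = δ • (1 : Matrix ι ι F) ∧ IsSAMat (⇑Q) θ ∧ NormTh (x : Matrix ι ι F) θ ∧
      τ ∈ Cfsg.isometryGroup F (⇑Q) ∧ (τ : Matrix ι ι F).det = -1 ∧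
      NormTh ((τ⁻¹ * x * τ : GL ι F) : Matrix ι ι F) θ :=
  exists_theta_of_invol_of hodd Q hQ heven hpos δ x hx hx2 hdet
    (fun y h1 h2 h3 d hd =>
      Cfsg.Agent.Lib.Helper74.OQF.exists_eigen_frame (two_ne_zero_of_odd_card hodd) Q hQ y h1 h2 h3 d hd)
    (fun d b h1 h2 => Cfsg.Agent.Lib.Helper70.OQF.exists_theta_of_frame hodd Q δ d b h1 h2)

end Cfsg.Agent.Lib.Helper87.OQF
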