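import Mathlib
import Cfsg.Prelude.Def_GeometricClasses
import Cfsg.Prelude.Def_ClassicalGeometry
import Cfsg.Agent.Lib.Helper72.OQFDefs
import Cfsg.Agent.Lib.Helper50.SpinorIndex

/-!
# K-OQF-R2a (keystone 597711, architect helper72): the proof, with the two leaves it uses as hypotheses
-/

set_option autoImplicit false

namespace Cfsg.Agent.Lib.Helper87.OQF

open Cfsg Cfsg.Geo Cfsg.Agent.Lib.Helper72.OQF
open scoped Matrix MatrixGroups

variable {F : Type*} [Field F] {ι : Type} [Fintype ι] [DecidableEq ι]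

theorem two_ne_zero_of_odd_card [Fintype F] (hodd : Odd (Fintype.card F)) : (2 : F) ≠ 0 := by
  intro h
  have h1 : ringChar F = 2 := CharP.ringChar_of_prime_eq_zero Nat.prime_two (by exact_mod_cast h)
  have h2 := FiniteField.even_card_iff_char_two.1 h1
  rw [Nat.odd_iff] at hodd
  omega

/-- the vectors of an orthogonal basis of a nondegenerate quadratic space are non-singular -/
theorem ne_zero_of_orth_basis {V : Type*} [AddCommGroup V] [Module F V] {κ : Type*} [Fintype κ]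
    (Q : QuadraticForm F V) (hQ : (QuadraticMap.polarBilin Q).Nondegenerate) (b : Module.Basis κ F V)
    (horth : ∀ p p', p ≠ p' → QuadraticMap.polar (⇑Q) (b p) (b p') = 0) (p : κ) : Q (b p) ≠ 0 := by
  classical
  intro h0
  have hpp : QuadraticMap.polar (⇑Q) (b p) (b p) = 0 := by
    rw [QuadraticMap.polar_self, h0, smul_zero]
  have hall : ∀ v, QuadraticMap.polarBilin Q (b p) v = 0 := by
    intro v
    rw [← b.sum_repr v, map_sum]
    apply Finset.sum_eq_zero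
    intro p' _
    rw [map_smul, QuadraticMap.polarBilin_apply_apply]
    by_cases hp : p = p'
    · subst hp; rw [hpp, smul_zero]
    · rw [horth p p' hp, smul_zero]
  have hb0 : b p = 0 := hQ.1 (b p) hall
  exact b.ne_zero p hb0

/-- **K-OQF-R2a** (597711), with the leaves FRa (597708) and PL (597710) for `V = ι → F` as hypotheses. -/
theorem exists_theta_of_invol_of [Fintype F] (hodd : Odd (Fintype.card F)) (Q : QuadraticForm F (ι → F))
    (hQ : (QuadraticMap.polarBilin Q).Nondegenerate) (heven : Even (Fintype.card ι)) (hpos : 0 < Fintype.card ι)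
    (δ : F) (x : GL ι F) (hx : x ∈ Cfsg.isometryGroup F (⇑Q))
    (hx2 : (x : Matrix ι ι F) * (x : Matrix ι ι F) = 1) (hdet : (x : Matrix ι ι F).det = 1)
    (hFRa : ∀ (x : (ι → F) →ₗ[F] (ι → F)), (∀ v, Q (x v) = Q v) → (∀ v, x (x v) = v) → LinearMap.det x = 1 →
      ∀ d : ℕ, Module.finrank F (ι → F) = 2 * d →
      ∃ (b : Module.Basis (Fin d × Fin 2) F (ι → F)) (ε : Fin d → F), (∀ k, ε k = 1 ∨ ε k = -1) ∧
        (∀ k i, x (b (k, i)) = ε k • b (k, i)) ∧
        ∀ p p', p ≠ p' → QuadraticMap.polar (⇑Q) (b p) (b p') = 0)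
    (hPL : ∀ (d : ℕ) (b : Module.Basis (Fin d × Fin 2) F (ι → F)),
      (∀ p p', p ≠ p' → QuadraticMap.polar (⇑Q) (b p) (b p') = 0) → (∀ p, Q (b p) ≠ 0) →
      ∃ (θ : (ι → F) →ₗ[F] (ι → F)) (a t : Fin d → F), (∀ v, θ (θ v) = δ • v) ∧
        (∀ u v, QuadraticMap.polar (⇑Q) (θ u) v = QuadraticMap.polar (⇑Q) u (θ v)) ∧
        (∀ k, θ (b (k, 0)) = a k • b (k, 0) + (Q (b (k, 0)) * t k) • b (k, 1)) ∧
        (∀ k, θ (b (k, 1)) = (Q (b (k, 1)) * t k) • b (k, 0) - a k • b (k, 1))) :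
    ∃ (θ : Matrix ι ι F) (τ : GL ι F), θ * θ = δ • (1 : Matrix ι ι F) ∧ IsSAMat (⇑Q) θ ∧ NormTh (x : Matrix ι ι F) θ ∧
      τ ∈ Cfsg.isometryGroup F (⇑Q) ∧ (τ : Matrix ι ι F).det = -1 ∧
      NormTh ((τ⁻¹ * x * τ : GL ι F) : Matrix ι ι F) θ := by
  classical
  have h2 : (2 : F) ≠ 0 := two_ne_zero_of_odd_card hodd
  obtain ⟨d, hd⟩ := heven
  have hd' : Module.finrank F (ι → F) = 2 * d := by
    rw [Module.finrank_fintype_fun_eq_card, hd, two_mul]
  have hd0 : 0 < d := by omega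
  set xl : (ι → F) →ₗ[F] (ι → F) := Matrix.toLin' (x : Matrix ι ι F) with hxl
  have hxQ : ∀ v, Q (xl v) = Q v := by
    intro v
    rw [hxl, Matrix.toLin'_apply]
    exact Cfsg.Agent.Lib.Helper50.O_isometry (⇑Q) ⟨x, hx⟩ v
  have hxx : ∀ v, xl (xl v) = v := by
    intro v
    rw [hxl, Matrix.toLin'_apply, Matrix.toLin'_apply, Matrix.mulVec_mulVec, hx2, Matrix.one_mulVec]
  have hdetl : LinearMap.det xl = 1 := by rw [hxl, LinearMap.det_toLin', hdet]
  obtain ⟨b, ε, hε, hxb, horth⟩ := hFRa xl hxQ hxx hdetl d hd'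
  have hns : ∀ p, Q (b p) ≠ 0 := ne_zero_of_orth_basis Q hQ b horth
  obtain ⟨θl, a, t, hθθ, hθsa, hθ0, hθ1⟩ := hPL d b horth hns
  -- `x` commutes with `θ`
  have hcomm : xl ∘ₗ θl = θl ∘ₗ xl := by
    apply b.ext
    rintro ⟨k, i⟩
    fin_cases i
    · show xl (θl (b (k, 0))) = θl (xl (b (k, 0)))
      rw [hxb k 0, map_smul, hθ0, map_add, map_smul, map_smul, hxb k 0, hxb k 1, smul_add, smul_smul, smul_smul,
        smul_smul, smul_smul, mul_comm (a k), mul_comm (Q (b (k, 0)) * t k)]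
    · show xl (θl (b (k, 1))) = θl (xl (b (k, 1)))
      rw [hxb k 1, map_smul, hθ1, map_sub, map_smul, map_smul, hxb k 0, hxb k 1, smul_sub, smul_smul, smul_smul,
        smul_smul, smul_smul, mul_comm (a k), mul_comm (Q (b (k, 1)) * t k)]
  set θ : Matrix ι ι F := LinearMap.toMatrix' θl with hθdef
  have hθl : Matrix.toLin' θ = θl := by rw [hθdef, Matrix.toLin'_toMatrix']
  have hθv : ∀ u, θ *ᵥ u = θl u := by
    intro u
    rw [← Matrix.toLin'_apply, hθl]
  have hxmat : LinearMap.toMatrix' xl = (x : Matrix ι ι F) := by rw [hxl, LinearMap.toMatrix'_toLin']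
  -- the reflection
  set u0 : ι → F := b (⟨0, hd0⟩, 0) with hu0
  have hu0Q : Q u0 ≠ 0 := hns _
  set g : ↥(Cfsg.isometryGroup F (⇑Q)) := ⟨x, hx⟩ with hg
  set τO : ↥(Cfsg.isometryGroup F (⇑Q)) := Cfsg.Agent.Lib.Helper50.reflO Q u0 with hτO
  have hε0 : ε ⟨0, hd0⟩ ≠ 0 := by
    rcases hε ⟨0, hd0⟩ with h | h <;> rw [h] <;> simp
  have hgu : ((g : GL ι F) : Matrix ι ι F) *ᵥ u0 = ε ⟨0, hd0⟩ • u0 := by
    have := hxb ⟨0, hd0⟩ 0
    rw [hxl, Matrix.toLin'_apply] at this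
    exact this
  have hcommτ : g * τO = τO * g := by
    rw [hτO, Cfsg.Agent.Lib.Helper50.conj_reflO Q g u0 hu0Q, hgu,
      Cfsg.Agent.Lib.Helper50.reflO_smul Q u0 hu0Q _ hε0]
  have hconj : (τO : GL ι F)⁻¹ * x * (τO : GL ι F) = x := by
    have h1 : x * (τO : GL ι F) = (τO : GL ι F) * x := by
      have := congrArg (fun z : ↥(Cfsg.isometryGroup F (⇑Q)) => (z : GL ι F)) hcommτ
      simpa [hg] using this
    rw [mul_assoc, h1, ← mul_assoc, inv_mul_cancel, one_mul]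
  have hNx : NormTh (x : Matrix ι ι F) θ := by
    left
    rw [hθdef, ← hxmat, ← LinearMap.toMatrix'_comp, ← LinearMap.toMatrix'_comp, hcomm]
  refine ⟨θ, (τO : GL ι F), ?_, ?_, hNx, τO.2, ?_, ?_⟩
  · rw [hθdef, ← LinearMap.toMatrix'_comp]
    have : θl ∘ₗ θl = δ • LinearMap.id := by
      apply LinearMap.ext
      intro v
      simp [hθθ]
    rw [this, map_smul, LinearMap.toMatrix'_id]
  · intro u v
    rw [hθv, hθv]
    exact hθsa u v
  · have := Cfsg.Agent.Lib.Helper50.detHom_reflO Q u0 hu0Q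
    have h3 := congrArg Units.val this
    rw [Cfsg.Agent.Lib.Helper50.detHom_val] at h3
    rw [h3]
    simp
  · rw [hconj]
    exact hNx

end Cfsg.Agent.Lib.Helper87.OQF
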