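import Mathlib
import Cfsg.Agent.Lib.Helper72.OQFDefs
import Cfsg.Agent.Lib.Helper50.OmegaTransitive
import Cfsg.Agent.Lib.Helper50.SpinorIndex
import Cfsg.Agent.Lib.Helper50.GeoBridge
import Cfsg.Agent.Lib.Helper63.OQFM0
import Cfsg.Agent.Lib.Helper91.OQFT3
import Cfsg.Agent.Lib.Helper74.OQFREP1
import Cfsg.Agent.Lib.Helper87.OQFR2aAux

/-!
# K-OQF pack (S5977 / S5978, architect helper72), keystone 597707 (K-OQF-S)

`SO ≤ Ω · (N(K) ∩ GO)`: every isometry of determinant one is a product of an element of `Ω` and an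
isometry normalising the `O`-type subalgebra `K`.
-/

set_option autoImplicit false

namespace Cfsg.Agent.Lib.Helper87.OQF

open Cfsg Cfsg.Geo Cfsg.Agent.Lib.Helper72.OQF
open scoped Matrix MatrixGroups

variable {F : Type*} [Field F] {ι : Type} [Fintype ι] [DecidableEq ι]

/-- the product of the reflections in `u` and `θ u` commutes with `θ`, when `B u (θ u) = 0` -/
theorem refl_mul_refl_comm_theta (Q : QuadraticForm F (ι → F)) (δ : F) (hδ0 : δ ≠ 0)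
    (θ : Matrix ι ι F) (hθ : θ * θ = δ • (1 : Matrix ι ι F)) (hsa : IsSAMat (⇑Q) θ)
    (u : ι → F) (hu : Q u = 1) (hw : Q (θ *ᵥ u) = δ)
    (hB : QuadraticMap.polar (⇑Q) u (θ *ᵥ u) = 0) :
    (Cfsg.reflectionMatrix (⇑Q) u * Cfsg.reflectionMatrix (⇑Q) (θ *ᵥ u)) * θ =
      θ * (Cfsg.reflectionMatrix (⇑Q) u * Cfsg.reflectionMatrix (⇑Q) (θ *ᵥ u)) := by
  have hθθ : ∀ x : ι → F, θ *ᵥ (θ *ᵥ x) = δ • x := by
    intro x
    rw [Matrix.mulVec_mulVec, hθ, Matrix.smul_mulVec, Matrix.one_mulVec]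
  apply Matrix.toLin'.injective
  apply LinearMap.ext
  intro x
  simp only [Matrix.toLin'_apply, ← Matrix.mulVec_mulVec]
  simp only [Cfsg.Agent.Lib.Helper19.reflectionMatrix_mulVec, hu, hw, inv_one, one_mul]
  simp only [QuadraticMap.polar_sub_right, QuadraticMap.polar_smul_right, hB, smul_eq_mul,
    mul_zero, sub_zero, Matrix.mulVec_sub, Matrix.mulVec_smul, hθθ]
  rw [← hsa (θ *ᵥ u) x, hθθ, ← hsa u x, QuadraticMap.polar_smul_left, smul_eq_mul]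
  have e1 : δ⁻¹ * (δ * QuadraticMap.polar (⇑Q) u x) = QuadraticMap.polar (⇑Q) u x := by
    rw [← mul_assoc, inv_mul_cancel₀ hδ0, one_mul]
  have e2 : δ⁻¹ * QuadraticMap.polar (⇑Q) (θ *ᵥ u) x * δ = QuadraticMap.polar (⇑Q) (θ *ᵥ u) x := by
    rw [mul_comm, ← mul_assoc, mul_inv_cancel₀ hδ0, one_mul]
  rw [e1, smul_smul, e2]
  abel

/-- K-OQF-S (597707). -/
theorem exists_omega_mul_normalizer [Fintype F] (hodd : Odd (Fintype.card F)) (Q : QuadraticForm F (ι → F))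
    (hQ : (QuadraticMap.polarBilin Q).Nondegenerate) (hdim : 4 ≤ Fintype.card ι)
    (K : Subalgebra F (Matrix ι ι F)) (hK : IsOType (⇑Q) K)
    (h : GL ι F) (hh : h ∈ Cfsg.isometryGroup F (⇑Q)) (hdet : (h : Matrix ι ι F).det = 1) :
    ∃ ω ∈ omegaGL (⇑Q), ∃ n ∈ subalgebraNormalizer K, n ∈ Cfsg.isometryGroup F (⇑Q) ∧ h = ω * n := by
  classical
  have h2 : (2 : F) ≠ 0 := two_ne_zero_of_odd_card hodd
  obtain ⟨δ, hδ⟩ := Cfsg.Agent.Lib.Helper50.exists_nonsquare_of_two_ne_zero h2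
  have hδ0 : δ ≠ 0 := fun h0 => hδ (h0 ▸ ⟨0, by ring⟩)
  obtain ⟨θ, hθK, hθ2, hgen⟩ := Cfsg.Agent.Lib.Helper63.OQF.exists_theta hodd K hK.field δ hδ
  have hsa : IsSAMat (⇑Q) θ := hK.sa θ hθK
  have hθθ : ∀ x : ι → F, θ *ᵥ (θ *ᵥ x) = δ • x := by
    intro x
    rw [Matrix.mulVec_mulVec, hθ2, Matrix.smul_mulVec, Matrix.one_mulVec]
  have hθL : ∀ v, Matrix.toLin' θ (Matrix.toLin' θ v) = δ • v := by
    intro v
    rw [Matrix.toLin'_apply, Matrix.toLin'_apply]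
    exact hθθ v
  have hsaL : ∀ u v, QuadraticMap.polar (⇑Q) (Matrix.toLin' θ u) v =
      QuadraticMap.polar (⇑Q) u (Matrix.toLin' θ v) := by
    intro u v
    rw [Matrix.toLin'_apply, Matrix.toLin'_apply]
    exact hsa u v
  have hdimL : 4 ≤ Module.finrank F (ι → F) := by
    rw [Module.finrank_fintype_fun_eq_card]
    exact hdim
  obtain ⟨u, hu, hB⟩ := Cfsg.Agent.Lib.Helper74.OQF.exists_rep hodd Q hQ δ hδ (Matrix.toLin' θ) hθL hsaL
    hdimL 1 0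
  rw [Matrix.toLin'_apply] at hB
  have hw : Q (θ *ᵥ u) = δ := by
    have := Cfsg.Agent.Lib.Helper74.OQF.rep_Q_theta h2 Q δ (Matrix.toLin' θ) hθL hsaL u
    rw [Matrix.toLin'_apply, hu, mul_one] at this
    exact this
  have hu0 : Q u ≠ 0 := by rw [hu]; exact one_ne_zero
  have hw0 : Q (θ *ᵥ u) ≠ 0 := by rw [hw]; exact hδ0
  set d₂ : ↥(Cfsg.isometryGroup F (⇑Q)) :=
    Cfsg.Agent.Lib.Helper50.reflO Q u * Cfsg.Agent.Lib.Helper50.reflO Q (θ *ᵥ u) with hd₂def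
  have hd₂val : (((d₂ : ↥(Cfsg.isometryGroup F (⇑Q))) : GL ι F) : Matrix ι ι F) =
      Cfsg.reflectionMatrix (⇑Q) u * Cfsg.reflectionMatrix (⇑Q) (θ *ᵥ u) := by
    rw [hd₂def, Subgroup.coe_mul, Units.val_mul, Cfsg.Agent.Lib.Helper50.reflO_val Q u hu0,
      Cfsg.Agent.Lib.Helper50.reflO_val Q _ hw0]
  have hd₂N : ((d₂ : ↥(Cfsg.isometryGroup F (⇑Q))) : GL ι F) ∈ subalgebraNormalizer K := by
    apply Cfsg.Agent.Lib.Helper91.OQF.mem_normalizer_of_normTh K θ hgen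
    left
    rw [hd₂val]
    exact refl_mul_refl_comm_theta Q δ hδ0 θ hθ2 hsa u hu hw hB
  have hd₂det : Cfsg.Agent.Lib.Helper50.detHom (⇑Q) d₂ = 1 := by
    rw [hd₂def, map_mul, Cfsg.Agent.Lib.Helper50.detHom_reflO Q u hu0,
      Cfsg.Agent.Lib.Helper50.detHom_reflO Q _ hw0]
    simp
  have hd₂th : Cfsg.Agent.Lib.Helper50.theta (⇑Q) δ d₂ = -1 := by
    have hl : ∀ v ∈ [u, θ *ᵥ u], Q v ≠ 0 := by
      intro v hv
      simp only [List.mem_cons, List.not_mem_nil, or_false] at hv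
      rcases hv with rfl | rfl
      · exact hu0
      · exact hw0
    have key := Cfsg.Agent.Lib.Helper50.theta_prod_reflO h2 Q δ hδ [u, θ *ᵥ u] hl
    have hprod : ([u, θ *ᵥ u].map (Cfsg.Agent.Lib.Helper50.reflO Q)).prod = d₂ := by
      simp [hd₂def]
    rw [hprod] at key
    rcases Int.units_eq_one_or (Cfsg.Agent.Lib.Helper50.theta (⇑Q) δ d₂) with ht | ht
    · exfalso
      have := key.mp ht
      simp only [List.map_cons, List.map_nil, List.prod_cons, List.prod_nil, mul_one, hu, hw,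
        one_mul] at this
      exact hδ this
    · exact ht
  have hσdet : Cfsg.Agent.Lib.Helper50.detHom (⇑Q) ⟨h, hh⟩ = 1 := by
    apply Units.ext
    rw [Cfsg.Agent.Lib.Helper50.detHom_val, Units.val_one]
    exact hdet
  rcases Cfsg.Agent.Lib.Helper50.exists_adjust_odd_det_one h2 Q hQ δ hδ ⟨h, hh⟩ d₂ hσdet hd₂det hd₂th
    with hΩ | hΩ
  · refine ⟨h, ?_, 1, Subgroup.one_mem _, Subgroup.one_mem _, (mul_one h).symm⟩
    exact Cfsg.Agent.Lib.Helper50.coe_mem_omegaGL (⇑Q) ⟨h, hh⟩ hΩ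
  · refine ⟨h * (d₂ : GL ι F), ?_, ((d₂ : GL ι F))⁻¹, Subgroup.inv_mem _ hd₂N,
      Subgroup.inv_mem _ d₂.2, ?_⟩
    · exact Cfsg.Agent.Lib.Helper50.coe_mem_omegaGL (⇑Q) (⟨h, hh⟩ * d₂) hΩ
    · rw [mul_assoc, mul_inv_cancel, mul_one]

end Cfsg.Agent.Lib.Helper87.OQF
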