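import Cfsg.Agent.Lib.Helper73.UNdDefs
import Cfsg.Agent.Lib.Helper65.UNdBA1
import Cfsg.Agent.Lib.Helper99.HermCount
import Cfsg.Agent.Lib.Helper80.UNdEA

/-!
# K-UNd-EB (keystone 595433, architect helper73): double count of orthonormal frames.

If a prime `r` divides the number of nondegenerate `s`-subspaces of a hermitian `n`-space then `r` divides
`A(n - j)` for some `j < s`, where `A(k) = (hAZ q k).1` is the number of unit vectors of a nondegenerate `k`-space.
-/

set_option autoImplicit false

namespace Cfsg.Agent.Lib.Helper87.UNd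

open Module Cfsg.Agent.Lib.Helper99.HermONB Cfsg.Agent.Lib.Helper98.Elus Cfsg.Agent.Lib.Helper73.UNd
open Cfsg.Agent.Lib.Helper65.UNd

universe u
variable {F : Type u} [Field F] {V : Type u} [AddCommGroup V] [Module F V]
variable {q : ℕ} {h : V → V → F}

/-- orthonormal frames -/
def IsON (h : V → V → F) {k : ℕ} (s : Fin k → V) : Prop :=
  ∀ a b, h (s a) (s b) = if a = b then 1 else 0

/-- frames inside `U` -/
def InU (U : Submodule F V) {k : ℕ} (s : Fin k → V) : Prop := ∀ a, s a ∈ U

/-- the span of a frame -/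
def spanF (F : Type u) [Field F] {V : Type u} [AddCommGroup V] [Module F V] {k : ℕ}
    (s : Fin k → V) : Submodule F V := Submodule.span F (Set.range s)

theorem mem_spanF {k : ℕ} (s : Fin k → V) (a : Fin k) : s a ∈ spanF F s :=
  Submodule.subset_span ⟨a, rfl⟩

theorem spanF_le {k : ℕ} (s : Fin k → V) (U : Submodule F V) (hs : InU U s) : spanF F s ≤ U := by
  apply Submodule.span_le.mpr
  rintro _ ⟨a, rfl⟩
  exact hs a

theorem coeff_of_isON (hh : HForm q h) {k : ℕ} (s : Fin k → V) (hs : IsON h s) (c : Fin k → F)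
    (b : Fin k) : h (∑ a, c a • s a) (s b) = c b := by
  classical
  rw [hh.sum_left]
  simp only [hs _ b]
  rw [Finset.sum_eq_single b]
  · simp
  · intro a _ hab
    simp [hab]
  · intro hb
    exact absurd (Finset.mem_univ b) hb

theorem linInd_of_isON (hh : HForm q h) {k : ℕ} (s : Fin k → V) (hs : IsON h s) :
    LinearIndependent F s := by
  rw [Fintype.linearIndependent_iff]
  intro c hc b
  have := coeff_of_isON hh s hs c b
  rw [hc, hh.zero_left] at this
  exact this.symm

theorem finrank_spanF (hh : HForm q h) {k : ℕ} (s : Fin k → V) (hs : IsON h s) :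
    finrank F (spanF F s) = k := by
  have := finrank_span_eq_card (linInd_of_isON hh s hs)
  rw [Fintype.card_fin] at this
  exact this

theorem nd_spanF (hh : HForm q h) {k : ℕ} (s : Fin k → V) (hs : IsON h s) : ND h (spanF F s) := by
  intro u hu hu'
  obtain ⟨c, rfl⟩ := (Submodule.mem_span_range_iff_exists_fun F).1 hu
  have hc : ∀ b, c b = 0 := by
    intro b
    rw [← coeff_of_isON hh s hs c b]
    exact hu' _ (mem_spanF s b)
  simp [hc]

theorem mem_perp_spanF_iff [Fintype F] (hF : Fintype.card F = q ^ 2) (hh : HForm q h) {k : ℕ}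
    (s : Fin k → V) (x : V) : x ∈ perp hh (spanF F s) ↔ ∀ a, h x (s a) = 0 := by
  rw [mem_perp]
  constructor
  · intro hx a
    exact hx _ (mem_spanF s a)
  · intro hx w hw
    induction hw using Submodule.span_induction with
    | mem w hw =>
      obtain ⟨a, rfl⟩ := hw
      exact hx a
    | zero => exact hh.zero_right hF x
    | add u v _ _ hu hv => rw [hh.add_right hF, hu, hv, add_zero]
    | smul c u _ hu => rw [hh.smul_right, hu, mul_zero]

theorem isON_cons_iff [Fintype F] (hF : Fintype.card F = q ^ 2) (hh : HForm q h) {k : ℕ}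
    (s : Fin k → V) (x : V) :
    IsON h (Fin.cons x s : Fin (k + 1) → V) ↔ IsON h s ∧ h x x = 1 ∧ ∀ a, h x (s a) = 0 := by
  constructor
  · intro hs
    refine ⟨?_, ?_, ?_⟩
    · intro a b
      have := hs a.succ b.succ
      simpa [Fin.cons_succ] using this
    · have := hs 0 0
      simpa using this
    · intro a
      have := hs 0 a.succ
      simpa [Fin.cons_succ, Fin.succ_ne_zero, (Fin.succ_ne_zero a).symm] using this
  · rintro ⟨hs, hx, hxs⟩ a b
    refine Fin.cases ?_ (fun a' => ?_) a <;> refine Fin.cases ?_ (fun b' => ?_) b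
    · simpa using hx
    · simp only [Fin.cons_zero, Fin.cons_succ]
      rw [hxs b', if_neg (Fin.succ_ne_zero b').symm]
    · simp only [Fin.cons_zero, Fin.cons_succ]
      rw [eq_zero_symm hF hh (hxs a'), if_neg (Fin.succ_ne_zero a')]
    · simp only [Fin.cons_succ, Fin.succ_inj]
      exact hs a' b'

theorem inU_cons_iff (U : Submodule F V) {k : ℕ} (s : Fin k → V) (x : V) :
    InU U (Fin.cons x s : Fin (k + 1) → V) ↔ InU U s ∧ x ∈ U := by
  constructor
  · intro hs
    refine ⟨fun a => ?_, ?_⟩
    · have := hs a.succ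
      simpa [Fin.cons_succ] using this
    · have := hs 0
      simpa using this
  · rintro ⟨hs, hx⟩ a
    refine Fin.cases ?_ (fun a' => ?_) a
    · simpa using hx
    · simpa [Fin.cons_succ] using hs a'

theorem frame_cons_iff [Fintype F] (hF : Fintype.card F = q ^ 2) (hh : HForm q h)
    (U : Submodule F V) {k : ℕ} (s : Fin k → V) (x : V) :
    (IsON h (Fin.cons x s : Fin (k + 1) → V) ∧ InU U (Fin.cons x s : Fin (k + 1) → V)) ↔
      (IsON h s ∧ InU U s) ∧ (x ∈ perp hh (spanF F s) ⊓ U ∧ h x x = 1) := by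
  rw [isON_cons_iff hF hh, inU_cons_iff, Submodule.mem_inf, mem_perp_spanF_iff hF hh]
  tauto

theorem sigma_subtype_ext' {α β : Type*} {P : α → Prop} {Q : α → β → Prop}
    (a a' : α) (ha : P a) (ha' : P a') (b b' : β) (hb : Q a b) (hb' : Q a' b')
    (h1 : a = a') (h2 : b = b') :
    (⟨⟨a, ha⟩, ⟨b, hb⟩⟩ : Σ s : {s : α // P s}, {p : β // Q s.1 p}) = ⟨⟨a', ha'⟩, ⟨b', hb'⟩⟩ := by
  subst h1; subst h2; rfl

section Count

variable [Fintype F] [FiniteDimensional F V]

theorem card_frames (hF : Fintype.card F = q ^ 2) (hh : HForm q h) (U : Submodule F V) (hU : ND h U) :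
    ∀ k : ℕ, Nat.card {s : Fin k → V // IsON h s ∧ InU U s} =
      ∏ j ∈ Finset.range k, (Cfsg.Agent.Lib.Helper99.hAZ q (finrank F U - j)).1 := by
  classical
  haveI : Finite V := Module.finite_of_finite F
  intro k
  induction k with
  | zero =>
    rw [Finset.prod_range_zero]
    haveI : Unique {s : Fin 0 → V // IsON h s ∧ InU U s} :=
      { default := ⟨fun a => a.elim0, fun a => a.elim0, fun a => a.elim0⟩
        uniq := fun s => Subtype.ext (funext fun a => a.elim0) }
    exact Nat.card_unique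
  | succ k ih =>
    let e : {s : Fin (k + 1) → V // IsON h s ∧ InU U s} ≃
        Σ s : {s : Fin k → V // IsON h s ∧ InU U s},
          {x : V // x ∈ perp hh (spanF F s.1) ⊓ U ∧ h x x = 1} :=
      { toFun := fun s => ⟨⟨Fin.tail s.1,
            ((frame_cons_iff hF hh U (Fin.tail s.1) (s.1 0)).mp
              (by rw [Fin.cons_self_tail]; exact s.2)).1⟩,
          ⟨s.1 0, ((frame_cons_iff hF hh U (Fin.tail s.1) (s.1 0)).mp
              (by rw [Fin.cons_self_tail]; exact s.2)).2⟩⟩
        invFun := fun s => ⟨Fin.cons s.2.1 s.1.1,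
          (frame_cons_iff hF hh U s.1.1 s.2.1).mpr ⟨s.1.2, s.2.2⟩⟩
        left_inv := fun s => by simp only [Fin.cons_self_tail, Subtype.coe_eta]
        right_inv := fun ⟨⟨s, hs⟩, ⟨x, hx⟩⟩ =>
          sigma_subtype_ext' (P := fun (s : Fin k → V) => IsON h s ∧ InU U s)
            (Q := fun (s : Fin k → V) (x : V) => x ∈ perp hh (spanF F s) ⊓ U ∧ h x x = 1) _ _ _ _ _ _ _ _
            (show Fin.tail (Fin.cons x s : Fin (k + 1) → V) = s from Fin.tail_cons _ _)
            (show (Fin.cons x s : Fin (k + 1) → V) 0 = x from Fin.cons_zero _ _) }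
    rw [Nat.card_congr e]
    haveI : Fintype {s : Fin k → V // IsON h s ∧ InU U s} := Fintype.ofFinite _
    rw [Nat.card_sigma]
    have hfib : ∀ s : {s : Fin k → V // IsON h s ∧ InU U s},
        Nat.card {x : V // x ∈ perp hh (spanF F s.1) ⊓ U ∧ h x x = 1} =
          (Cfsg.Agent.Lib.Helper99.hAZ q (finrank F U - k)).1 := by
      intro s
      obtain ⟨-, -, h3, h4⟩ := compl_props hF hh (spanF F s.1) U (nd_spanF hh s.1 s.2.1)
        (spanF_le s.1 U s.2.2) hU
      have h5 := finrank_spanF hh s.1 s.2.1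
      have h6 : finrank F ↥(perp hh (spanF F s.1) ⊓ U) = finrank F U - k := by omega
      exact Cfsg.Agent.Lib.Helper80.UNd.card_norm_one_u hF hh _ h3 _ h6
    rw [Finset.sum_congr rfl (fun s _ => hfib s), Finset.sum_const,
      Finset.card_univ, ← Nat.card_eq_fintype_card, ih, Finset.prod_range_succ, smul_eq_mul]

theorem card_frames_eq_mul (hF : Fintype.card F = q ^ 2) (hh : HForm q h) (m : ℕ) :
    Nat.card {s : Fin m → V // IsON h s ∧ InU (⊤ : Submodule F V) s} =
      Nat.card {W : Submodule F V // finrank F W = m ∧ ND h W} *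
        ∏ j ∈ Finset.range m, (Cfsg.Agent.Lib.Helper99.hAZ q (m - j)).1 := by
  classical
  haveI : Finite V := Module.finite_of_finite F
  let fmap : {s : Fin m → V // IsON h s ∧ InU (⊤ : Submodule F V) s} →
      {W : Submodule F V // finrank F W = m ∧ ND h W} :=
    fun s => ⟨spanF F s.1, finrank_spanF hh s.1 s.2.1, nd_spanF hh s.1 s.2.1⟩
  rw [← Nat.card_congr (Equiv.sigmaFiberEquiv fmap)]
  haveI : Fintype {W : Submodule F V // finrank F W = m ∧ ND h W} := Fintype.ofFinite _
  rw [Nat.card_sigma]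
  have hfib : ∀ W : {W : Submodule F V // finrank F W = m ∧ ND h W},
      Nat.card {s : {s : Fin m → V // IsON h s ∧ InU (⊤ : Submodule F V) s} // fmap s = W} =
        ∏ j ∈ Finset.range m, (Cfsg.Agent.Lib.Helper99.hAZ q (m - j)).1 := by
    intro W
    let e : {s : {s : Fin m → V // IsON h s ∧ InU (⊤ : Submodule F V) s} // fmap s = W} ≃
        {t : Fin m → V // IsON h t ∧ InU W.1 t} :=
      { toFun := fun s => ⟨s.1.1, s.1.2.1, fun a => by
            have h1 : spanF F s.1.1 = W.1 := congrArg Subtype.val s.2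
            rw [← h1]
            exact mem_spanF s.1.1 a⟩
        invFun := fun t => ⟨⟨t.1, t.2.1, fun a => Submodule.mem_top⟩, by
            apply Subtype.ext
            show spanF F t.1 = W.1
            exact Submodule.eq_of_le_of_finrank_eq (spanF_le t.1 W.1 t.2.2)
              (by rw [finrank_spanF hh t.1 t.2.1, W.2.1])⟩
        left_inv := fun s => by
          apply Subtype.ext
          apply Subtype.ext
          rfl
        right_inv := fun t => by
          apply Subtype.ext
          rfl }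
    rw [Nat.card_congr e, card_frames hF hh W.1 W.2.2 m, W.2.1]
  rw [Finset.sum_congr rfl (fun W _ => hfib W), Finset.sum_const, Finset.card_univ,
    ← Nat.card_eq_fintype_card, smul_eq_mul]

/-- **K-UNd-EB** (595433). -/
theorem exists_of_dvd_card_nd_u (hF : Fintype.card F = q ^ 2)
    (hh : HForm q h) (n s : ℕ) (hn : finrank F V = n) (_hs : s ≤ n) (r : ℕ) [Fact r.Prime]
    (hr : r ∣ Nat.card {W : Submodule F V // finrank F W = s ∧ ND h W}) :
    ∃ j, j < s ∧ r ∣ (Cfsg.Agent.Lib.Helper99.hAZ q (n - j)).1 := by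
  have hrp : r.Prime := Fact.out
  have h1 := card_frames_eq_mul (V := V) hF hh s
  rw [card_frames hF hh ⊤ (nd_top hh) s, finrank_top, hn] at h1
  have h2 : r ∣ ∏ j ∈ Finset.range s, (Cfsg.Agent.Lib.Helper99.hAZ q (n - j)).1 := by
    rw [h1]
    exact dvd_mul_of_dvd_left hr _
  obtain ⟨j, hj, hdvd⟩ := (Prime.dvd_finsetProd_iff hrp.prime _).mp h2
  exact ⟨j, Finset.mem_range.mp hj, hdvd⟩

end Count

end Cfsg.Agent.Lib.Helper87.UNd
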