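import Cfsg.Agent.Lib.Helper87.BisetTwisted

set_option autoImplicit false

/-!
The group of permutations of an `(S × S)`-set commuting with the second factor, and the action of the first factor.
-/

namespace Cfsg.Agent.Lib.Helper87

section RightAut

variable (S : Type*) [Group S] (X : Type*) [MulAction (S × S) X]

/-- The permutations of `X` commuting with the action of `1 × S`. -/
def rightAut : Subgroup (Equiv.Perm X) where
  carrier := {g | ∀ (t : S) (x : X), g (((1 : S), t) • x) = ((1 : S), t) • g x}
  one_mem' := fun _ _ => rfl
  mul_mem' := by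
    intro g h hg hh t x
    show g (h (((1 : S), t) • x)) = ((1 : S), t) • g (h x)
    rw [hh, hg]
  inv_mem' := by
    intro g hg t x
    apply g.injective
    rw [hg]
    simp

variable {S X}

theorem mem_rightAut {g : Equiv.Perm X} :
    g ∈ rightAut S X ↔ ∀ (t : S) (x : X), g (((1 : S), t) • x) = ((1 : S), t) • g x := Iff.rfl

variable (S X)

/-- The action of `S × 1`. -/
def leftHom : S →* rightAut S X where
  toFun s := ⟨MulAction.toPerm ((s, (1 : S)) : S × S), by
    intro t x
    show ((s, (1 : S)) : S × S) • (((1 : S), t) • x) = ((1 : S), t) • (((s, (1 : S)) : S × S) • x)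
    rw [smul_smul, smul_smul]
    simp⟩
  map_one' := by
    apply Subtype.ext
    ext x
    show (((1 : S), (1 : S)) : S × S) • x = x
    exact one_smul _ x
  map_mul' := by
    intro s s'
    apply Subtype.ext
    ext x
    show ((s * s', (1 : S)) : S × S) • x = ((s, (1 : S)) : S × S) • (((s', (1 : S)) : S × S) • x)
    rw [smul_smul]
    simp

variable {S X}

theorem leftHom_apply (s : S) (x : X) : ((leftHom S X s : rightAut S X) : Equiv.Perm X) x = ((s, (1 : S)) : S × S) • x :=
  rfl

end RightAut

section Marks

variable {S : Type*} [Group S] [Finite S] {X : Type*} [MulAction (S × S) X] [Finite X]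

/-- Two homomorphisms `α β : Γ' → S × S` agreeing on the second factor, such that the pullbacks of `X` along them have
the same marks: there is a permutation of `X`, commuting with `1 × S`, intertwining the two pullbacks. -/
theorem exists_rightAut_of_marks {P : Type*} [Group P] [Finite P] (α β : P →* S)
    (hmarks : ∀ K : Subgroup (P × S),
      Nat.card {x : X // ∀ k ∈ K.map (α.prodMap (MonoidHom.id S)), k • x = x} =
      Nat.card {x : X // ∀ k ∈ K.map (β.prodMap (MonoidHom.id S)), k • x = x}) :
    ∃ g : rightAut S X, ∀ u : P, leftHom S X (β u) = g * leftHom S X (α u) * g⁻¹ := by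
  set a : P × S →* Equiv.Perm X := (MulAction.toPermHom (S × S) X).comp (α.prodMap (MonoidHom.id S)) with ha
  set b : P × S →* Equiv.Perm X := (MulAction.toPermHom (S × S) X).comp (β.prodMap (MonoidHom.id S)) with hb
  have haa : ∀ (k : P × S) (x : X), a k x = ((α k.1, k.2) : S × S) • x := fun k x => rfl
  have hbb : ∀ (k : P × S) (x : X), b k x = ((β k.1, k.2) : S × S) • x := fun k x => rfl
  have h : ∀ K : Subgroup (P × S), Nat.card {x : X // ∀ k ∈ K, a k x = x} =
      Nat.card {y : X // ∀ k ∈ K, b k y = y} := by
    intro K
    have e1 : Nat.card {x : X // ∀ k ∈ K, a k x = x} =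
        Nat.card {x : X // ∀ k ∈ K.map (α.prodMap (MonoidHom.id S)), k • x = x} := by
      apply Nat.card_congr
      apply Equiv.subtypeEquivRight
      intro x
      constructor
      · rintro h _ ⟨k, hk, rfl⟩
        exact h k hk
      · intro h k hk
        exact h _ ⟨k, hk, rfl⟩
    have e2 : Nat.card {x : X // ∀ k ∈ K, b k x = x} =
        Nat.card {x : X // ∀ k ∈ K.map (β.prodMap (MonoidHom.id S)), k • x = x} := by
      apply Nat.card_congr
      apply Equiv.subtypeEquivRight
      intro x
      constructor
      · rintro h _ ⟨k, hk, rfl⟩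
        exact h k hk
      · intro h k hk
        exact h _ ⟨k, hk, rfl⟩
    rw [e1, e2, hmarks K]
  obtain ⟨e, he⟩ := exists_equiv_of_marks a b h
  have heG : e ∈ rightAut S X := by
    intro t x
    have := he ((1 : P), t) x
    rw [haa, hbb, map_one, map_one] at this
    exact this
  refine ⟨⟨e, heG⟩, fun u => ?_⟩
  rw [eq_mul_inv_iff_mul_eq]
  apply Subtype.ext
  ext x
  show ((β u, (1 : S)) : S × S) • e x = e (((α u, (1 : S)) : S × S) • x)
  have := he (u, (1 : S)) x
  rw [haa, hbb] at this
  exact this.symm

end Marks

end Cfsg.Agent.Lib.Helper87
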