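import Mathlib

set_option autoImplicit false

/-!
A purely combinatorial lemma: balanced multiplicities, extending given multiplicities on the top level.
-/

namespace Cfsg.Agent.Lib.Helper87

open Classical in
/-- **Balanced multiplicities.**  `𝔖` a finite set (of "subgroups") with a size function, an equivalence relation `r`
("conjugacy") preserving the size, an `r`-closed subset `𝒟`, a coarser equivalence relation `E` on `𝒟` and a "mark"
function `f K D`.  Suppose that, whenever the total marks of multiplicities `m` supported on `𝒟` are `E`-invariant above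
the size of `D`, the total marks at `D` and at a "good" `E`-equivalent `D'` are congruent modulo `f D D`.  Then
multiplicities `m₀` supported on the level `s` and balanced there extend to multiplicities balanced on all of `𝒟`. -/
theorem exists_balanced_mult {𝔖 : Type*} [Fintype 𝔖] (sz : 𝔖 → ℕ) (r : 𝔖 → 𝔖 → Prop)
    (hr : Equivalence r) (hsz : ∀ a b, r a b → sz a = sz b) (𝒟 : Set 𝔖)
    (h𝒟 : ∀ a b, r a b → a ∈ 𝒟 → b ∈ 𝒟)
    (E : 𝔖 → 𝔖 → Prop) (hE : Equivalence E) (hrE : ∀ a b, a ∈ 𝒟 → r a b → E a b)
    (hEsz : ∀ a b, a ∈ 𝒟 → E a b → sz a = sz b) (hE𝒟 : ∀ a b, a ∈ 𝒟 → E a b → b ∈ 𝒟)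
    (f : 𝔖 → 𝔖 → ℕ)
    (f1 : ∀ K D, f K D ≠ 0 → sz K ≤ sz D) (f2 : ∀ K D, f K D ≠ 0 → sz K = sz D → r K D)
    (f3 : ∀ K K' D, r K K' → f K D = f K' D) (f3' : ∀ K D D', r D D' → f K D = f K D')
    (f4 : ∀ D, f D D ≠ 0)
    (s : ℕ)
    (good : 𝔖 → Prop) (hgood : ∀ D ∈ 𝒟, ∃ D', E D D' ∧ good D')
    (cong : ∀ m : 𝔖 → ℕ, (∀ D, m D ≠ 0 → D ∈ 𝒟) → ∀ D D', D ∈ 𝒟 → E D D' → good D' →
      (∀ K K', K ∈ 𝒟 → sz D < sz K → E K K' → ∑ A, m A * f K A = ∑ A, m A * f K' A) →
      (∑ A, m A * f D A) ≡ (∑ A, m A * f D' A) [MOD f D D])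
    (m₀ : 𝔖 → ℕ) (hm₀ : ∀ D, m₀ D ≠ 0 → D ∈ 𝒟 ∧ sz D = s)
    (hm₀bal : ∀ K K', K ∈ 𝒟 → s ≤ sz K → E K K' → ∑ A, m₀ A * f K A = ∑ A, m₀ A * f K' A) :
    ∃ m : 𝔖 → ℕ, (∀ D, m D ≠ 0 → D ∈ 𝒟) ∧ (∀ D, s ≤ sz D → m D = m₀ D) ∧
      ∀ K K', K ∈ 𝒟 → E K K' → ∑ A, m A * f K A = ∑ A, m A * f K' A := by
  classical
  -- representatives of conjugacy classes
  let sr : Setoid 𝔖 := ⟨r, hr⟩
  set rep : 𝔖 → 𝔖 := fun K => (Quotient.mk sr K).out with hrep
  have hrep1 : ∀ K, r (rep K) K := fun K => Quotient.exact (Quotient.out_eq (Quotient.mk sr K))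
  have hrep2 : ∀ K K', r K K' → rep K = rep K' := by
    intro K K' h
    simp only [hrep]
    rw [Quotient.sound (s := sr) h]
  set L : ℕ := ∏ D : 𝔖, f D D with hL
  have hLdvd : ∀ D, f D D ∣ L := fun D => Finset.dvd_prod_of_mem _ (Finset.mem_univ D)
  have hLpos : 0 < L := by
    apply Finset.prod_pos
    intro D _
    exact Nat.pos_of_ne_zero (f4 D)
  have key : ∀ t : ℕ, ∃ m : 𝔖 → ℕ, (∀ D, m D ≠ 0 → D ∈ 𝒟) ∧ (∀ D, s ≤ sz D → m D = m₀ D) ∧
      ∀ K K', K ∈ 𝒟 → s - t ≤ sz K → E K K' → ∑ A, m A * f K A = ∑ A, m A * f K' A := by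
    intro t
    induction t with
    | zero =>
      refine ⟨m₀, fun D h => (hm₀ D h).1, fun _ _ => rfl, ?_⟩
      intro K K' hK hs hKK'
      exact hm₀bal K K' hK (by omega) hKK'
    | succ t ih =>
      obtain ⟨m₁, hsupp, htop, hbal⟩ := ih
      by_cases hle : s - t = 0
      · refine ⟨m₁, hsupp, htop, ?_⟩
        intro K K' hK _ hKK'
        exact hbal K K' hK (by omega) hKK'
      · obtain ⟨j, hj⟩ : ∃ j, s - t = j + 1 := ⟨s - t - 1, by omega⟩
        have hj' : s - (t + 1) = j := by omega
        rw [hj] at hbal
        rw [hj']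
        set c : 𝔖 → ℕ := fun K => ∑ A, m₁ A * f K A with hc
        have hcr : ∀ K K', r K K' → c K = c K' := by
          intro K K' h
          simp only [hc]
          apply Finset.sum_congr rfl
          intro D _
          rw [f3 K K' D h]
        -- the targets
        set Q : 𝔖 → ℕ → Prop := fun K N => ∀ K', E K K' → c K' ≤ N ∧ N ≡ c K' [MOD f K' K'] with hQ
        have hQex : ∀ K, K ∈ 𝒟 → sz K = j → ∃ N, Q K N := by
          intro K hK hKj
          obtain ⟨D', hKD', hD'⟩ := hgood K hK
          set M : ℕ := ∑ A, c A with hM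
          refine ⟨c D' + M * L, fun K' hKK' => ?_⟩
          have hK' : K' ∈ 𝒟 := hE𝒟 K K' hK hKK'
          have hK'j : sz K' = j := by rw [← hEsz K K' hK hKK']; exact hKj
          constructor
          · have h1 : c K' ≤ M := Finset.single_le_sum (f := c) (fun _ _ => Nat.zero_le _) (Finset.mem_univ K')
            have h2 : M ≤ M * L := Nat.le_mul_of_pos_right _ hLpos
            omega
          · have h1 := cong m₁ hsupp K' D' hK' (hE.trans (hE.symm hKK') hKD') hD' (by
              intro K₁ K₂ hK₁ hlt hK₁K₂
              exact hbal K₁ K₂ hK₁ (by omega) hK₁K₂)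
            have h2 : (c D' + M * L) ≡ c D' [MOD f K' K'] := by
              have : M * L ≡ 0 [MOD f K' K'] := by
                rw [Nat.modEq_zero_iff_dvd]
                exact Dvd.dvd.mul_left (hLdvd K') M
              simpa using Nat.ModEq.add_left (c D') this
            exact h2.trans h1.symm
        set Nf : 𝔖 → ℕ := fun K => sInf {N | Q K N} with hNf
        have hNfQ : ∀ K, K ∈ 𝒟 → sz K = j → Q K (Nf K) := by
          intro K hK hKj
          exact Nat.sInf_mem (hQex K hK hKj)
        have hNfE : ∀ K K', E K K' → Nf K = Nf K' := by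
          intro K K' h
          have : Q K = Q K' := by
            funext N
            apply propext
            simp only [hQ]
            constructor
            · intro h1 K'' h2
              exact h1 K'' (hE.trans h h2)
            · intro h1 K'' h2
              exact h1 K'' (hE.trans (hE.symm h) h2)
          simp only [hNf, this]
        have hNfge : ∀ K, K ∈ 𝒟 → sz K = j → c K ≤ Nf K := fun K hK hKj =>
          ((hNfQ K hK hKj) K (hE.refl K)).1
        have hNfdvd : ∀ K, K ∈ 𝒟 → sz K = j → f K K ∣ Nf K - c K := by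
          intro K hK hKj
          have h1 := ((hNfQ K hK hKj) K (hE.refl K)).2
          exact (Nat.modEq_iff_dvd' (hNfge K hK hKj)).mp h1.symm
        -- the new multiplicities
        set k : 𝔖 → ℕ := fun A => if A ∈ 𝒟 ∧ sz A = j ∧ rep A = A then (Nf A - c A) / f A A else 0 with hk
        have hksupp : ∀ A, k A ≠ 0 → A ∈ 𝒟 ∧ sz A = j ∧ rep A = A := by
          intro A h
          by_contra hcon
          simp only [hk, if_neg hcon] at h
          exact h rfl
        have hsum_hi : ∀ K, j < sz K → ∑ A, k A * f K A = 0 := by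
          intro K hK
          apply Finset.sum_eq_zero
          intro A _
          by_cases hkA : k A = 0
          · rw [hkA, zero_mul]
          · have hs := (hksupp A hkA).2.1
            have : f K A = 0 := by
              by_contra hf
              have := f1 K A hf
              omega
            rw [this, mul_zero]
        have hsum_eq : ∀ K, K ∈ 𝒟 → sz K = j → ∑ A, k A * f K A = Nf K - c K := by
          intro K hK hKj
          have hrK : r K (rep K) := hr.symm (hrep1 K)
          have hrepK𝒟 : rep K ∈ 𝒟 := h𝒟 K (rep K) hrK hK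
          have hrepKj : sz (rep K) = j := by rw [← hsz K (rep K) hrK]; exact hKj
          rw [Finset.sum_eq_single (rep K)]
          · have hcond : rep K ∈ 𝒟 ∧ sz (rep K) = j ∧ rep (rep K) = rep K :=
              ⟨hrepK𝒟, hrepKj, (hrep2 K (rep K) hrK).symm⟩
            simp only [hk, if_pos hcond]
            rw [← hNfE K (rep K) (hrE K (rep K) hK hrK), ← hcr K (rep K) hrK]
            have e1 : f (rep K) (rep K) = f K K := by
              rw [← f3 K (rep K) (rep K) hrK, ← f3' K K (rep K) hrK]
            have e2 : f K (rep K) = f K K := (f3' K K (rep K) hrK).symm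
            rw [e1, e2]
            exact Nat.div_mul_cancel (hNfdvd K hK hKj)
          · intro A _ hA
            by_cases hkA : k A = 0
            · rw [hkA, zero_mul]
            · obtain ⟨_, hAj, hrepA⟩ := hksupp A hkA
              have : f K A = 0 := by
                by_contra hf
                have h1 : r K A := f2 K A hf (by rw [hKj, hAj])
                apply hA
                rw [← hrepA, hrep2 K A h1]
              rw [this, mul_zero]
          · intro h
            exact absurd (Finset.mem_univ _) h
        refine ⟨fun D => m₁ D + k D, ?_, ?_, ?_⟩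
        · intro D h
          by_cases h1 : m₁ D = 0
          · have h2 : k D ≠ 0 := by
              intro h3; apply h; show m₁ D + k D = 0; rw [h1, h3]
            exact (hksupp D h2).1
          · exact hsupp D h1
        · intro D hD
          show m₁ D + k D = m₀ D
          have : k D = 0 := by
            by_contra h
            have := (hksupp D h).2.1
            omega
          rw [this, add_zero, htop D hD]
        · intro K K' hK hs hKK'
          have hK' : K' ∈ 𝒟 := hE𝒟 K K' hK hKK'
          have hss : sz K = sz K' := hEsz K K' hK hKK'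
          have hsplit : ∀ K, ∑ D, (m₁ D + k D) * f K D = c K + ∑ D, k D * f K D := by
            intro K
            simp only [add_mul, Finset.sum_add_distrib, hc]
          rw [hsplit K, hsplit K']
          by_cases h1 : sz K = j
          · have h1' : sz K' = j := by rw [← hss]; exact h1
            rw [hsum_eq K hK h1, hsum_eq K' hK' h1']
            have := hNfge K hK h1
            have := hNfge K' hK' h1'
            have := hNfE K K' hKK'
            omega
          · have h2 : j < sz K := by omega
            have h2' : j < sz K' := by omega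
            rw [hsum_hi K h2, hsum_hi K' h2']
            have := hbal K K' hK (by omega) hKK'
            simp only [hc]
            rw [this]
  obtain ⟨m, hsupp, htop, hbal⟩ := key s
  refine ⟨m, hsupp, htop, fun K K' hK hKK' => hbal K K' hK (by omega) hKK'⟩

end Cfsg.Agent.Lib.Helper87
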