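import Mathlib

set_option autoImplicit false

/-!
A relative form of the orbit counting lemma, and a congruence between the fixed points of two actions.
-/

namespace Cfsg.Agent.Lib.Helper87

section Burnside

variable {Λ : Type*} [Group Λ] {X : Type*}

/-- The number of fixed points of a subgroup under an action given by a homomorphism. -/
noncomputable def fpCount (a : Λ →* Equiv.Perm X) (K : Subgroup Λ) : ℕ :=
  Nat.card {x : X // ∀ k ∈ K, a k x = x}

/-- The stabilizer of a point under an action given by a homomorphism. -/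
def stabOf (a : Λ →* Equiv.Perm X) (x : X) : Subgroup Λ :=
  (MulAction.stabilizer (Equiv.Perm X) x).comap a

theorem mem_stabOf (a : Λ →* Equiv.Perm X) (x : X) (k : Λ) : k ∈ stabOf a x ↔ a k x = x := Iff.rfl

theorem forall_mem_sup_zpowers_iff (a : Λ →* Equiv.Perm X) (D : Subgroup Λ) (n : Λ) (x : X) :
    (∀ k ∈ D ⊔ Subgroup.zpowers n, a k x = x) ↔ (∀ k ∈ D, a k x = x) ∧ a n x = x := by
  have : (∀ k ∈ D ⊔ Subgroup.zpowers n, a k x = x) ↔ D ⊔ Subgroup.zpowers n ≤ stabOf a x := Iff.rfl
  rw [this, sup_le_iff, Subgroup.zpowers_le]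
  rfl

theorem sup_zpowers_eq_of_mem (D : Subgroup Λ) {n : Λ} (hn : n ∈ D) : D ⊔ Subgroup.zpowers n = D := by
  apply sup_eq_left.mpr
  rw [Subgroup.zpowers_le]; exact hn

/-- The relative orbit counting lemma. -/
theorem card_dvd_sum_fpCount [Finite Λ] [Finite X] (a : Λ →* Equiv.Perm X) (D N : Subgroup Λ)
    (hN : N ≤ Subgroup.normalizer (D : Set Λ)) [Fintype N] :
    Nat.card N ∣ ∑ n : N, fpCount a (D ⊔ Subgroup.zpowers (n : Λ)) := by
  classical
  -- the action of `N` on the fixed points of `D`
  let Y := {x : X // ∀ k ∈ D, a k x = x}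
  have hstable : ∀ (n : N) (y : Y), ∀ k ∈ D, a k (a (n : Λ) y.1) = a (n : Λ) y.1 := by
    intro n y k hk
    have h1 : (n : Λ)⁻¹ * k * (n : Λ) ∈ D := by
      have hn := hN n.2
      have := (Subgroup.mem_normalizer_iff.mp (Subgroup.inv_mem _ hn) k).mp hk
      simpa using this
    have h2 := y.2 _ h1
    have h3 : a k (a (n : Λ) y.1) = a (n : Λ) (a ((n : Λ)⁻¹ * k * (n : Λ)) y.1) := by
      rw [← Equiv.Perm.mul_apply, ← Equiv.Perm.mul_apply, ← map_mul, ← map_mul]
      congr 2
      group
    rw [h3, h2]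
  letI : MulAction N Y :=
    { smul := fun n y => ⟨a (n : Λ) y.1, hstable n y⟩
      one_smul := by
        intro y
        apply Subtype.ext
        show a ((1 : N) : Λ) y.1 = y.1
        rw [Subgroup.coe_one, map_one]; rfl
      mul_smul := by
        intro n n' y
        apply Subtype.ext
        show a ((n * n' : N) : Λ) y.1 = a (n : Λ) (a (n' : Λ) y.1)
        rw [Subgroup.coe_mul, map_mul]; rfl }
  have hsmul : ∀ (n : N) (y : Y), ((n • y : Y) : X) = a (n : Λ) y.1 := fun n y => rfl
  haveI : Fintype Y := Fintype.ofFinite Y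
  have hB := MulAction.sum_card_fixedBy_eq_card_orbits_mul_card_group N Y
  have hterm : ∀ n : N, Fintype.card (MulAction.fixedBy Y n) = fpCount a (D ⊔ Subgroup.zpowers (n : Λ)) := by
    intro n
    rw [← Nat.card_eq_fintype_card, fpCount]
    apply Nat.card_congr
    refine
      { toFun := fun y => ⟨y.1.1, (forall_mem_sup_zpowers_iff a D n y.1.1).mpr ⟨y.1.2, ?_⟩⟩
        invFun := fun x => ⟨⟨x.1, ((forall_mem_sup_zpowers_iff a D n x.1).mp x.2).1⟩, ?_⟩
        left_inv := fun y => rfl
        right_inv := fun x => rfl }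
    · have := y.2
      rw [MulAction.mem_fixedBy] at this
      have h2 := congrArg (fun z : Y => (z : X)) this
      exact h2
    · rw [MulAction.mem_fixedBy]
      apply Subtype.ext
      exact ((forall_mem_sup_zpowers_iff a D n x.1).mp x.2).2
  rw [Finset.sum_congr rfl (fun n _ => hterm n)] at hB
  rw [hB, Nat.card_eq_fintype_card]
  exact Dvd.intro_left _ rfl

/-- Two actions of `Λ` whose numbers of fixed points agree on the subgroups strictly between `D` and `N`: the numbers
of fixed points of `D` are congruent. -/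
theorem modEq_of_two_actions [Finite Λ] [Finite X] (a b : Λ →* Equiv.Perm X) (D N : Subgroup Λ)
    (hDN : D ≤ N) (hN : N ≤ Subgroup.normalizer (D : Set Λ))
    (h : ∀ n ∈ N, n ∉ D → fpCount a (D ⊔ Subgroup.zpowers n) = fpCount b (D ⊔ Subgroup.zpowers n)) :
    Nat.card D * fpCount a D ≡ Nat.card D * fpCount b D [MOD Nat.card N] := by
  classical
  haveI : Fintype N := Fintype.ofFinite N
  have ha := card_dvd_sum_fpCount a D N hN
  have hb := card_dvd_sum_fpCount b D N hN
  -- split the sums
  have hsplit : ∀ c : Λ →* Equiv.Perm X, ∑ n : N, fpCount c (D ⊔ Subgroup.zpowers (n : Λ)) =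
      Nat.card D * fpCount c D +
        ∑ n : N, (if (n : Λ) ∈ D then 0 else fpCount c (D ⊔ Subgroup.zpowers (n : Λ))) := by
    intro c
    have h1 : ∀ n : N, fpCount c (D ⊔ Subgroup.zpowers (n : Λ)) =
        (if (n : Λ) ∈ D then fpCount c D else 0) +
          (if (n : Λ) ∈ D then 0 else fpCount c (D ⊔ Subgroup.zpowers (n : Λ))) := by
      intro n
      by_cases hn : (n : Λ) ∈ D
      · rw [if_pos hn, if_pos hn, add_zero, sup_zpowers_eq_of_mem D hn]
      · rw [if_neg hn, if_neg hn, zero_add]
    rw [Finset.sum_congr rfl (fun n _ => h1 n), Finset.sum_add_distrib]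
    congr 1
    rw [← Finset.sum_filter, Finset.sum_const, smul_eq_mul]
    congr 1
    -- the number of elements of `N` lying in `D`
    have : (Finset.univ.filter (fun n : N => (n : Λ) ∈ D)).card = Nat.card (D.subgroupOf N) := by
      rw [Nat.card_eq_fintype_card, Fintype.card_subtype]
      rfl
    rw [this]
    exact Nat.card_congr (Subgroup.subgroupOfEquivOfLe hDN).toEquiv
  rw [hsplit a] at ha
  rw [hsplit b] at hb
  have hrest : ∑ n : N, (if (n : Λ) ∈ D then 0 else fpCount a (D ⊔ Subgroup.zpowers (n : Λ))) =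
      ∑ n : N, (if (n : Λ) ∈ D then 0 else fpCount b (D ⊔ Subgroup.zpowers (n : Λ))) := by
    apply Finset.sum_congr rfl
    intro n _
    by_cases hn : (n : Λ) ∈ D
    · rw [if_pos hn, if_pos hn]
    · rw [if_neg hn, if_neg hn, h n n.2 hn]
  rw [hrest] at ha
  have h1 : Nat.card D * fpCount a D +
      ∑ n : N, (if (n : Λ) ∈ D then 0 else fpCount b (D ⊔ Subgroup.zpowers (n : Λ))) ≡
      Nat.card D * fpCount b D +
      ∑ n : N, (if (n : Λ) ∈ D then 0 else fpCount b (D ⊔ Subgroup.zpowers (n : Λ))) [MOD Nat.card N] :=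
    ((Nat.modEq_zero_iff_dvd).mpr ha).trans ((Nat.modEq_zero_iff_dvd).mpr hb).symm
  exact Nat.ModEq.add_right_cancel' _ h1

end Burnside

end Cfsg.Agent.Lib.Helper87
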