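import Cfsg.Agent.Lib.Helper87.BisetTop
import Cfsg.Agent.Lib.Helper87.BisetBalance

set_option autoImplicit false

/-!
The characteristic biset of a saturated fusion system.
-/

namespace Cfsg.Agent.Lib.Helper87

open Cfsg Cfsg.FusionSystem

variable {Ω : Type*} [Group Ω] {S : Subgroup Ω}

/-- The number of points of `BSet m`. -/
theorem card_bset {Γ : Type*} [Group Γ] [Finite Γ] [Fintype (Subgroup Γ)] (m : Subgroup Γ → ℕ) :
    Nat.card (BSet m) = ∑ D : Subgroup Γ, m D * D.index := by
  classical
  rw [Nat.card_sigma, Fintype.sum_sigma]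
  apply Finset.sum_congr rfl
  intro D _
  show ∑ _x : Fin (m D), Nat.card (Γ ⧸ D) = m D * D.index
  rw [Finset.sum_const, Finset.card_univ, Fintype.card_fin, smul_eq_mul, Subgroup.index_eq_card]

/-- **The characteristic biset.**  For a saturated fusion system over the finite `p`-group `S` there are multiplicities
`m`, supported on the twisted diagonals, such that the number of fixed points of a twisted diagonal on `BSet m` depends
only on the conjugacy class of its source in the system, and such that `|BSet m| / |S|` is prime to `p`. -/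
theorem exists_characteristic_bset [Finite S] (p : ℕ) [Fact p.Prime] (hS : IsPGroup p S) (F : FusionSystem S)
    (hF : F.IsSaturated p) :
    ∃ m : Subgroup (↥S × ↥S) → ℕ, (∀ D, D ∉ twisted F → m D = 0) ∧
      (∀ K K', K ∈ twisted F → ERel F K K' → bmark m K = bmark m K') ∧
      ∃ k, Nat.card (BSet m) = Nat.card S * k ∧ ¬ p ∣ k := by
  classical
  haveI : Fintype (Subgroup (↥S × ↥S)) := Fintype.ofFinite _
  haveI : Finite ↥(F.autGroup S) := finite_autGroup F le_rfl
  -- the transversal
  set H : Subgroup ↥(F.autGroup S) := (autInducedBy S S).subgroupOf (F.autGroup S) with hH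
  obtain ⟨T, hT, _⟩ := Subgroup.exists_isComplement_right H 1
  haveI : Fintype T := Fintype.ofFinite T
  have hTcard : ¬ p ∣ Nat.card T := by
    rw [hT.card_right]
    obtain ⟨_, R, hR⟩ := isFullyAutomized_top p F hF
    rw [hH, ← hR]
    exact R.not_dvd_index
  set m₀ := topMult F T with hm₀
  have hm₀supp : ∀ D, m₀ D ≠ 0 → D ∈ twisted F ∧ Nat.card D = Nat.card S := by
    intro D h
    obtain ⟨α, hα, rfl⟩ := topMult_ne_zero F T h
    exact ⟨autDiag_mem_twisted F hα, card_autDiag α⟩
  have hsupp' : ∀ m : Subgroup (↥S × ↥S) → ℕ, (∀ D, m D ≠ 0 → D ∈ twisted F) →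
      ∀ D, D ∉ twisted F → m D = 0 := by
    intro m h D hD
    by_contra h0
    exact hD (h D h0)
  obtain ⟨m, hsupp, htop, hbal⟩ := exists_balanced_mult (𝔖 := Subgroup (↥S × ↥S))
    (fun K => Nat.card K) SConj sconj_equivalence (fun _ _ h => sconj_card h) (twisted F)
    (fun K D h hK => twisted_of_sconj F h hK) (ERel F) (eRel_equivalence F)
    (fun K K' hK h => eRel_of_sconj F hK h) (fun K K' _ h => eRel_card F h)
    (fun K K' hK h => eRel_mem F hK h) qmark
    (fun K D h => qmark_card_le h) (fun K D h hc => qmark_sconj h hc)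
    (fun K K' D h => qmark_congr_sconj D h) (fun K D D' h => qmark_congr_sconj_right K h)
    qmark_self_ne_zero (Nat.card S)
    (fun D' => ∃ P, D' = diagOn S P ∧ F.IsFullyAutomized p P ∧ F.IsReceptive P)
    (by
      intro D hD
      obtain ⟨Q, hQ, hQa, hQr⟩ := hF (srcOf D) (srcOf_le D)
      refine ⟨diagOn S Q, Or.inl ⟨hD, diagOn_mem_twisted F hQa.1, ?_⟩, Q, rfl, hQa, hQr⟩
      rw [srcOf_diagOn F hQa.1]; exact hQ)
    (by
      intro m hm D D' hD hE hgood hbal'
      obtain ⟨P, rfl, h₁, h₂⟩ := hgood
      rcases hE with (⟨_, _, hconj⟩ | heq)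
      · rw [srcOf_diagOn F h₁.1] at hconj
        have := bmark_modEq p hS F m (hsupp' m hm) hD P h₁ h₂ hconj (fun K K' hK hlt hKK' => by
          rw [bmark_eq_sum, bmark_eq_sum]; exact hbal' K K' hK hlt hKK')
        rwa [bmark_eq_sum, bmark_eq_sum] at this
      · rw [heq])
    m₀ hm₀supp
    (by
      intro K K' hK hc hKK'
      have hK' : K' ∈ twisted F := eRel_mem F hK hKK'
      have hc' : Nat.card S ≤ Nat.card K' := by rw [← eRel_card F hKK']; exact hc
      rw [sum_topMult_qmark F T hT hK hc, sum_topMult_qmark F T hT hK' hc'])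
  refine ⟨m, hsupp' m hsupp, ?_, ?_⟩
  · intro K K' hK hKK'
    rw [bmark_eq_sum, bmark_eq_sum]
    exact hbal K K' hK hKK'
  · -- the number of points
    have hcardS : ∀ D, D ∈ twisted F → Nat.card D ∣ Nat.card S := by
      intro D hD
      rw [card_eq_card_srcOf F hD]
      exact Subgroup.card_dvd_of_le (srcOf_le D)
    have hidx : ∀ D, D ∈ twisted F → D.index = Nat.card S * (Nat.card S / Nat.card D) := by
      intro D hD
      have h1 := D.index_mul_card
      rw [Nat.card_prod] at h1
      obtain ⟨q, hq⟩ := hcardS D hD
      have hpos : 0 < Nat.card D := Nat.card_pos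
      have h2 : Nat.card S / Nat.card D = q := by
        rw [hq, Nat.mul_div_cancel_left _ hpos]
      rw [h2]
      have h3 : D.index * Nat.card D = (Nat.card S * q) * Nat.card D := by
        rw [h1]
        nth_rewrite 2 [hq]
        ring
      exact Nat.eq_of_mul_eq_mul_right hpos h3
    refine ⟨∑ D, m D * (Nat.card S / Nat.card D), ?_, ?_⟩
    · rw [card_bset, Finset.mul_sum]
      apply Finset.sum_congr rfl
      intro D _
      by_cases hD : D ∈ twisted F
      · rw [hidx D hD]; ring
      · rw [hsupp' m hsupp D hD, zero_mul, zero_mul, mul_zero]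
    · -- modulo `p` only the top level counts
      have hmod : (∑ D, m D * (Nat.card S / Nat.card D)) ≡ ∑ D, m₀ D [MOD p] := by
        unfold Nat.ModEq
        rw [Finset.sum_nat_mod, Finset.sum_nat_mod (f := m₀)]
        congr 1
        apply Finset.sum_congr rfl
        intro D _
        by_cases hc : Nat.card S ≤ Nat.card D
        · by_cases hD : D ∈ twisted F
          · have h1 : Nat.card D = Nat.card S :=
              le_antisymm (Nat.le_of_dvd Nat.card_pos (hcardS D hD)) hc
            rw [htop D hc, h1, Nat.div_self Nat.card_pos, mul_one]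
          · rw [hsupp' m hsupp D hD, zero_mul]
            have : m₀ D = 0 := by
              by_contra h0
              exact hD (hm₀supp D h0).1
            rw [this]
        · have h0 : m₀ D = 0 := by
            by_contra h0
            exact hc (le_of_eq (hm₀supp D h0).2.symm)
          rw [h0]
          by_cases hmD : m D = 0
          · rw [hmD, zero_mul]
          · have hD : D ∈ twisted F := hsupp D hmD
            obtain ⟨q, hq⟩ := hcardS D hD
            have hpos : 0 < Nat.card D := Nat.card_pos
            have h2 : Nat.card S / Nat.card D = q := by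
              rw [hq, Nat.mul_div_cancel_left _ hpos]
            rw [h2]
            -- `q` is a nontrivial power of `p`
            obtain ⟨n, hn⟩ := IsPGroup.iff_card.mp hS
            have hqdvd : q ∣ p ^ n := by rw [← hn, hq]; exact Dvd.intro_left _ rfl
            obtain ⟨j, _, hj⟩ := (Nat.dvd_prime_pow (Fact.out : p.Prime)).mp hqdvd
            have hj0 : j ≠ 0 := by
              intro h
              rw [h, pow_zero] at hj
              rw [hj, mul_one] at hq
              exact hc (le_of_eq hq)
            have hpq : p ∣ q := by rw [hj]; exact dvd_pow_self p hj0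
            have : p ∣ m D * q := Dvd.dvd.mul_left hpq _
            rw [Nat.zero_mod, (Nat.dvd_iff_mod_eq_zero).mp this]
      have hsum : ∑ D, m₀ D = Nat.card T := by
        have := sum_topMult_mul F T (fun _ => 1)
        simp only [mul_one] at this
        rw [hm₀, this, Finset.sum_const, Finset.card_univ, smul_eq_mul, mul_one, Nat.card_eq_fintype_card]
      rw [hsum] at hmod
      intro h
      exact hTcard ((Nat.ModEq.dvd_iff hmod (dvd_refl p)).mp h)

end Cfsg.Agent.Lib.Helper87
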