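import Cfsg.Agent.Lib.Helper87.BisetGamma

set_option autoImplicit false

/-!
More on the marks of transitive `Γ`-sets.
-/

namespace Cfsg.Agent.Lib.Helper87

section Gamma2

variable {Γ : Type*} [Group Γ]

/-- The marks count elements of `Γ`. -/
theorem qmark_mul_card [Finite Γ] (K D : Subgroup Γ) :
    qmark K D * Nat.card D = Nat.card {g : Γ // ∀ k ∈ K, g⁻¹ * k * g ∈ D} := by
  set t : Set (Γ ⧸ D) := {q | ∀ k ∈ K, k • q = q} with ht
  have e := QuotientGroup.preimageMkEquivSubgroupProdSet D t
  have h1 : Nat.card {g : Γ // ∀ k ∈ K, g⁻¹ * k * g ∈ D} = Nat.card (QuotientGroup.mk ⁻¹' t : Set Γ) := by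
    apply Nat.card_congr
    apply Equiv.subtypeEquivRight
    intro g
    rw [Set.mem_preimage, ht, Set.mem_setOf_eq, fixed_coset_iff]
  rw [h1, Nat.card_congr e, Nat.card_prod, mul_comm]
  rfl

theorem qmark_congr_sconj_right [Finite Γ] (K : Subgroup Γ) {D D' : Subgroup Γ} (h : SConj D D') :
    qmark K D = qmark K D' := by
  obtain ⟨g, hg⟩ := h
  have hc : Nat.card D = Nat.card D' := sconj_card ⟨g, hg⟩
  have h1 := qmark_mul_card K D
  have h2 := qmark_mul_card K D'
  have h3 : Nat.card {x : Γ // ∀ k ∈ K, x⁻¹ * k * x ∈ D} = Nat.card {x : Γ // ∀ k ∈ K, x⁻¹ * k * x ∈ D'} := by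
    apply Nat.card_congr
    refine Equiv.subtypeEquiv (Equiv.mulRight g⁻¹) (fun x => ?_)
    simp only [Equiv.coe_mulRight]
    constructor
    · intro hx k hk
      rw [mem_of_sconj hg]
      have := hx k hk
      have e : g⁻¹ * ((x * g⁻¹)⁻¹ * k * (x * g⁻¹)) * g = x⁻¹ * k * x := by group
      rw [e]; exact this
    · intro hx k hk
      have := hx k hk
      rw [mem_of_sconj hg] at this
      have e : g⁻¹ * ((x * g⁻¹)⁻¹ * k * (x * g⁻¹)) * g = x⁻¹ * k * x := by group
      rw [e] at this; exact this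
  rw [← h3, ← h1, hc] at h2
  have hpos : 0 < Nat.card D' := Nat.card_pos
  exact (Nat.eq_of_mul_eq_mul_right hpos h2).symm

/-- `|N_Γ(D)| = |D| ·` (the number of fixed points of `D` on `Γ ⧸ D`). -/
theorem qmark_self_mul_card [Finite Γ] (D : Subgroup Γ) :
    qmark D D * Nat.card D = Nat.card (Subgroup.normalizer (D : Set Γ)) := by
  rw [qmark_mul_card]
  apply Nat.card_congr
  apply Equiv.subtypeEquivRight
  intro g
  constructor
  · intro h
    -- `g⁻¹` normalizes `D`
    have h1 : g⁻¹ ∈ Subgroup.normalizer (D : Set Γ) := by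
      have hfin : Finite D := inferInstance
      -- conjugation by `g⁻¹` maps `D` into `D`, hence onto
      have hle : D.map (MulAut.conj g⁻¹).toMonoidHom ≤ D := map_conj_le_of_fixed h
      have heq : D.map (MulAut.conj g⁻¹).toMonoidHom = D :=
        Subgroup.eq_of_le_of_card_ge hle
          (by rw [Subgroup.card_map_of_injective (MulAut.conj g⁻¹).injective])
      rw [Subgroup.mem_normalizer_iff]
      intro k
      constructor
      · intro hk
        have := h k hk
        simpa using this
      · intro hk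
        have h2 : g⁻¹ * k * g⁻¹⁻¹ ∈ D.map (MulAut.conj g⁻¹).toMonoidHom := by rw [heq]; exact hk
        obtain ⟨y, hy, hyk⟩ := h2
        simp only [MulEquiv.coe_toMonoidHom, MulAut.conj_apply] at hyk
        have : y = k := by
          have := congrArg (fun z => g * z * g⁻¹) hyk
          have e1 : g * (g⁻¹ * y * g⁻¹⁻¹) * g⁻¹ = y := by group
          have e2 : g * (g⁻¹ * k * g⁻¹⁻¹) * g⁻¹ = k := by group
          calc y = g * (g⁻¹ * y * g⁻¹⁻¹) * g⁻¹ := e1.symm
            _ = g * (g⁻¹ * k * g⁻¹⁻¹) * g⁻¹ := this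
            _ = k := e2
        rw [← this]; exact hy
    have := Subgroup.inv_mem _ h1
    simpa using this
  · intro h k hk
    have h1 := Subgroup.inv_mem _ h
    have := (Subgroup.mem_normalizer_iff.mp h1 k).mp hk
    simpa using this

end Gamma2

end Cfsg.Agent.Lib.Helper87
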