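import Cfsg.Agent.Lib.Helper87.BisetNormalizer
import Cfsg.Agent.Lib.Helper87.BisetGamma2
import Cfsg.Agent.Lib.Helper87.BisetBurnside

set_option autoImplicit false

/-!
The congruence between the numbers of fixed points of a twisted diagonal and of the diagonal of a fully automized,
receptive subgroup conjugate to its source.
-/

namespace Cfsg.Agent.Lib.Helper87

open Cfsg Cfsg.FusionSystem

variable {Ω : Type*} [Group Ω] {S : Subgroup Ω}

/-- The diagonal of `P` in `S × S`. -/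
def diagOn (S P : Subgroup Ω) : Subgroup (↥S × ↥S) where
  carrier := {x | x.1 = x.2 ∧ ((x.1 : ↥S) : Ω) ∈ P}
  one_mem' := ⟨rfl, P.one_mem⟩
  mul_mem' := by
    rintro x y ⟨hx1, hx2⟩ ⟨hy1, hy2⟩
    refine ⟨?_, ?_⟩
    · show x.1 * y.1 = x.2 * y.2
      rw [hx1, hy1]
    · show ((x.1 : ↥S) : Ω) * ((y.1 : ↥S) : Ω) ∈ P
      exact P.mul_mem hx2 hy2
  inv_mem' := by
    rintro x ⟨hx1, hx2⟩
    refine ⟨?_, ?_⟩
    · show x.1⁻¹ = x.2⁻¹
      rw [hx1]
    · show ((x.1 : ↥S) : Ω)⁻¹ ∈ P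
      exact P.inv_mem hx2

theorem mem_diagOn {P : Subgroup Ω} {x : ↥S × ↥S} : x ∈ diagOn S P ↔ x.1 = x.2 ∧ ((x.1 : ↥S) : Ω) ∈ P := Iff.rfl

theorem diagOn_twistedBy (F : FusionSystem S) {P : Subgroup Ω} (hP : P ≤ S) :
    IsTwistedBy F (diagOn S P) P P.subtype := by
  refine ⟨subtype_mem F hP, fun x => ?_⟩
  rw [mem_diagOn]
  constructor
  · rintro ⟨h1, h2⟩
    exact ⟨⟨_, h2⟩, rfl, by rw [← h1]⟩
  · rintro ⟨r, h1, h2⟩
    refine ⟨Subtype.ext (by rw [h1, h2]; rfl), ?_⟩
    rw [h1]; exact r.2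

theorem diagOn_mem_twisted (F : FusionSystem S) {P : Subgroup Ω} (hP : P ≤ S) : diagOn S P ∈ twisted F :=
  ⟨P, P.subtype, diagOn_twistedBy F hP⟩

theorem srcOf_diagOn (F : FusionSystem S) {P : Subgroup Ω} (hP : P ≤ S) : srcOf (diagOn S P) = P :=
  srcOf_eq_of_twistedBy F (diagOn_twistedBy F hP)

/-- The fixed points of the pullback action along `α` are the fixed points of the image subgroup. -/
theorem fpCount_comp_eq {Γ : Type*} [Group Γ] {Λ : Type*} [Group Λ] (m : Subgroup Γ → ℕ) (α : Λ →* Γ)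
    (K : Subgroup Λ) :
    fpCount ((MulAction.toPermHom Γ (BSet m)).comp α) K = bmark m (K.map α) := by
  unfold fpCount bmark
  apply Nat.card_congr
  apply Equiv.subtypeEquivRight
  intro x
  constructor
  · rintro h _ ⟨k, hk, rfl⟩
    exact h k hk
  · intro h k hk
    exact h _ ⟨k, hk, rfl⟩

theorem bmark_modEq [Finite S] (p : ℕ) [Fact p.Prime] (hS : IsPGroup p S) (F : FusionSystem S)
    (m : Subgroup (↥S × ↥S) → ℕ) (hm : ∀ D, D ∉ twisted F → m D = 0)
    {D : Subgroup (↥S × ↥S)} (hD : D ∈ twisted F) (P : Subgroup Ω) (h₁ : F.IsFullyAutomized p P)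
    (h₂ : F.IsReceptive P) (hDP : F.IsConj (srcOf D) P)
    (hbal : ∀ K K', K ∈ twisted F → Nat.card D < Nat.card K → ERel F K K' → bmark m K = bmark m K') :
    bmark m D ≡ bmark m (diagOn S P) [MOD qmark D D] := by
  obtain ⟨ρ, hDρ⟩ := exists_twistedBy_srcOf F hD
  obtain ⟨A, B, μ, ν, hμ, hν, hN, hR, hP⟩ := exists_normalizer_twist p hS F hDρ P h₁ h₂ hDP
  have hA : A ≤ S := hom_le F hμ
  have hB : B ≤ S := hom_le F hν
  haveI : Finite A := finite_of_le hA
  haveI : Finite B := finite_of_le hB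
  set α := (Subgroup.inclusion hA).prodMap (Subgroup.inclusion hB) with hα
  set β := (μ.codRestrict S (hom_mem F hμ)).prodMap (ν.codRestrict S (hom_mem F hν)) with hβ
  have hαinj : Function.Injective α := by
    rw [hα, MonoidHom.coe_prodMap]
    exact Function.Injective.prodMap (Subgroup.inclusion_injective hA) (Subgroup.inclusion_injective hB)
  have hβinj : Function.Injective β := by
    rw [hβ, MonoidHom.coe_prodMap]
    apply Function.Injective.prodMap
    · intro x y hxy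
      exact F.injective_of_mem hμ (congrArg (fun z : ↥S => (z : Ω)) hxy)
    · intro x y hxy
      exact F.injective_of_mem hν (congrArg (fun z : ↥S => (z : Ω)) hxy)
  have hrange : Subgroup.normalizer (D : Set (↥S × ↥S)) ≤ α.range := by
    intro x hx
    obtain ⟨h1, h2⟩ := hN x hx
    exact ⟨(⟨_, h1⟩, ⟨_, h2⟩), rfl⟩
  set Dt : Subgroup (↥A × ↥B) := D.comap α with hDt
  set Nt : Subgroup (↥A × ↥B) := (Subgroup.normalizer (D : Set (↥S × ↥S))).comap α with hNt
  have hDtN : Dt ≤ Nt := Subgroup.comap_mono Subgroup.le_normalizer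
  have hNtn : Nt ≤ Subgroup.normalizer (Dt : Set (↥A × ↥B)) := by
    intro n hn
    rw [Subgroup.mem_normalizer_iff]
    intro k
    have hn' : α n ∈ Subgroup.normalizer (D : Set (↥S × ↥S)) := hn
    have := Subgroup.mem_normalizer_iff.mp hn' (α k)
    show α k ∈ D ↔ α (n * k * n⁻¹) ∈ D
    rw [map_mul, map_mul, map_inv]
    exact this
  have hDtmap : Dt.map α = D := Subgroup.map_comap_eq_self (Subgroup.le_normalizer.trans hrange)
  have hNtmap : Nt.map α = Subgroup.normalizer (D : Set (↥S × ↥S)) := Subgroup.map_comap_eq_self hrange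
  have hDtcard : Nat.card Dt = Nat.card D := by
    rw [← hDtmap, Subgroup.card_map_of_injective hαinj]
  have hNtcard : Nat.card Nt = qmark D D * Nat.card D := by
    rw [qmark_self_mul_card, ← hNtmap, Subgroup.card_map_of_injective hαinj]
  -- the image of `Dt` under `β`
  have hDtβ : Dt.map β = diagOn S P := by
    ext x
    constructor
    · rintro ⟨k, hk, rfl⟩
      have hk' : α k ∈ D := hk
      obtain ⟨r, e1, e2⟩ := (hDρ.2 _).mp hk'
      obtain ⟨ha, hb, e3, e4⟩ := hR r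
      have ek1 : k.1 = ⟨ρ r, ha⟩ := Subtype.ext e1
      have ek2 : k.2 = ⟨r, hb⟩ := Subtype.ext e2
      rw [mem_diagOn]
      refine ⟨Subtype.ext ?_, ?_⟩
      · show μ k.1 = ν k.2
        rw [ek1, ek2, e3]
      · show μ k.1 ∈ P
        rw [ek1, e3]; exact e4
    · rintro ⟨h1, h2⟩
      obtain ⟨r, hb, e⟩ := hP _ h2
      obtain ⟨ha, hb', e3, _⟩ := hR r
      refine ⟨(⟨ρ r, ha⟩, ⟨r, hb⟩), ?_, ?_⟩
      · show α (⟨ρ r, ha⟩, ⟨r, hb⟩) ∈ D
        exact (hDρ.2 _).mpr ⟨r, rfl, rfl⟩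
      · apply Prod.ext
        · apply Subtype.ext
          show μ ⟨ρ r, ha⟩ = x.1
          rw [e3, e]
        · apply Subtype.ext
          show ν ⟨r, hb⟩ = x.2
          rw [e, h1]
  -- the two actions
  set a := (MulAction.toPermHom (↥S × ↥S) (BSet m)).comp α with ha
  set b := (MulAction.toPermHom (↥S × ↥S) (BSet m)).comp β with hb
  have hclosed1 : ∀ K D : Subgroup (↥S × ↥S), SConj K D → K ∈ twisted F → D ∈ twisted F :=
    fun K D h hK => twisted_of_sconj F h hK
  have hclosed2 : ∀ K D : Subgroup (↥S × ↥S), K ≤ D → D ∈ twisted F → K ∈ twisted F :=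
    fun K D h hD => twisted_of_le F h hD
  have hkey : ∀ n ∈ Nt, n ∉ Dt →
      fpCount a (Dt ⊔ Subgroup.zpowers n) = fpCount b (Dt ⊔ Subgroup.zpowers n) := by
    intro n _ hnD
    rw [ha, hb, fpCount_comp_eq, fpCount_comp_eq]
    set Kt := Dt ⊔ Subgroup.zpowers n with hKt
    have hlt : Nat.card D < Nat.card (Kt.map α) := by
      rw [Subgroup.card_map_of_injective hαinj, ← hDtcard]
      by_contra hcon
      have hle : Dt ≤ Kt := le_sup_left
      have := Subgroup.eq_of_le_of_card_ge hle (not_lt.mp hcon)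
      apply hnD
      rw [this]
      exact (le_sup_right : Subgroup.zpowers n ≤ Kt) (Subgroup.mem_zpowers n)
    have h2s := twisted_map_two_sided F hμ hν Kt
    by_cases hK1 : Kt.map α ∈ twisted F
    · obtain ⟨hK2, hconj⟩ := h2s.1 hK1
      exact hbal _ _ hK1 hlt (Or.inl ⟨hK1, hK2, hconj⟩)
    · have hK2 : Kt.map β ∉ twisted F := fun h => hK1 (h2s.2 h)
      rw [bmark_eq_zero_of_not_mem (twisted F) hclosed1 hclosed2 m hm hK1,
        bmark_eq_zero_of_not_mem (twisted F) hclosed1 hclosed2 m hm hK2]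
  have hmod := modEq_of_two_actions a b Dt Nt hDtN hNtn hkey
  rw [ha, hb, fpCount_comp_eq, fpCount_comp_eq, hDtmap, hDtβ, hDtcard, hNtcard, mul_comm (qmark D D)] at hmod
  have hpos : Nat.card D ≠ 0 := Nat.card_pos.ne'
  exact Nat.ModEq.mul_left_cancel' hpos hmod

end Cfsg.Agent.Lib.Helper87
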