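import Mathlib

set_option autoImplicit false

/-!
A purely combinatorial lemma: uniform multiplicities.
-/

namespace Cfsg.Agent.Lib.Helper87

open Classical in
/-- **Uniform multiplicities.**  `𝔖` a finite set (of "subgroups") with a size function, an equivalence relation `r`
("conjugacy") preserving the size, an `r`-closed subset `𝒟` and a "mark" function `f K D` (the number of fixed points of
`K` on the orbit of type `D`).  Then there are multiplicities `m`, supported exactly on `𝒟`, such that the total marks
`∑ D, m D * f K D` depend only on the size of `K ∈ 𝒟`. -/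
theorem exists_uniform_mult {𝔖 : Type*} [Fintype 𝔖] (sz : 𝔖 → ℕ) (r : 𝔖 → 𝔖 → Prop)
    (hr : Equivalence r) (hsz : ∀ a b, r a b → sz a = sz b) (𝒟 : Set 𝔖)
    (h𝒟 : ∀ a b, r a b → a ∈ 𝒟 → b ∈ 𝒟) (f : 𝔖 → 𝔖 → ℕ)
    (f1 : ∀ K D, f K D ≠ 0 → sz K ≤ sz D) (f2 : ∀ K D, f K D ≠ 0 → sz K = sz D → r K D)
    (f3 : ∀ K K' D, r K K' → f K D = f K' D) (f4 : ∀ D, f D D ≠ 0) :
    ∃ m : 𝔖 → ℕ, (∀ D, D ∉ 𝒟 → m D = 0) ∧ (∀ D ∈ 𝒟, m D ≠ 0) ∧
      ∀ K K', K ∈ 𝒟 → K' ∈ 𝒟 → sz K = sz K' → ∑ D, m D * f K D = ∑ D, m D * f K' D := by
  classical
  -- the number of conjugates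
  set N : 𝔖 → ℕ := fun K => (Finset.univ.filter (fun D => r K D)).card with hN
  have hNpos : ∀ K, N K ≠ 0 := by
    intro K
    have : K ∈ Finset.univ.filter (fun D => r K D) := by
      simp only [Finset.mem_filter, Finset.mem_univ, true_and]; exact hr.refl K
    exact Finset.card_ne_zero_of_mem this
  have hNr : ∀ K K', r K K' → N K = N K' := by
    intro K K' h
    simp only [hN]
    congr 1
    ext D
    simp only [Finset.mem_filter, Finset.mem_univ, true_and]
    exact ⟨fun h1 => hr.trans (hr.symm h) h1, fun h1 => hr.trans h h1⟩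
  set L : ℕ := ∏ D : 𝔖, (f D D * N D) with hL
  have hLdvd : ∀ D, f D D * N D ∣ L := fun D => Finset.dvd_prod_of_mem _ (Finset.mem_univ D)
  have hLpos : 0 < L := by
    apply Finset.prod_pos
    intro D _
    exact Nat.pos_of_ne_zero (Nat.mul_ne_zero (f4 D) (hNpos D))
  -- the bound on sizes
  obtain ⟨B, hB⟩ : ∃ B, ∀ D, sz D ≤ B := ⟨∑ D, sz D, fun D =>
    Finset.single_le_sum (f := sz) (fun _ _ => Nat.zero_le _) (Finset.mem_univ D)⟩
  -- the inductive statement
  have key : ∀ t : ℕ, ∃ m : 𝔖 → ℕ, (∀ D, m D ≠ 0 → D ∈ 𝒟 ∧ B + 1 - t ≤ sz D) ∧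
      (∀ D ∈ 𝒟, B + 1 - t ≤ sz D → m D ≠ 0) ∧
      (∀ K K', K ∈ 𝒟 → K' ∈ 𝒟 → B + 1 - t ≤ sz K → sz K = sz K' →
        ∑ D, m D * f K D = ∑ D, m D * f K' D) ∧
      (∀ D, L ^ (B + 1 - t) ∣ m D) := by
    intro t
    induction t with
    | zero =>
      refine ⟨fun _ => 0, ?_, ?_, ?_, ?_⟩
      · intro D h; exact absurd rfl h
      · intro D _ h
        have := hB D
        omega
      · intro K K' _ _ _ _; simp
      · intro D; exact dvd_zero _
    | succ t ih =>
      obtain ⟨m₁, hsupp, hne, huni, hdvd⟩ := ih
      by_cases hle : B + 1 - t = 0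
      · -- nothing more to do
        refine ⟨m₁, ?_, ?_, ?_, ?_⟩
        · intro D h
          have := hsupp D h
          exact ⟨this.1, by omega⟩
        · intro D hD _
          exact hne D hD (by omega)
        · intro K K' hK hK' _ hsz'
          exact huni K K' hK hK' (by omega) hsz'
        · intro D
          have : B + 1 - (t + 1) = 0 := by omega
          rw [this, pow_zero]; exact one_dvd _
      · -- the new level `j`
        obtain ⟨j, hj⟩ : ∃ j, B + 1 - t = j + 1 := ⟨B + 1 - t - 1, by omega⟩
        have hj' : B + 1 - (t + 1) = j := by omega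
        rw [hj] at hsupp hne huni hdvd
        rw [hj']
        set c₁ : 𝔖 → ℕ := fun K => ∑ D, m₁ D * f K D with hc₁
        have hc₁dvd : ∀ K, L ^ (j + 1) ∣ c₁ K := by
          intro K
          apply Finset.dvd_sum
          intro D _
          exact Dvd.dvd.mul_right (hdvd D) _
        have hc₁r : ∀ K K', r K K' → c₁ K = c₁ K' := by
          intro K K' h
          simp only [hc₁]
          apply Finset.sum_congr rfl
          intro D _
          rw [f3 K K' D h]
        set n : ℕ := L ^ (j + 1) * (1 + ∑ K, c₁ K) with hn
        have hnge : ∀ K, c₁ K + L ^ (j + 1) ≤ n := by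
          intro K
          have h1 : c₁ K ≤ ∑ K, c₁ K :=
            Finset.single_le_sum (f := c₁) (fun _ _ => Nat.zero_le _) (Finset.mem_univ K)
          have h2 : 1 ≤ L ^ (j + 1) := Nat.one_le_pow _ _ hLpos
          calc c₁ K + L ^ (j + 1) ≤ (∑ K, c₁ K) + L ^ (j + 1) := by omega
            _ ≤ L ^ (j + 1) * (∑ K, c₁ K) + L ^ (j + 1) := by
                have : (∑ K, c₁ K) ≤ L ^ (j + 1) * (∑ K, c₁ K) := Nat.le_mul_of_pos_left _ h2
                omega
            _ = n := by rw [hn]; ring
        have hndvd : ∀ K, L ^ (j + 1) ∣ n - c₁ K := by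
          intro K
          exact Nat.dvd_sub (Dvd.intro _ rfl) (hc₁dvd K)
        -- the new multiplicities
        set k : 𝔖 → ℕ := fun D => if D ∈ 𝒟 ∧ sz D = j then (n - c₁ D) / (f D D * N D) else 0 with hk
        have hwN : ∀ D, f D D * N D ∣ L ^ (j + 1) := fun D =>
          Dvd.dvd.trans (hLdvd D) (dvd_pow_self L (Nat.succ_ne_zero j))
        have hkmul : ∀ D, D ∈ 𝒟 → sz D = j → k D * (f D D * N D) = n - c₁ D := by
          intro D hD hs
          simp only [hk, if_pos (And.intro hD hs)]
          exact Nat.div_mul_cancel (Dvd.dvd.trans (hwN D) (hndvd D))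
        have hkdvd : ∀ D, L ^ j ∣ k D := by
          intro D
          by_cases h : D ∈ 𝒟 ∧ sz D = j
          · simp only [hk, if_pos h]
            obtain ⟨q, hq⟩ := hndvd D
            obtain ⟨e, he⟩ := hLdvd D
            have hpos : 0 < f D D * N D := Nat.pos_of_ne_zero (Nat.mul_ne_zero (f4 D) (hNpos D))
            have h5 : n - c₁ D = (f D D * N D) * (L ^ j * (e * q)) := by
              calc n - c₁ D = L ^ (j + 1) * q := hq
                _ = L ^ j * L * q := by rw [pow_succ]
                _ = L ^ j * (f D D * N D * e) * q := by rw [← he]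
                _ = (f D D * N D) * (L ^ j * (e * q)) := by ring
            rw [h5, Nat.mul_div_cancel_left _ hpos]
            exact Dvd.intro _ rfl
          · simp only [hk, if_neg h]; exact dvd_zero _
        have hkne : ∀ D, D ∈ 𝒟 → sz D = j → k D ≠ 0 := by
          intro D hD hs h0
          have h1 := hkmul D hD hs
          rw [h0, zero_mul] at h1
          have h2 := hnge D
          have h3 : 1 ≤ L ^ (j + 1) := Nat.one_le_pow _ _ hLpos
          omega
        have hksupp : ∀ D, k D ≠ 0 → D ∈ 𝒟 ∧ sz D = j := by
          intro D h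
          by_contra hcon
          simp only [hk, if_neg hcon] at h
          exact h rfl
        -- the sum of the new marks
        have hsum_hi : ∀ K, j < sz K → ∑ D, k D * f K D = 0 := by
          intro K hK
          apply Finset.sum_eq_zero
          intro D _
          by_cases hkD : k D = 0
          · rw [hkD, zero_mul]
          · have hs := (hksupp D hkD).2
            have : f K D = 0 := by
              by_contra hf
              have := f1 K D hf
              omega
            rw [this, mul_zero]
        have hsum_eq : ∀ K, K ∈ 𝒟 → sz K = j → ∑ D, k D * f K D = n - c₁ K := by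
          intro K hK hs
          have h1 : ∀ D, k D * f K D = if r K D then (n - c₁ K) / N K else 0 := by
            intro D
            by_cases hrel : r K D
            · rw [if_pos hrel]
              have hD : D ∈ 𝒟 := h𝒟 K D hrel hK
              have hsD : sz D = j := by rw [← hsz K D hrel]; exact hs
              have h2 := hkmul D hD hsD
              rw [← hc₁r K D hrel, ← hNr K D hrel] at h2
              rw [f3 K D D hrel]
              have hNpos' : 0 < N K := Nat.pos_of_ne_zero (hNpos K)
              apply Nat.eq_div_of_mul_eq_left (hNpos K)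
              rw [← h2]; ring
            · rw [if_neg hrel]
              by_cases hkD : k D = 0
              · rw [hkD, zero_mul]
              · have hsD := (hksupp D hkD).2
                have : f K D = 0 := by
                  by_contra hf
                  exact hrel (f2 K D hf (by rw [hs, hsD]))
                rw [this, mul_zero]
          rw [Finset.sum_congr rfl (fun D _ => h1 D), Finset.sum_ite, Finset.sum_const_zero, add_zero,
            Finset.sum_const, smul_eq_mul]
          show N K * ((n - c₁ K) / N K) = n - c₁ K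
          apply Nat.mul_div_cancel'
          have h3 : f K K * N K ∣ n - c₁ K := Dvd.dvd.trans (hwN K) (hndvd K)
          exact Dvd.dvd.trans (Dvd.intro_left _ rfl) h3
        refine ⟨fun D => m₁ D + k D, ?_, ?_, ?_, ?_⟩
        · intro D h
          by_cases h1 : m₁ D = 0
          · have h2 : k D ≠ 0 := by
              intro h3; apply h; show m₁ D + k D = 0; rw [h1, h3]
            have := hksupp D h2
            exact ⟨this.1, by omega⟩
          · have := hsupp D h1
            exact ⟨this.1, by omega⟩
        · intro D hD hs
          show m₁ D + k D ≠ 0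
          by_cases h1 : sz D = j
          · have := hkne D hD h1
            omega
          · have := hne D hD (by omega)
            omega
        · intro K K' hK hK' hs hss
          have hsplit : ∀ K, ∑ D, (m₁ D + k D) * f K D = c₁ K + ∑ D, k D * f K D := by
            intro K
            simp only [add_mul, Finset.sum_add_distrib, hc₁]
          rw [hsplit K, hsplit K']
          by_cases h1 : sz K = j
          · have h1' : sz K' = j := by rw [← hss]; exact h1
            rw [hsum_eq K hK h1, hsum_eq K' hK' h1']
            have := hnge K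
            have := hnge K'
            omega
          · have h2 : j < sz K := by omega
            have h2' : j < sz K' := by omega
            rw [hsum_hi K h2, hsum_hi K' h2']
            have := huni K K' hK hK' (by omega) hss
            simp only [hc₁]
            rw [this]
        · intro D
          exact Nat.dvd_add (Dvd.dvd.trans (pow_dvd_pow L (Nat.le_succ j)) (hdvd D)) (hkdvd D)
  obtain ⟨m, hsupp, hne, huni, -⟩ := key (B + 1)
  have h0 : B + 1 - (B + 1) = 0 := Nat.sub_self _
  rw [h0] at hsupp hne huni
  refine ⟨m, ?_, ?_, ?_⟩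
  · intro D hD
    by_contra h
    exact hD (hsupp D h).1
  · intro D hD
    exact hne D hD (Nat.zero_le _)
  · intro K K' hK hK' hs
    exact huni K K' hK hK' (Nat.zero_le _) hs

end Cfsg.Agent.Lib.Helper87
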