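import Mathlib

set_option autoImplicit false

/-!
The table of marks is injective: two finite `Γ`-sets with the same numbers of fixed points for every subgroup are
isomorphic.  Actions are given as homomorphisms into permutation groups, and the statement is proved for invariant
subsets.
-/

namespace Cfsg.Agent.Lib.Helper87

section Marks

universe v w

variable {Γ : Type*} [Group Γ]

/-- The marks of an invariant subset. -/
noncomputable def marks {X : Type v} (a : Γ →* Equiv.Perm X) (A : Set X) (K : Subgroup Γ) : ℕ :=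
  {x | x ∈ A ∧ ∀ k ∈ K, a k x = x}.ncard

theorem marks_lemma_aux [Finite Γ] {X : Type v} {Y : Type w} [Finite X] [Finite Y] (a : Γ →* Equiv.Perm X)
    (b : Γ →* Equiv.Perm Y) :
    ∀ (n : ℕ) (A : Set X) (B : Set Y), (∀ g x, x ∈ A → a g x ∈ A) → (∀ g y, y ∈ B → b g y ∈ B) →
      A.ncard = n → (∀ K : Subgroup Γ, marks a A K = marks b B K) →
      ∃ e : A ≃ B, ∀ (g : Γ) (x : A) (hgx : a g x ∈ A), ((e ⟨a g x, hgx⟩ : B) : Y) = b g (e x : B) := by
  intro n
  induction n using Nat.strong_induction_on with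
  | _ n ih =>
  intro A B hA hB hn hmarks
  have hAfin : A.Finite := Set.toFinite A
  have hBfin : B.Finite := Set.toFinite B
  -- the case of empty `A`
  have hcard : A.ncard = B.ncard := by
    have h := hmarks ⊥
    simp only [marks, Subgroup.mem_bot] at h
    have e1 : {x | x ∈ A ∧ ∀ k : Γ, k = 1 → a k x = x} = A := by
      ext x
      simp only [Set.mem_setOf_eq]
      constructor
      · exact fun h => h.1
      · intro hx
        exact ⟨hx, fun k hk => by rw [hk, map_one]; rfl⟩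
    have e2 : {y | y ∈ B ∧ ∀ k : Γ, k = 1 → b k y = y} = B := by
      ext x
      simp only [Set.mem_setOf_eq]
      constructor
      · exact fun h => h.1
      · intro hx
        exact ⟨hx, fun k hk => by rw [hk, map_one]; rfl⟩
    rw [e1, e2] at h
    exact h
  by_cases hAe : A = ∅
  · have hBe : B = ∅ := by
      rw [hAe, Set.ncard_empty] at hcard
      exact (Set.ncard_eq_zero hBfin).mp hcard.symm
    subst hAe; subst hBe
    refine ⟨⟨fun x => absurd x.2 (Set.notMem_empty _), fun x => absurd x.2 (Set.notMem_empty _),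
      fun x => absurd x.2 (Set.notMem_empty _), fun x => absurd x.2 (Set.notMem_empty _)⟩, ?_⟩
    intro g x
    exact absurd x.2 (Set.notMem_empty _)
  -- stabilizers
  set stA : X → Subgroup Γ := fun x =>
    { carrier := {g | a g x = x}
      one_mem' := by show a 1 x = x; rw [map_one]; rfl
      mul_mem' := by
        intro g h hg hh
        show a (g * h) x = x
        rw [map_mul]
        show a g (a h x) = x
        rw [hh, hg]
      inv_mem' := by
        intro g hg
        show a g⁻¹ x = x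
        have : a g⁻¹ (a g x) = x := by
          rw [← Equiv.Perm.mul_apply, ← map_mul, inv_mul_cancel, map_one]; rfl
        rw [hg] at this
        exact this } with hstA
  set stB : Y → Subgroup Γ := fun y =>
    { carrier := {g | b g y = y}
      one_mem' := by show b 1 y = y; rw [map_one]; rfl
      mul_mem' := by
        intro g h hg hh
        show b (g * h) y = y
        rw [map_mul]
        show b g (b h y) = y
        rw [hh, hg]
      inv_mem' := by
        intro g hg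
        show b g⁻¹ y = y
        have : b g⁻¹ (b g y) = y := by
          rw [← Equiv.Perm.mul_apply, ← map_mul, inv_mul_cancel, map_one]; rfl
        rw [hg] at this
        exact this } with hstB
  have hmemA : ∀ x g, g ∈ stA x ↔ a g x = x := fun x g => Iff.rfl
  have hmemB : ∀ y g, g ∈ stB y ↔ b g y = y := fun y g => Iff.rfl
  -- points with equal stabilizers
  have hpair : ∃ x₀ ∈ A, ∃ y₀ ∈ B, stA x₀ = stB y₀ := by
    have hAne : A.Nonempty := Set.nonempty_iff_ne_empty.mpr hAe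
    have hBne : B.Nonempty := by
      rw [← Set.ncard_pos hBfin, ← hcard, Set.ncard_pos hAfin]; exact hAne
    haveI : Nonempty (A ⊕ B) := ⟨Sum.inl ⟨hAne.some, hAne.some_mem⟩⟩
    obtain ⟨z, hz⟩ := Finite.exists_max (fun z : A ⊕ B =>
      Sum.elim (fun x : A => Nat.card (stA x)) (fun y : B => Nat.card (stB y)) z)
    rcases z with ⟨x₀, hx₀⟩ | ⟨y₀, hy₀⟩
    · -- a point of `B` fixed by the stabilizer of `x₀`
      have h1 : 0 < marks a A (stA x₀) := by
        rw [marks, Set.ncard_pos (Set.toFinite _)]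
        exact ⟨x₀, hx₀, fun k hk => hk⟩
      rw [hmarks, marks, Set.ncard_pos (Set.toFinite _)] at h1
      obtain ⟨y₀, hy₀, hfix⟩ := h1
      refine ⟨x₀, hx₀, y₀, hy₀, ?_⟩
      have hle : stA x₀ ≤ stB y₀ := fun k hk => hfix k hk
      have hcard' := hz (Sum.inr ⟨y₀, hy₀⟩)
      exact Subgroup.eq_of_le_of_card_ge hle hcard'
    · have h1 : 0 < marks b B (stB y₀) := by
        rw [marks, Set.ncard_pos (Set.toFinite _)]
        exact ⟨y₀, hy₀, fun k hk => hk⟩
      rw [← hmarks, marks, Set.ncard_pos (Set.toFinite _)] at h1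
      obtain ⟨x₀, hx₀, hfix⟩ := h1
      refine ⟨x₀, hx₀, y₀, hy₀, ?_⟩
      have hle : stB y₀ ≤ stA x₀ := fun k hk => hfix k hk
      have hcard' := hz (Sum.inl ⟨x₀, hx₀⟩)
      exact (Subgroup.eq_of_le_of_card_ge hle hcard').symm
  obtain ⟨x₀, hx₀, y₀, hy₀, hst⟩ := hpair
  -- orbits
  set OX : Set X := {x | ∃ g, a g x₀ = x} with hOX
  set OY : Set Y := {y | ∃ g, b g y₀ = y} with hOY
  have hOXA : OX ⊆ A := by rintro _ ⟨g, rfl⟩; exact hA g x₀ hx₀
  have hOYB : OY ⊆ B := by rintro _ ⟨g, rfl⟩; exact hB g y₀ hy₀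
  have hkey : ∀ g h : Γ, a g x₀ = a h x₀ ↔ b g y₀ = b h y₀ := by
    intro g h
    have h1 : a g x₀ = a h x₀ ↔ h⁻¹ * g ∈ stA x₀ := by
      rw [hmemA, map_mul, Equiv.Perm.mul_apply]
      constructor
      · intro e
        rw [e, ← Equiv.Perm.mul_apply, ← map_mul, inv_mul_cancel, map_one]; rfl
      · intro e
        have := congrArg (a h) e
        rw [← Equiv.Perm.mul_apply, ← map_mul, mul_inv_cancel, map_one] at this
        exact this
    have h2 : b g y₀ = b h y₀ ↔ h⁻¹ * g ∈ stB y₀ := by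
      rw [hmemB, map_mul, Equiv.Perm.mul_apply]
      constructor
      · intro e
        rw [e, ← Equiv.Perm.mul_apply, ← map_mul, inv_mul_cancel, map_one]; rfl
      · intro e
        have := congrArg (b h) e
        rw [← Equiv.Perm.mul_apply, ← map_mul, mul_inv_cancel, map_one] at this
        exact this
    rw [h1, h2, hst]
  -- the bijection between the orbits
  have hOXex : ∀ x : OX, ∃ g, a g x₀ = x := fun x => x.2
  have hOYex : ∀ y : OY, ∃ g, b g y₀ = y := fun y => y.2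
  set eO : OX → OY := fun x => ⟨b (hOXex x).choose y₀, ⟨_, rfl⟩⟩ with heO
  have heO_apply : ∀ (g : Γ) (h : a g x₀ ∈ OX), ((eO ⟨a g x₀, h⟩ : OY) : Y) = b g y₀ := by
    intro g h
    have := (hOXex ⟨a g x₀, h⟩).choose_spec
    exact (hkey _ _).mp this
  have heO_inj : Function.Injective eO := by
    rintro ⟨_, g, rfl⟩ ⟨_, h, rfl⟩ e
    have e' := congrArg Subtype.val e
    rw [heO_apply g ⟨g, rfl⟩, heO_apply h ⟨h, rfl⟩] at e'
    exact Subtype.ext ((hkey g h).mpr e')
  have heO_surj : Function.Surjective eO := by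
    rintro ⟨_, g, rfl⟩
    exact ⟨⟨a g x₀, g, rfl⟩, Subtype.ext (heO_apply g ⟨g, rfl⟩)⟩
  -- the complements
  set A' : Set X := A \ OX with hA'
  set B' : Set Y := B \ OY with hB'
  have hOXinv : ∀ g x, x ∈ OX ↔ a g x ∈ OX := by
    intro g x
    constructor
    · rintro ⟨h, rfl⟩
      exact ⟨g * h, by rw [map_mul]; rfl⟩
    · rintro ⟨h, e⟩
      refine ⟨g⁻¹ * h, ?_⟩
      rw [map_mul, Equiv.Perm.mul_apply, e, ← Equiv.Perm.mul_apply, ← map_mul, inv_mul_cancel, map_one]
      rfl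
  have hOYinv : ∀ g y, y ∈ OY ↔ b g y ∈ OY := by
    intro g x
    constructor
    · rintro ⟨h, rfl⟩
      exact ⟨g * h, by rw [map_mul]; rfl⟩
    · rintro ⟨h, e⟩
      refine ⟨g⁻¹ * h, ?_⟩
      rw [map_mul, Equiv.Perm.mul_apply, e, ← Equiv.Perm.mul_apply, ← map_mul, inv_mul_cancel, map_one]
      rfl
  have hA'inv : ∀ g x, x ∈ A' → a g x ∈ A' := fun g x hx =>
    ⟨hA g x hx.1, fun h => hx.2 ((hOXinv g x).mpr h)⟩
  have hB'inv : ∀ g y, y ∈ B' → b g y ∈ B' := fun g y hy =>
    ⟨hB g y hy.1, fun h => hy.2 ((hOYinv g y).mpr h)⟩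
  -- marks of the orbits agree
  have hmarksO : ∀ K : Subgroup Γ, {x | x ∈ OX ∧ ∀ k ∈ K, a k x = x}.ncard =
      {y | y ∈ OY ∧ ∀ k ∈ K, b k y = y}.ncard := by
    intro K
    apply Set.ncard_congr (fun x hx => ((eO ⟨x, hx.1⟩ : OY) : Y))
    · rintro _ ⟨⟨g, rfl⟩, hfix⟩
      refine ⟨(eO _).2, fun k hk => ?_⟩
      rw [heO_apply g ⟨g, rfl⟩]
      have h1 := hfix k hk
      have h2 : a (k * g) x₀ = a g x₀ := by rw [map_mul]; exact h1
      have h3 := (hkey (k * g) g).mp h2
      rw [map_mul] at h3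
      exact h3
    · rintro x x' hx hx' e
      have := heO_inj (Subtype.ext e)
      exact congrArg Subtype.val this
    · rintro _ ⟨⟨g, rfl⟩, hfix⟩
      refine ⟨a g x₀, ⟨⟨g, rfl⟩, fun k hk => ?_⟩, heO_apply g ⟨g, rfl⟩⟩
      have h1 := hfix k hk
      have h2 : b (k * g) y₀ = b g y₀ := by rw [map_mul]; exact h1
      have h3 := (hkey (k * g) g).mpr h2
      rw [map_mul] at h3
      exact h3
  have hsplitA : ∀ K : Subgroup Γ, marks a A K =
      {x | x ∈ OX ∧ ∀ k ∈ K, a k x = x}.ncard + marks a A' K := by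
    intro K
    rw [marks, marks, ← Set.ncard_union_eq]
    · congr 1
      ext x
      simp only [Set.mem_setOf_eq, Set.mem_union, hA', Set.mem_diff]
      constructor
      · rintro ⟨hx, hfix⟩
        by_cases h : x ∈ OX
        · exact Or.inl ⟨h, hfix⟩
        · exact Or.inr ⟨⟨hx, h⟩, hfix⟩
      · rintro (⟨h, hfix⟩ | ⟨⟨hx, _⟩, hfix⟩)
        · exact ⟨hOXA h, hfix⟩
        · exact ⟨hx, hfix⟩
    · rw [Set.disjoint_left]
      rintro x ⟨h, _⟩ ⟨⟨_, h'⟩, _⟩
      exact h' h
  have hsplitB : ∀ K : Subgroup Γ, marks b B K =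
      {y | y ∈ OY ∧ ∀ k ∈ K, b k y = y}.ncard + marks b B' K := by
    intro K
    rw [marks, marks, ← Set.ncard_union_eq]
    · congr 1
      ext x
      simp only [Set.mem_setOf_eq, Set.mem_union, hB', Set.mem_diff]
      constructor
      · rintro ⟨hx, hfix⟩
        by_cases h : x ∈ OY
        · exact Or.inl ⟨h, hfix⟩
        · exact Or.inr ⟨⟨hx, h⟩, hfix⟩
      · rintro (⟨h, hfix⟩ | ⟨⟨hx, _⟩, hfix⟩)
        · exact ⟨hOYB h, hfix⟩
        · exact ⟨hx, hfix⟩
    · rw [Set.disjoint_left]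
      rintro x ⟨h, _⟩ ⟨⟨_, h'⟩, _⟩
      exact h' h
  have hmarks' : ∀ K : Subgroup Γ, marks a A' K = marks b B' K := by
    intro K
    have h1 := hmarks K
    rw [hsplitA K, hsplitB K, hmarksO K] at h1
    exact Nat.add_left_cancel h1
  have hlt : A'.ncard < n := by
    rw [← hn]
    apply Set.ncard_lt_ncard _ hAfin
    refine ⟨Set.diff_subset, fun h => ?_⟩
    have : x₀ ∈ A' := h hx₀
    exact this.2 ⟨1, by rw [map_one]; rfl⟩
  obtain ⟨e', he'⟩ := ih A'.ncard hlt A' B' hA'inv hB'inv rfl hmarks'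
  -- glue
  have hdecA : ∀ x : A, (x : X) ∈ OX ∨ (x : X) ∈ A' := by
    intro x
    by_cases h : (x : X) ∈ OX
    · exact Or.inl h
    · exact Or.inr ⟨x.2, h⟩
  classical
  let toFun : A → B := fun x =>
    if h : (x : X) ∈ OX then ⟨eO ⟨x, h⟩, hOYB (eO ⟨x, h⟩).2⟩ else ⟨e' ⟨x, ⟨x.2, h⟩⟩, (e' ⟨x, ⟨x.2, h⟩⟩).2.1⟩
  have htoFun_O : ∀ (x : A) (h : (x : X) ∈ OX), ((toFun x : B) : Y) = eO ⟨x, h⟩ := by
    intro x h
    simp only [toFun, dif_pos h]
  have htoFun_A' : ∀ (x : A) (h : (x : X) ∉ OX), ((toFun x : B) : Y) = e' ⟨x, ⟨x.2, h⟩⟩ := by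
    intro x h
    simp only [toFun, dif_neg h]
  have hinj : Function.Injective toFun := by
    intro x x' e
    have e0 := congrArg Subtype.val e
    by_cases h : (x : X) ∈ OX
    · by_cases h' : (x' : X) ∈ OX
      · rw [htoFun_O x h, htoFun_O x' h'] at e0
        have := heO_inj (Subtype.ext e0)
        exact Subtype.ext (congrArg (fun z : OX => (z : X)) this)
      · rw [htoFun_O x h, htoFun_A' x' h'] at e0
        exfalso
        have h1 : ((e' ⟨x', ⟨x'.2, h'⟩⟩ : B') : Y) ∈ OY := by rw [← e0]; exact (eO ⟨x, h⟩).2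
        exact (e' ⟨x', ⟨x'.2, h'⟩⟩).2.2 h1
    · by_cases h' : (x' : X) ∈ OX
      · rw [htoFun_A' x h, htoFun_O x' h'] at e0
        exfalso
        have h1 : ((e' ⟨x, ⟨x.2, h⟩⟩ : B') : Y) ∈ OY := by rw [e0]; exact (eO ⟨x', h'⟩).2
        exact (e' ⟨x, ⟨x.2, h⟩⟩).2.2 h1
      · rw [htoFun_A' x h, htoFun_A' x' h'] at e0
        have := e'.injective (Subtype.ext e0)
        exact Subtype.ext (congrArg (fun z : A' => (z : X)) this)
  have hsurj : Function.Surjective toFun := by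
    intro y
    by_cases h : (y : Y) ∈ OY
    · obtain ⟨x, hx⟩ := heO_surj ⟨y, h⟩
      refine ⟨⟨x, hOXA x.2⟩, Subtype.ext ?_⟩
      rw [htoFun_O ⟨x, hOXA x.2⟩ x.2]
      exact congrArg Subtype.val hx
    · obtain ⟨x, hx⟩ := e'.surjective ⟨y, ⟨y.2, h⟩⟩
      refine ⟨⟨x, x.2.1⟩, Subtype.ext ?_⟩
      rw [htoFun_A' ⟨x, x.2.1⟩ x.2.2]
      exact congrArg Subtype.val hx
  refine ⟨Equiv.ofBijective toFun ⟨hinj, hsurj⟩, ?_⟩
  intro g x hgx
  show ((toFun ⟨a g x, hgx⟩ : B) : Y) = b g (toFun x : B)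
  by_cases h : (x : X) ∈ OX
  · have h' : a g x ∈ OX := (hOXinv g x).mp h
    rw [htoFun_O x h, htoFun_O ⟨a g x, hgx⟩ h']
    obtain ⟨k, hk⟩ := h
    have e1 : (⟨(x : X), ⟨k, hk⟩⟩ : OX) = ⟨a k x₀, ⟨k, rfl⟩⟩ := Subtype.ext hk.symm
    have e2 : (⟨a g x, h'⟩ : OX) = ⟨a (g * k) x₀, ⟨g * k, rfl⟩⟩ := by
      apply Subtype.ext
      show a g x = a (g * k) x₀
      rw [map_mul, ← hk]; rfl
    rw [e1, e2, heO_apply, heO_apply, map_mul]
    rfl
  · have h' : a g x ∉ OX := fun h1 => h ((hOXinv g x).mpr h1)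
    rw [htoFun_A' x h, htoFun_A' ⟨a g x, hgx⟩ h']
    exact he' g ⟨x, ⟨x.2, h⟩⟩ ⟨hgx, h'⟩

/-- **The table of marks is injective.** -/
theorem exists_equiv_of_marks [Finite Γ] {X : Type v} {Y : Type w} [Finite X] [Finite Y]
    (a : Γ →* Equiv.Perm X) (b : Γ →* Equiv.Perm Y)
    (h : ∀ K : Subgroup Γ, Nat.card {x : X // ∀ k ∈ K, a k x = x} = Nat.card {y : Y // ∀ k ∈ K, b k y = y}) :
    ∃ e : X ≃ Y, ∀ (g : Γ) (x : X), e (a g x) = b g (e x) := by
  have hm : ∀ K : Subgroup Γ, marks a Set.univ K = marks b Set.univ K := by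
    intro K
    have h1 : marks a Set.univ K = Nat.card {x : X // ∀ k ∈ K, a k x = x} := by
      rw [marks, ← Nat.card_coe_set_eq]
      apply Nat.card_congr
      exact Equiv.subtypeEquivRight (fun x => by simp)
    have h2 : marks b Set.univ K = Nat.card {y : Y // ∀ k ∈ K, b k y = y} := by
      rw [marks, ← Nat.card_coe_set_eq]
      apply Nat.card_congr
      exact Equiv.subtypeEquivRight (fun x => by simp)
    rw [h1, h2, h K]
  obtain ⟨e, he⟩ := marks_lemma_aux a b _ Set.univ Set.univ (fun _ _ _ => Set.mem_univ _)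
    (fun _ _ _ => Set.mem_univ _) rfl hm
  refine ⟨(Equiv.Set.univ X).symm.trans (e.trans (Equiv.Set.univ Y)), fun g x => ?_⟩
  exact he g ⟨x, Set.mem_univ _⟩ (Set.mem_univ _)

end Marks

end Cfsg.Agent.Lib.Helper87
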