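import Mathlib
import Cfsg.Agent.Lib.Helper87.BisetCount
import Cfsg.Agent.Lib.Helper87.BisetMarks

set_option autoImplicit false

/-!
Finite `Γ`-sets built from transitive ones, their marks, and a `Γ`-set with uniform marks on a conjugation-closed
family of subgroups.
-/

namespace Cfsg.Agent.Lib.Helper87

section Gamma

variable {Γ : Type*} [Group Γ]

/-- The number of fixed points of `K` on `Γ ⧸ D`. -/
noncomputable def qmark (K D : Subgroup Γ) : ℕ := Nat.card {q : Γ ⧸ D // ∀ k ∈ K, k • q = q}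

/-- Conjugacy of subgroups. -/
def SConj (K D : Subgroup Γ) : Prop := ∃ g : Γ, D = K.map (MulAut.conj g).toMonoidHom

theorem sconj_refl (K : Subgroup Γ) : SConj K K := by
  refine ⟨1, ?_⟩
  ext x
  simp [MulAut.conj_apply]

theorem sconj_symm {K D : Subgroup Γ} (h : SConj K D) : SConj D K := by
  obtain ⟨g, rfl⟩ := h
  refine ⟨g⁻¹, ?_⟩
  rw [Subgroup.map_map]
  ext x
  simp only [Subgroup.mem_map, MonoidHom.coe_comp, MulEquiv.coe_toMonoidHom, Function.comp_apply,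
    MulAut.conj_apply]
  constructor
  · intro hx
    exact ⟨x, hx, by group⟩
  · rintro ⟨y, hy, rfl⟩
    have : g⁻¹ * (g * y * g⁻¹) * g⁻¹⁻¹ = y := by group
    rw [this]; exact hy

theorem sconj_trans {K D E : Subgroup Γ} (h₁ : SConj K D) (h₂ : SConj D E) : SConj K E := by
  obtain ⟨g, rfl⟩ := h₁
  obtain ⟨h, rfl⟩ := h₂
  refine ⟨h * g, ?_⟩
  rw [Subgroup.map_map]
  congr 1
  ext x
  simp [MulAut.conj_apply, mul_assoc]

theorem sconj_equivalence : Equivalence (SConj (Γ := Γ)) :=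
  ⟨sconj_refl, sconj_symm, sconj_trans⟩

theorem sconj_card {K D : Subgroup Γ} (h : SConj K D) : Nat.card K = Nat.card D := by
  obtain ⟨g, rfl⟩ := h
  exact (Subgroup.card_map_of_injective (MulAut.conj g).injective).symm

theorem mem_of_sconj {K D : Subgroup Γ} {g : Γ} (h : D = K.map (MulAut.conj g).toMonoidHom) (x : Γ) :
    x ∈ D ↔ g⁻¹ * x * g ∈ K := by
  subst h
  simp only [Subgroup.mem_map, MulEquiv.coe_toMonoidHom, MulAut.conj_apply]
  constructor
  · rintro ⟨y, hy, rfl⟩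
    have : g⁻¹ * (g * y * g⁻¹) * g = y := by group
    rw [this]; exact hy
  · intro hx
    exact ⟨_, hx, by group⟩

/-- A coset `gD` is fixed by `K` iff `g⁻¹ K g ≤ D`. -/
theorem fixed_coset_iff (K D : Subgroup Γ) (g : Γ) :
    (∀ k ∈ K, k • (g : Γ ⧸ D) = (g : Γ ⧸ D)) ↔ ∀ k ∈ K, g⁻¹ * k * g ∈ D := by
  constructor
  · intro h k hk
    have h1 := h k hk
    rw [MulAction.Quotient.smul_mk, eq_comm, QuotientGroup.eq, smul_eq_mul] at h1
    rw [mul_assoc]; exact h1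
  · intro h k hk
    rw [MulAction.Quotient.smul_mk, eq_comm, QuotientGroup.eq, smul_eq_mul, ← mul_assoc]
    exact h k hk

theorem qmark_ne_zero_iff [Finite Γ] (K D : Subgroup Γ) :
    qmark K D ≠ 0 ↔ ∃ g : Γ, ∀ k ∈ K, g⁻¹ * k * g ∈ D := by
  rw [qmark, ← Nat.pos_iff_ne_zero, Nat.card_pos_iff]
  constructor
  · rintro ⟨⟨⟨q, hq⟩⟩, _⟩
    obtain ⟨g, rfl⟩ := QuotientGroup.mk_surjective q
    exact ⟨g, (fixed_coset_iff K D g).mp hq⟩
  · rintro ⟨g, hg⟩
    exact ⟨⟨⟨(g : Γ ⧸ D), (fixed_coset_iff K D g).mpr hg⟩⟩, inferInstance⟩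

theorem qmark_self_ne_zero [Finite Γ] (D : Subgroup Γ) : qmark D D ≠ 0 := by
  rw [qmark_ne_zero_iff]
  exact ⟨1, fun k hk => by simpa using hk⟩

theorem map_conj_le_of_fixed {K D : Subgroup Γ} {g : Γ} (hg : ∀ k ∈ K, g⁻¹ * k * g ∈ D) :
    K.map (MulAut.conj g⁻¹).toMonoidHom ≤ D := by
  rintro _ ⟨k, hk, rfl⟩
  simp only [MulEquiv.coe_toMonoidHom, MulAut.conj_apply, inv_inv]
  exact hg k hk

theorem qmark_card_le [Finite Γ] {K D : Subgroup Γ} (h : qmark K D ≠ 0) : Nat.card K ≤ Nat.card D := by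
  obtain ⟨g, hg⟩ := (qmark_ne_zero_iff K D).mp h
  have h1 := map_conj_le_of_fixed hg
  have h2 := Subgroup.card_le_of_le h1
  rwa [Subgroup.card_map_of_injective (MulAut.conj g⁻¹).injective] at h2

theorem qmark_sconj [Finite Γ] {K D : Subgroup Γ} (h : qmark K D ≠ 0) (hc : Nat.card K = Nat.card D) :
    SConj K D := by
  obtain ⟨g, hg⟩ := (qmark_ne_zero_iff K D).mp h
  have h1 := map_conj_le_of_fixed hg
  refine ⟨g⁻¹, (Subgroup.eq_of_le_of_card_ge h1 ?_).symm⟩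
  rw [Subgroup.card_map_of_injective (MulAut.conj g⁻¹).injective, hc]

theorem qmark_congr_sconj {K K' : Subgroup Γ} (D : Subgroup Γ) (h : SConj K K') : qmark K D = qmark K' D := by
  obtain ⟨g, hg⟩ := h
  unfold qmark
  apply Nat.card_congr
  refine Equiv.subtypeEquiv (MulAction.toPerm g) (fun q => ?_)
  simp only [MulAction.toPerm_apply]
  constructor
  · intro hq k hk
    rw [mem_of_sconj hg] at hk
    have h1 := hq _ hk
    calc k • g • q = g • (g⁻¹ * k * g) • q := by simp only [smul_smul]; congr 1; group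
      _ = g • q := by rw [h1]
  · intro hq k hk
    have hk' : g * k * g⁻¹ ∈ K' := by
      rw [mem_of_sconj hg]
      have : g⁻¹ * (g * k * g⁻¹) * g = k := by group
      rw [this]; exact hk
    have h1 := hq _ hk'
    have h2 : g • k • q = g • q := by
      rw [← h1]; simp only [smul_smul]; congr 1; group
    exact (MulAction.injective g) h2

/-- If `K` has a fixed point on `Γ ⧸ D`, then `K` is conjugate to a subgroup of `D`. -/
theorem exists_le_of_qmark_ne_zero [Finite Γ] {K D : Subgroup Γ} (h : qmark K D ≠ 0) :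
    ∃ D' : Subgroup Γ, SConj D D' ∧ K ≤ D' := by
  obtain ⟨g, hg⟩ := (qmark_ne_zero_iff K D).mp h
  refine ⟨D.map (MulAut.conj g).toMonoidHom, ⟨g, rfl⟩, fun k hk => ?_⟩
  rw [mem_of_sconj rfl]
  exact hg k hk

/-! ### The `Γ`-set with prescribed multiplicities -/

/-- The index set: `m D` copies of each subgroup `D`. -/
abbrev BIdx (m : Subgroup Γ → ℕ) := Σ D : Subgroup Γ, Fin (m D)

/-- The `Γ`-set with `m D` orbits of type `Γ ⧸ D`. -/
abbrev BSet (m : Subgroup Γ → ℕ) := Σ i : BIdx m, Γ ⧸ i.1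

theorem bset_smul (m : Subgroup Γ → ℕ) (g : Γ) (i : BIdx m) (q : Γ ⧸ i.1) :
    g • (⟨i, q⟩ : BSet m) = ⟨i, g • q⟩ := rfl

/-- The marks of `BSet m`. -/
noncomputable def bmark (m : Subgroup Γ → ℕ) (K : Subgroup Γ) : ℕ :=
  Nat.card {x : BSet m // ∀ k ∈ K, k • x = x}

theorem bmark_eq_sum [Finite Γ] [Fintype (Subgroup Γ)] (m : Subgroup Γ → ℕ) (K : Subgroup Γ) :
    bmark m K = ∑ D : Subgroup Γ, m D * qmark K D := by
  classical
  unfold bmark
  have e : {x : BSet m // ∀ k ∈ K, k • x = x} ≃ Σ i : BIdx m, {q : Γ ⧸ i.1 // ∀ k ∈ K, k • q = q} :=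
    { toFun := fun x => ⟨x.1.1, ⟨x.1.2, fun k hk => by
        have h := x.2 k hk
        have h2 : (⟨x.1.1, k • x.1.2⟩ : BSet m) = ⟨x.1.1, x.1.2⟩ := h
        exact eq_of_heq (Sigma.mk.inj h2).2⟩⟩
      invFun := fun y => ⟨⟨y.1, y.2.1⟩, fun k hk => by
        show (⟨y.1, k • y.2.1⟩ : BSet m) = ⟨y.1, y.2.1⟩
        rw [y.2.2 k hk]⟩
      left_inv := fun x => rfl
      right_inv := fun y => rfl }
  rw [Nat.card_congr e, Nat.card_sigma, Fintype.sum_sigma]
  apply Finset.sum_congr rfl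
  intro D _
  show ∑ _x : Fin (m D), qmark K D = m D * qmark K D
  rw [Finset.sum_const, Finset.card_univ, Fintype.card_fin, smul_eq_mul]

theorem bmark_eq_zero [Finite Γ] (m : Subgroup Γ → ℕ) (K : Subgroup Γ)
    (h : ∀ D, m D ≠ 0 → qmark K D = 0) : bmark m K = 0 := by
  classical
  haveI : Fintype (Subgroup Γ) := Fintype.ofFinite _
  rw [bmark_eq_sum]
  apply Finset.sum_eq_zero
  intro D _
  by_cases hD : m D = 0
  · rw [hD, zero_mul]
  · rw [h D hD, mul_zero]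

/-- The stabilizer of a point of `BSet m` is conjugate to the subgroup indexing its orbit. -/
theorem bset_stabilizer (m : Subgroup Γ → ℕ) (x : BSet m) :
    SConj x.1.1 (MulAction.stabilizer Γ x) := by
  obtain ⟨i, q⟩ := x
  obtain ⟨g, rfl⟩ := QuotientGroup.mk_surjective q
  refine ⟨g, ?_⟩
  ext k
  rw [mem_of_sconj rfl, MulAction.mem_stabilizer_iff, bset_smul]
  constructor
  · intro h
    have h2 : k • ((g : Γ) : Γ ⧸ i.1) = ((g : Γ) : Γ ⧸ i.1) := eq_of_heq (Sigma.mk.inj h).2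
    rw [MulAction.Quotient.smul_mk, eq_comm, QuotientGroup.eq, smul_eq_mul, ← mul_assoc] at h2
    exact h2
  · intro h
    have h2 : k • ((g : Γ) : Γ ⧸ i.1) = ((g : Γ) : Γ ⧸ i.1) := by
      rw [MulAction.Quotient.smul_mk, eq_comm, QuotientGroup.eq, smul_eq_mul, ← mul_assoc]
      exact h
    rw [h2]

/-- **A `Γ`-set with uniform marks.**  For a conjugation-closed family `𝒟` of subgroups of the finite group `Γ` there are
multiplicities `m`, supported exactly on `𝒟`, such that the number of fixed points of `K ∈ 𝒟` on `BSet m` depends only on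
the order of `K`. -/
theorem exists_uniform_bset [Finite Γ] (𝒟 : Set (Subgroup Γ))
    (h𝒟 : ∀ K D : Subgroup Γ, SConj K D → K ∈ 𝒟 → D ∈ 𝒟) :
    ∃ m : Subgroup Γ → ℕ, (∀ D, D ∉ 𝒟 → m D = 0) ∧ (∀ D ∈ 𝒟, m D ≠ 0) ∧
      ∀ K K', K ∈ 𝒟 → K' ∈ 𝒟 → Nat.card K = Nat.card K' → bmark m K = bmark m K' := by
  classical
  haveI : Fintype (Subgroup Γ) := Fintype.ofFinite _
  obtain ⟨m, hm1, hm2, hm3⟩ := exists_uniform_mult (𝔖 := Subgroup Γ) (fun K => Nat.card K) SConj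
    sconj_equivalence (fun _ _ h => sconj_card h) 𝒟 h𝒟 qmark
    (fun K D h => qmark_card_le h) (fun K D h hc => qmark_sconj h hc)
    (fun K K' D h => qmark_congr_sconj D h) qmark_self_ne_zero
  refine ⟨m, hm1, hm2, fun K K' hK hK' hc => ?_⟩
  rw [bmark_eq_sum, bmark_eq_sum]
  exact hm3 K K' hK hK' hc

/-- If `𝒟` is closed under conjugation and subgroups and `m` is supported on `𝒟`, then subgroups outside `𝒟` have no fixed
points. -/
theorem bmark_eq_zero_of_not_mem [Finite Γ] (𝒟 : Set (Subgroup Γ))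
    (h𝒟 : ∀ K D : Subgroup Γ, SConj K D → K ∈ 𝒟 → D ∈ 𝒟)
    (h𝒟le : ∀ K D : Subgroup Γ, K ≤ D → D ∈ 𝒟 → K ∈ 𝒟)
    (m : Subgroup Γ → ℕ) (hm : ∀ D, D ∉ 𝒟 → m D = 0) {K : Subgroup Γ} (hK : K ∉ 𝒟) : bmark m K = 0 := by
  apply bmark_eq_zero
  intro D hD
  by_contra h
  obtain ⟨D', hD', hKD'⟩ := exists_le_of_qmark_ne_zero h
  have hD𝒟 : D ∈ 𝒟 := by
    by_contra h1
    exact hD (hm D h1)
  exact hK (h𝒟le K D' hKD' (h𝒟 D D' hD' hD𝒟))

/-- Stabilizers of points of `BSet m` lie in `𝒟`. -/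
theorem bset_stabilizer_mem (𝒟 : Set (Subgroup Γ))
    (h𝒟 : ∀ K D : Subgroup Γ, SConj K D → K ∈ 𝒟 → D ∈ 𝒟)
    (m : Subgroup Γ → ℕ) (hm : ∀ D, D ∉ 𝒟 → m D = 0) (x : BSet m) : MulAction.stabilizer Γ x ∈ 𝒟 := by
  apply h𝒟 _ _ (bset_stabilizer m x)
  by_contra h
  have h0 := hm _ h
  exact (Fin.pos x.1.2).ne' h0

end Gamma

end Cfsg.Agent.Lib.Helper87
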