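import Cfsg.Agent.Lib.Helper87.BisetTwisted2
import Cfsg.Agent.Lib.Helper87.FusionSaturated

set_option autoImplicit false

/-!
For a twisted diagonal `D` and a fully automized, receptive subgroup `P` conjugate to the source of `D`: maps of the
system on both factors defined on the normalizer of `D`, carrying `D` onto the diagonal of `P`.
-/

namespace Cfsg.Agent.Lib.Helper87

open Cfsg Cfsg.FusionSystem

variable {Ω : Type*} [Group Ω] {S : Subgroup Ω}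

theorem exists_normalizer_twist [Finite S] (p : ℕ) [Fact p.Prime] (hS : IsPGroup p S) (F : FusionSystem S)
    {D : Subgroup (↥S × ↥S)} {R : Subgroup Ω} {ρ : R →* Ω} (hD : IsTwistedBy F D R ρ)
    (P : Subgroup Ω) (h₁ : F.IsFullyAutomized p P) (h₂ : F.IsReceptive P) (hRP : F.IsConj R P) :
    ∃ (A B : Subgroup Ω) (μ : A →* Ω) (ν : B →* Ω), μ ∈ F.Hom A ∧ ν ∈ F.Hom B ∧
      (∀ x ∈ Subgroup.normalizer (D : Set (↥S × ↥S)), ((x.1 : ↥S) : Ω) ∈ A ∧ ((x.2 : ↥S) : Ω) ∈ B) ∧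
      (∀ r : R, ∃ (ha : ρ r ∈ A) (hb : (r : Ω) ∈ B), μ ⟨ρ r, ha⟩ = ν ⟨r, hb⟩ ∧ ν ⟨r, hb⟩ ∈ P) ∧
      (∀ y ∈ P, ∃ (r : R) (hb : (r : Ω) ∈ B), ν ⟨r, hb⟩ = y) := by
  obtain ⟨hρ, hDmem⟩ := hD
  have hRS : R ≤ S := hom_le F hρ
  haveI : Finite R := finite_of_le hRS
  obtain ⟨ν, hν, hνN, hνmap, hνP⟩ := exists_normalizer_hom p hS F P R h₁ h₂ hRP
  have hRN : R ≤ normalizerIn S R := le_normalizerIn hRS
  obtain ⟨ψ, hψ, hψx, hψr⟩ := inv_mem' F hρ rfl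
  have hψR : ∀ y : ρ.range, ψ y ∈ R := by
    intro y
    have : ψ y ∈ ψ.range := ⟨y, rfl⟩
    rw [hψr] at this
    exact this
  set νR : R →* Ω := ν.comp (Subgroup.inclusion hRN) with hνR
  have hνRF : νR ∈ F.Hom R := restrict_mem F hRN hν
  set μ₀ : ρ.range →* Ω := νR.comp (ψ.codRestrict R hψR) with hμ₀
  have hμ₀F : μ₀ ∈ F.Hom ρ.range := F.comp_mem hψ hνRF hψR
  have hμ₀ρ : ∀ (r : R) (h : ρ r ∈ ρ.range), μ₀ ⟨ρ r, h⟩ = ν ⟨r, hRN r.2⟩ := by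
    intro r h
    have e : (⟨ψ ⟨ρ r, h⟩, hψR _⟩ : R) = r := Subtype.ext (hψx r ⟨ρ r, h⟩ rfl)
    show νR ⟨ψ ⟨ρ r, h⟩, hψR _⟩ = ν ⟨r, hRN r.2⟩
    rw [e]; rfl
  have hμ₀range : μ₀.range = P := by
    ext y
    constructor
    · rintro ⟨q, rfl⟩
      exact hνP _ (hψR q)
    · intro hy
      rw [← hνmap] at hy
      obtain ⟨x, hx, rfl⟩ := hy
      have hx' : (x : Ω) ∈ R := hx
      refine ⟨⟨ρ ⟨x, hx'⟩, ⟨_, rfl⟩⟩, ?_⟩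
      exact hμ₀ρ ⟨x, hx'⟩ ⟨_, rfl⟩
  obtain ⟨μ, hμ, hμext⟩ := h₂.2 ρ.range μ₀ hμ₀F hμ₀range
  have hQS : ρ.range ≤ S := hom_le F hμ₀F
  haveI : Finite ρ.range := finite_of_le hQS
  have hQA : ρ.range ≤ extender S ρ.range μ₀ := le_extender hQS (hom_mem F hμ₀F)
  refine ⟨extender S ρ.range μ₀, normalizerIn S R, μ, ν, hμ, hν, ?_, ?_, ?_⟩
  · rintro ⟨a, b⟩ hx
    -- the conjugation relation
    have hconj : ∀ r : R, ∃ r' : R, (a : Ω) * ρ r * (a : Ω)⁻¹ = ρ r' ∧ (b : Ω) * r * (b : Ω)⁻¹ = r' := by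
      intro r
      have hd : ((⟨ρ r, hom_mem F hρ r⟩, ⟨r, hRS r.2⟩) : ↥S × ↥S) ∈ D := (hDmem _).mpr ⟨r, rfl, rfl⟩
      have := (Subgroup.mem_normalizer_iff.mp hx _).mp hd
      obtain ⟨r', e1, e2⟩ := (hDmem _).mp this
      exact ⟨r', e1, e2⟩
    have hb : (b : Ω) ∈ normalizerIn S R := by
      refine ⟨b.2, mem_normalizer_of_conj_mem (fun y hy => ?_)⟩
      obtain ⟨r', _, e2⟩ := hconj ⟨y, hy⟩
      rw [e2]; exact r'.2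
    refine ⟨?_, hb⟩
    rw [mem_extender_iff]
    refine ⟨a.2, mem_normalizer_of_conj_mem ?_, ν ⟨b, hb⟩, hom_mem F hν _, ?_⟩
    · rintro _ ⟨r, rfl⟩
      obtain ⟨r', e1, _⟩ := hconj r
      rw [e1]; exact ⟨r', rfl⟩
    · rintro ⟨_, r, rfl⟩ hq
      obtain ⟨r', e1, e2⟩ := hconj r
      have e3 : (⟨(a : Ω) * ρ r * (a : Ω)⁻¹, hq⟩ : ρ.range) = ⟨ρ r', ⟨r', rfl⟩⟩ := Subtype.ext e1
      show μ₀ ⟨(a : Ω) * ρ r * (a : Ω)⁻¹, hq⟩ = ν ⟨b, hb⟩ * μ₀ ⟨ρ r, _⟩ * (ν ⟨b, hb⟩)⁻¹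
      rw [e3, hμ₀ρ r' ⟨r', rfl⟩, hμ₀ρ r ⟨r, rfl⟩, ← map_inv, ← map_mul, ← map_mul]
      congr 1
      apply Subtype.ext
      exact e2.symm
  · intro r
    have ha : ρ r ∈ extender S ρ.range μ₀ := hQA ⟨r, rfl⟩
    refine ⟨ha, hRN r.2, ?_, hνP _ r.2⟩
    rw [hμext (ρ r) ⟨r, rfl⟩ ha]
    exact hμ₀ρ r ⟨r, rfl⟩
  · intro y hy
    rw [← hνmap] at hy
    obtain ⟨x, hx, rfl⟩ := hy
    have hx' : (x : Ω) ∈ R := hx
    exact ⟨⟨x, hx'⟩, x.2, rfl⟩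

end Cfsg.Agent.Lib.Helper87
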