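import Cfsg.Agent.Lib.Helper87.BisetCong

set_option autoImplicit false

/-!
The top level of the characteristic biset: twisted diagonals of automorphisms of `S`.
-/

namespace Cfsg.Agent.Lib.Helper87

open Cfsg Cfsg.FusionSystem

variable {Ω : Type*} [Group Ω] {S : Subgroup Ω}

/-- The twisted diagonal `{(α s, s)}` of an automorphism of `S`. -/
def autDiag (α : MulAut ↥S) : Subgroup (↥S × ↥S) where
  carrier := {x | x.1 = α x.2}
  one_mem' := by show (1 : ↥S) = α 1; rw [map_one]
  mul_mem' := by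
    intro x y hx hy
    show x.1 * y.1 = α (x.2 * y.2)
    rw [map_mul, show x.1 = α x.2 from hx, show y.1 = α y.2 from hy]
  inv_mem' := by
    intro x hx
    show x.1⁻¹ = α x.2⁻¹
    rw [map_inv, show x.1 = α x.2 from hx]

theorem mem_autDiag {α : MulAut ↥S} {x : ↥S × ↥S} : x ∈ autDiag α ↔ x.1 = α x.2 := Iff.rfl

theorem autDiag_injective : Function.Injective (autDiag (S := S)) := by
  intro α β h
  ext s
  have h1 : ((α s, s) : ↥S × ↥S) ∈ autDiag α := rfl
  rw [h] at h1
  exact congrArg (fun z : ↥S => (z : Ω)) h1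

theorem autDiag_twistedBy (F : FusionSystem S) {α : MulAut ↥S} (hα : α ∈ F.autGroup S) :
    IsTwistedBy F (autDiag α) S (S.subtype.comp α.toMonoidHom) := by
  refine ⟨autGroup_hom_mem F le_rfl hα, fun x => ?_⟩
  rw [mem_autDiag]
  constructor
  · intro h
    exact ⟨x.2, by rw [h]; rfl, rfl⟩
  · rintro ⟨r, h1, h2⟩
    apply Subtype.ext
    rw [h1]
    have : r = x.2 := Subtype.ext h2.symm
    rw [this]; rfl

theorem autDiag_mem_twisted (F : FusionSystem S) {α : MulAut ↥S} (hα : α ∈ F.autGroup S) :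
    autDiag α ∈ twisted F := ⟨S, _, autDiag_twistedBy F hα⟩

theorem card_autDiag (α : MulAut ↥S) : Nat.card (autDiag α) = Nat.card S := by
  apply Nat.card_congr
  refine
    { toFun := fun x => (x : ↥S × ↥S).2
      invFun := fun s => ⟨(α s, s), rfl⟩
      left_inv := ?_
      right_inv := fun s => rfl }
  intro x
  apply Subtype.ext
  apply Prod.ext
  · exact (mem_autDiag.mp x.2).symm
  · rfl

/-- A twisted diagonal of the order of `S` is the twisted diagonal of an automorphism in `Aut_F(S)`. -/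
theorem exists_autDiag_of_card [Finite S] (F : FusionSystem S) {K : Subgroup (↥S × ↥S)} (hK : K ∈ twisted F)
    (hc : Nat.card S ≤ Nat.card K) : ∃ α ∈ F.autGroup S, K = autDiag α := by
  obtain ⟨ρ, hρ, hKmem⟩ := exists_twistedBy_srcOf F hK
  have hsrc : srcOf K = S := by
    apply Subgroup.eq_of_le_of_card_ge (srcOf_le K)
    rw [← card_eq_card_srcOf F hK]; exact hc
  -- transport `ρ` to `S`
  have key : ∀ (R : Subgroup Ω) (σ : R →* Ω), R = S → IsTwistedBy F K R σ → ∃ α ∈ F.autGroup S, K = autDiag α := by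
    intro R σ hR hKσ
    subst hR
    obtain ⟨hσ, hKm⟩ := hKσ
    have hinj : Function.Injective σ := F.injective_of_mem hσ
    set σ' : ↥R →* ↥R := σ.codRestrict R (hom_mem F hσ) with hσ'
    have hinj' : Function.Injective σ' := fun x y h => hinj (congrArg (fun z : ↥R => (z : Ω)) h)
    have hbij : Function.Bijective σ' := ⟨hinj', Finite.injective_iff_surjective.mp hinj'⟩
    set α : MulAut ↥R := MulEquiv.ofBijective σ' hbij with hα
    have hαF : α ∈ F.autGroup R := by
      rw [mem_autGroup_iff F le_rfl]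
      exact hom_congr F hσ (fun x => rfl)
    refine ⟨α, hαF, ?_⟩
    ext x
    rw [hKm, mem_autDiag]
    constructor
    · rintro ⟨r, h1, h2⟩
      apply Subtype.ext
      rw [h1]
      have : r = x.2 := Subtype.ext h2.symm
      rw [this]; rfl
    · intro h
      exact ⟨x.2, by rw [h]; rfl, rfl⟩
  exact key _ ρ hsrc ⟨hρ, hKmem⟩

/-- The marks between twisted diagonals of automorphisms. -/
theorem qmark_autDiag [Finite S] (α β : MulAut ↥S) :
    qmark (autDiag β) (autDiag α) = Nat.card {w : ↥S // MulAut.conj w * α = β} := by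
  have h1 := qmark_mul_card (autDiag β) (autDiag α)
  rw [card_autDiag] at h1
  -- the condition on `g = (a, b)`
  have hcond : ∀ g : ↥S × ↥S, (∀ k ∈ autDiag β, g⁻¹ * k * g ∈ autDiag α) ↔
      MulAut.conj (g.1 * (α g.2)⁻¹) * α = β := by
    rintro ⟨a, b⟩
    constructor
    · intro h
      ext s
      have h2 := h (β s, s) rfl
      rw [mem_autDiag] at h2
      have h3 : a⁻¹ * β s * a = α (b⁻¹ * s * b) := h2
      rw [map_mul, map_mul, map_inv] at h3
      have h4 : β s = a * (α b)⁻¹ * α s * (a * (α b)⁻¹)⁻¹ := by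
        have : β s = a * (a⁻¹ * β s * a) * a⁻¹ := by group
        rw [this, h3]; group
      show ((a * (α b)⁻¹ * α s * (a * (α b)⁻¹)⁻¹ : ↥S) : Ω) = β s
      rw [h4]
    · intro h k hk
      rw [mem_autDiag] at hk ⊢
      show a⁻¹ * k.1 * a = α (b⁻¹ * k.2 * b)
      rw [hk, map_mul, map_mul, map_inv, ← h]
      show a⁻¹ * (a * (α b)⁻¹ * α k.2 * (a * (α b)⁻¹)⁻¹) * a = (α b)⁻¹ * α k.2 * α b
      group
  have h2 : Nat.card {g : ↥S × ↥S // ∀ k ∈ autDiag β, g⁻¹ * k * g ∈ autDiag α} =
      Nat.card S * Nat.card {w : ↥S // MulAut.conj w * α = β} := by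
    rw [← Nat.card_prod]
    apply Nat.card_congr
    refine
      { toFun := fun g => (g.1.2, ⟨g.1.1 * (α g.1.2)⁻¹, (hcond g.1).mp g.2⟩)
        invFun := fun y => ⟨(y.2.1 * α y.1, y.1), (hcond _).mpr (by
          show MulAut.conj (y.2.1 * α y.1 * (α y.1)⁻¹) * α = β
          rw [mul_inv_cancel_right]; exact y.2.2)⟩
        left_inv := ?_
        right_inv := ?_ }
    · rintro ⟨⟨a, b⟩, hg⟩
      apply Subtype.ext
      show ((a * (α b)⁻¹ * α b, b) : ↥S × ↥S) = (a, b)
      rw [inv_mul_cancel_right]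
    · rintro ⟨b, ⟨w, hw⟩⟩
      apply Prod.ext
      · rfl
      · apply Subtype.ext
        show w * α b * (α b)⁻¹ = w
        rw [mul_inv_cancel_right]
  rw [h2, mul_comm] at h1
  have hpos : 0 < Nat.card S := Nat.card_pos
  exact Nat.eq_of_mul_eq_mul_left hpos h1

/-! ### The transversal of the inner automorphisms -/

theorem mem_autInducedBy_top_iff {α : MulAut ↥S} : α ∈ autInducedBy S S ↔ ∃ w : ↥S, α = MulAut.conj w := by
  rw [mem_autInducedBy_iff]
  constructor
  · rintro ⟨g, hg, h⟩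
    refine ⟨⟨g, hg⟩, ?_⟩
    ext x
    rw [h x]
    rfl
  · rintro ⟨w, rfl⟩
    exact ⟨w, w.2, fun x => rfl⟩

/-- `S` is fully automized in a saturated system. -/
theorem isFullyAutomized_top [Finite S] (p : ℕ) (F : FusionSystem S) (hF : F.IsSaturated p) :
    F.IsFullyAutomized p S := by
  obtain ⟨Q, ⟨φ, hφ, hr⟩, hQa, _⟩ := hF S le_rfl
  have hQS : Q ≤ S := hQa.1
  have hQ : Q = S := by
    apply Subgroup.eq_of_le_of_card_ge hQS
    rw [← hr]
    exact le_of_eq (Nat.card_congr (Equiv.ofInjective φ (F.injective_of_mem hφ)))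
  exact hQ ▸ hQa

section Transversal

variable (F : FusionSystem S) (T : Set ↥(F.autGroup S))

/-- The multiplicities of the top level: one orbit for every element of a transversal of the inner automorphisms. -/
noncomputable def topMult (D : Subgroup (↥S × ↥S)) : ℕ :=
  Nat.card {τ : T // autDiag (((τ : ↥(F.autGroup S)) : MulAut ↥S)) = D}

theorem sum_topMult_mul [Finite S] [Fintype (Subgroup (↥S × ↥S))] [Fintype T] (g : Subgroup (↥S × ↥S) → ℕ) :
    ∑ D, topMult F T D * g D = ∑ τ : T, g (autDiag (((τ : ↥(F.autGroup S)) : MulAut ↥S))) := by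
  classical
  rw [← Finset.sum_fiberwise Finset.univ (fun τ : T => autDiag (((τ : ↥(F.autGroup S)) : MulAut ↥S)))
    (fun τ => g (autDiag (((τ : ↥(F.autGroup S)) : MulAut ↥S))))]
  apply Finset.sum_congr rfl
  intro D _
  have h1 : ∀ τ ∈ Finset.univ.filter (fun τ : T => autDiag (((τ : ↥(F.autGroup S)) : MulAut ↥S)) = D),
      g (autDiag (((τ : ↥(F.autGroup S)) : MulAut ↥S))) = g D := by
    intro τ hτ
    rw [(Finset.mem_filter.mp hτ).2]
  rw [Finset.sum_congr rfl h1, Finset.sum_const, smul_eq_mul]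
  congr 1
  rw [topMult, Nat.card_eq_fintype_card, Fintype.card_subtype]

theorem topMult_ne_zero {D : Subgroup (↥S × ↥S)} (h : topMult F T D ≠ 0) :
    ∃ α ∈ F.autGroup S, D = autDiag α := by
  rw [topMult, ← Nat.pos_iff_ne_zero, Nat.card_pos_iff] at h
  obtain ⟨⟨⟨τ, hτ⟩⟩, _⟩ := h
  exact ⟨_, (τ : ↥(F.autGroup S)).2, hτ.symm⟩

/-- The sum over the transversal of the numbers of inner automorphisms carrying `τ` to `β`. -/
theorem sum_transversal [Finite S] [Fintype T]
    (hT : Subgroup.IsComplement (((autInducedBy S S).subgroupOf (F.autGroup S) : Subgroup ↥(F.autGroup S)) :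
      Set ↥(F.autGroup S)) T) (β : ↥(F.autGroup S)) :
    ∑ τ : T, Nat.card {w : ↥S // MulAut.conj w * (((τ : ↥(F.autGroup S)) : MulAut ↥S)) = (β : MulAut ↥S)} =
      Nat.card (MulAut.conj : ↥S →* MulAut ↥S).ker := by
  classical
  obtain ⟨τ₀, hτ₀, huniq⟩ := (Subgroup.isComplement_iff_existsUnique_mul_inv_mem.mp hT) β
  have hτ₀' : ((β * (τ₀ : ↥(F.autGroup S))⁻¹ : ↥(F.autGroup S)) : MulAut ↥S) ∈ autInducedBy S S := hτ₀
  obtain ⟨w₀, hw₀⟩ := mem_autInducedBy_top_iff.mp hτ₀'
  have hw₀' : MulAut.conj w₀ * (((τ₀ : ↥(F.autGroup S)) : MulAut ↥S)) = (β : MulAut ↥S) := by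
    rw [← hw₀]
    simp
  rw [Finset.sum_eq_single τ₀]
  · apply Nat.card_congr
    refine
      { toFun := fun w => ⟨w₀⁻¹ * w.1, ?_⟩
        invFun := fun z => ⟨w₀ * z.1, ?_⟩
        left_inv := fun w => Subtype.ext (by simp)
        right_inv := fun z => Subtype.ext (by simp) }
    · rw [MonoidHom.mem_ker, map_mul, map_inv]
      have h1 := w.2
      have h2 : MulAut.conj w.1 = MulAut.conj w₀ := by
        have := h1.trans hw₀'.symm
        exact mul_right_cancel this
      rw [h2, inv_mul_cancel]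
    · have hz := z.2
      rw [MonoidHom.mem_ker] at hz
      rw [map_mul, hz, mul_one]
      exact hw₀'
  · intro τ _ hne
    rw [Nat.card_eq_zero]
    left
    constructor
    rintro ⟨w, hw⟩
    apply hne
    apply huniq
    show ((β * (τ : ↥(F.autGroup S))⁻¹ : ↥(F.autGroup S)) : MulAut ↥S) ∈ autInducedBy S S
    rw [mem_autInducedBy_top_iff]
    refine ⟨w, ?_⟩
    rw [Subgroup.coe_mul, Subgroup.coe_inv, ← hw]
    simp
  · intro h
    exact absurd (Finset.mem_univ _) h

/-- The marks of the top level are constant. -/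
theorem sum_topMult_qmark [Finite S] [Fintype (Subgroup (↥S × ↥S))]
    (hT : Subgroup.IsComplement (((autInducedBy S S).subgroupOf (F.autGroup S) : Subgroup ↥(F.autGroup S)) :
      Set ↥(F.autGroup S)) T) {K : Subgroup (↥S × ↥S)} (hK : K ∈ twisted F)
    (hc : Nat.card S ≤ Nat.card K) :
    ∑ A, topMult F T A * qmark K A = Nat.card (MulAut.conj : ↥S →* MulAut ↥S).ker := by
  classical
  haveI : Finite ↥(F.autGroup S) := finite_autGroup F le_rfl
  haveI : Fintype T := Fintype.ofFinite T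
  obtain ⟨β, hβ, rfl⟩ := exists_autDiag_of_card F hK hc
  rw [sum_topMult_mul F T (fun A => qmark (autDiag β) A)]
  rw [← sum_transversal F T hT ⟨β, hβ⟩]
  apply Finset.sum_congr rfl
  intro τ _
  exact qmark_autDiag _ _

end Transversal

end Cfsg.Agent.Lib.Helper87
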