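import Cfsg.Agent.Lib.Helper87.BisetAut

set_option autoImplicit false

/-!
The transfer of an `(S × S)`-set with free second factor: a homomorphism from the group of permutations commuting with
`1 × S` to any commutative group receiving a homomorphism from `S`.
-/

namespace Cfsg.Agent.Lib.Helper87

section Transfer

variable (S : Type*) [Group S] (X : Type*) [MulAction (S × S) X]

/-- The orbit relation of `1 × S`. -/
def rightSetoid : Setoid X where
  r x y := ∃ t : S, ((1 : S), t) • x = y
  iseqv := by
    refine ⟨fun x => ⟨1, by show (1 : S × S) • x = x; exact one_smul _ x⟩, ?_, ?_⟩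
    · rintro x y ⟨t, rfl⟩
      refine ⟨t⁻¹, ?_⟩
      rw [smul_smul, Prod.mk_mul_mk, one_mul, inv_mul_cancel]
      show (1 : S × S) • x = x
      exact one_smul _ x
    · rintro x y z ⟨t, rfl⟩ ⟨t', rfl⟩
      refine ⟨t' * t, ?_⟩
      rw [smul_smul]
      simp

/-- The set of orbits of `1 × S`. -/
abbrev RightOrb := Quotient (rightSetoid S X)

variable {S X}

/-- The orbit of a point. -/
def orbOf (x : X) : RightOrb S X := Quotient.mk (rightSetoid S X) x

theorem orbOf_eq_iff {x y : X} : orbOf (S := S) x = orbOf y ↔ ∃ t : S, ((1 : S), t) • x = y := by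
  unfold orbOf
  rw [Quotient.eq]
  rfl

theorem orbOf_smul (t : S) (x : X) : orbOf (S := S) (((1 : S), t) • x) = orbOf x :=
  (orbOf_eq_iff.mpr ⟨t, rfl⟩).symm

theorem orbOf_aut (g : rightAut S X) {x y : X} (h : orbOf (S := S) x = orbOf y) :
    orbOf (S := S) ((g : Equiv.Perm X) x) = orbOf ((g : Equiv.Perm X) y) := by
  obtain ⟨t, rfl⟩ := orbOf_eq_iff.mp h
  rw [g.2 t x, orbOf_smul]

/-- The action of a permutation commuting with `1 × S` on the orbits. -/
def orbMap (g : rightAut S X) : RightOrb S X → RightOrb S X :=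
  Quotient.map (g : Equiv.Perm X) (by
    rintro x y ⟨t, rfl⟩
    exact ⟨t, (g.2 t x).symm⟩)

theorem orbMap_orbOf (g : rightAut S X) (x : X) : orbMap g (orbOf x) = orbOf ((g : Equiv.Perm X) x) := rfl

theorem orbMap_mul (g h : rightAut S X) (i : RightOrb S X) : orbMap (g * h) i = orbMap g (orbMap h i) := by
  induction i using Quotient.inductionOn with
  | _ x => rfl

theorem orbMap_one (i : RightOrb S X) : orbMap (1 : rightAut S X) i = i := by
  induction i using Quotient.inductionOn with
  | _ x => rfl

theorem orbMap_bijective (g : rightAut S X) : Function.Bijective (orbMap g) := by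
  refine Function.bijective_iff_has_inverse.mpr ⟨orbMap g⁻¹, fun i => ?_, fun i => ?_⟩
  · rw [← orbMap_mul, inv_mul_cancel, orbMap_one]
  · rw [← orbMap_mul, mul_inv_cancel, orbMap_one]

/-- A section of the orbit map. -/
structure IsSection (σ : RightOrb S X → X) : Prop where
  orb : ∀ i, orbOf (σ i) = i

theorem exists_isSection : ∃ σ : RightOrb S X → X, IsSection σ :=
  ⟨Quotient.out, ⟨fun i => Quotient.out_eq i⟩⟩

section Cocycle

variable {σ : RightOrb S X → X} (hσ : IsSection σ)
  (hfree : ∀ (t : S) (x : X), ((1 : S), t) • x = x → t = 1)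

include hσ in
theorem exists_coc (x : X) : ∃ t : S, ((1 : S), t) • σ (orbOf x) = x :=
  orbOf_eq_iff.mp (hσ.orb (orbOf x))

/-- The cocycle: `x = (1, coc x) • σ (orbit of x)`. -/
noncomputable def coc (x : X) : S := (exists_coc hσ x).choose

theorem coc_spec (x : X) : ((1 : S), coc hσ x) • σ (orbOf x) = x := (exists_coc hσ x).choose_spec

include hfree in
theorem coc_unique {x : X} {t : S} (h : ((1 : S), t) • σ (orbOf x) = x) : t = coc hσ x := by
  have h1 := coc_spec hσ x
  have h2 : ((1 : S), (coc hσ x)⁻¹ * t) • σ (orbOf x) = σ (orbOf x) := by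
    calc (((1 : S), (coc hσ x)⁻¹ * t) : S × S) • σ (orbOf x)
        = (((1 : S), (coc hσ x)⁻¹) : S × S) • ((((1 : S), t) : S × S) • σ (orbOf x)) := by
          rw [smul_smul]; simp
      _ = (((1 : S), (coc hσ x)⁻¹) : S × S) • x := by rw [h]
      _ = (((1 : S), (coc hσ x)⁻¹) : S × S) • ((((1 : S), coc hσ x) : S × S) • σ (orbOf x)) := by
          rw [h1]
      _ = σ (orbOf x) := by
          rw [smul_smul]
          have : ((((1 : S), (coc hσ x)⁻¹) : S × S) * (((1 : S), coc hσ x) : S × S)) = 1 := by simp
          rw [this, one_smul]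
  have := hfree _ _ h2
  exact (inv_mul_eq_one.mp this).symm

include hfree in
theorem coc_section (i : RightOrb S X) : coc hσ (σ i) = 1 := by
  symm
  apply coc_unique hσ hfree
  rw [hσ.orb i]
  exact one_smul _ _

include hfree in
theorem coc_smul (t : S) (x : X) : coc hσ (((1 : S), t) • x) = t * coc hσ x := by
  symm
  apply coc_unique hσ hfree
  rw [orbOf_smul]
  have : (((1 : S), t * coc hσ x) : S × S) = ((1 : S), t) * ((1 : S), coc hσ x) := by simp
  rw [this, mul_smul, coc_spec]

include hfree in
theorem coc_aut (g : rightAut S X) (x : X) :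
    coc hσ ((g : Equiv.Perm X) x) = coc hσ x * coc hσ ((g : Equiv.Perm X) (σ (orbOf x))) := by
  have h1 : (g : Equiv.Perm X) x = ((1 : S), coc hσ x) • (g : Equiv.Perm X) (σ (orbOf x)) := by
    rw [← g.2, coc_spec]
  rw [h1, coc_smul hσ hfree]

/-- The transfer of a permutation commuting with `1 × S`. -/
noncomputable def transferFun {A : Type*} [CommGroup A] (κ : S →* A) [Fintype (RightOrb S X)]
    (g : rightAut S X) : A :=
  ∏ i : RightOrb S X, κ (coc hσ ((g : Equiv.Perm X) (σ i)))

include hfree in
theorem transferFun_mul {A : Type*} [CommGroup A] (κ : S →* A) [Fintype (RightOrb S X)]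
    (g h : rightAut S X) :
    transferFun hσ κ (g * h) = transferFun hσ κ g * transferFun hσ κ h := by
  unfold transferFun
  have h1 : ∀ i : RightOrb S X, κ (coc hσ (((g * h : rightAut S X) : Equiv.Perm X) (σ i))) =
      κ (coc hσ ((h : Equiv.Perm X) (σ i))) * κ (coc hσ ((g : Equiv.Perm X) (σ (orbMap h i)))) := by
    intro i
    have e1 : ((g * h : rightAut S X) : Equiv.Perm X) (σ i) =
        (g : Equiv.Perm X) ((h : Equiv.Perm X) (σ i)) := rfl
    rw [e1, coc_aut hσ hfree g, map_mul]
    congr 3
    rw [← orbMap_orbOf, hσ.orb]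
  rw [Finset.prod_congr rfl (fun i _ => h1 i), Finset.prod_mul_distrib, mul_comm]
  congr 1
  exact Fintype.prod_bijective (orbMap h) (orbMap_bijective h) _ _ (fun i => rfl)

/-- The transfer homomorphism. -/
noncomputable def transferHom {A : Type*} [CommGroup A] (κ : S →* A) [Fintype (RightOrb S X)] :
    rightAut S X →* A :=
  MonoidHom.mk' (transferFun hσ κ) (transferFun_mul hσ hfree κ)

theorem transferHom_apply {A : Type*} [CommGroup A] (κ : S →* A) [Fintype (RightOrb S X)]
    (g : rightAut S X) :
    transferHom hσ hfree κ g = ∏ i : RightOrb S X, κ (coc hσ ((g : Equiv.Perm X) (σ i))) := rfl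

/-- A permutation preserving the section has trivial transfer. -/
theorem transferHom_eq_one_of_section {A : Type*} [CommGroup A] (κ : S →* A) [Fintype (RightOrb S X)]
    (g : rightAut S X) (hg : ∀ i, (g : Equiv.Perm X) (σ i) = σ (orbMap g i)) :
    transferHom hσ hfree κ g = 1 := by
  rw [transferHom_apply]
  apply Finset.prod_eq_one
  intro i _
  rw [hg i, coc_section hσ hfree, map_one]

include hσ hfree in
/-- The number of points is the number of orbits times the order of `S`. -/
theorem card_eq_card_rightOrb_mul [Finite S] [Finite X] :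
    Nat.card X = Nat.card (RightOrb S X) * Nat.card S := by
  rw [← Nat.card_prod]
  apply Nat.card_congr
  refine
    { toFun := fun x => (orbOf x, coc hσ x)
      invFun := fun y => ((1 : S), y.2) • σ y.1
      left_inv := fun x => coc_spec hσ x
      right_inv := ?_ }
  rintro ⟨i, t⟩
  apply Prod.ext
  · show orbOf (((1 : S), t) • σ i) = i
    rw [orbOf_smul, hσ.orb]
  · show coc hσ (((1 : S), t) • σ i) = t
    rw [coc_smul hσ hfree, coc_section hσ hfree, mul_one]

end Cocycle

end Transfer

end Cfsg.Agent.Lib.Helper87
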