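import Cfsg.Agent.Lib.Helper87.FusionBasic
import Cfsg.Agent.Lib.Helper87.BisetGamma

set_option autoImplicit false

/-!
Twisted diagonal subgroups of `S × S` for a fusion system over `S`.
-/

namespace Cfsg.Agent.Lib.Helper87

open Cfsg Cfsg.FusionSystem

variable {Ω : Type*} [Group Ω] {S : Subgroup Ω}

/-- `D` is the twisted diagonal `{(ρ r, r) : r ∈ R}` of the map `ρ` of the system. -/
def IsTwistedBy (F : FusionSystem S) (D : Subgroup (↥S × ↥S)) (R : Subgroup Ω) (ρ : R →* Ω) : Prop :=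
  ρ ∈ F.Hom R ∧ ∀ x : ↥S × ↥S, x ∈ D ↔ ∃ r : R, (x.1 : Ω) = ρ r ∧ (x.2 : Ω) = r

/-- The family of twisted diagonal subgroups. -/
def twisted (F : FusionSystem S) : Set (Subgroup (↥S × ↥S)) := {D | ∃ R ρ, IsTwistedBy F D R ρ}

/-- The diagonal subgroup of `S × S`. -/
def diagS (S : Subgroup Ω) : Subgroup (↥S × ↥S) where
  carrier := {x | x.1 = x.2}
  one_mem' := rfl
  mul_mem' := by
    intro x y hx hy
    show x.1 * y.1 = x.2 * y.2
    rw [show x.1 = x.2 from hx, show y.1 = y.2 from hy]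
  inv_mem' := by
    intro x hx
    show x.1⁻¹ = x.2⁻¹
    rw [show x.1 = x.2 from hx]

theorem mem_diagS {x : ↥S × ↥S} : x ∈ diagS S ↔ x.1 = x.2 := Iff.rfl

theorem diagS_twistedBy (F : FusionSystem S) : IsTwistedBy F (diagS S) S S.subtype := by
  refine ⟨subtype_mem F le_rfl, fun x => ?_⟩
  rw [mem_diagS]
  constructor
  · intro h
    exact ⟨x.2, by rw [h]; rfl, rfl⟩
  · rintro ⟨r, h1, h2⟩
    apply Subtype.ext
    rw [h1, h2]; rfl

theorem diagS_mem_twisted (F : FusionSystem S) : diagS S ∈ twisted F := ⟨S, S.subtype, diagS_twistedBy F⟩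

/-- Subgroups of twisted diagonals are twisted diagonals. -/
theorem twisted_of_le (F : FusionSystem S) {K D : Subgroup (↥S × ↥S)} (hKD : K ≤ D) (hD : D ∈ twisted F) :
    K ∈ twisted F := by
  obtain ⟨R, ρ, hρ, hD⟩ := hD
  -- the source
  set R' : Subgroup Ω := (K.map (MonoidHom.snd ↥S ↥S)).map S.subtype with hR'
  have hmemR' : ∀ y : Ω, y ∈ R' ↔ ∃ k ∈ K, ((k.2 : ↥S) : Ω) = y := by
    intro y
    simp only [hR', Subgroup.mem_map, MonoidHom.coe_snd, Subgroup.coe_subtype]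
    constructor
    · rintro ⟨s, ⟨k, hk, rfl⟩, rfl⟩
      exact ⟨k, hk, rfl⟩
    · rintro ⟨k, hk, rfl⟩
      exact ⟨k.2, ⟨k, hk, rfl⟩, rfl⟩
  have hR'R : R' ≤ R := by
    intro y hy
    obtain ⟨k, hk, rfl⟩ := (hmemR' y).mp hy
    obtain ⟨r, _, h2⟩ := (hD k).mp (hKD hk)
    rw [h2]; exact r.2
  refine ⟨R', ρ.comp (Subgroup.inclusion hR'R), restrict_mem F hR'R hρ, fun x => ?_⟩
  constructor
  · intro hx
    obtain ⟨r, h1, h2⟩ := (hD x).mp (hKD hx)
    have hr : (r : Ω) ∈ R' := (hmemR' _).mpr ⟨x, hx, h2⟩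
    refine ⟨⟨r, hr⟩, ?_, h2⟩
    rw [h1]; rfl
  · rintro ⟨r, h1, h2⟩
    obtain ⟨k, hk, hkr⟩ := (hmemR' _).mp r.2
    obtain ⟨r₀, h3, h4⟩ := (hD k).mp (hKD hk)
    have e0 : (r₀ : Ω) = r := by rw [← h4, hkr]
    have e1 : r₀ = Subgroup.inclusion hR'R r := Subtype.ext e0
    have : x = k := by
      apply Prod.ext
      · apply Subtype.ext
        rw [h1, h3, e1]; rfl
      · apply Subtype.ext
        rw [h2, hkr]
    rw [this]; exact hk

/-- Conjugates of twisted diagonals are twisted diagonals. -/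
theorem twisted_of_sconj (F : FusionSystem S) {K D : Subgroup (↥S × ↥S)} (h : SConj K D) (hK : K ∈ twisted F) :
    D ∈ twisted F := by
  obtain ⟨R, ρ, hρ, hK⟩ := hK
  obtain ⟨g, hg⟩ := h
  obtain ⟨a, b⟩ := g
  have hRS : R ≤ S := hom_le F hρ
  -- the new source
  set R' : Subgroup Ω := R.map (MulAut.conj (b : Ω)).toMonoidHom with hR'
  have hmemR' : ∀ y : Ω, y ∈ R' ↔ (b : Ω)⁻¹ * y * b ∈ R := fun y => mem_of_sconj rfl y
  have hR'S : R' ≤ S := by
    intro y hy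
    have h1 := hRS ((hmemR' y).mp hy)
    have : y = (b : Ω) * ((b : Ω)⁻¹ * y * b) * (b : Ω)⁻¹ := by group
    rw [this]
    exact S.mul_mem (S.mul_mem b.2 h1) (S.inv_mem b.2)
  -- conjugation by `b⁻¹` from `R'` to `R`
  have hc1 : conjHom R' ((b : Ω)⁻¹) ∈ F.Hom R' := F.conj_mem hR'S (S.inv_mem b.2)
  have hc1R : ∀ y : R', conjHom R' ((b : Ω)⁻¹) y ∈ R := by
    intro y
    have := (hmemR' y).mp y.2
    simpa [conjHom] using this
  have hc2 : conjHom S (a : Ω) ∈ F.Hom S := F.conj_mem le_rfl a.2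
  have h1 := F.comp_mem hc1 hρ hc1R
  have h2 := F.comp_mem h1 hc2 (fun y => hom_mem F h1 y)
  refine ⟨R', _, h2, fun x => ?_⟩
  rw [mem_of_sconj hg, hK]
  constructor
  · rintro ⟨r, e1, e2⟩
    have e1' : (a : Ω)⁻¹ * x.1 * a = ρ r := e1
    have e2' : (b : Ω)⁻¹ * x.2 * b = r := e2
    have hx2 : ((x.2 : ↥S) : Ω) ∈ R' := by
      rw [hmemR', e2']; exact r.2
    refine ⟨⟨x.2, hx2⟩, ?_, rfl⟩
    have e3 : (⟨conjHom R' ((b : Ω)⁻¹) ⟨x.2, hx2⟩, hc1R _⟩ : R) = r := by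
      apply Subtype.ext
      rw [← e2']
      simp [conjHom]
    show (x.1 : Ω) = conjHom S (a : Ω) ⟨ρ ⟨conjHom R' ((b : Ω)⁻¹) ⟨x.2, hx2⟩, hc1R _⟩, _⟩
    simp only [e3]
    simp only [conjHom, MonoidHom.coe_comp, MulEquiv.coe_toMonoidHom, Subgroup.coe_subtype,
      Function.comp_apply, MulAut.conj_apply]
    rw [← e1']; group
  · rintro ⟨r, e1, e2⟩
    have hr : (b : Ω)⁻¹ * r * b ∈ R := (hmemR' r).mp r.2
    refine ⟨⟨_, hr⟩, ?_, ?_⟩
    · show (a : Ω)⁻¹ * x.1 * a = ρ ⟨_, hr⟩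
      rw [e1]
      have e3 : (⟨conjHom R' ((b : Ω)⁻¹) r, hc1R _⟩ : R) = ⟨_, hr⟩ := by
        apply Subtype.ext
        simp [conjHom]
      show (a : Ω)⁻¹ * conjHom S (a : Ω) ⟨ρ ⟨conjHom R' ((b : Ω)⁻¹) r, hc1R _⟩, _⟩ * a = _
      simp only [e3]
      simp only [conjHom, MonoidHom.coe_comp, MulEquiv.coe_toMonoidHom, Subgroup.coe_subtype,
        Function.comp_apply, MulAut.conj_apply]
      group
    · show (b : Ω)⁻¹ * x.2 * b = (b : Ω)⁻¹ * r * b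
      rw [e2]

/-- The order of a twisted diagonal is the order of its source. -/
theorem card_of_twistedBy (F : FusionSystem S) {D : Subgroup (↥S × ↥S)} {R : Subgroup Ω} {ρ : R →* Ω}
    (h : IsTwistedBy F D R ρ) : Nat.card D = Nat.card R := by
  obtain ⟨hρ, hD⟩ := h
  have hRS : R ≤ S := hom_le F hρ
  apply Nat.card_congr
  refine Equiv.ofBijective (fun x : D => (⟨((x : ↥S × ↥S).2 : Ω), by
    obtain ⟨r, _, h2⟩ := (hD x).mp x.2
    rw [h2]; exact r.2⟩ : R)) ⟨?_, ?_⟩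
  · intro x y hxy
    have h0 : (((x : ↥S × ↥S).2 : ↥S) : Ω) = ((y : ↥S × ↥S).2 : ↥S) := congrArg (fun z : R => (z : Ω)) hxy
    obtain ⟨r, h1, h2⟩ := (hD x).mp x.2
    obtain ⟨r', h1', h2'⟩ := (hD y).mp y.2
    have hrr' : r = r' := Subtype.ext (by rw [← h2, ← h2', h0])
    apply Subtype.ext
    apply Prod.ext
    · apply Subtype.ext
      rw [h1, h1', hrr']
    · exact Subtype.ext h0
  · intro r
    have hx : ((⟨ρ r, hom_mem F hρ r⟩, ⟨r, hRS r.2⟩) : ↥S × ↥S) ∈ D := (hD _).mpr ⟨r, rfl, rfl⟩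
    exact ⟨⟨_, hx⟩, rfl⟩

/-- Left twisting by a map of the system preserves twisted diagonals. -/
theorem twisted_map_left_iff (F : FusionSystem S) {P : Subgroup Ω} (hP : P ≤ S) {φ : P →* Ω}
    (hφ : φ ∈ F.Hom P) (hφS : ∀ x : P, φ x ∈ S) (K : Subgroup (↥P × ↥S)) :
    K.map ((Subgroup.inclusion hP).prodMap (MonoidHom.id ↥S)) ∈ twisted F ↔
      K.map ((φ.codRestrict S hφS).prodMap (MonoidHom.id ↥S)) ∈ twisted F := by
  have hα : ∀ k : ↥P × ↥S, ((Subgroup.inclusion hP).prodMap (MonoidHom.id ↥S)) k =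
      (Subgroup.inclusion hP k.1, k.2) := fun k => rfl
  have hβ : ∀ k : ↥P × ↥S, ((φ.codRestrict S hφS).prodMap (MonoidHom.id ↥S)) k =
      (⟨φ k.1, hφS k.1⟩, k.2) := fun k => rfl
  constructor
  · rintro ⟨R, ρ, hρ, hK⟩
    have hRS : R ≤ S := hom_le F hρ
    have hmem : ∀ r : R, ∃ k ∈ K, ((k.1 : P) : Ω) = ρ r ∧ ((k.2 : ↥S) : Ω) = r := by
      intro r
      have hy : ((⟨ρ r, hom_mem F hρ r⟩, ⟨r, hRS r.2⟩) : ↥S × ↥S) ∈
          K.map ((Subgroup.inclusion hP).prodMap (MonoidHom.id ↥S)) := (hK _).mpr ⟨r, rfl, rfl⟩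
      obtain ⟨k, hk, hky⟩ := hy
      rw [hα] at hky
      refine ⟨k, hk, ?_, ?_⟩
      · exact congrArg (fun z : ↥S × ↥S => ((z.1 : ↥S) : Ω)) hky
      · exact congrArg (fun z : ↥S × ↥S => ((z.2 : ↥S) : Ω)) hky
    have h : ∀ r : R, ρ r ∈ P := by
      intro r
      obtain ⟨k, _, h1, _⟩ := hmem r
      rw [← h1]; exact k.1.2
    refine ⟨R, φ.comp (ρ.codRestrict P h), F.comp_mem hρ hφ h, fun x => ?_⟩
    constructor
    · rintro ⟨k, hk, rfl⟩
      have hy : ((Subgroup.inclusion hP).prodMap (MonoidHom.id ↥S)) k ∈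
          K.map ((Subgroup.inclusion hP).prodMap (MonoidHom.id ↥S)) := ⟨k, hk, rfl⟩
      obtain ⟨r, e1, e2⟩ := (hK _).mp hy
      rw [hα] at e1 e2
      refine ⟨r, ?_, e2⟩
      rw [hβ]
      have : k.1 = ⟨ρ r, h r⟩ := Subtype.ext e1
      show φ k.1 = φ ⟨ρ r, h r⟩
      rw [this]
    · rintro ⟨r, e1, e2⟩
      obtain ⟨k, hk, h1, h2⟩ := hmem r
      refine ⟨k, hk, ?_⟩
      rw [hβ]
      have : k.1 = ⟨ρ r, h r⟩ := Subtype.ext h1
      apply Prod.ext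
      · apply Subtype.ext
        show φ k.1 = x.1
        rw [e1, this]; rfl
      · apply Subtype.ext
        show ((k.2 : ↥S) : Ω) = x.2
        rw [h2, e2]
  · rintro ⟨R, σ, hσ, hK⟩
    have hRS : R ≤ S := hom_le F hσ
    have hmem : ∀ r : R, ∃ k ∈ K, φ k.1 = σ r ∧ ((k.2 : ↥S) : Ω) = r := by
      intro r
      have hy : ((⟨σ r, hom_mem F hσ r⟩, ⟨r, hRS r.2⟩) : ↥S × ↥S) ∈
          K.map ((φ.codRestrict S hφS).prodMap (MonoidHom.id ↥S)) := (hK _).mpr ⟨r, rfl, rfl⟩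
      obtain ⟨k, hk, hky⟩ := hy
      rw [hβ] at hky
      refine ⟨k, hk, ?_, ?_⟩
      · exact congrArg (fun z : ↥S × ↥S => ((z.1 : ↥S) : Ω)) hky
      · exact congrArg (fun z : ↥S × ↥S => ((z.2 : ↥S) : Ω)) hky
    have h : ∀ r : R, σ r ∈ φ.range := by
      intro r
      obtain ⟨k, _, h1, _⟩ := hmem r
      exact ⟨k.1, h1⟩
    obtain ⟨ψ, hψ, hψx, _⟩ := inv_mem' F hφ rfl
    refine ⟨R, ψ.comp (σ.codRestrict φ.range h), F.comp_mem hσ hψ h, fun x => ?_⟩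
    constructor
    · rintro ⟨k, hk, rfl⟩
      have hy : ((φ.codRestrict S hφS).prodMap (MonoidHom.id ↥S)) k ∈
          K.map ((φ.codRestrict S hφS).prodMap (MonoidHom.id ↥S)) := ⟨k, hk, rfl⟩
      obtain ⟨r, e1, e2⟩ := (hK _).mp hy
      rw [hβ] at e1 e2
      refine ⟨r, ?_, e2⟩
      rw [hα]
      show ((k.1 : P) : Ω) = ψ ⟨σ r, h r⟩
      exact (hψx k.1 ⟨σ r, h r⟩ e1).symm
    · rintro ⟨r, e1, e2⟩
      obtain ⟨k, hk, h1, h2⟩ := hmem r
      refine ⟨k, hk, ?_⟩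
      rw [hα]
      apply Prod.ext
      · apply Subtype.ext
        show ((k.1 : P) : Ω) = x.1
        rw [e1]
        exact (hψx k.1 ⟨σ r, h r⟩ h1).symm
      · apply Subtype.ext
        show ((k.2 : ↥S) : Ω) = x.2
        rw [h2, e2]

theorem card_map_left_eq (F : FusionSystem S) {P : Subgroup Ω} (hP : P ≤ S) {φ : P →* Ω}
    (hφ : φ ∈ F.Hom P) (hφS : ∀ x : P, φ x ∈ S) (K : Subgroup (↥P × ↥S)) :
    Nat.card (K.map ((Subgroup.inclusion hP).prodMap (MonoidHom.id ↥S))) =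
      Nat.card (K.map ((φ.codRestrict S hφS).prodMap (MonoidHom.id ↥S))) := by
  rw [Subgroup.card_map_of_injective, Subgroup.card_map_of_injective]
  · rw [MonoidHom.coe_prodMap]
    apply Function.Injective.prodMap
    · intro x y hxy
      exact F.injective_of_mem hφ (congrArg (fun z : ↥S => (z : Ω)) hxy)
    · exact fun _ _ h => h
  · rw [MonoidHom.coe_prodMap]
    apply Function.Injective.prodMap
    · exact Subgroup.inclusion_injective hP
    · exact fun _ _ h => h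

end Cfsg.Agent.Lib.Helper87
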