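import Cfsg.Agent.Lib.Helper87.BisetTwisted
import Cfsg.Agent.Lib.Helper87.FusionAut

set_option autoImplicit false

/-!
Sources of twisted diagonals and two-sided twisting.
-/

namespace Cfsg.Agent.Lib.Helper87

open Cfsg Cfsg.FusionSystem

variable {Ω : Type*} [Group Ω] {S : Subgroup Ω}

/-- The source of a subgroup of `S × S`: the image of the second projection, as a subgroup of `Ω`. -/
def srcOf (D : Subgroup (↥S × ↥S)) : Subgroup Ω := (D.map (MonoidHom.snd ↥S ↥S)).map S.subtype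

theorem mem_srcOf {D : Subgroup (↥S × ↥S)} {y : Ω} : y ∈ srcOf D ↔ ∃ k ∈ D, ((k.2 : ↥S) : Ω) = y := by
  simp only [srcOf, Subgroup.mem_map, MonoidHom.coe_snd, Subgroup.coe_subtype]
  constructor
  · rintro ⟨s, ⟨k, hk, rfl⟩, rfl⟩
    exact ⟨k, hk, rfl⟩
  · rintro ⟨k, hk, rfl⟩
    exact ⟨k.2, ⟨k, hk, rfl⟩, rfl⟩

theorem srcOf_le (D : Subgroup (↥S × ↥S)) : srcOf D ≤ S := by
  intro y hy
  obtain ⟨k, _, rfl⟩ := mem_srcOf.mp hy
  exact k.2.2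

theorem srcOf_eq_of_twistedBy (F : FusionSystem S) {D : Subgroup (↥S × ↥S)} {R : Subgroup Ω} {ρ : R →* Ω}
    (h : IsTwistedBy F D R ρ) : srcOf D = R := by
  obtain ⟨hρ, hD⟩ := h
  have hRS : R ≤ S := hom_le F hρ
  ext y
  rw [mem_srcOf]
  constructor
  · rintro ⟨k, hk, rfl⟩
    obtain ⟨r, _, h2⟩ := (hD k).mp hk
    rw [h2]; exact r.2
  · intro hy
    refine ⟨(⟨ρ ⟨y, hy⟩, hom_mem F hρ _⟩, ⟨y, hRS hy⟩), (hD _).mpr ⟨⟨y, hy⟩, rfl, rfl⟩, rfl⟩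

/-- A twisted diagonal is twisted by a map defined on its source. -/
theorem exists_twistedBy_srcOf (F : FusionSystem S) {D : Subgroup (↥S × ↥S)} (hD : D ∈ twisted F) :
    ∃ ρ : srcOf D →* Ω, IsTwistedBy F D (srcOf D) ρ := by
  obtain ⟨R, ρ, h⟩ := hD
  have := srcOf_eq_of_twistedBy F h
  subst this
  exact ⟨ρ, h⟩

theorem card_eq_card_srcOf (F : FusionSystem S) {D : Subgroup (↥S × ↥S)} (hD : D ∈ twisted F) :
    Nat.card D = Nat.card (srcOf D) := by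
  obtain ⟨ρ, h⟩ := exists_twistedBy_srcOf F hD
  exact card_of_twistedBy F h

/-- Conjugate subgroups of `S × S` have `S`-conjugate sources. -/
theorem srcOf_sconj (F : FusionSystem S) {K D : Subgroup (↥S × ↥S)} (h : SConj K D) :
    F.IsConj (srcOf K) (srcOf D) := by
  obtain ⟨g, hg⟩ := h
  obtain ⟨a, b⟩ := g
  refine ⟨conjHom (srcOf K) (b : Ω), F.conj_mem (srcOf_le K) b.2, ?_⟩
  ext y
  constructor
  · rintro ⟨x, rfl⟩
    obtain ⟨k, hk, hkx⟩ := mem_srcOf.mp x.2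
    rw [mem_srcOf]
    refine ⟨(a, b) * k * (a, b)⁻¹, ?_, ?_⟩
    · rw [mem_of_sconj hg]
      have : (a, b)⁻¹ * ((a, b) * k * (a, b)⁻¹) * (a, b) = k := by group
      rw [this]; exact hk
    · simp [conjHom, hkx]
  · intro hy
    obtain ⟨k, hk, rfl⟩ := mem_srcOf.mp hy
    rw [mem_of_sconj hg] at hk
    have hx : ((((a, b)⁻¹ * k * (a, b) : ↥S × ↥S).2 : ↥S) : Ω) ∈ srcOf K := mem_srcOf.mpr ⟨_, hk, rfl⟩
    refine ⟨⟨_, hx⟩, ?_⟩
    simp [conjHom]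
    group

/-- The relation on subgroups of `S × S`: the sources are conjugate in the system. -/
def ERel (F : FusionSystem S) (K K' : Subgroup (↥S × ↥S)) : Prop :=
  (K ∈ twisted F ∧ K' ∈ twisted F ∧ F.IsConj (srcOf K) (srcOf K')) ∨ K = K'

theorem eRel_equivalence (F : FusionSystem S) : Equivalence (ERel F) := by
  refine ⟨fun K => Or.inr rfl, ?_, ?_⟩
  · rintro K K' (⟨h1, h2, h3⟩ | rfl)
    · exact Or.inl ⟨h2, h1, isConj_symm F h3⟩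
    · exact Or.inr rfl
  · rintro K K' K'' (⟨h1, h2, h3⟩ | rfl) h'
    · rcases h' with (⟨h1', h2', h3'⟩ | rfl)
      · exact Or.inl ⟨h1, h2', isConj_trans F h3 h3'⟩
      · exact Or.inl ⟨h1, h2, h3⟩
    · exact h'

theorem eRel_mem (F : FusionSystem S) {K K' : Subgroup (↥S × ↥S)} (hK : K ∈ twisted F) (h : ERel F K K') :
    K' ∈ twisted F := by
  rcases h with (⟨_, h2, _⟩ | rfl)
  · exact h2
  · exact hK

theorem eRel_card [Finite S] (F : FusionSystem S) {K K' : Subgroup (↥S × ↥S)} (h : ERel F K K') :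
    Nat.card K = Nat.card K' := by
  rcases h with (⟨h1, h2, φ, hφ, hr⟩ | rfl)
  · rw [card_eq_card_srcOf F h1, card_eq_card_srcOf F h2, ← hr]
    exact Nat.card_congr (Equiv.ofInjective φ (F.injective_of_mem hφ))
  · rfl

theorem eRel_of_sconj (F : FusionSystem S) {K K' : Subgroup (↥S × ↥S)} (hK : K ∈ twisted F)
    (h : SConj K K') : ERel F K K' :=
  Or.inl ⟨hK, twisted_of_sconj F h hK, srcOf_sconj F h⟩

/-! ### Two-sided twisting -/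

/-- Twisting both factors by maps of the system preserves twisted diagonals, and the conjugacy class of the source. -/
theorem twisted_map_two_sided (F : FusionSystem S) {A B : Subgroup Ω} {μ : A →* Ω} {ν : B →* Ω}
    (hμ : μ ∈ F.Hom A) (hν : ν ∈ F.Hom B) (K : Subgroup (↥A × ↥B)) :
    (K.map ((Subgroup.inclusion (hom_le F hμ)).prodMap (Subgroup.inclusion (hom_le F hν))) ∈ twisted F →
      K.map ((μ.codRestrict S (hom_mem F hμ)).prodMap (ν.codRestrict S (hom_mem F hν))) ∈ twisted F ∧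
      F.IsConj (srcOf (K.map ((Subgroup.inclusion (hom_le F hμ)).prodMap (Subgroup.inclusion (hom_le F hν)))))
        (srcOf (K.map ((μ.codRestrict S (hom_mem F hμ)).prodMap (ν.codRestrict S (hom_mem F hν)))))) ∧
    (K.map ((μ.codRestrict S (hom_mem F hμ)).prodMap (ν.codRestrict S (hom_mem F hν))) ∈ twisted F →
      K.map ((Subgroup.inclusion (hom_le F hμ)).prodMap (Subgroup.inclusion (hom_le F hν))) ∈ twisted F) := by
  have hA : A ≤ S := hom_le F hμ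
  have hB : B ≤ S := hom_le F hν
  set α := (Subgroup.inclusion hA).prodMap (Subgroup.inclusion hB) with hα
  set β := (μ.codRestrict S (hom_mem F hμ)).prodMap (ν.codRestrict S (hom_mem F hν)) with hβ
  have hα1 : ∀ k : ↥A × ↥B, (((α k).1 : ↥S) : Ω) = k.1 := fun k => rfl
  have hα2 : ∀ k : ↥A × ↥B, (((α k).2 : ↥S) : Ω) = k.2 := fun k => rfl
  have hβ1 : ∀ k : ↥A × ↥B, (((β k).1 : ↥S) : Ω) = μ k.1 := fun k => rfl
  have hβ2 : ∀ k : ↥A × ↥B, (((β k).2 : ↥S) : Ω) = ν k.2 := fun k => rfl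
  constructor
  · rintro ⟨R₁, ρ₁, hρ₁, hK⟩
    have hR₁S : R₁ ≤ S := hom_le F hρ₁
    have hmem : ∀ r : R₁, ∃ k ∈ K, ((k.1 : A) : Ω) = ρ₁ r ∧ ((k.2 : B) : Ω) = r := by
      intro r
      have hy : ((⟨ρ₁ r, hom_mem F hρ₁ r⟩, ⟨r, hR₁S r.2⟩) : ↥S × ↥S) ∈ K.map α :=
        (hK _).mpr ⟨r, rfl, rfl⟩
      obtain ⟨k, hk, hky⟩ := hy
      refine ⟨k, hk, ?_, ?_⟩
      · rw [← hα1 k, hky]
      · rw [← hα2 k, hky]
    have hR₁B : R₁ ≤ B := by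
      intro y hy
      obtain ⟨k, _, _, h2⟩ := hmem ⟨y, hy⟩
      have : y = ((k.2 : B) : Ω) := h2.symm
      rw [this]; exact k.2.2
    have hρ₁A : ∀ r : R₁, ρ₁ r ∈ A := by
      intro r
      obtain ⟨k, _, h1, _⟩ := hmem r
      rw [← h1]; exact k.1.2
    -- the restriction of `ν` to `R₁`, its image and its inverse
    set ν₁ : R₁ →* Ω := ν.comp (Subgroup.inclusion hR₁B) with hν₁
    have hν₁F : ν₁ ∈ F.Hom R₁ := restrict_mem F hR₁B hν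
    obtain ⟨ψ, hψ, hψx, hψr⟩ := inv_mem' F hν₁F rfl
    have hψR₁ : ∀ y : ν₁.range, ψ y ∈ R₁ := by
      intro y
      have : ψ y ∈ ψ.range := ⟨y, rfl⟩
      rw [hψr] at this
      exact this
    have h1 := F.comp_mem hψ hρ₁ hψR₁
    have h2 := F.comp_mem h1 hμ (fun y => hρ₁A _)
    have hK' : IsTwistedBy F (K.map β) ν₁.range
        (μ.comp ((ρ₁.comp (ψ.codRestrict R₁ hψR₁)).codRestrict A (fun y => hρ₁A _))) := by
      refine ⟨h2, fun x => ?_⟩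
      constructor
      · rintro ⟨k, hk, rfl⟩
        have hy : α k ∈ K.map α := ⟨k, hk, rfl⟩
        obtain ⟨r, e1, e2⟩ := (hK _).mp hy
        rw [hα1] at e1
        rw [hα2] at e2
        have hr2 : ν₁ r = ν k.2 := by
          show ν (Subgroup.inclusion hR₁B r) = ν k.2
          congr 1
          exact Subtype.ext e2.symm
        refine ⟨⟨ν₁ r, ⟨r, rfl⟩⟩, ?_, ?_⟩
        · rw [hβ1]
          have e3 : (⟨ψ ⟨ν₁ r, ⟨r, rfl⟩⟩, hψR₁ _⟩ : R₁) = r := Subtype.ext (hψx r ⟨ν₁ r, ⟨r, rfl⟩⟩ rfl)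
          show μ k.1 = μ ⟨ρ₁ ⟨ψ ⟨ν₁ r, ⟨r, rfl⟩⟩, hψR₁ _⟩, _⟩
          congr 1
          apply Subtype.ext
          show ((k.1 : A) : Ω) = ρ₁ ⟨ψ ⟨ν₁ r, ⟨r, rfl⟩⟩, hψR₁ _⟩
          rw [e3, e1]
        · rw [hβ2]; exact hr2.symm
      · rintro ⟨⟨_, r, rfl⟩, e1, e2⟩
        obtain ⟨k, hk, h3, h4⟩ := hmem r
        refine ⟨k, hk, ?_⟩
        have e3 : (⟨ψ ⟨ν₁ r, ⟨r, rfl⟩⟩, hψR₁ _⟩ : R₁) = r := Subtype.ext (hψx r ⟨ν₁ r, ⟨r, rfl⟩⟩ rfl)
        apply Prod.ext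
        · apply Subtype.ext
          rw [hβ1, e1]
          show μ k.1 = μ ⟨ρ₁ ⟨ψ ⟨ν₁ r, ⟨r, rfl⟩⟩, hψR₁ _⟩, _⟩
          congr 1
          apply Subtype.ext
          show ((k.1 : A) : Ω) = ρ₁ ⟨ψ ⟨ν₁ r, ⟨r, rfl⟩⟩, hψR₁ _⟩
          rw [e3, h3]
        · apply Subtype.ext
          rw [hβ2, e2]
          show ν k.2 = ν (Subgroup.inclusion hR₁B r)
          congr 1
          exact Subtype.ext h4
    refine ⟨⟨_, _, hK'⟩, ?_⟩
    rw [srcOf_eq_of_twistedBy F ⟨hρ₁, hK⟩, srcOf_eq_of_twistedBy F hK']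
    exact ⟨ν₁, hν₁F, rfl⟩
  · rintro ⟨R₂, σ, hσ, hK⟩
    have hR₂S : R₂ ≤ S := hom_le F hσ
    have hmem : ∀ r : R₂, ∃ k ∈ K, μ k.1 = σ r ∧ ν k.2 = r := by
      intro r
      have hy : ((⟨σ r, hom_mem F hσ r⟩, ⟨r, hR₂S r.2⟩) : ↥S × ↥S) ∈ K.map β :=
        (hK _).mpr ⟨r, rfl, rfl⟩
      obtain ⟨k, hk, hky⟩ := hy
      refine ⟨k, hk, ?_, ?_⟩
      · rw [← hβ1 k, hky]
      · rw [← hβ2 k, hky]
    -- the source of `K.map α`
    set R₁ : Subgroup Ω := srcOf (K.map α) with hR₁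
    have hmemR₁ : ∀ y : Ω, y ∈ R₁ ↔ ∃ k ∈ K, ((k.2 : B) : Ω) = y := by
      intro y
      rw [hR₁, mem_srcOf]
      constructor
      · rintro ⟨_, ⟨k, hk, rfl⟩, h⟩
        exact ⟨k, hk, h⟩
      · rintro ⟨k, hk, h⟩
        exact ⟨α k, ⟨k, hk, rfl⟩, h⟩
    have hR₁B : R₁ ≤ B := by
      intro y hy
      obtain ⟨k, _, rfl⟩ := (hmemR₁ y).mp hy
      exact k.2.2
    set ν₁ : R₁ →* Ω := ν.comp (Subgroup.inclusion hR₁B) with hν₁
    have hν₁F : ν₁ ∈ F.Hom R₁ := restrict_mem F hR₁B hν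
    have hkey : ∀ k ∈ K, ∃ r₂ : R₂, μ k.1 = σ r₂ ∧ ν k.2 = r₂ := by
      intro k hk
      have hy : β k ∈ K.map β := ⟨k, hk, rfl⟩
      obtain ⟨r₂, e1, e2⟩ := (hK _).mp hy
      exact ⟨r₂, by rw [← hβ1 k, e1], by rw [← hβ2 k, e2]⟩
    have hν₁R₂ : ∀ r : R₁, ν₁ r ∈ R₂ := by
      intro r
      obtain ⟨k, hk, hkr⟩ := (hmemR₁ r).mp r.2
      obtain ⟨r₂, _, e2⟩ := hkey k hk
      have : ν₁ r = ν k.2 := by
        show ν (Subgroup.inclusion hR₁B r) = ν k.2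
        congr 1
        exact Subtype.ext hkr.symm
      rw [this, e2]; exact r₂.2
    have hσμ : ∀ r₂ : R₂, σ r₂ ∈ μ.range := by
      intro r₂
      obtain ⟨k, _, h1, _⟩ := hmem r₂
      exact ⟨k.1, h1⟩
    obtain ⟨ψ, hψ, hψx, _⟩ := inv_mem' F hμ rfl
    have h1 := F.comp_mem hν₁F hσ hν₁R₂
    have h2 := F.comp_mem h1 hψ (fun r => hσμ _)
    refine ⟨R₁, _, h2, fun x => ?_⟩
    constructor
    · rintro ⟨k, hk, rfl⟩
      have hr : ((k.2 : B) : Ω) ∈ R₁ := (hmemR₁ _).mpr ⟨k, hk, rfl⟩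
      refine ⟨⟨_, hr⟩, ?_, ?_⟩
      · rw [hα1]
        obtain ⟨r₂, e1, e2⟩ := hkey k hk
        have e3 : (⟨ν₁ ⟨_, hr⟩, hν₁R₂ _⟩ : R₂) = r₂ := by
          apply Subtype.ext
          rw [← e2]
          show ν (Subgroup.inclusion hR₁B ⟨_, hr⟩) = ν k.2
          congr 1
        show ((k.1 : A) : Ω) = ψ ⟨σ ⟨ν₁ ⟨_, hr⟩, hν₁R₂ _⟩, _⟩
        have e4 : μ k.1 = σ ⟨ν₁ ⟨_, hr⟩, hν₁R₂ _⟩ := by rw [e3, e1]
        exact (hψx k.1 ⟨_, hσμ _⟩ e4).symm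
      · rw [hα2]
    · rintro ⟨r, e1, e2⟩
      obtain ⟨k, hk, hkr⟩ := (hmemR₁ r).mp r.2
      refine ⟨k, hk, ?_⟩
      obtain ⟨r₂, e3, e4⟩ := hkey k hk
      have e5 : (⟨ν₁ r, hν₁R₂ _⟩ : R₂) = r₂ := by
        apply Subtype.ext
        rw [← e4]
        show ν (Subgroup.inclusion hR₁B r) = ν k.2
        congr 1
        exact Subtype.ext hkr.symm
      apply Prod.ext
      · apply Subtype.ext
        rw [hα1, e1]
        show ((k.1 : A) : Ω) = ψ ⟨σ ⟨ν₁ r, hν₁R₂ _⟩, _⟩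
        have e6 : μ k.1 = σ ⟨ν₁ r, hν₁R₂ _⟩ := by rw [e5, e3]
        exact (hψx k.1 ⟨_, hσμ _⟩ e6).symm
      · apply Subtype.ext
        rw [hα2, e2, hkr]

end Cfsg.Agent.Lib.Helper87
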