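import Mathlib
import Cfsg.Agent.Lib.Helper38.CD3.Defs
import Cfsg.Agent.S0175
import Cfsg.Agent.Lib.Helper83.CharMisc

/-!
# S4460 pack K-CD3, leaf N8 (446008): Taketa for three degrees (helper87, parallel hand)
-/

set_option autoImplicit false

namespace Cfsg.Agent.Lib.Helper87.CD3

open Cfsg Cfsg.Agent.Lib.Helper97 Cfsg.Agent.Lib.Helper80 Cfsg.Agent.Lib.Helper85
  Cfsg.Agent.Lib.Helper83
open scoped ComplexConjugate commutatorElement

universe u

/-- General Taketa step: `χ = indFun U lam` with `lam` linear; `K` normal such that every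
irreducible character of degree smaller than `U.index` is trivial on `K`. Then `χ` is trivial on
`⁅K, K⁆`. -/
theorem n8_step {G : Type u} [Group G] [Fintype G] (χ : G → ℂ) (hχ : IsIrrCharacter G χ)
    (U : Subgroup G) (lam : U →* ℂˣ) (hχind : χ = Cfsg.indFun U (fun h => (lam h : ℂ)))
    (K : Subgroup G) [hN : K.Normal]
    (hK : ∀ ψ : IrrCharacter G, ∀ k : ℕ, ψ.1 1 = k → k + 1 ≤ U.index →
      ∀ y ∈ K, ψ.1 y = ψ.1 1) :
    ∀ x ∈ ⁅K, K⁆, χ x = χ 1 := by
  classical
  letI : Fintype (IrrCharacter G) := Fintype.ofFinite _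
  have hχc := isCharacter_of_irr hχ
  have hsub : ∀ y ∈ K, y ∈ U := by
    intro y hy
    have hidx0 : U.index ≠ 0 := Subgroup.index_ne_zero_of_finite
    by_cases hidx1 : U.index = 1
    · rw [Subgroup.index_eq_one] at hidx1
      rw [hidx1]; exact Subgroup.mem_top y
    obtain ⟨d, hd⟩ : ∃ d, U.index = d + 1 := ⟨U.index - 1, by omega⟩
    have hdpos : 1 ≤ d := by omega
    apply Cfsg.Agent.S0175.mem_of_indFun_one_eq
    have hΦ : IsCharacter G (Cfsg.indFun U fun _ => (1 : ℂ)) :=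
      Cfsg.Agent.Lib.Helper34.isCharacter_indFun U isCharacter_one
    have hdec := char_eq_sum_irrMult hΦ
    rw [congrFun hdec y, congrFun hdec 1]
    simp only [Finset.sum_apply, Pi.smul_apply, smul_eq_mul]
    apply Finset.sum_congr rfl
    intro ψ _
    by_cases hmψ : irrMult (Cfsg.indFun U fun _ => (1 : ℂ)) ψ = 0
    · rw [hmψ]; simp
    · obtain ⟨k, hk⟩ := char_one_eq_nat (IrrCharacter_isCharacter ψ)
      have hkd := Cfsg.Agent.S0175.perm_const_degree U d hdpos hd ψ hmψ k hk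
      rw [hK ψ k hk (by omega) y hy]
  have hker : ⁅K, K⁆ ≤ charKer hχc := by
    rw [Subgroup.commutator_le]
    intro y₁ hy₁ y₂ hy₂
    rw [mem_charKer]
    have hval : ∀ c : G, (∀ g : G, ∃ hc : g⁻¹ * c * g ∈ U, lam ⟨g⁻¹ * c * g, hc⟩ = 1) →
        χ c = (Nat.card U : ℂ)⁻¹ * (Fintype.card G : ℂ) := by
      intro c hc
      rw [hχind, Cfsg.Agent.Lib.Helper04.indFun_apply]
      congr 1
      have : ∀ g : G, Cfsg.extendByZero U (fun h => ((lam h : ℂˣ) : ℂ)) (g⁻¹ * c * g) = 1 := by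
        intro g
        obtain ⟨hc1, hc2⟩ := hc g
        rw [Cfsg.Agent.Lib.Helper04.extendByZero_apply_of_mem _ _ _ hc1, hc2]
        rfl
      rw [Finset.sum_congr rfl fun g _ => this g]
      simp
    rw [hval ⁅y₁, y₂⁆, hval 1]
    · intro g
      refine ⟨by simp, ?_⟩
      have : (⟨g⁻¹ * 1 * g, by simp⟩ : U) = 1 := by
        apply Subtype.ext; simp
      rw [this, map_one]
    · intro g
      have h1 : g⁻¹ * y₁ * g ∈ U := by
        apply hsub
        have := hN.conj_mem y₁ hy₁ g⁻¹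
        simpa using this
      have h2 : g⁻¹ * y₂ * g ∈ U := by
        apply hsub
        have := hN.conj_mem y₂ hy₂ g⁻¹
        simpa using this
      have heq : g⁻¹ * ⁅y₁, y₂⁆ * g = ⁅g⁻¹ * y₁ * g, g⁻¹ * y₂ * g⁆ := by
        simp only [commutatorElement_def]; group
      have hmem : g⁻¹ * ⁅y₁, y₂⁆ * g ∈ U := by
        rw [heq, commutatorElement_def]
        exact U.mul_mem (U.mul_mem (U.mul_mem h1 h2) (U.inv_mem h1)) (U.inv_mem h2)
      refine ⟨hmem, ?_⟩
      have h3 : (⟨g⁻¹ * ⁅y₁, y₂⁆ * g, hmem⟩ : U) =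
          ⁅(⟨g⁻¹ * y₁ * g, h1⟩ : U), (⟨g⁻¹ * y₂ * g, h2⟩ : U)⁆ := by
        apply Subtype.ext
        show g⁻¹ * ⁅y₁, y₂⁆ * g = _
        rw [heq]
        simp [commutatorElement_def]
      rw [h3, map_commutatorElement, commutatorElement_def]
      rw [mul_comm (lam _) (lam _), mul_assoc, mul_assoc, mul_inv_cancel_left,
        mul_inv_cancel]
  intro x hx
  exact (mem_charKer hχc x).1 (hker hx)

variable {G : Type u} [Group G] [Finite G]

/-- 446008 N8 : Taketa for three degrees. -/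
theorem taketa_three [Fintype G] {m n : ℕ} (h : Cfsg.Agent.Lib.Helper38.CD3.ThreeDeg G m n)
    (hmn : m ≤ n)
    (hM : ∀ χ : G → ℂ, IsIrrCharacter G χ →
      ∃ (U : Subgroup G) (lam : U → ℂ), IsCharacter U lam ∧ lam 1 = 1 ∧ indFun U lam = χ) :
    derivedSeries G 3 = ⊥ := by
  classical
  letI : Fintype (IrrCharacter G) := Fintype.ofFinite _
  -- monomial in hom form
  have hM' : ∀ χ : G → ℂ, IsIrrCharacter G χ →
      ∃ (U : Subgroup G) (lam : U →* ℂˣ), χ = Cfsg.indFun U (fun h => (lam h : ℂ)) := by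
    intro χ hχ
    obtain ⟨U, lam, hl, hl1, hind⟩ := hM χ hχ
    exact ⟨U, linUnitHom hl hl1, hind.symm⟩
  have hdeg : ∀ ψ : IrrCharacter G, ∀ k : ℕ, ψ.1 1 = k → charDegree (ψ : G → ℂ) = k := by
    intro ψ k hk
    have := charDegree_cast (IrrCharacter_isCharacter ψ)
    rw [hk] at this
    exact_mod_cast this
  have hidx : ∀ (χ : G → ℂ) (hχ : IsIrrCharacter G χ) (U : Subgroup G) (lam : U →* ℂˣ),
      χ = Cfsg.indFun U (fun h => (lam h : ℂ)) → U.index = charDegree χ := by
    intro χ hχ U lam hχind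
    have hcast := charDegree_cast (isCharacter_of_irr hχ)
    have h2 : χ 1 = (U.index : ℂ) * ((lam 1 : ℂˣ) : ℂ) := by
      rw [hχind, indFun_apply_one]
    rw [map_one, Units.val_one, mul_one, ← hcast] at h2
    exact_mod_cast h2.symm
  have hn1 : (derivedSeries G 1).Normal := derivedSeries_normal G 1
  have hn2 : (derivedSeries G 2).Normal := derivedSeries_normal G 2
  have h21 : derivedSeries G 2 ≤ derivedSeries G 1 := derivedSeries_antitone G (by norm_num)
  have h32 : derivedSeries G 3 ≤ derivedSeries G 2 := derivedSeries_antitone G (by norm_num)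
  -- (a) linear characters
  have ha : ∀ ψ : IrrCharacter G, charDegree (ψ : G → ℂ) = 1 →
      ∀ y ∈ derivedSeries G 1, ψ.1 y = ψ.1 1 := by
    intro ψ hψ y hy
    have hc := IrrCharacter_isCharacter ψ
    have h1 : ψ.1 1 = 1 := by
      rw [← charDegree_cast hc, hψ]; simp
    rw [h1]
    apply char_deg_one_commutator hc h1
    rw [derivedSeries_one] at hy
    exact hy
  -- (b) degree m
  have hb : ∀ ψ : IrrCharacter G, charDegree (ψ : G → ℂ) = m →
      ∀ y ∈ derivedSeries G 2, ψ.1 y = ψ.1 1 := by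
    intro ψ hψ y hy
    obtain ⟨U, lam, hind⟩ := hM' ψ.1 ψ.2
    have hi := hidx ψ.1 ψ.2 U lam hind
    rw [hψ] at hi
    refine n8_step ψ.1 ψ.2 U lam hind (derivedSeries G 1) ?_ y hy
    intro φ k hk hkU z hz
    have hφ := hdeg φ k hk
    apply ha φ _ z hz
    rcases h φ with h1 | h1 | h1
    · exact h1
    · omega
    · omega
  -- (c) degree n
  have hc : ∀ ψ : IrrCharacter G, charDegree (ψ : G → ℂ) = n →
      ∀ y ∈ derivedSeries G 3, ψ.1 y = ψ.1 1 := by
    intro ψ hψ y hy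
    obtain ⟨U, lam, hind⟩ := hM' ψ.1 ψ.2
    have hi := hidx ψ.1 ψ.2 U lam hind
    rw [hψ] at hi
    refine n8_step ψ.1 ψ.2 U lam hind (derivedSeries G 2) ?_ y hy
    intro φ k hk hkU z hz
    have hφ := hdeg φ k hk
    rcases h φ with h1 | h1 | h1
    · exact ha φ h1 z (h21 hz)
    · exact hb φ h1 z hz
    · omega
  -- conclusion
  rw [eq_bot_iff]
  intro x hx
  rw [Subgroup.mem_bot]
  have hall : ∀ χ : IrrCharacter G, χ.1 x = χ.1 1 := by
    intro χ
    rcases h χ with h1 | h1 | h1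
    · exact ha χ h1 x (h21 (h32 hx))
    · exact hb χ h1 x (h32 hx)
    · exact hc χ h1 x hx
  have h1 := second_orthogonality x (1 : G)
  have h2 := second_orthogonality (1 : G) (1 : G)
  have h3 : ∑ χ : IrrCharacter G, (χ : G → ℂ) x * conj ((χ : G → ℂ) 1) =
      ∑ χ : IrrCharacter G, (χ : G → ℂ) 1 * conj ((χ : G → ℂ) 1) :=
    Finset.sum_congr rfl fun χ _ => by rw [hall χ]
  rw [h3, h2, if_pos (IsConj.refl _)] at h1
  by_contra hcon
  rw [if_neg (fun h => hcon (isConj_one_left.1 h))] at h1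
  have hpos : 0 < Nat.card (Subgroup.centralizer ({(1 : G)} : Set G)) := Nat.card_pos
  have : (Nat.card (Subgroup.centralizer ({(1 : G)} : Set G)) : ℂ) ≠ 0 := by
    exact_mod_cast hpos.ne'
  exact this h1

end Cfsg.Agent.Lib.Helper87.CD3
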