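import Cfsg.Agent.Lib.Helper87.GroupCond
import Cfsg.Agent.Lib.Helper91.FusionConstrained

set_option autoImplicit false

/-!
If the `p`-fusion system of a finite group `X` is constrained and `Z` is a central subgroup, then the
`p`-fusion system of `X ⧸ Z` is constrained.
-/

namespace Cfsg.Agent.Lib.Helper87

open Cfsg Cfsg.FusionSystem

section Group

variable {X : Type*} [Group X] [Finite X] {p : ℕ} [Fact p.Prime]

theorem mem_sylow_of_mem_center (T : Sylow p X) {z : X} (hz : z ∈ Subgroup.center X) {n : ℕ}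
    (hzp : z ^ p ^ n = 1) : z ∈ (T : Subgroup X) := by
  have hp : IsPGroup p (Subgroup.zpowers z) := by
    obtain ⟨k, -, hk⟩ := (Nat.dvd_prime_pow Fact.out).mp (orderOf_dvd_of_pow_eq_one hzp)
    exact IsPGroup.of_card (n := k) (by rw [Nat.card_zpowers, hk])
  obtain ⟨g, hg⟩ := exists_conj_le_sylow T hp
  have h1 : (MulAut.conj g).toMonoidHom z ∈ (T : Subgroup X) :=
    hg ⟨z, Subgroup.mem_zpowers z, rfl⟩
  have h2 : (MulAut.conj g).toMonoidHom z = z := by
    show g * z * g⁻¹ = z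
    rw [(Subgroup.mem_center_iff.mp hz g), mul_inv_cancel_right]
  rwa [h2] at h1

theorem conj_mem_sylow_of_mk_mem (T : Sylow p X) (Z : Subgroup X) [Z.Normal]
    (hZ : Z ≤ Subgroup.center X) {x g : X} (hx : x ∈ (T : Subgroup X))
    (h : QuotientGroup.mk' Z (g * x * g⁻¹) ∈ (T : Subgroup X).map (QuotientGroup.mk' Z)) :
    g * x * g⁻¹ ∈ (T : Subgroup X) := by
  obtain ⟨t, ht, htπ⟩ := h
  have hz : t⁻¹ * (g * x * g⁻¹) ∈ Z := by
    have : (QuotientGroup.mk t : X ⧸ Z) = QuotientGroup.mk (g * x * g⁻¹) := htπ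
    exact QuotientGroup.eq.mp this
  have hzc := hZ hz
  obtain ⟨a, ha⟩ := T.isPGroup' ⟨t, ht⟩
  obtain ⟨b, hb⟩ := T.isPGroup' ⟨x, hx⟩
  have ha' : t ^ p ^ a = 1 := congrArg Subtype.val ha
  have hb' : x ^ p ^ b = 1 := congrArg Subtype.val hb
  have hyb : (g * x * g⁻¹) ^ p ^ b = 1 := by
    rw [conj_pow, hb']; group
  have hcomm : Commute t⁻¹ (g * x * g⁻¹) := by
    have h1 := Subgroup.mem_center_iff.mp hzc t⁻¹
    -- t⁻¹ * z = z * t⁻¹ with z = t⁻¹ * y
    show t⁻¹ * (g * x * g⁻¹) = (g * x * g⁻¹) * t⁻¹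
    have h2 : t⁻¹ * (t⁻¹ * (g * x * g⁻¹)) = t⁻¹ * (g * x * g⁻¹) * t⁻¹ := h1
    have h3 := congrArg (fun w => t * w) h2
    simp only [mul_assoc, mul_inv_cancel_left] at h3
    simpa [mul_assoc] using h3
  have hzp : (t⁻¹ * (g * x * g⁻¹)) ^ p ^ (a + b) = 1 := by
    rw [hcomm.mul_pow, pow_add, pow_mul, inv_pow, ha', inv_one, one_pow, one_mul, mul_comm (p ^ a),
      pow_mul, hyb, one_pow]
  have hzT := mem_sylow_of_mem_center T hzc hzp
  have : g * x * g⁻¹ = t * (t⁻¹ * (g * x * g⁻¹)) := by group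
  rw [this]
  exact (T : Subgroup X).mul_mem ht hzT

/-- Passage of the group-theoretic normality and centricity conditions to a central quotient. -/
theorem gNormal_gCentric_quotient (T : Sylow p X) (Z : Subgroup X) [Z.Normal]
    (hZ : Z ≤ Subgroup.center X) (Q : Subgroup X) (hN : GNormal (T : Subgroup X) Q)
    (hCQ : ∀ s ∈ (T : Subgroup X), (∀ q ∈ Q, q⁻¹ * (s * q * s⁻¹) ∈ Z) → s ∈ Q) :
    GNormal ((T : Subgroup X).map (QuotientGroup.mk' Z)) (Q.map (QuotientGroup.mk' Z)) ∧
      GCentric ((T : Subgroup X).map (QuotientGroup.mk' Z)) (Q.map (QuotientGroup.mk' Z)) := by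
  obtain ⟨hQT, hN⟩ := hN
  have hsurj := QuotientGroup.mk'_surjective Z
  constructor
  · refine ⟨Subgroup.map_mono hQT, fun Pb gb hPb hgb => ?_⟩
    obtain ⟨g, rfl⟩ := hsurj gb
    have hP₁ : Pb.comap (QuotientGroup.mk' Z) ⊓ (T : Subgroup X) ≤ (T : Subgroup X) := inf_le_right
    have hmapP : (Pb.comap (QuotientGroup.mk' Z) ⊓ (T : Subgroup X)).map (QuotientGroup.mk' Z) = Pb := by
      apply le_antisymm
      · rintro _ ⟨y, hy, rfl⟩
        exact hy.1
      · intro yb hyb
        obtain ⟨t, ht, rfl⟩ := hPb hyb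
        exact ⟨t, ⟨hyb, ht⟩, rfl⟩
    have hg₁ : ∀ y ∈ Pb.comap (QuotientGroup.mk' Z) ⊓ (T : Subgroup X), g * y * g⁻¹ ∈ (T : Subgroup X) := by
      intro y hy
      apply conj_mem_sylow_of_mk_mem T Z hZ hy.2
      have := hgb _ hy.1
      rwa [← map_inv, ← map_mul, ← map_mul] at this
    obtain ⟨g', hg'U, hg'g, hg'Q, hg'Q'⟩ := hN _ g hP₁ hg₁
    refine ⟨QuotientGroup.mk' Z g', ?_, ?_, ?_, ?_⟩
    · intro yb hyb
      rw [← hmapP, ← Subgroup.map_sup] at hyb
      obtain ⟨y, hy, rfl⟩ := hyb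
      rw [← map_inv, ← map_mul, ← map_mul]
      exact ⟨_, hg'U y hy, rfl⟩
    · intro yb hyb
      rw [← hmapP] at hyb
      obtain ⟨y, hy, rfl⟩ := hyb
      rw [← map_inv, ← map_mul, ← map_mul, ← map_inv, ← map_mul, ← map_mul, hg'g y hy]
    · rintro _ ⟨y, hy, rfl⟩
      rw [← map_inv, ← map_mul, ← map_mul]
      exact ⟨_, hg'Q y hy, rfl⟩
    · rintro _ ⟨y, hy, rfl⟩
      rw [← map_inv, ← map_mul, ← map_mul]
      exact ⟨_, hg'Q' y hy, rfl⟩
  · refine ⟨Subgroup.map_mono hQT, fun gb hgb ub hub hcomm => ?_⟩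
    obtain ⟨g, rfl⟩ := hsurj gb
    obtain ⟨u, hu, rfl⟩ := hub
    have hg₁ : ∀ y ∈ Q, g * y * g⁻¹ ∈ (T : Subgroup X) := by
      intro y hy
      apply conj_mem_sylow_of_mk_mem T Z hZ (hQT hy)
      have := hgb _ ⟨y, hy, rfl⟩
      rwa [← map_inv, ← map_mul, ← map_mul] at this
    obtain ⟨g', -, hg'g, hg'Q, hg'Q'⟩ := hN Q g hQT hg₁
    have hgQ : ∀ y ∈ Q, g * y * g⁻¹ ∈ Q := fun y hy => by rw [← hg'g y hy]; exact hg'Q y hy
    have hgQ' : ∀ q ∈ Q, ∃ y ∈ Q, q = g * y * g⁻¹ := by
      intro q hq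
      refine ⟨g'⁻¹ * q * g', hg'Q' q hq, ?_⟩
      rw [← hg'g _ (hg'Q' q hq)]
      group
    have huQ : u ∈ Q := by
      apply hCQ u hu
      intro q hq
      obtain ⟨y, hy, rfl⟩ := hgQ' q hq
      have h1 := hcomm _ ⟨y, hy, rfl⟩
      rw [← map_inv, ← map_mul, ← map_mul, ← map_mul, ← map_mul] at h1
      have h2 : (u * (g * y * g⁻¹))⁻¹ * ((g * y * g⁻¹) * u) ∈ Z := by
        have h1' : (QuotientGroup.mk (u * (g * y * g⁻¹)) : X ⧸ Z) =
            QuotientGroup.mk ((g * y * g⁻¹) * u) := h1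
        exact QuotientGroup.eq.mp h1'
      have h3 := (inferInstance : Z.Normal).conj_mem _ h2 u
      have h4 : u * ((u * (g * y * g⁻¹))⁻¹ * ((g * y * g⁻¹) * u)) * u⁻¹
          = ((g * y * g⁻¹)⁻¹ * (u * (g * y * g⁻¹) * u⁻¹))⁻¹ := by group
      rw [h4] at h3
      exact (Z.inv_mem_iff).mp h3
    obtain ⟨y, hy, rfl⟩ := hgQ' u huQ
    refine ⟨QuotientGroup.mk' Z y, ⟨y, hy, rfl⟩, ?_⟩
    rw [← map_inv, ← map_mul, ← map_mul]

end Group

section Fusion

variable {X : Type*} [Group X] [Finite X] (p : ℕ) [Fact p.Prime]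

theorem push_subtype {T Q : Subgroup X} (hQ : Q ≤ T) : push T.subtype Q = Q := by
  ext y
  rw [mem_push]
  constructor
  · rintro ⟨s, hs, rfl⟩
    exact hs
  · intro hy
    exact ⟨⟨y, hQ hy⟩, hy, rfl⟩

open Cfsg.Agent.Lib.Helper90 Cfsg.Agent.Lib.Helper91 in
/-- A central quotient of a group with constrained `p`-fusion system has constrained `p`-fusion
system. -/
theorem constrained_central_quotient (T : Sylow p X) (Z : Subgroup X) [Z.Normal]
    (hZ : Z ≤ Subgroup.center X)
    (hF : (groupFusionSystem (T : Subgroup X)).IsConstrained p) :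
    (groupFusionSystem ((T : Subgroup X).map (QuotientGroup.mk' Z))).IsConstrained p := by
  obtain ⟨hFsat, Q₀, hQ₀n, hQ₀c⟩ := hF
  have hS : IsPGroup p (T : Subgroup X) := T.isPGroup'
  have hQn : (groupFusionSystem (T : Subgroup X)).IsNormal (groupFusionSystem (T : Subgroup X)).core :=
    Cfsg.Agent.Lib.Helper88.isNormal_core _
  have hQS : (groupFusionSystem (T : Subgroup X)).core ≤ (T : Subgroup X) := hQn.1
  have hQ₀le : Q₀ ≤ (groupFusionSystem (T : Subgroup X)).core := le_sSup hQ₀n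
  have hQc : (groupFusionSystem (T : Subgroup X)).IsCentric (groupFusionSystem (T : Subgroup X)).core :=
    isCentric_of_le _ hQ₀c hQ₀le hQS
  have hQsc := Cfsg.Agent.Lib.Helper89.IsNormal.stronglyClosed hQn
  have hmono := twoStepChain_monotone (Z.subgroupOf (groupFusionSystem (T : Subgroup X)).core)
  have hQp : IsPGroup p (groupFusionSystem (T : Subgroup X)).core := hS.to_le hQS
  have hBp : IsPGroup p (stabChain (twoStepChain (Z.subgroupOf (groupFusionSystem (T : Subgroup X)).core)) hmono) :=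
    stabChain_isPGroup hQp _ rfl hmono 2 rfl
  have hBn : ∀ α ∈ (groupFusionSystem (T : Subgroup X)).autGroup (groupFusionSystem (T : Subgroup X)).core,
      ∀ β ∈ stabChain (twoStepChain (Z.subgroupOf (groupFusionSystem (T : Subgroup X)).core)) hmono,
      α * β * α⁻¹ ∈ stabChain (twoStepChain (Z.subgroupOf (groupFusionSystem (T : Subgroup X)).core)) hmono := by
    intro α hα β hβ
    have hpres : ∀ γ ∈ (groupFusionSystem (T : Subgroup X)).autGroup (groupFusionSystem (T : Subgroup X)).core,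
        ∀ j, ∀ y ∈ twoStepChain (Z.subgroupOf (groupFusionSystem (T : Subgroup X)).core) j,
          γ y ∈ twoStepChain (Z.subgroupOf (groupFusionSystem (T : Subgroup X)).core) j := by
      intro γ hγ j y hy
      match j with
      | 0 =>
        have : y = 1 := Subgroup.mem_bot.mp hy
        rw [this, map_one]; exact Subgroup.one_mem _
      | 1 =>
        have h1 := (mem_autGroup_iff _ hQS).mp hγ
        obtain ⟨-, -, x, hx⟩ := h1
        have hyZ : (y : X) ∈ Z := Subgroup.mem_subgroupOf.mp hy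
        show γ y ∈ Z.subgroupOf (groupFusionSystem (T : Subgroup X)).core
        rw [Subgroup.mem_subgroupOf]
        have : ((γ y : (groupFusionSystem (T : Subgroup X)).core) : X) = x * y * x⁻¹ := hx y
        rw [this]
        exact (inferInstance : Z.Normal).conj_mem _ hyZ x
      | (j + 2) => exact Subgroup.mem_top _
    exact stabChain_conj_mem _ hmono α (hpres α hα)
      (hpres α⁻¹ (Subgroup.inv_mem _ hα)) hβ
  have hU := isNormal_autPreimage p hS _ hFsat hQn hQc _ hBp hBn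
  have hUle : autPreimage (T : Subgroup X) (groupFusionSystem (T : Subgroup X)).core
      (stabChain (twoStepChain (Z.subgroupOf (groupFusionSystem (T : Subgroup X)).core)) hmono)
        ≤ (groupFusionSystem (T : Subgroup X)).core := le_sSup hU
  have hnorm : ∀ s ∈ (T : Subgroup X),
      s ∈ Subgroup.normalizer ((groupFusionSystem (T : Subgroup X)).core : Set X) := fun s hs =>
    mem_normalizer_of_conj_mem (fun y hy => stronglyClosed_conj_mem' _ hQsc s hs y hy)
  have hCQ : ∀ s ∈ (T : Subgroup X),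
      (∀ q ∈ (groupFusionSystem (T : Subgroup X)).core, q⁻¹ * (s * q * s⁻¹) ∈ Z) →
        s ∈ (groupFusionSystem (T : Subgroup X)).core := by
    intro s hs hsq
    apply hUle
    have hfwd : ∀ s ∈ (T : Subgroup X),
        (∀ q ∈ (groupFusionSystem (T : Subgroup X)).core, q⁻¹ * (s * q * s⁻¹) ∈ Z) →
        ∀ (hs' : s ∈ Subgroup.normalizer ((groupFusionSystem (T : Subgroup X)).core : Set X)),
        ∀ i, ∀ y ∈ twoStepChain (Z.subgroupOf (groupFusionSystem (T : Subgroup X)).core) (i + 1),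
          y⁻¹ * (conjAut (groupFusionSystem (T : Subgroup X)).core s hs') y
            ∈ twoStepChain (Z.subgroupOf (groupFusionSystem (T : Subgroup X)).core) i := by
      intro s hsT hsq hs' i y hy
      match i with
      | 0 =>
        have hyZ : (y : X) ∈ Z := Subgroup.mem_subgroupOf.mp hy
        show _ ∈ (⊥ : Subgroup (groupFusionSystem (T : Subgroup X)).core)
        rw [Subgroup.mem_bot]
        apply Subtype.ext
        show (y : X)⁻¹ * (s * (y : X) * s⁻¹) = 1
        rw [Subgroup.mem_center_iff.mp (hZ hyZ) s]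
        group
      | 1 =>
        show _ ∈ Z.subgroupOf (groupFusionSystem (T : Subgroup X)).core
        rw [Subgroup.mem_subgroupOf]
        exact hsq y y.2
      | (i + 2) => exact Subgroup.mem_top _
    have hsinv : ∀ q ∈ (groupFusionSystem (T : Subgroup X)).core, q⁻¹ * (s⁻¹ * q * s⁻¹⁻¹) ∈ Z := by
      intro q hq
      have hq' : s⁻¹ * q * s ∈ (groupFusionSystem (T : Subgroup X)).core := by
        have := stronglyClosed_conj_mem' _ hQsc s⁻¹ (Subgroup.inv_mem _ hs) q hq
        simpa using this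
      have h1 := hsq _ hq'
      have h2 : q⁻¹ * (s⁻¹ * q * s⁻¹⁻¹) = ((s⁻¹ * q * s)⁻¹ * (s * (s⁻¹ * q * s) * s⁻¹))⁻¹ := by
        group
      rw [h2]
      exact Z.inv_mem h1
    refine ⟨hs, conjAut _ s (hnorm s hs), ?_, fun y => rfl⟩
    intro i y hy
    refine ⟨hfwd s hs hsq _ i y hy, ?_⟩
    have hinv : (conjAut (groupFusionSystem (T : Subgroup X)).core s (hnorm s hs))⁻¹
        = conjAut (groupFusionSystem (T : Subgroup X)).core s⁻¹
            (hnorm s⁻¹ (Subgroup.inv_mem _ hs)) := by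
      rw [inv_eq_iff_mul_eq_one]
      ext z
      rw [MulAut.mul_apply, conjAut_apply, conjAut_apply]
      show s * (s⁻¹ * (z : X) * s⁻¹⁻¹) * s⁻¹ = z
      group
    rw [hinv]
    exact hfwd s⁻¹ (Subgroup.inv_mem _ hs) hsinv _ i y hy
  -- group conditions
  have hι := groupFusionSystem_isRealizedBy (T : Subgroup X)
  have hGN : GNormal (T : Subgroup X) (groupFusionSystem (T : Subgroup X)).core := by
    have := (isNormal_iff_gNormal _ hι hQS).mp hQn
    rwa [Subgroup.range_subtype, push_subtype hQS] at this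
  obtain ⟨hN', hC'⟩ := gNormal_gCentric_quotient T Z hZ _ hGN hCQ
  have hι' := groupFusionSystem_isRealizedBy ((T : Subgroup X).map (QuotientGroup.mk' Z))
  have hQ' : (groupFusionSystem (T : Subgroup X)).core.map (QuotientGroup.mk' Z)
      ≤ (T : Subgroup X).map (QuotientGroup.mk' Z) := Subgroup.map_mono hQS
  refine ⟨isSaturated_of_realized _ hι' (T.mapSurjective (QuotientGroup.mk'_surjective Z)) ?_,
    (groupFusionSystem (T : Subgroup X)).core.map (QuotientGroup.mk' Z), ?_, ?_⟩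
  · rw [Sylow.coe_mapSurjective, Subgroup.range_subtype]
  · rw [isNormal_iff_gNormal _ hι' hQ', Subgroup.range_subtype, push_subtype hQ']
    exact hN'
  · rw [isCentric_iff_gCentric _ hι' hQ', Subgroup.range_subtype, push_subtype hQ']
    exact hC'

end Fusion

end Cfsg.Agent.Lib.Helper87
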