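import Cfsg.Agent.Lib.Helper87.CutSystem
import Cfsg.Agent.Lib.Helper91.FusionNormalSubgroup

set_option autoImplicit false

/-!
For a fusion system `F` over `S` realized by `ι : S →* G` on a Sylow `p`-subgroup of the finite group
`G`, and a normal subgroup `N` of `G`, the subsystem `cutSystem F ι N` is normal in `F`.
-/

namespace Cfsg.Agent.Lib.Helper87

open Cfsg Cfsg.FusionSystem

section Tools

variable {Ω : Type*} [Group Ω] {S : Subgroup Ω} {G : Type*} [Group G] {ι : S →* G}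

/-- The automorphism of `Q ≤ S` induced, through `ι`, by an element normalizing the image of `Q`. -/
noncomputable def pullAut (hinj : Function.Injective ι) {Q : Subgroup Ω} (hQ : Q ≤ S) (g : G)
    (hg : g ∈ Subgroup.normalizer ((push ι Q : Subgroup G) : Set G)) : MulAut Q :=
  (MulAut.congr (pushEquiv hinj hQ)).symm (conjAut (push ι Q) g hg)

theorem ι_pullAut (hinj : Function.Injective ι) {Q : Subgroup Ω} (hQ : Q ≤ S) (g : G)
    (hg : g ∈ Subgroup.normalizer ((push ι Q : Subgroup G) : Set G)) (x : Q) :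
    ι ⟨pullAut hinj hQ g hg x, hQ (Subtype.prop _)⟩ = g * ι ⟨x, hQ x.2⟩ * g⁻¹ := by
  have h1 := congr_pushEquiv_apply hinj hQ (pullAut hinj hQ g hg) x
  have h2 : MulAut.congr (pushEquiv hinj hQ) (pullAut hinj hQ g hg) = conjAut (push ι Q) g hg :=
    (MulAut.congr (pushEquiv hinj hQ)).apply_symm_apply _
  rw [h2] at h1
  exact h1.symm

theorem pullAut_mem_autGroup (F : FusionSystem S) (hι : F.IsRealizedBy ι) {Q : Subgroup Ω}
    (hQ : Q ≤ S) (g : G) (hg : g ∈ Subgroup.normalizer ((push ι Q : Subgroup G) : Set G)) :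
    pullAut hι.1 hQ g hg ∈ F.autGroup Q := by
  rw [mem_autGroup_iff F hQ]
  refine (hι.2 Q hQ _ (fun x => hQ (Subtype.prop _))).mpr ⟨g, fun x => ?_⟩
  exact ι_pullAut hι.1 hQ g hg x

theorem push_pull_eq (ι : S →* G) (N : Subgroup G) : push ι (pull ι N) = ι.range ⊓ N := by
  ext y
  rw [mem_push]
  constructor
  · rintro ⟨s, hs, rfl⟩
    exact ⟨⟨s, rfl⟩, (mem_pull.mp hs).2⟩
  · rintro ⟨⟨s, rfl⟩, hy⟩
    exact ⟨s, mem_pull.mpr ⟨s.2, hy⟩, rfl⟩

theorem push_sup (ι : S →* G) {A B : Subgroup Ω} (hA : A ≤ S) (hB : B ≤ S) :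
    push ι (A ⊔ B) = push ι A ⊔ push ι B := by
  unfold push
  rw [Subgroup.subgroupOf_sup hA hB, Subgroup.map_sup]

theorem push_centralizerIn (hinj : Function.Injective ι) {Q : Subgroup Ω} (hQ : Q ≤ S) :
    push ι (centralizerIn S Q) = centralizerIn ι.range (push ι Q) := by
  ext y
  rw [mem_push, mem_centralizerIn]
  constructor
  · rintro ⟨s, hs, rfl⟩
    rw [mem_centralizerIn] at hs
    refine ⟨⟨s, rfl⟩, fun z hz => ?_⟩
    obtain ⟨q, hq, rfl⟩ := mem_push.mp hz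
    rw [← map_mul, ← map_mul]
    congr 1
    exact Subtype.ext (hs.2 q hq)
  · rintro ⟨⟨s, rfl⟩, hy⟩
    refine ⟨s, mem_centralizerIn.mpr ⟨s.2, fun q hq => ?_⟩, rfl⟩
    have h1 := hy (ι ⟨q, hQ hq⟩) (mem_push.mpr ⟨⟨q, hQ hq⟩, hq, rfl⟩)
    rw [← map_mul, ← map_mul] at h1
    exact congrArg (fun z : S => (z : Ω)) (hinj h1)

end Tools

section Normal

variable {Ω : Type*} [Group Ω] {S : Subgroup Ω} {G : Type*} [Group G] {ι : S →* G}
  (F : FusionSystem S) (hι : F.IsRealizedBy ι) (N : Subgroup G) [hN : N.Normal]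

include hι in
theorem stronglyClosed_pull_normal : F.StronglyClosed (pull ι N) := by
  refine ⟨pull_le ι N, fun R hR φ hφ x => ?_⟩
  obtain ⟨g, hg⟩ := exists_conj_of_mem_hom F hι hφ
  refine mem_pull.mpr ⟨hom_mem F hφ x, ?_⟩
  rw [hg x]
  exact hN.conj_mem _ (mem_pull.mp (hR x.2)).2 g

include hι in
theorem cutSystem_isSaturated [Finite G] (p : ℕ) [Fact p.Prime] (T : Sylow p G)
    (hT : (T : Subgroup G) = ι.range) : (cutSystem F ι N).IsSaturated p := by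
  obtain ⟨P, hP⟩ := Cfsg.Agent.Lib.Helper90.exists_sylow_eq_subgroupOf T N
  refine isSaturated_of_realized _ (cutSystem_isRealizedBy F ι N hι) P ?_
  rw [hP, hT, pullHom_range]

include hι in
theorem cutSystem_invariance (P : Subgroup Ω) (hPT : P ≤ pull ι N) (φ : P →* Ω)
    (hφ : φ ∈ (cutSystem F ι N).Hom P) (α : MulAut (pull ι N)) (hα : α ∈ F.autGroup (pull ι N)) :
    ∃ χ ∈ (cutSystem F ι N).Hom
        ((P.subgroupOf (pull ι N)).map ((pull ι N).subtype.comp α.toMonoidHom)),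
      ∀ (x : P) (hφx : φ x ∈ pull ι N)
        (hαx : ((α ⟨x, hPT x.2⟩ : pull ι N) : Ω) ∈
          (P.subgroupOf (pull ι N)).map ((pull ι N).subtype.comp α.toMonoidHom)),
        χ ⟨(α ⟨x, hPT x.2⟩ : pull ι N), hαx⟩ = ((α ⟨φ x, hφx⟩ : pull ι N) : Ω) := by
  have hTS : pull ι N ≤ S := pull_le ι N
  have hα' : (pull ι N).subtype.comp α.toMonoidHom ∈ F.Hom (pull ι N) :=
    (mem_autGroup_iff F hTS).mp hα
  obtain ⟨a, ha⟩ := exists_conj_of_mem_hom F hι hα'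
  obtain ⟨hφF, -, n, hn, hnφ⟩ := hφ
  have hP'T : (P.subgroupOf (pull ι N)).map ((pull ι N).subtype.comp α.toMonoidHom) ≤ pull ι N := by
    rintro _ ⟨t, -, rfl⟩
    exact (α t).2
  have hP'S := hP'T.trans hTS
  have hmem : ∀ y ∈ (P.subgroupOf (pull ι N)).map ((pull ι N).subtype.comp α.toMonoidHom),
      ∃ x : P, y = ((α ⟨x, hPT x.2⟩ : pull ι N) : Ω) := by
    rintro _ ⟨t, ht, rfl⟩
    have ht' : t ∈ P.subgroupOf (pull ι N) := ht
    rw [Subgroup.mem_subgroupOf] at ht'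
    exact ⟨⟨t, ht'⟩, rfl⟩
  have hφT : ∀ x : P, φ x ∈ pull ι N := fun x =>
    ((cutSystem F ι N).le_of_mem (show φ ∈ (cutSystem F ι N).Hom P from
      ⟨hφF, hPT, n, hn, hnφ⟩)).2 x
  -- the key computation
  have hkey : ∀ x : P, a * n * a⁻¹ * ι ⟨((α ⟨x, hPT x.2⟩ : pull ι N) : Ω), hTS (Subtype.prop _)⟩ *
      (a * n * a⁻¹)⁻¹ = ι ⟨((α ⟨φ x, hφT x⟩ : pull ι N) : Ω), hTS (Subtype.prop _)⟩ := by
    intro x
    have e1 := ha ⟨x, hPT x.2⟩
    have e2 := ha ⟨φ x, hφT x⟩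
    have e3 := hnφ x (hTS (hPT x.2)) (hTS (hφT x))
    have e1' : ι ⟨((α ⟨x, hPT x.2⟩ : pull ι N) : Ω), hTS (Subtype.prop _)⟩ =
        a * ι ⟨x, hTS (hPT x.2)⟩ * a⁻¹ := e1
    have e2' : ι ⟨((α ⟨φ x, hφT x⟩ : pull ι N) : Ω), hTS (Subtype.prop _)⟩ =
        a * ι ⟨φ x, hTS (hφT x)⟩ * a⁻¹ := e2
    rw [e1', e2', e3]
    group
  have hrange : ∀ y : ↥((P.subgroupOf (pull ι N)).map ((pull ι N).subtype.comp α.toMonoidHom)),
      a * n * a⁻¹ * ι ⟨y, hP'S y.2⟩ * (a * n * a⁻¹)⁻¹ ∈ ι.range := by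
    rintro ⟨y, hy⟩
    obtain ⟨x, rfl⟩ := hmem y hy
    exact ⟨_, (hkey x).symm⟩
  refine ⟨pullConj ι hι.1 _ hP'S (a * n * a⁻¹) hrange,
    ⟨pullConj_mem_hom F hι _ hP'S _ hrange, hP'T, a * n * a⁻¹, hN.conj_mem n hn a,
      fun y hx hy => ι_pullConj ι hι.1 _ hP'S _ hrange y⟩, fun x hφx hαx => ?_⟩
  have h1 := ι_pullConj ι hι.1 _ hP'S _ hrange ⟨(α ⟨x, hPT x.2⟩ : pull ι N), hαx⟩
  have h2 := h1.trans (hkey x)
  exact congrArg (fun z : S => (z : Ω)) (hι.1 h2)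

include hι in
theorem cutSystem_frattini [Finite G] (p : ℕ) [Fact p.Prime] (T : Sylow p G)
    (hT : (T : Subgroup G) = ι.range) (P : Subgroup Ω) (hPT : P ≤ pull ι N) (φ : P →* Ω)
    (hφ : φ ∈ F.Hom P) :
    ∃ α ∈ F.autGroup (pull ι N), ∃ φ₀ ∈ (cutSystem F ι N).Hom P,
      ∀ (x : P) (hx : φ₀ x ∈ pull ι N), φ x = ((α ⟨φ₀ x, hx⟩ : pull ι N) : Ω) := by
  have hTS : pull ι N ≤ S := pull_le ι N
  have hPS : P ≤ S := hPT.trans hTS
  obtain ⟨g, hg⟩ := exists_conj_of_mem_hom F hι hφ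
  obtain ⟨ν, hν, n, hn, rfl⟩ := Cfsg.Agent.Lib.Helper90.exists_mul_of_normal T N g
  have hpush : push ι (pull ι N) = (T : Subgroup G) ⊓ N := by rw [push_pull_eq, hT]
  have hν' : ν ∈ Subgroup.normalizer ((push ι (pull ι N) : Subgroup G) : Set G) := by
    rw [hpush]; exact hν
  have hνinv : ν⁻¹ ∈ Subgroup.normalizer ((((T : Subgroup G) ⊓ N : Subgroup G)) : Set G) :=
    Subgroup.inv_mem _ hν
  have hval : ∀ x : P, n * ι ⟨x, hPS x.2⟩ * n⁻¹ ∈ ι.range := by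
    intro x
    have h1 : ι ⟨φ x, hom_mem F hφ x⟩ ∈ (T : Subgroup G) ⊓ N := by
      refine ⟨by rw [hT]; exact ⟨_, rfl⟩, ?_⟩
      rw [hg x]
      exact hN.conj_mem _ (mem_pull.mp (hPT x.2)).2 _
    have h2 := (Subgroup.mem_normalizer_iff.mp hνinv _).mp h1
    have h3 : ν⁻¹ * ι ⟨φ x, hom_mem F hφ x⟩ * ν⁻¹⁻¹ = n * ι ⟨x, hPS x.2⟩ * n⁻¹ := by
      rw [hg x]; group
    rw [h3, hT] at h2
    exact h2.1
  refine ⟨pullAut hι.1 hTS ν hν', pullAut_mem_autGroup F hι hTS ν hν',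
    pullConj ι hι.1 P hPS n hval,
    ⟨pullConj_mem_hom F hι P hPS n hval, hPT, n, hn,
      fun y hx hy => ι_pullConj ι hι.1 P hPS n hval y⟩, fun x hx => ?_⟩
  have h1 := ι_pullAut hι.1 hTS ν hν' ⟨pullConj ι hι.1 P hPS n hval x, hx⟩
  have h2 := ι_pullConj ι hι.1 P hPS n hval x
  have h3 : ι ⟨φ x, hom_mem F hφ x⟩ =
      ι ⟨((pullAut hι.1 hTS ν hν' ⟨pullConj ι hι.1 P hPS n hval x, hx⟩ : pull ι N) : Ω),
        hTS (Subtype.prop _)⟩ := by
    rw [h1, hg x]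
    have h2' : ι ⟨((⟨pullConj ι hι.1 P hPS n hval x, hx⟩ : pull ι N) : Ω), hTS hx⟩ =
        n * ι ⟨x, hPS x.2⟩ * n⁻¹ := h2
    rw [h2']
    group
  exact congrArg (fun z : S => (z : Ω)) (hι.1 h3)

include hι in
theorem cutSystem_extension [Finite G] (p : ℕ) [Fact p.Prime] (T : Sylow p G)
    (hT : (T : Subgroup G) = ι.range) (α : MulAut (pull ι N))
    (hα : α ∈ (cutSystem F ι N).autGroup (pull ι N)) :
    ∃ β ∈ F.autGroup (pull ι N ⊔ centralizerIn S (pull ι N)),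
      (∀ x : pull ι N, ((β (Subgroup.inclusion le_sup_left x) :
          ↥(pull ι N ⊔ centralizerIn S (pull ι N))) : Ω) = ((α x : pull ι N) : Ω)) ∧
      ∀ c : ↥(pull ι N ⊔ centralizerIn S (pull ι N)), (c : Ω) ∈ centralizerIn S (pull ι N) →
        (c : Ω)⁻¹ * ((β c : ↥(pull ι N ⊔ centralizerIn S (pull ι N))) : Ω) ∈
          pull ι N ⊓ Subgroup.centralizer ((pull ι N : Subgroup Ω) : Set Ω) := by
  have hinj := hι.1
  have hTS : pull ι N ≤ S := pull_le ι N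
  have hTCS : pull ι N ⊔ centralizerIn S (pull ι N) ≤ S := sup_le hTS (centralizerIn_le _ _)
  have hα' := (mem_autGroup_iff (cutSystem F ι N) le_rfl).mp hα
  obtain ⟨-, -, n, hnN, hn⟩ := hα'
  have hn' : ∀ t : pull ι N, ι ⟨((α t : pull ι N) : Ω), hTS (Subtype.prop _)⟩ =
      n * ι ⟨t, hTS t.2⟩ * n⁻¹ := fun t => hn t (hTS t.2) (hTS (Subtype.prop _))
  have hpush : push ι (pull ι N) = (T : Subgroup G) ⊓ N := by rw [push_pull_eq, hT]
  have hfin : Finite ↥((T : Subgroup G) ⊓ N : Subgroup G) := inferInstance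
  have hnT : n ∈ Subgroup.normalizer ((((T : Subgroup G) ⊓ N : Subgroup G)) : Set G) := by
    apply mem_normalizer_of_conj_mem
    intro y hy
    rw [← hpush] at hy ⊢
    obtain ⟨s, hs, rfl⟩ := mem_push.mp hy
    have := hn' ⟨s, hs⟩
    rw [← this]
    exact mem_push.mpr ⟨⟨_, hTS (Subtype.prop _)⟩, (α ⟨s, hs⟩).2, rfl⟩
  obtain ⟨c₀, hc₀N, hc₀C, hg⟩ := Cfsg.Agent.Lib.Helper91.exists_centralizer_correction p T N hnN hnT
  have hpush2 : push ι (pull ι N ⊔ centralizerIn S (pull ι N)) =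
      ((T : Subgroup G) ⊓ N) ⊔ centralizerIn (T : Subgroup G) ((T : Subgroup G) ⊓ N) := by
    rw [push_sup ι hTS (centralizerIn_le _ _), push_centralizerIn hinj hTS, hpush, hT]
  have hg' : c₀ * n ∈ Subgroup.normalizer
      ((push ι (pull ι N ⊔ centralizerIn S (pull ι N)) : Subgroup G) : Set G) := by
    rw [hpush2]; exact hg
  have hgT : c₀ * n ∈ Subgroup.normalizer ((((T : Subgroup G) ⊓ N : Subgroup G)) : Set G) :=
    Subgroup.mul_mem _ (Subgroup.centralizer_le_normalizer _ hc₀C) hnT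
  have hgN : c₀ * n ∈ N := N.mul_mem hc₀N hnN
  refine ⟨pullAut hinj hTCS (c₀ * n) hg', pullAut_mem_autGroup F hι hTCS _ hg', fun x => ?_,
    fun c hc => ?_⟩
  · have h1 := ι_pullAut hinj hTCS (c₀ * n) hg' (Subgroup.inclusion le_sup_left x)
    have h2 := hn' x
    have hmem : ι ⟨((α x : pull ι N) : Ω), hTS (Subtype.prop _)⟩ ∈ (T : Subgroup G) ⊓ N := by
      rw [← hpush]
      exact mem_push.mpr ⟨⟨_, hTS (Subtype.prop _)⟩, (α x).2, rfl⟩
    have h3 := Subgroup.mem_centralizer_iff.mp hc₀C _ hmem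
    have h4 : ι ⟨((pullAut hinj hTCS (c₀ * n) hg' (Subgroup.inclusion le_sup_left x) :
        ↥(pull ι N ⊔ centralizerIn S (pull ι N))) : Ω), hTCS (Subtype.prop _)⟩ =
        ι ⟨((α x : pull ι N) : Ω), hTS (Subtype.prop _)⟩ := by
      rw [h1]
      have h5 : ι ⟨((Subgroup.inclusion le_sup_left x :
          ↥(pull ι N ⊔ centralizerIn S (pull ι N))) : Ω), hTCS (Subtype.prop _)⟩ =
          ι ⟨x, hTS x.2⟩ := rfl
      rw [h5]
      calc c₀ * n * ι ⟨x, hTS x.2⟩ * (c₀ * n)⁻¹ = c₀ * (n * ι ⟨x, hTS x.2⟩ * n⁻¹) * c₀⁻¹ := by group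
        _ = c₀ * ι ⟨((α x : pull ι N) : Ω), hTS (Subtype.prop _)⟩ * c₀⁻¹ := by rw [h2]
        _ = ι ⟨((α x : pull ι N) : Ω), hTS (Subtype.prop _)⟩ := by rw [← h3]; group
    exact congrArg (fun z : S => (z : Ω)) (hinj h4)
  · have h1 := ι_pullAut hinj hTCS (c₀ * n) hg' c
    have hcS : (c : Ω) ∈ S := hTCS c.2
    have hβS : ((pullAut hinj hTCS (c₀ * n) hg' c :
        ↥(pull ι N ⊔ centralizerIn S (pull ι N))) : Ω) ∈ S := hTCS (Subtype.prop _)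
    have hprodS : (c : Ω)⁻¹ * ((pullAut hinj hTCS (c₀ * n) hg' c :
        ↥(pull ι N ⊔ centralizerIn S (pull ι N))) : Ω) ∈ S := S.mul_mem (S.inv_mem hcS) hβS
    have himg : ι ⟨_, hprodS⟩ = (ι ⟨c, hcS⟩)⁻¹ * (c₀ * n * ι ⟨c, hcS⟩ * (c₀ * n)⁻¹) := by
      rw [← h1, ← map_inv, ← map_mul]
      rfl
    refine ⟨mem_pull.mpr ⟨hprodS, ?_⟩, ?_⟩
    · rw [himg]
      have h2 : (ι ⟨c, hcS⟩)⁻¹ * (c₀ * n * ι ⟨c, hcS⟩ * (c₀ * n)⁻¹) =
          ((ι ⟨c, hcS⟩)⁻¹ * (c₀ * n) * (ι ⟨c, hcS⟩)⁻¹⁻¹) * (c₀ * n)⁻¹ := by group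
      rw [h2]
      exact N.mul_mem (hN.conj_mem _ hgN _) (N.inv_mem hgN)
    · have hcC : (c : Ω) ∈ Subgroup.centralizer ((pull ι N : Subgroup Ω) : Set Ω) :=
        (mem_centralizerIn.mp hc).2 |> fun h => Subgroup.mem_centralizer_iff.mpr (fun t ht => h t ht)
      refine Subgroup.mul_mem _ (Subgroup.inv_mem _ hcC) ?_
      rw [Subgroup.mem_centralizer_iff]
      intro t ht
      -- through `ι`
      have htS : t ∈ S := hTS ht
      have ht' : ι ⟨t, htS⟩ ∈ (T : Subgroup G) ⊓ N := by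
        rw [← hpush]; exact mem_push.mpr ⟨⟨t, htS⟩, ht, rfl⟩
      have hginv : (c₀ * n)⁻¹ ∈ Subgroup.normalizer ((((T : Subgroup G) ⊓ N : Subgroup G)) : Set G) :=
        Subgroup.inv_mem _ hgT
      have ht'' := (Subgroup.mem_normalizer_iff.mp hginv _).mp ht'
      rw [← hpush] at ht''
      obtain ⟨s, hs, hs'⟩ := mem_push.mp ht''
      -- `c` commutes with `s`
      have hcs : (s : Ω) * c = c * s := (mem_centralizerIn.mp hc).2 s hs
      have hcs' : ι s * ι ⟨c, hcS⟩ = ι ⟨c, hcS⟩ * ι s := by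
        rw [← map_mul, ← map_mul]; congr 1; exact Subtype.ext hcs
      have hkey : ι ⟨t, htS⟩ * ι ⟨_, hβS⟩ = ι ⟨_, hβS⟩ * ι ⟨t, htS⟩ := by
        rw [h1]
        have e : ι ⟨t, htS⟩ = (c₀ * n) * ι s * (c₀ * n)⁻¹ := by rw [hs']; group
        rw [e]
        calc c₀ * n * ι s * (c₀ * n)⁻¹ * (c₀ * n * ι ⟨c, hcS⟩ * (c₀ * n)⁻¹)
            = c₀ * n * (ι s * ι ⟨c, hcS⟩) * (c₀ * n)⁻¹ := by group
          _ = c₀ * n * (ι ⟨c, hcS⟩ * ι s) * (c₀ * n)⁻¹ := by rw [hcs']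
          _ = c₀ * n * ι ⟨c, hcS⟩ * (c₀ * n)⁻¹ * (c₀ * n * ι s * (c₀ * n)⁻¹) := by group
      rw [← map_mul, ← map_mul] at hkey
      exact congrArg (fun z : S => (z : Ω)) (hinj hkey)

include hι in
/-- **Normality of the cut system.** -/
theorem cutSystem_isNormalIn [Finite G] (p : ℕ) [Fact p.Prime] (T : Sylow p G)
    (hT : (T : Subgroup G) = ι.range) : (cutSystem F ι N).IsNormalIn F p := by
  refine ⟨⟨cutSystem_isSaturated F hι N p T hT, isSaturated_of_realized F hι T hT,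
    cutSystem_isSubsystemOf F ι N, stronglyClosed_pull_normal F hι N, ?_, ?_⟩, ?_⟩
  · intro P hPT φ hφ α hα
    exact cutSystem_invariance F hι N P hPT φ hφ α hα
  · intro P hPT φ hφ
    exact cutSystem_frattini F hι N p T hT P hPT φ hφ
  · intro α hα
    exact cutSystem_extension F hι N p T hT α hα

end Normal

end Cfsg.Agent.Lib.Helper87
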