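import Cfsg.Agent.Lib.Helper87.FusionRealized
import Cfsg.Agent.Lib.Helper90.SylowNormal

set_option autoImplicit false

/-!
The subsystem of a fusion system `F` over `S`, realized through `ι : S →* G`, cut out by a normal
subgroup `N` of `G`: the maps of `F` between subgroups of `ι⁻¹(N)` that are, read through `ι`,
conjugation by an element of `N`.
-/

namespace Cfsg.Agent.Lib.Helper87

open Cfsg Cfsg.FusionSystem

section Cut

variable {Ω : Type*} [Group Ω] {S : Subgroup Ω} {G : Type*} [Group G]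

/-- The maps of `F` with source inside `ι⁻¹(N)` that are, through `ι`, conjugation by an element of `N`. -/
def cutSystem (F : FusionSystem S) (ι : S →* G) (N : Subgroup G) [hN : N.Normal] :
    FusionSystem (pull ι N) where
  Hom P := {φ | φ ∈ F.Hom P ∧ P ≤ pull ι N ∧ ∃ n ∈ N, ∀ (x : P) (hx : (x : Ω) ∈ S) (hy : φ x ∈ S),
    ι ⟨φ x, hy⟩ = n * ι ⟨x, hx⟩ * n⁻¹}
  le_of_mem := by
    rintro P φ ⟨hφ, hP, n, hn, h⟩
    refine ⟨hP, fun x => ?_⟩
    have hx : (x : Ω) ∈ S := pull_le ι N (hP x.2)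
    have hy : φ x ∈ S := (F.le_of_mem hφ).2 x
    refine mem_pull.mpr ⟨hy, ?_⟩
    rw [h x hx hy]
    exact hN.conj_mem _ (mem_pull.mp (hP x.2)).2 n
  injective_of_mem h := F.injective_of_mem h.1
  conj_mem := by
    intro P g hP hg
    refine ⟨F.conj_mem (hP.trans (pull_le ι N)) (pull_le ι N hg), hP, ι ⟨g, pull_le ι N hg⟩,
      (mem_pull.mp hg).2, fun x hx hy => ?_⟩
    rw [← map_inv, ← map_mul, ← map_mul]
    congr 1
  comp_mem := by
    rintro P Q φ ψ ⟨hφ, hP, n₁, hn₁, h₁⟩ ⟨hψ, hQ, n₂, hn₂, h₂⟩ h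
    refine ⟨F.comp_mem hφ hψ h, hP, n₂ * n₁, N.mul_mem hn₂ hn₁, fun x hx hy => ?_⟩
    have hy₁ : φ x ∈ S := (F.le_of_mem hφ).2 x
    have e₂ := h₂ ⟨φ x, h x⟩ hy₁ hy
    have e₁ := h₁ x hx hy₁
    calc ι ⟨(ψ.comp (φ.codRestrict Q h)) x, hy⟩ = n₂ * ι ⟨φ x, hy₁⟩ * n₂⁻¹ := e₂
      _ = n₂ * n₁ * ι ⟨x, hx⟩ * (n₂ * n₁)⁻¹ := by rw [e₁]; group
  inv_mem := by
    rintro P φ ⟨hφ, hP, n, hn, h⟩
    obtain ⟨ψ, hψ, hψφ⟩ := F.inv_mem hφ
    have hrange : φ.range ≤ pull ι N := by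
      rintro _ ⟨x, rfl⟩
      have hx : (x : Ω) ∈ S := pull_le ι N (hP x.2)
      have hy : φ x ∈ S := (F.le_of_mem hφ).2 x
      refine mem_pull.mpr ⟨hy, ?_⟩
      rw [h x hx hy]
      exact hN.conj_mem _ (mem_pull.mp (hP x.2)).2 n
    refine ⟨ψ, ⟨hψ, hrange, n⁻¹, N.inv_mem hn, ?_⟩, hψφ⟩
    rintro ⟨_, x, rfl⟩ hx hy
    have hx' : (x : Ω) ∈ S := pull_le ι N (hP x.2)
    have e := h x hx' hx
    have e' : ι ⟨ψ ⟨φ x, ⟨x, rfl⟩⟩, hy⟩ = ι ⟨x, hx'⟩ := by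
      congr 1
      exact Subtype.ext (hψφ x)
    rw [e', e]
    group

variable (F : FusionSystem S) (ι : S →* G) (N : Subgroup G) [hN : N.Normal]

theorem cutSystem_isSubsystemOf : (cutSystem F ι N).IsSubsystemOf F := fun _ _ h => h.1

theorem mem_cutSystem_iff {P : Subgroup Ω} {φ : P →* Ω} :
    φ ∈ (cutSystem F ι N).Hom P ↔ φ ∈ F.Hom P ∧ P ≤ pull ι N ∧
      ∃ n ∈ N, ∀ (x : P) (hx : (x : Ω) ∈ S) (hy : φ x ∈ S), ι ⟨φ x, hy⟩ = n * ι ⟨x, hx⟩ * n⁻¹ :=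
  Iff.rfl

/-- The restriction of `ι` to `ι⁻¹(N)`, with values in `N`. -/
def pullHom : pull ι N →* N :=
  (ι.comp (Subgroup.inclusion (pull_le ι N))).codRestrict N (fun x => by
    obtain ⟨h, hx⟩ := mem_pull.mp x.2
    exact hx)

@[simp] theorem pullHom_apply (x : pull ι N) :
    ((pullHom ι N x : N) : G) = ι ⟨x, pull_le ι N x.2⟩ := rfl

theorem pullHom_injective (hinj : Function.Injective ι) : Function.Injective (pullHom ι N) := by
  intro x y h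
  have h1 : ι ⟨x, pull_le ι N x.2⟩ = ι ⟨y, pull_le ι N y.2⟩ := congrArg Subtype.val h
  have h2 := hinj h1
  exact Subtype.ext (congrArg (fun z : S => (z : Ω)) h2)

theorem pullHom_range : (pullHom ι N).range = (ι.range).subgroupOf N := by
  ext y
  rw [Subgroup.mem_subgroupOf]
  constructor
  · rintro ⟨x, rfl⟩
    exact ⟨_, rfl⟩
  · rintro ⟨s, hs⟩
    have hsN : (s : Ω) ∈ pull ι N := mem_pull.mpr ⟨s.2, by rw [hs]; exact y.2⟩
    exact ⟨⟨s, hsN⟩, Subtype.ext hs⟩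

theorem cutSystem_isRealizedBy (hι : F.IsRealizedBy ι) :
    (cutSystem F ι N).IsRealizedBy (pullHom ι N) := by
  refine ⟨pullHom_injective ι N hι.1, fun P hP φ hφ => ?_⟩
  constructor
  · rintro ⟨-, -, n, hn, h⟩
    refine ⟨⟨n, hn⟩, fun x => Subtype.ext ?_⟩
    exact h x (pull_le ι N (hP x.2)) (pull_le ι N (hφ x))
  · rintro ⟨n, hn⟩
    have hφS : ∀ x : P, φ x ∈ S := fun x => pull_le ι N (hφ x)
    refine ⟨(hι.2 P (hP.trans (pull_le ι N)) φ hφS).mpr ⟨n, fun x => ?_⟩, hP, n, n.2,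
      fun x hx hy => ?_⟩
    · exact congrArg Subtype.val (hn x)
    · exact congrArg Subtype.val (hn x)

end Cut

end Cfsg.Agent.Lib.Helper87
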