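import Mathlib
import Cfsg.Agent.Lib.Helper87.StableComplement

set_option autoImplicit false

/-!
Two finite groups `G₁`, `G₂` containing a common subgroup `S` (of index prime to `p` in `G₁`), mapping onto
the same subgroup of a group `Γ` with kernels the image of the same abelian `p`-subgroup of `S`, and
inducing compatible fusion on `S`, are isomorphic by an isomorphism which is the identity on `S`.
-/

namespace Cfsg.Agent.Lib.Helper87

theorem exists_iso_of_fibre {S G₁ G₂ Γ : Type*} [Group S] [Group G₁] [Group G₂] [Group Γ]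
    [Finite G₁] [Finite G₂] (p : ℕ) [Fact p.Prime] (ι₁ : S →* G₁) (ι₂ : S →* G₂)
    (hinj₁ : Function.Injective ι₁) (hinj₂ : Function.Injective ι₂)
    (π₁ : G₁ →* Γ) (π₂ : G₂ →* Γ)
    (hcompat : ∀ s, π₁ (ι₁ s) = π₂ (ι₂ s))
    (hsurj₁ : ∀ g₁, ∃ g₂, π₂ g₂ = π₁ g₁) (hsurj₂ : ∀ g₂, ∃ g₁, π₁ g₁ = π₂ g₂)
    (hker₁ : ∀ g₁, π₁ g₁ = 1 → ∃ z : S, ι₁ z = g₁) (hker₂ : ∀ g₂, π₂ g₂ = 1 → ∃ z : S, ι₂ z = g₂)
    (hkerp : IsPGroup p π₂.ker) (hkerc : ∀ a b : G₂, π₂ a = 1 → π₂ b = 1 → a * b = b * a)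
    (hindex : ¬ p ∣ (ι₁.range).index)
    (hstab : ∀ g₁ g₂, π₁ g₁ = π₂ g₂ → ∃ z : G₂, π₂ z = 1 ∧ ∀ s s' : S,
      g₁⁻¹ * ι₁ s * g₁ = ι₁ s' → (g₂ * z)⁻¹ * ι₂ s * (g₂ * z) = ι₂ s') :
    ∃ ψ : G₁ ≃* G₂, ∀ s, ψ (ι₁ s) = ι₂ s := by
  classical
  -- the fibre product
  let X : Subgroup (G₁ × G₂) :=
    (π₁.comp (MonoidHom.fst G₁ G₂)).eqLocus (π₂.comp (MonoidHom.snd G₁ G₂))
  have memX : ∀ x : G₁ × G₂, x ∈ X ↔ π₁ x.1 = π₂ x.2 := fun x => Iff.rfl
  let fstX : X →* G₁ := (MonoidHom.fst G₁ G₂).comp X.subtype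
  let sndX : X →* G₂ := (MonoidHom.snd G₁ G₂).comp X.subtype
  have hfst : ∀ x : X, fstX x = (x : G₁ × G₂).1 := fun x => rfl
  have hsnd : ∀ x : X, sndX x = (x : G₁ × G₂).2 := fun x => rfl
  have hXext : ∀ x y : X, fstX x = fstX y → sndX x = sndX y → x = y := by
    intro x y h1 h2
    exact Subtype.ext (Prod.ext h1 h2)
  have hfst_surj : Function.Surjective fstX := by
    intro g₁
    obtain ⟨g₂, hg₂⟩ := hsurj₁ g₁
    exact ⟨⟨(g₁, g₂), (memX _).mpr hg₂.symm⟩, rfl⟩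
  let A : Subgroup X := fstX.ker
  have memA : ∀ a : X, a ∈ A ↔ fstX a = 1 := fun a => MonoidHom.mem_ker
  have hAπ : ∀ a : X, a ∈ A → π₂ (sndX a) = 1 := by
    intro a ha
    have h1 : π₁ (fstX a) = π₂ (sndX a) := a.2
    rw [← h1, (memA a).mp ha, map_one]
  haveI hAc : IsMulCommutative A := by
    refine ⟨⟨fun a b => Subtype.ext (hXext _ _ ?_ ?_)⟩⟩
    · show fstX ((a : X) * (b : X)) = fstX ((b : X) * (a : X))
      rw [map_mul, map_mul, (memA _).mp a.2, (memA _).mp b.2]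
    · show sndX ((a : X) * (b : X)) = sndX ((b : X) * (a : X))
      rw [map_mul, map_mul]
      exact hkerc _ _ (hAπ _ a.2) (hAπ _ b.2)
  let T : Subgroup X := (ι₁.range).comap fstX
  let diag : S →* X := (ι₁.prod ι₂).codRestrict X (fun s => (memX _).mpr (hcompat s))
  have hdiag₁ : ∀ s, fstX (diag s) = ι₁ s := fun s => rfl
  have hdiag₂ : ∀ s, sndX (diag s) = ι₂ s := fun s => rfl
  let K : Subgroup X := diag.range
  have hKT : K ≤ T := by
    rintro _ ⟨s, rfl⟩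
    exact ⟨s, rfl⟩
  have hAT : A ≤ T := by
    intro a ha
    show fstX a ∈ ι₁.range
    rw [(memA a).mp ha]
    exact one_mem _
  have hKA : K ⊓ A = ⊥ := by
    rw [eq_bot_iff]
    rintro _ ⟨⟨s, rfl⟩, ha⟩
    have h1 : ι₁ s = 1 := (memA _).mp ha
    have h2 : s = 1 := hinj₁ (h1.trans (map_one ι₁).symm)
    rw [h2, map_one]
    exact Subgroup.mem_bot.mpr rfl
  have hT : ∀ t ∈ T, ∃ a ∈ A, ∃ k ∈ K, t = a * k := by
    intro t ht
    obtain ⟨s, hs⟩ : fstX t ∈ ι₁.range := ht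
    refine ⟨t * (diag s)⁻¹, ?_, diag s, ⟨s, rfl⟩, by group⟩
    rw [memA, map_mul, map_inv, hdiag₁, hs, mul_inv_cancel]
  have hAp : IsPGroup p A := by
    let f : A →* π₂.ker := (sndX.comp A.subtype).codRestrict π₂.ker (fun a => hAπ _ a.2)
    refine hkerp.of_injective f ?_
    intro a b hab
    have h1 : sndX (a : X) = sndX (b : X) := congrArg Subtype.val hab
    have h2 : fstX (a : X) = fstX (b : X) := by rw [(memA _).mp a.2, (memA _).mp b.2]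
    exact Subtype.ext (hXext _ _ h2 h1)
  have hcop : (Nat.card A).Coprime T.index := by
    obtain ⟨k, hk⟩ := IsPGroup.iff_card.mp hAp
    rw [hk]
    apply Nat.Coprime.pow_left
    rw [Nat.Prime.coprime_iff_not_dvd (Fact.out : p.Prime)]
    have h1 : T.index = (ι₁.range).index := Subgroup.index_comap_of_surjective _ hfst_surj
    rw [h1]
    exact hindex
  have hstable : ∀ x : X, ∃ a ∈ A, ∀ k ∈ K, x⁻¹ * k * x ∈ T → (x * a)⁻¹ * k * (x * a) ∈ K := by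
    intro x
    obtain ⟨z, hz, hzs⟩ := hstab (fstX x) (sndX x) x.2
    have hzX : ((1 : G₁), z) ∈ X := by
      rw [memX]
      show π₁ 1 = π₂ z
      rw [map_one, hz]
    refine ⟨⟨(1, z), hzX⟩, (memA _).mpr rfl, ?_⟩
    rintro _ ⟨s, rfl⟩ hk
    obtain ⟨s', hs'⟩ : fstX (x⁻¹ * diag s * x) ∈ ι₁.range := hk
    have h1 : (fstX x)⁻¹ * ι₁ s * fstX x = ι₁ s' := by
      rw [hs', map_mul, map_mul, map_inv, hdiag₁]
    have h2 := hzs s s' h1
    refine ⟨s', hXext _ _ ?_ ?_⟩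
    · rw [hdiag₁, map_mul, map_mul, map_inv, map_mul, hdiag₁]
      have h3 : fstX (⟨(1, z), hzX⟩ : X) = 1 := rfl
      rw [h3, mul_one]
      exact h1.symm
    · rw [hdiag₂, map_mul, map_mul, map_inv, map_mul, hdiag₂]
      have h3 : sndX (⟨(1, z), hzX⟩ : X) = z := rfl
      rw [h3]
      exact h2.symm
  obtain ⟨H, hKH, hHA, hHsurj⟩ := exists_complement_of_stable A hKT hKA hT hAT hcop hstable
  -- the projection of `H` onto `G₁` is bijective
  let e : H →* G₁ := fstX.comp H.subtype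
  have he_inj : Function.Injective e := by
    rw [injective_iff_map_eq_one]
    intro h hh
    have h1 : (h : X) ∈ H ⊓ A := ⟨h.2, (memA _).mpr hh⟩
    rw [hHA, Subgroup.mem_bot] at h1
    exact Subtype.ext h1
  have he_surj : Function.Surjective e := by
    intro g₁
    obtain ⟨x, hx⟩ := hfst_surj g₁
    obtain ⟨a, ha, h, hh, hxah⟩ := hHsurj x
    refine ⟨⟨h, hh⟩, ?_⟩
    show fstX h = g₁
    rw [← hx, hxah, map_mul, (memA a).mp ha, one_mul]
  let E : H ≃* G₁ := MulEquiv.ofBijective e ⟨he_inj, he_surj⟩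
  let ψ₀ : G₁ →* G₂ := (sndX.comp H.subtype).comp E.symm.toMonoidHom
  have hψ₀ : ∀ h : H, ψ₀ (fstX (h : X)) = sndX (h : X) := by
    intro h
    have h1 : E h = fstX (h : X) := rfl
    show sndX ((E.symm (fstX (h : X)) : H) : X) = sndX (h : X)
    rw [← h1, MulEquiv.symm_apply_apply]
  have hψι : ∀ s, ψ₀ (ι₁ s) = ι₂ s := by
    intro s
    have h1 := hψ₀ ⟨diag s, hKH ⟨s, rfl⟩⟩
    exact h1
  have hψ_inj : Function.Injective ψ₀ := by
    rw [injective_iff_map_eq_one]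
    intro g₁ hg₁
    obtain ⟨h, rfl⟩ := he_surj g₁
    have h1 : sndX (h : X) = 1 := (hψ₀ h).symm.trans hg₁
    have h2 : π₁ (fstX (h : X)) = 1 := by
      have : π₁ (fstX (h : X)) = π₂ (sndX (h : X)) := (h : X).2
      rw [this, h1, map_one]
    obtain ⟨z, hz⟩ := hker₁ _ h2
    have h3 : (h : X)⁻¹ * diag z ∈ H ⊓ A := by
      refine ⟨H.mul_mem (H.inv_mem h.2) (hKH ⟨z, rfl⟩), (memA _).mpr ?_⟩
      rw [map_mul, map_inv, hdiag₁, hz, inv_mul_cancel]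
    rw [hHA, Subgroup.mem_bot, inv_mul_eq_one] at h3
    have h4 : ι₂ z = 1 := by
      rw [← hdiag₂, ← h3, h1]
    have h5 : z = 1 := hinj₂ (h4.trans (map_one ι₂).symm)
    show fstX (h : X) = 1
    rw [← hz, h5, map_one]
  have hψ_surj : Function.Surjective ψ₀ := by
    intro g₂
    obtain ⟨g₁, hg₁⟩ := hsurj₂ g₂
    obtain ⟨a, ha, h, hh, hxah⟩ := hHsurj ⟨(g₁, g₂), (memX _).mpr hg₁⟩
    obtain ⟨z, hz⟩ := hker₂ _ (hAπ a ha)
    refine ⟨ι₁ z * fstX h, ?_⟩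
    rw [map_mul, hψι, hψ₀ ⟨h, hh⟩, hz]
    have h1 : sndX (⟨(g₁, g₂), (memX _).mpr hg₁⟩ : X) = g₂ := rfl
    rw [← h1, hxah, map_mul]
  exact ⟨MulEquiv.ofBijective ψ₀ ⟨hψ_inj, hψ_surj⟩, hψι⟩

end Cfsg.Agent.Lib.Helper87
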