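import Mathlib

set_option autoImplicit false

/-!
Automorphisms of a finite group stabilizing a chain of subgroups `⊤ ≥ R0 ≥ W ≥ C ≥ ⊥` (acting trivially on the
successive "quotients") form a `p`-group when the group is a `p`-group.
-/

namespace Cfsg.Agent.Lib.Helper87.GE

variable {R : Type*} [Group R]

/-- `β` moves the elements of `K` inside `N`: `r⁻¹ β(r) ∈ N`. -/
def Moves (β : MulAut R) (K N : Subgroup R) : Prop := ∀ r ∈ K, r⁻¹ * β r ∈ N

theorem pow_apply_of_fix (β : MulAut R) (r : R) (hfix : β (r⁻¹ * β r) = r⁻¹ * β r) (j : ℕ) :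
    (β ^ j) r = r * (r⁻¹ * β r) ^ j := by
  induction j with
  | zero => simp
  | succ j ih =>
    have h1 : (β ^ (j + 1)) r = β ((β ^ j) r) := by
      rw [pow_succ']; rfl
    rw [h1, ih, map_mul, map_pow, hfix, pow_succ', ← mul_assoc, ← mul_assoc, mul_inv_cancel, one_mul]

/-- One step: if `β` fixes `N` pointwise and moves `K` inside `N`, a power of `β` fixes `K` pointwise. -/
theorem pow_fix_of_moves (β : MulAut R) (K N : Subgroup R) (hN : ∀ n ∈ N, β n = n) (hK : Moves β K N)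
    (e : ℕ) (he : ∀ n ∈ N, n ^ e = 1) : ∀ r ∈ K, (β ^ e) r = r := by
  intro r hr
  rw [pow_apply_of_fix β r (hN _ (hK r hr)), he _ (hK r hr), mul_one]

/-- `β` stabilizes the chain `⊤ ≥ R0 ≥ W ≥ C ≥ ⊥`. -/
structure StabChain (R0 W C : Subgroup R) (β : MulAut R) : Prop where
  top : Moves β ⊤ R0
  mid : Moves β R0 W
  low : Moves β W C
  fix : ∀ c ∈ C, β c = c

variable {R0 W C : Subgroup R}

theorem StabChain.one : StabChain R0 W C (1 : MulAut R) := by
  refine ⟨fun r _ => ?_, fun r _ => ?_, fun r _ => ?_, fun c _ => rfl⟩ <;>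
  · rw [MulAut.one_apply, inv_mul_cancel]; exact Subgroup.one_mem _

theorem moves_mul {β γ : MulAut R} {K N : Subgroup R} (hNK : N ≤ K) (hβ : Moves β K N) (hγ : Moves γ K N) :
    Moves (β * γ) K N := by
  intro r hr
  have h1 : γ r ∈ K := by
    have : γ r = r * (r⁻¹ * γ r) := by group
    rw [this]
    exact K.mul_mem hr (hNK (hγ r hr))
  have h2 : r⁻¹ * (β * γ) r = (r⁻¹ * γ r) * ((γ r)⁻¹ * β (γ r)) := by
    rw [MulAut.mul_apply]; group
  rw [h2]
  exact N.mul_mem (hγ r hr) (hβ _ h1)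

theorem StabChain.mul (hCW : C ≤ W) (hWR : W ≤ R0) {β γ : MulAut R} (hβ : StabChain R0 W C β)
    (hγ : StabChain R0 W C γ) : StabChain R0 W C (β * γ) := by
  refine ⟨moves_mul le_top hβ.top hγ.top, moves_mul hWR hβ.mid hγ.mid, moves_mul hCW hβ.low hγ.low, ?_⟩
  intro c hc
  rw [MulAut.mul_apply, hγ.fix c hc, hβ.fix c hc]

theorem StabChain.pow (hCW : C ≤ W) (hWR : W ≤ R0) {β : MulAut R} (hβ : StabChain R0 W C β) (j : ℕ) :
    StabChain R0 W C (β ^ j) := by
  induction j with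
  | zero => rw [pow_zero]; exact StabChain.one
  | succ j ih => rw [pow_succ]; exact ih.mul hCW hWR hβ

theorem StabChain.inv [Finite R] (hCW : C ≤ W) (hWR : W ≤ R0) {β : MulAut R} (hβ : StabChain R0 W C β) :
    StabChain R0 W C β⁻¹ := by
  have hfin : IsOfFinOrder β := isOfFinOrder_of_finite β
  have hpos : 0 < orderOf β := hfin.orderOf_pos
  have h1 : β⁻¹ = β ^ (orderOf β - 1) := by
    rw [inv_eq_iff_mul_eq_one, ← pow_succ', Nat.sub_add_cancel hpos, pow_orderOf_eq_one]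
  rw [h1]
  exact hβ.pow hCW hWR _

/-- The subgroup of the automorphisms stabilizing the chain. -/
def chainStab [Finite R] (hCW : C ≤ W) (hWR : W ≤ R0) : Subgroup (MulAut R) where
  carrier := {β | StabChain R0 W C β}
  mul_mem' := fun hβ hγ => hβ.mul hCW hWR hγ
  one_mem' := StabChain.one
  inv_mem' := fun hβ => hβ.inv hCW hWR

theorem mem_chainStab [Finite R] (hCW : C ≤ W) (hWR : W ≤ R0) {β : MulAut R} :
    β ∈ chainStab hCW hWR ↔ StabChain R0 W C β := Iff.rfl

theorem StabChain.pow_eq_one [Finite R] (hCW : C ≤ W) (hWR : W ≤ R0) {β : MulAut R}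
    (hβ : StabChain R0 W C β) : β ^ (Nat.card R * Nat.card R * Nat.card R) = 1 := by
  set N := Nat.card R with hN
  have hexp : ∀ x : R, x ^ N = 1 := fun x => pow_card_eq_one'
  have h1 : ∀ r ∈ W, (β ^ N) r = r :=
    pow_fix_of_moves β W C hβ.fix hβ.low N (fun n _ => hexp n)
  have hβ1 := hβ.pow hCW hWR N
  have h2 : ∀ r ∈ R0, ((β ^ N) ^ N) r = r :=
    pow_fix_of_moves (β ^ N) R0 W h1 hβ1.mid N (fun n _ => hexp n)
  have hβ2 := hβ1.pow hCW hWR N
  have h3 : ∀ r ∈ (⊤ : Subgroup R), (((β ^ N) ^ N) ^ N) r = r :=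
    pow_fix_of_moves ((β ^ N) ^ N) ⊤ R0 h2 hβ2.top N (fun n _ => hexp n)
  rw [pow_mul, pow_mul]
  ext r
  exact h3 r (Subgroup.mem_top r)

theorem isPGroup_chainStab [Finite R] {p : ℕ} [Fact p.Prime] (hR : IsPGroup p R) (hCW : C ≤ W) (hWR : W ≤ R0) :
    IsPGroup p (chainStab (R := R) hCW hWR) := by
  obtain ⟨n, hn⟩ := IsPGroup.iff_card.mp hR
  intro β
  refine ⟨n + n + n, ?_⟩
  apply Subtype.ext
  have h := StabChain.pow_eq_one hCW hWR ((mem_chainStab hCW hWR).mp β.2)
  rw [hn] at h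
  show ((β ^ p ^ (n + n + n) : chainStab hCW hWR) : MulAut R) = 1
  rw [Subgroup.coe_pow, pow_add, pow_add]
  exact h

/-- **Two transvection-like automorphisms generate a `p`-group** when the first fixes the centre of the second. -/
theorem isPGroup_closure_pair [Finite R] {p : ℕ} [Fact p.Prime] (hR : IsPGroup p R) (R0 : Subgroup R)
    (t1 t2 : MulAut R) (z1 z2 : R) (hz1 : z1 ∈ R0) (hz2 : z2 ∈ R0)
    (h1top : Moves t1 ⊤ R0) (h2top : Moves t2 ⊤ R0)
    (h1mid : Moves t1 R0 (Subgroup.zpowers z1)) (h2mid : Moves t2 R0 (Subgroup.zpowers z2))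
    (h11 : t1 z1 = z1) (h22 : t2 z2 = z2) (h12 : t1 z2 = z2) :
    IsPGroup p (Subgroup.closure ({t1, t2} : Set (MulAut R))) := by
  set W : Subgroup R := Subgroup.zpowers z1 ⊔ Subgroup.zpowers z2 with hW
  set C : Subgroup R := Subgroup.zpowers z2 with hC
  have hCW : C ≤ W := le_sup_right
  have hWR : W ≤ R0 := sup_le (by rw [Subgroup.zpowers_le]; exact hz1) (by rw [Subgroup.zpowers_le]; exact hz2)
  have hfixpow : ∀ (t : MulAut R) (z : R), t z = z → ∀ c ∈ Subgroup.zpowers z, t c = c := by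
    intro t z h c hc
    obtain ⟨k, rfl⟩ := Subgroup.mem_zpowers_iff.mp hc
    rw [map_zpow, h]
  have ht1W : ∀ r ∈ W, t1 r = r := by
    have hle : W ≤ MonoidHom.eqLocus (t1 : R ≃* R).toMonoidHom (MonoidHom.id R) := by
      rw [hW]
      refine sup_le ?_ ?_
      · rw [Subgroup.zpowers_le]; exact h11
      · rw [Subgroup.zpowers_le]; exact h12
    intro r hr
    exact hle hr
  have hs1 : StabChain R0 W C t1 := by
    refine ⟨h1top, fun r hr => (le_sup_left : Subgroup.zpowers z1 ≤ W) (h1mid r hr), fun r hr => ?_, fun c hc => hfixpow t1 z2 h12 c hc⟩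
    rw [ht1W r hr, inv_mul_cancel]
    exact Subgroup.one_mem _
  have hs2 : StabChain R0 W C t2 :=
    ⟨h2top, fun r hr => hCW (h2mid r hr), fun r hr => h2mid r (hWR hr), fun c hc => hfixpow t2 z2 h22 c hc⟩
  have hle : Subgroup.closure ({t1, t2} : Set (MulAut R)) ≤ chainStab hCW hWR := by
    rw [Subgroup.closure_le]
    rintro x (rfl | rfl)
    · exact hs1
    · exact hs2
  exact (isPGroup_chainStab hR hCW hWR).to_le hle

end Cfsg.Agent.Lib.Helper87.GE
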