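import Cfsg.Agent.Lib.Helper87.GE1
import Cfsg.Agent.Lib.Helper53.StronglyEmbedded2

set_option autoImplicit false

/-!
The abstract local lemma: a transvection-like `p`-element in a group of automorphisms whose quotient has a strongly
`p`-embedded subgroup.
-/

namespace Cfsg.Agent.Lib.Helper87.GE

open Cfsg Cfsg.Agent.Lib.Helper53

section SE

variable {Q : Type*} [Group Q] [Finite Q] {p : ℕ} [Fact p.Prime]

/-- A `p`-subgroup meeting a subgroup with property (B) nontrivially lies in it. -/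
theorem le_of_normB {E : Subgroup Q} (hB : NormB p E) {Y : Subgroup Q} (hY : IsPGroup p Y)
    {y : Q} (hyY : y ∈ Y) (hyE : y ∈ E) (hy1 : y ≠ 1) : Y ≤ E := by
  by_contra hle
  have hlt : Y ⊓ E < Y := lt_of_le_of_ne inf_le_left (fun h => hle (h ▸ inf_le_right))
  obtain ⟨w, hwY, hwn, hwN⟩ := exists_mem_normalizer_not_mem_of_lt hY hlt
  have hne : Y ⊓ E ≠ ⊥ := by
    intro h
    have : y ∈ Y ⊓ E := ⟨hyY, hyE⟩
    rw [h, Subgroup.mem_bot] at this
    exact hy1 this
  have hwE : w ∈ E := hB (Y ⊓ E) inf_le_right (hY.to_le inf_le_left) hne hwN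
  exact hwn ⟨hwY, hwE⟩

/-- An element conjugating a nontrivial `p`-element of `E` into `E` lies in `E`. -/
theorem mem_of_normB {E : Subgroup Q} (hB : NormB p E) (hpE : p ∣ Nat.card E) {g y : Q} (hyE : y ∈ E)
    (hy1 : y ≠ 1) (hyp : IsPGroup p (Subgroup.zpowers y)) (hgy : g⁻¹ * y * g ∈ E) : g ∈ E := by
  by_contra hg
  have h1 := (normB_iff_conj_inf hpE).mp hB g hg
  apply h1
  have hle : Subgroup.zpowers y ≤ E ⊓ E.map (MulAut.conj g).toMonoidHom := by
    rw [Subgroup.zpowers_le]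
    exact ⟨hyE, mem_map_conj_iff.mpr hgy⟩
  have hne : Subgroup.zpowers y ≠ ⊥ := by
    intro h
    apply hy1
    have : y ∈ Subgroup.zpowers y := Subgroup.mem_zpowers y
    rw [h, Subgroup.mem_bot] at this
    exact this
  exact (dvd_card_of_ne_bot_of_isPGroup hyp hne).trans (Subgroup.card_dvd_of_le hle)

end SE

section Main

variable {R : Type*} [Group R] [Finite R] {p : ℕ} [Fact p.Prime]

theorem mem_zpowers_of_mem_of_ne_one {z w : R} (hzp : orderOf z = p) (hw : w ∈ Subgroup.zpowers z)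
    (hw1 : w ≠ 1) : z ∈ Subgroup.zpowers w := by
  have hcard : Nat.card (Subgroup.zpowers z) = p := by rw [Nat.card_zpowers, hzp]
  have h1 : Subgroup.zpowers (⟨w, hw⟩ : Subgroup.zpowers z) = ⊤ :=
    zpowers_eq_top_of_prime_card hcard (fun h => hw1 (congrArg Subtype.val h))
  have h2 : (⟨z, Subgroup.mem_zpowers z⟩ : Subgroup.zpowers z) ∈ Subgroup.zpowers (⟨w, hw⟩ : Subgroup.zpowers z) := by
    rw [h1]; exact Subgroup.mem_top _
  obtain ⟨k, hk⟩ := Subgroup.mem_zpowers_iff.mp h2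
  rw [Subgroup.mem_zpowers_iff]
  exact ⟨k, congrArg Subtype.val hk⟩

/-- If `b z ∈ ⟨z⟩` then `b⁻¹ z ∈ ⟨z⟩`. -/
theorem inv_apply_mem_zpowers {z : R} (hzp : orderOf z = p) (b : MulAut R) (hb : b z ∈ Subgroup.zpowers z) :
    b⁻¹ z ∈ Subgroup.zpowers z := by
  have hp : p.Prime := Fact.out
  have hz1 : z ≠ 1 := by
    intro h
    rw [h, orderOf_one] at hzp
    exact hp.one_lt.ne hzp
  have hbz1 : b z ≠ 1 := by
    intro h
    apply hz1
    have : b z = b 1 := by rw [h, map_one]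
    exact b.injective this
  obtain ⟨k, hk⟩ := Subgroup.mem_zpowers_iff.mp (mem_zpowers_of_mem_of_ne_one hzp hb hbz1)
  rw [Subgroup.mem_zpowers_iff]
  refine ⟨k, ?_⟩
  have : b⁻¹ z = b⁻¹ ((b z) ^ k) := by rw [hk]
  rw [this, map_zpow, MulAut.inv_apply_self]

/-- Conjugation of a chain-stabilizing automorphism by an automorphism preserving `R0` and `⟨z⟩`. -/
theorem stabChain_conj {R0 : Subgroup R} {z : R} (hzp : orderOf z = p) {b u : MulAut R}
    (hb0 : ∀ r ∈ R0, b r ∈ R0) (hb0' : ∀ r ∈ R0, b⁻¹ r ∈ R0) (hbz : b z ∈ Subgroup.zpowers z)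
    (hu : StabChain R0 (Subgroup.zpowers z) (Subgroup.zpowers z) u) :
    StabChain R0 (Subgroup.zpowers z) (Subgroup.zpowers z) (b * u * b⁻¹) := by
  have hbz' : b⁻¹ z ∈ Subgroup.zpowers z := inv_apply_mem_zpowers hzp b hbz
  have hbZ : ∀ c ∈ Subgroup.zpowers z, b c ∈ Subgroup.zpowers z := by
    intro c hc
    obtain ⟨k, rfl⟩ := Subgroup.mem_zpowers_iff.mp hc
    rw [map_zpow]
    exact Subgroup.zpow_mem _ hbz k
  have hbZ' : ∀ c ∈ Subgroup.zpowers z, b⁻¹ c ∈ Subgroup.zpowers z := by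
    intro c hc
    obtain ⟨k, rfl⟩ := Subgroup.mem_zpowers_iff.mp hc
    rw [map_zpow]
    exact Subgroup.zpow_mem _ hbz' k
  have key : ∀ r : R, r⁻¹ * (b * u * b⁻¹) r = b ((b⁻¹ r)⁻¹ * u (b⁻¹ r)) := by
    intro r
    rw [MulAut.mul_apply, MulAut.mul_apply, map_mul, map_inv, MulAut.apply_inv_self]
  refine ⟨fun r _ => ?_, fun r hr => ?_, fun r hr => ?_, fun c hc => ?_⟩
  · rw [key]
    exact hb0 _ (hu.top _ (Subgroup.mem_top _))
  · rw [key]
    exact hbZ _ (hu.mid _ (hb0' r hr))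
  · rw [key]
    exact hbZ _ (hu.low _ (hbZ' r hr))
  · rw [MulAut.mul_apply, MulAut.mul_apply, hu.fix _ (hbZ' c hc), MulAut.apply_inv_self]

/-- Conjugating a transvection-like automorphism. -/
theorem moves_conj_top {R0 : Subgroup R} {g t : MulAut R} (hg0 : ∀ r ∈ R0, g r ∈ R0) (ht : Moves t ⊤ R0) :
    Moves (g * t * g⁻¹) ⊤ R0 := by
  intro r _
  have key : r⁻¹ * (g * t * g⁻¹) r = g ((g⁻¹ r)⁻¹ * t (g⁻¹ r)) := by
    rw [MulAut.mul_apply, MulAut.mul_apply, map_mul, map_inv, MulAut.apply_inv_self]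
  rw [key]
  exact hg0 _ (ht _ (Subgroup.mem_top _))

theorem moves_conj_mid {R0 : Subgroup R} {z : R} {g t : MulAut R} (hg0' : ∀ r ∈ R0, g⁻¹ r ∈ R0)
    (ht : Moves t R0 (Subgroup.zpowers z)) :
    Moves (g * t * g⁻¹) R0 (Subgroup.zpowers (g z)) := by
  intro r hr
  have key : r⁻¹ * (g * t * g⁻¹) r = g ((g⁻¹ r)⁻¹ * t (g⁻¹ r)) := by
    rw [MulAut.mul_apply, MulAut.mul_apply, map_mul, map_inv, MulAut.apply_inv_self]
  rw [key]
  obtain ⟨k, hk⟩ := Subgroup.mem_zpowers_iff.mp (ht _ (hg0' r hr))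
  rw [← hk, map_zpow]
  exact Subgroup.zpow_mem _ (Subgroup.mem_zpowers _) k

/-- **The abstract local lemma.** -/
theorem exists_moving (hR : IsPGroup p R) (A I : Subgroup (MulAut R)) [hn : (I.subgroupOf A).Normal]
    (E : Subgroup (A ⧸ I.subgroupOf A)) (hE : IsStronglyPEmbedded p E)
    (R0 : Subgroup R) (hR0 : ∀ α ∈ A, ∀ r ∈ R0, α r ∈ R0)
    (z : R) (hzR0 : z ∈ R0) (hzp : orderOf z = p)
    (t : MulAut R) (htA : t ∈ A) (htp : ∃ k : ℕ, t ^ p ^ k = 1) (htI : t ∉ I)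
    (h1 : Moves t ⊤ R0) (h2 : Moves t R0 (Subgroup.zpowers z)) (h3 : t z = z) :
    ∃ g ∈ A, g z ∉ Subgroup.zpowers z ∧ t (g z) ≠ g z ∧ (g * t * g⁻¹) z ≠ z := by
  classical
  haveI : Finite (MulAut R) := Finite.of_injective (fun e : MulAut R => (e : R → R)) (fun a b h => by
    ext x; exact congrFun h x)
  set π := QuotientGroup.mk' (I.subgroupOf A) with hπ
  -- the image of `t`
  set tA : A := ⟨t, htA⟩ with htA'
  have htbar1 : π tA ≠ 1 := by
    intro h
    rw [hπ, QuotientGroup.mk'_apply, QuotientGroup.eq_one_iff, Subgroup.mem_subgroupOf] at h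
    exact htI h
  have htbarp : IsPGroup p (Subgroup.zpowers (π tA)) := by
    obtain ⟨k, hk⟩ := htp
    intro ⟨w, hw⟩
    obtain ⟨j, rfl⟩ := Subgroup.mem_zpowers_iff.mp hw
    refine ⟨k, ?_⟩
    apply Subtype.ext
    show (π tA ^ j) ^ p ^ k = 1
    rw [← zpow_natCast, ← zpow_mul, mul_comm, zpow_mul, zpow_natCast, ← map_pow]
    have : tA ^ p ^ k = 1 := by
      apply Subtype.ext
      rw [Subgroup.coe_pow]
      exact hk
    rw [this, map_one, one_zpow]
  -- move `E` so that it contains the image of `t`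
  obtain ⟨P, hPne, hPE, hBE, -⟩ := exists_sylow_of_isStronglyPEmbedded hE
  obtain ⟨P', hP'⟩ := htbarp.exists_le_sylow
  obtain ⟨h, hh⟩ := MulAction.exists_smul_eq (A ⧸ I.subgroupOf A) P P'
  set E' := E.map (MulAut.conj h).toMonoidHom with hE'
  have hBE' : NormB p E' := normB_map_conj hBE h
  have hP'E' : (P' : Subgroup (A ⧸ I.subgroupOf A)) ≤ E' := by
    rw [← hh, coe_smul_sylow_eq_map]
    exact Subgroup.map_mono hPE
  have htE' : π tA ∈ E' := hP'E' (hP' (Subgroup.mem_zpowers _))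
  have hE'top : E' ≠ ⊤ := by
    intro hEt
    apply hE.2.1
    have h1 := map_conj_inv_map_conj E h
    rw [← hE', hEt] at h1
    rw [← h1, eq_top_iff]
    intro y _
    rw [mem_map_conj_iff]
    exact Subgroup.mem_top _
  have hpE' : p ∣ Nat.card E' := by
    have hP'ne : (P' : Subgroup (A ⧸ I.subgroupOf A)) ≠ ⊥ := by
      intro hb
      have : π tA ∈ (P' : Subgroup (A ⧸ I.subgroupOf A)) := hP' (Subgroup.mem_zpowers _)
      rw [hb, Subgroup.mem_bot] at this
      exact htbar1 this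
    exact (dvd_card_of_ne_bot_of_isPGroup P'.isPGroup' hP'ne).trans (Subgroup.card_dvd_of_le hP'E')
  -- the chain stabilizer
  have hCW : Subgroup.zpowers z ≤ Subgroup.zpowers z := le_rfl
  have hWR : Subgroup.zpowers z ≤ R0 := by rw [Subgroup.zpowers_le]; exact hzR0
  have hfixpow : ∀ (s : MulAut R) (w : R), s w = w → ∀ c ∈ Subgroup.zpowers w, s c = c := by
    intro s w h c hc
    obtain ⟨k, rfl⟩ := Subgroup.mem_zpowers_iff.mp hc
    rw [map_zpow, h]
  have htU : StabChain R0 (Subgroup.zpowers z) (Subgroup.zpowers z) t := by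
    refine ⟨h1, h2, fun r hr => ?_, hfixpow t z h3⟩
    rw [hfixpow t z h3 r hr, inv_mul_cancel]
    exact Subgroup.one_mem _
  set U : Subgroup (MulAut R) := chainStab hCW hWR with hU
  have hUp : IsPGroup p U := isPGroup_chainStab hR hCW hWR
  -- a `p`-subgroup of `A` containing `t` maps into `E'`
  have hpext : ∀ Y : Subgroup (MulAut R), IsPGroup p Y → t ∈ Y → ∀ y : A, (y : MulAut R) ∈ Y → π y ∈ E' := by
    intro Y hY htY y hy
    have hYp : IsPGroup p ((Y.subgroupOf A).map π) := (hY.comap_subtype).map π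
    have h4 : (Y.subgroupOf A).map π ≤ E' :=
      le_of_normB hBE' hYp (y := π tA) ⟨tA, Subgroup.mem_subgroupOf.mpr htY, rfl⟩ htE' htbar1
    exact h4 ⟨y, Subgroup.mem_subgroupOf.mpr hy, rfl⟩
  -- the stabilizer of `⟨z⟩` maps into `E'`
  have hBle : ∀ b : A, (b : MulAut R) z ∈ Subgroup.zpowers z → π b ∈ E' := by
    intro b hb
    have hb' : (b : MulAut R)⁻¹ z ∈ Subgroup.zpowers z := inv_apply_mem_zpowers hzp _ hb
    have hconj : (b : MulAut R)⁻¹ * t * ((b : MulAut R)⁻¹)⁻¹ ∈ U := by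
      rw [hU, mem_chainStab]
      apply stabChain_conj hzp (fun r hr => hR0 _ (A.inv_mem b.2) r hr) ?_ hb' htU
      intro r hr
      rw [inv_inv]
      exact hR0 _ b.2 r hr
    have h5 : π (b⁻¹ * tA * b) ∈ E' := by
      apply hpext U hUp ((mem_chainStab hCW hWR).mpr htU)
      have : ((b⁻¹ * tA * b : A) : MulAut R) = (b : MulAut R)⁻¹ * t * ((b : MulAut R)⁻¹)⁻¹ := by
        rw [inv_inv]; rfl
      rw [this]
      exact hconj
    apply mem_of_normB hBE' hpE' htE' htbar1 htbarp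
    rw [← map_inv, ← map_mul, ← map_mul]
    exact h5
  -- an element outside
  obtain ⟨gq, hgq⟩ : ∃ gq : A ⧸ I.subgroupOf A, gq ∉ E' := by
    by_contra hall
    push_neg at hall
    exact hE'top (eq_top_iff.mpr (fun x _ => hall x))
  obtain ⟨g, rfl⟩ := QuotientGroup.mk'_surjective (I.subgroupOf A) gq
  have hgz : (g : MulAut R) z ∉ Subgroup.zpowers z := fun h => hgq (hBle g h)
  have hg0 : ∀ r ∈ R0, (g : MulAut R) r ∈ R0 := hR0 _ g.2
  have hg0' : ∀ r ∈ R0, (g : MulAut R)⁻¹ r ∈ R0 := hR0 _ (A.inv_mem g.2)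
  set v : MulAut R := (g : MulAut R) * t * (g : MulAut R)⁻¹ with hv
  have hvA : v ∈ A := A.mul_mem (A.mul_mem g.2 htA) (A.inv_mem g.2)
  have hvtop : Moves v ⊤ R0 := moves_conj_top hg0 h1
  have hvmid : Moves v R0 (Subgroup.zpowers ((g : MulAut R) z)) := moves_conj_mid hg0' h2
  have hvfix : v ((g : MulAut R) z) = (g : MulAut R) z := by
    rw [hv, MulAut.mul_apply, MulAut.mul_apply, MulAut.inv_apply_self, h3]
  have hvbar : π ⟨v, hvA⟩ = π g * π tA * (π g)⁻¹ := by
    rw [← map_inv, ← map_mul, ← map_mul]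
    rfl
  -- if the pair generates a `p`-group we get a contradiction
  have hcontra : ∀ Y : Subgroup (MulAut R), IsPGroup p Y → t ∈ Y → v ∈ Y → False := by
    intro Y hY htY hvY
    have h6 : π ⟨v, hvA⟩ ∈ E' := hpext Y hY htY ⟨v, hvA⟩ hvY
    apply hgq
    have hv1 : π ⟨v, hvA⟩ ≠ 1 := by
      rw [hvbar]
      intro h
      apply htbar1
      have : π tA = (π g)⁻¹ * (π g * π tA * (π g)⁻¹) * π g := by group
      rw [this, h]
      group
    have hvp : IsPGroup p (Subgroup.zpowers (π ⟨v, hvA⟩)) := by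
      have hYp : IsPGroup p ((Y.subgroupOf A).map π) := (hY.comap_subtype).map π
      apply hYp.to_le
      rw [Subgroup.zpowers_le]
      exact ⟨⟨v, hvA⟩, Subgroup.mem_subgroupOf.mpr hvY, rfl⟩
    apply mem_of_normB hBE' hpE' h6 hv1 hvp
    rw [hvbar]
    have : (π g)⁻¹ * (π g * π tA * (π g)⁻¹) * π g = π tA := by group
    rw [this]
    exact htE'
  refine ⟨g, g.2, hgz, ?_, ?_⟩
  · intro h
    have hY := isPGroup_closure_pair hR R0 t v z ((g : MulAut R) z) hzR0 (hg0 z hzR0) h1 hvtop h2 hvmid h3 hvfix h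
    exact hcontra _ hY (Subgroup.subset_closure (by simp)) (Subgroup.subset_closure (by simp))
  · intro h
    have hY := isPGroup_closure_pair hR R0 v t ((g : MulAut R) z) z (hg0 z hzR0) hzR0 hvtop h1 hvmid h2 hvfix h3 h
    exact hcontra _ hY (Subgroup.subset_closure (by simp)) (Subgroup.subset_closure (by simp))

end Main

end Cfsg.Agent.Lib.Helper87.GE
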