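import Mathlib

set_option autoImplicit false

/-!
The torus element: two "opposite transvections" on a subgroup `⟨z⟩ × ⟨z'⟩` of order `p²`, `p` odd, generate an
automorphism `d` with `d z = z²` and `d t d⁻¹ = t⁴` on `z'`.
-/

namespace Cfsg.Agent.Lib.Helper87.GE

variable {R : Type*} [Group R]

theorem zpow_congr_of_pow_eq_one {p : ℕ} {x : R} (hx : x ^ p = 1) {a b : ℤ} (h : a ≡ b [ZMOD (p : ℤ)]) :
    x ^ a = x ^ b := by
  obtain ⟨k, hk⟩ := h.symm.dvd
  have : a = b + (p : ℤ) * k := by omega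
  rw [this, zpow_add, zpow_mul, zpow_natCast, hx, one_zpow, mul_one]

/-- `e α β = z^α z'^β`. -/
def ee (z z' : R) (α β : ℤ) : R := z ^ α * z' ^ β

theorem ee_congr {p : ℕ} {z z' : R} (hz : z ^ p = 1) (hz' : z' ^ p = 1) {α α' β β' : ℤ}
    (hα : α ≡ α' [ZMOD (p : ℤ)]) (hβ : β ≡ β' [ZMOD (p : ℤ)]) : ee z z' α β = ee z z' α' β' := by
  unfold ee
  rw [zpow_congr_of_pow_eq_one hz hα, zpow_congr_of_pow_eq_one hz' hβ]

theorem apply_t_ee {z z' : R} (hcomm : Commute z z') (t : MulAut R) (b : ℤ) (htz : t z = z)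
    (htz' : t z' = z' * z ^ b) (α β : ℤ) : t (ee z z' α β) = ee z z' (α + b * β) β := by
  unfold ee
  have h1 : Commute z' (z ^ b) := (hcomm.symm).zpow_right b
  have h2 : Commute (z' ^ β) (z ^ (b * β)) := ((hcomm.symm).zpow_right _).zpow_left _
  calc t (z ^ α * z' ^ β) = z ^ α * (z' * z ^ b) ^ β := by
        rw [map_mul, map_zpow, map_zpow, htz, htz']
    _ = z ^ α * (z' ^ β * z ^ (b * β)) := by rw [h1.mul_zpow, ← zpow_mul]
    _ = z ^ α * (z ^ (b * β) * z' ^ β) := by rw [h2.eq]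
    _ = z ^ (α + b * β) * z' ^ β := by rw [zpow_add, mul_assoc]

theorem apply_v_ee {z z' : R} (hcomm : Commute z z') (v : MulAut R) (c : ℤ) (hvz' : v z' = z')
    (hvz : v z = z * z' ^ c) (α β : ℤ) : v (ee z z' α β) = ee z z' α (β + c * α) := by
  unfold ee
  have h1 : Commute z (z' ^ c) := hcomm.zpow_right c
  have h2 : Commute (z' ^ β) (z' ^ (c * α)) := (Commute.refl z').zpow_zpow _ _
  calc v (z ^ α * z' ^ β) = (z * z' ^ c) ^ α * z' ^ β := by
        rw [map_mul, map_zpow, map_zpow, hvz', hvz]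
    _ = z ^ α * (z' ^ (c * α) * z' ^ β) := by rw [h1.mul_zpow, ← zpow_mul, mul_assoc]
    _ = z ^ α * z' ^ (β + c * α) := by rw [← h2.eq, ← zpow_add]

theorem apply_vpow_ee {z z' : R} (hcomm : Commute z z') (v : MulAut R) (c : ℤ) (hvz' : v z' = z')
    (hvz : v z = z * z' ^ c) (k : ℕ) (α β : ℤ) :
    (v ^ k) (ee z z' α β) = ee z z' α (β + k * c * α) := by
  induction k with
  | zero => simp
  | succ k ih =>
    have h1 : (v ^ (k + 1)) (ee z z' α β) = v ((v ^ k) (ee z z' α β)) := by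
      rw [pow_succ']; rfl
    rw [h1, ih, apply_v_ee hcomm v c hvz' hvz]
    congr 1
    push_cast
    ring

/-- **The torus element.** -/
theorem exists_torus {p : ℕ} [Fact p.Prime] (hp2 : p ≠ 2) (t v : MulAut R) (z z' : R) (hcomm : Commute z z')
    (hz : z ^ p = 1) (hz' : z' ^ p = 1) (b c : ℤ) (hb : ¬ (p : ℤ) ∣ b) (hc : ¬ (p : ℤ) ∣ c)
    (htz : t z = z) (htz' : t z' = z' * z ^ b) (hvz' : v z' = z') (hvz : v z = z * z' ^ c) :
    ∃ d ∈ Subgroup.closure ({t, v} : Set (MulAut R)), d z = z ^ 2 ∧ (d * t * d⁻¹) z' = z' * z ^ (4 * b) := by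
  have hp : p.Prime := Fact.out
  -- the scalars in `ZMod p`
  set B : ZMod p := (b : ZMod p) with hB
  set C : ZMod p := (c : ZMod p) with hC
  have hB0 : B ≠ 0 := by
    rw [hB, Ne, ZMod.intCast_zmod_eq_zero_iff_dvd]
    exact hb
  have hC0 : C ≠ 0 := by
    rw [hC, Ne, ZMod.intCast_zmod_eq_zero_iff_dvd]
    exact hc
  have h20 : (2 : ZMod p) ≠ 0 := by
    intro h
    have h1 : ((2 : ℕ) : ZMod p) = 0 := by exact_mod_cast h
    rw [ZMod.natCast_eq_zero_iff] at h1
    have := Nat.le_of_dvd (by norm_num) h1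
    have := hp.two_le
    omega
  set S : ZMod p := (B * C)⁻¹ with hS
  set S1 : ZMod p := -S * 2⁻¹ with hS1
  have hSBC : S * B * C = 1 := by
    rw [hS, mul_assoc, inv_mul_cancel₀ (mul_ne_zero hB0 hC0)]
  have hS12 : 2 * S1 = -S := by
    rw [hS1]
    field_simp
  set s : ℕ := S.val with hs
  set s1 : ℕ := S1.val with hs1
  have hsc : ((s : ℕ) : ZMod p) = S := by
    rw [hs]; exact ZMod.natCast_zmod_val S
  have hs1c : ((s1 : ℕ) : ZMod p) = S1 := by
    rw [hs1]; exact ZMod.natCast_zmod_val S1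
  set d : MulAut R := v ^ s1 * t * v ^ s with hd
  have hdmem : d ∈ Subgroup.closure ({t, v} : Set (MulAut R)) := by
    have htm : t ∈ Subgroup.closure ({t, v} : Set (MulAut R)) := Subgroup.subset_closure (by simp)
    have hvm : v ∈ Subgroup.closure ({t, v} : Set (MulAut R)) := Subgroup.subset_closure (by simp)
    exact Subgroup.mul_mem _ (Subgroup.mul_mem _ (Subgroup.pow_mem _ hvm _) htm) (Subgroup.pow_mem _ hvm _)
  have hdee : ∀ α β : ℤ, d (ee z z' α β) =
      ee z z' (α + b * (β + s * c * α)) ((β + s * c * α) + s1 * c * (α + b * (β + s * c * α))) := by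
    intro α β
    rw [hd, MulAut.mul_apply, MulAut.mul_apply, apply_vpow_ee hcomm v c hvz' hvz,
      apply_t_ee hcomm t b htz htz', apply_vpow_ee hcomm v c hvz' hvz]
  have hz_ee : z = ee z z' 1 0 := by unfold ee; simp
  have hz'_ee : z' = ee z z' 0 1 := by unfold ee; simp
  have modeq : ∀ x y : ℤ, ((x : ZMod p) = (y : ZMod p)) → x ≡ y [ZMOD (p : ℤ)] := by
    intro x y h
    exact (ZMod.intCast_eq_intCast_iff x y p).mp h
  -- `d z = z²`
  have hdz : d z = z ^ 2 := by
    have h2 : z ^ (2 : ℕ) = ee z z' 2 0 := by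
      unfold ee
      rw [zpow_zero, mul_one]
      exact (zpow_natCast z 2).symm
    rw [h2]
    conv_lhs => rw [hz_ee]
    rw [hdee]
    apply ee_congr hz hz'
    · apply modeq
      push_cast
      rw [hsc]
      linear_combination hSBC
    · apply modeq
      push_cast
      rw [hsc, hs1c]
      linear_combination (S1 * C) * hSBC + C * hS12
  -- the preimage of `z'`
  have hdw : d (ee z z' (-b) 2) = z' := by
    conv_rhs => rw [hz'_ee]
    rw [hdee]
    apply ee_congr hz hz'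
    · apply modeq
      push_cast
      rw [hsc]
      linear_combination (-B) * hSBC
    · apply modeq
      push_cast
      rw [hsc, hs1c]
      linear_combination (-(1 + S1 * C * B)) * hSBC
  have hdinv : d⁻¹ z' = ee z z' (-b) 2 := by
    have h := MulAut.inv_apply_self R d (ee z z' (-b) 2)
    rw [hdw] at h
    exact h
  refine ⟨d, hdmem, hdz, ?_⟩
  rw [MulAut.mul_apply, MulAut.mul_apply, hdinv, apply_t_ee hcomm t b htz htz', hdee]
  have h3 : z' * z ^ (4 * b) = ee z z' (4 * b) 1 := by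
    unfold ee
    rw [zpow_one]
    exact ((hcomm.symm).zpow_right _).eq
  rw [h3]
  apply ee_congr hz hz'
  · apply modeq
    push_cast
    rw [hsc]
    linear_combination B * hSBC
  · apply modeq
    push_cast
    rw [hsc, hs1c]
    linear_combination (S1 * C * B - 1) * hSBC + (2 * C * B) * hS12
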