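import Mathlib
import Cfsg.Agent.Lib.Helper16.ClassTwo
import Cfsg.Agent.Lib.Helper38.PGroup

set_option autoImplicit false

/-!
Group-theoretic lemmas on subgroups `P` of an ambient group whose commutators and `p`-th powers lie in a central
subgroup `D` of order `p`.
-/

namespace Cfsg.Agent.Lib.Helper87.GE

open Subgroup Cfsg.Agent.Lib.Helper16
open scoped commutatorElement

variable {X : Type*} [Group X] {p : ℕ} [Fact p.Prime]

/-- Any nontrivial element of a subgroup of prime order generates it. -/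
theorem mem_zpowers_of_card_prime {D : Subgroup X} (hD : Nat.card D = p) {w d : X} (hw : w ∈ D)
    (hw1 : w ≠ 1) (hd : d ∈ D) : d ∈ zpowers w := by
  have h1 : zpowers (⟨w, hw⟩ : D) = ⊤ :=
    zpowers_eq_top_of_prime_card hD (fun h => hw1 (congrArg Subtype.val h))
  have h2 : (⟨d, hd⟩ : D) ∈ zpowers (⟨w, hw⟩ : D) := by rw [h1]; exact mem_top _
  obtain ⟨k, hk⟩ := mem_zpowers_iff.mp h2
  exact mem_zpowers_iff.mpr ⟨k, congrArg Subtype.val hk⟩

theorem pow_eq_one_of_card_prime {D : Subgroup X} (hD : Nat.card D = p) {d : X} (hd : d ∈ D) :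
    d ^ p = 1 := by
  have : (⟨d, hd⟩ : D) ^ p = 1 := by
    rw [← hD]; exact pow_card_eq_one'
  exact congrArg Subtype.val this

/-- If an injective homomorphism `ψ` from `K ≤ P` into `P` sends some `z1 ∉ D` into `D`, then `K` is elementary
abelian. -/
theorem elemAb_of_injective {P D K : Subgroup X} (hD : Nat.card D = p)
    (hcomm : ∀ a ∈ P, ∀ b ∈ P, ⁅a, b⁆ ∈ D) (hpow : ∀ a ∈ P, a ^ p ∈ D) (hKP : K ≤ P)
    (ψ : K →* X) (hinj : Function.Injective ψ) (hψP : ∀ k : K, ψ k ∈ P)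
    (z1 : K) (hz1D : (z1 : X) ∉ D) (hψz1 : ψ z1 ∈ D) :
    (∀ a ∈ K, ∀ b ∈ K, a * b = b * a) ∧ ∀ a ∈ K, a ^ p = 1 := by
  have key : ∀ w : K, (w : X) ∈ D → ψ w ∈ D → w = 1 := by
    intro w hwD hψw
    by_contra hw1
    have hψw1 : ψ w ≠ 1 := fun h => hw1 (hinj (h.trans (map_one ψ).symm))
    obtain ⟨k, hk⟩ := mem_zpowers_iff.mp (mem_zpowers_of_card_prime hD hψw hψw1 hψz1)
    have h1 : w ^ k = z1 := hinj (by rw [map_zpow, hk])
    apply hz1D
    rw [← h1]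
    have : ((w ^ k : K) : X) = (w : X) ^ k := by simp
    rw [this]
    exact D.zpow_mem hwD k
  constructor
  · intro a ha b hb
    have h1 := key ⁅(⟨a, ha⟩ : K), ⟨b, hb⟩⁆ (by
      have : ((⁅(⟨a, ha⟩ : K), ⟨b, hb⟩⁆ : K) : X) = ⁅a, b⁆ := by
        simp [commutatorElement_def]
      rw [this]
      exact hcomm a (hKP ha) b (hKP hb)) (by
      rw [map_commutatorElement]
      exact hcomm _ (hψP _) _ (hψP _))
    rw [commutatorElement_eq_one_iff_mul_comm] at h1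
    exact congrArg Subtype.val h1
  · intro a ha
    have h1 := key ((⟨a, ha⟩ : K) ^ p) (by
      have : (((⟨a, ha⟩ : K) ^ p : K) : X) = a ^ p := by simp
      rw [this]
      exact hpow a (hKP ha)) (by
      rw [map_pow]
      exact hpow _ (hψP _))
    have := congrArg Subtype.val h1
    simpa using this

theorem dvd_tri_of_odd (hp2 : p ≠ 2) : p ∣ Cl2.tri p := by
  have hp : p.Prime := Fact.out
  have h1 := Cl2.two_mul_tri p
  have h2 : p ∣ 2 * Cl2.tri p := by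
    have : 2 * Cl2.tri p = p * p - p := by omega
    rw [this]
    exact Nat.dvd_sub (dvd_mul_right p p) (dvd_refl p)
  rcases (Nat.Prime.dvd_mul hp).mp h2 with h | h
  · exfalso
    exact hp2 ((Nat.prime_dvd_prime_iff_eq hp Nat.prime_two).mp h)
  · exact h

/-- The torus relation forces `x ^ p = 1`. -/
theorem pow_eq_one_of_torus (hp2 : p ≠ 2) {P D : Subgroup X} (c : Cl2 P D) (hDp : ∀ d ∈ D, d ^ p = 1)
    (hpow : ∀ a ∈ P, a ^ p ∈ D)
    {x x1 z1 z : X} (hx : x ∈ P) (hx1 : x1 ∈ P) (hz1 : z1 ∈ P) (hz : z ∈ D) (b : ℤ)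
    (h1 : x * z1 * x⁻¹ = z1 * z ^ b) (h2 : x1 * z1 * x1⁻¹ = z1 * z ^ (4 * b))
    (h3 : x1 ^ p = (x ^ p) ^ 2)
    (hC : ∀ a ∈ P, a * z1 = z1 * a → a ^ p = 1) : x ^ p = 1 := by
  have hp : p.Prime := Fact.out
  have hzb : z ^ b ∈ D := D.zpow_mem hz b
  have hzbc : z ^ b * z1⁻¹ = z1⁻¹ * z ^ b := c.central _ hzb _ (P.inv_mem hz1)
  have e1 : ⁅x, z1⁆ = z ^ b := by
    rw [commutatorElement_def, h1, mul_assoc, hzbc, ← mul_assoc, mul_inv_cancel, one_mul]
  have hz4b : z ^ (4 * b) ∈ D := D.zpow_mem hz _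
  have hz4bc : z ^ (4 * b) * z1⁻¹ = z1⁻¹ * z ^ (4 * b) := c.central _ hz4b _ (P.inv_mem hz1)
  have e2 : ⁅x1, z1⁆ = z ^ (4 * b) := by
    rw [commutatorElement_def, h2, mul_assoc, hz4bc, ← mul_assoc, mul_inv_cancel, one_mul]
  have e3 : ⁅x ^ 4, z1⁆ = z ^ (4 * b) := by
    rw [c.pow_left hx hz1, e1, ← zpow_natCast, ← zpow_mul, mul_comm]
    norm_num
  have hx4 : x ^ 4 ∈ P := P.pow_mem hx 4
  set y := x1 * (x ^ 4)⁻¹ with hy
  have hyP : y ∈ P := P.mul_mem hx1 (P.inv_mem hx4)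
  have e4 : ⁅y, z1⁆ = 1 := by
    rw [hy, c.mul_left hx1 (P.inv_mem hx4) hz1, c.inv_left hx4 hz1, e2, e3, mul_inv_cancel]
  have hyc : y * z1 = z1 * y := commutatorElement_eq_one_iff_mul_comm.mp e4
  have hyp : y ^ p = 1 := hC y hyP hyc
  have hx1eq : x1 = y * x ^ 4 := by rw [hy, inv_mul_cancel_right]
  have e5 : x1 ^ p = (x ^ 4) ^ p := by
    rw [hx1eq, c.mul_pow_formula hyP hx4, hyp, one_mul]
    obtain ⟨m, hm⟩ := dvd_tri_of_odd (p := p) hp2
    rw [hm, pow_mul, hDp _ (c.comm _ hx4 _ hyP), one_pow, mul_one]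
  have e6 : (x ^ p) ^ 2 = 1 := by
    have h4 : (x ^ 4) ^ p = (x ^ p) ^ 2 * (x ^ p) ^ 2 := by
      rw [← pow_mul, ← pow_mul, ← pow_add]
      congr 1
      ring
    rw [e5, h4] at h3
    exact mul_eq_right.mp h3
  have e7 : (x ^ p) ^ p = 1 := hDp _ (hpow x hx)
  have hord : orderOf (x ^ p) ∣ Nat.gcd 2 p := Nat.dvd_gcd (orderOf_dvd_of_pow_eq_one e6) (orderOf_dvd_of_pow_eq_one e7)
  have hg : Nat.gcd 2 p = 1 := by
    rw [Nat.coprime_primes Nat.prime_two hp |>.mpr (Ne.symm hp2)]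
  rw [hg, Nat.dvd_one, orderOf_eq_one_iff] at hord
  exact hord

end Cfsg.Agent.Lib.Helper87.GE
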