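import Mathlib
import Cfsg.Agent.Lib.Helper87.GE4
import Cfsg.Agent.Lib.Helper32.XSHeis

set_option autoImplicit false

/-!
A finite group of class two generated, modulo its centre, by a Heisenberg pair is the direct product of the
Heisenberg group with a central subgroup.
-/

namespace Cfsg.Agent.Lib.Helper87.GE

open Subgroup Cfsg.Agent.Lib.Helper16 Cfsg.Agent.Lib.Helper32
open scoped commutatorElement

section Basic

variable {G : Type*} [Group G]

theorem cl2_pow_right {H D : Subgroup G} (c : Cl2 H D) {a b : G} (ha : a ∈ H) (hb : b ∈ H) (n : ℕ) :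
    ⁅a, b ^ n⁆ = ⁅a, b⁆ ^ n := by
  induction n with
  | zero => simp
  | succ n ih => rw [pow_succ, c.mul_right ha (H.pow_mem hb n) hb, ih, pow_succ]

theorem exists_nat_pow_of_mem_zpowers {p : ℕ} [Fact p.Prime] {z w : G} (hz : z ^ p = 1)
    (hw : w ∈ zpowers z) : ∃ n : ℕ, n < p ∧ w = z ^ n := by
  have hp : p.Prime := Fact.out
  obtain ⟨k, rfl⟩ := mem_zpowers_iff.mp hw
  have hpos : (0 : ℤ) < p := by exact_mod_cast hp.pos
  refine ⟨(k % p).toNat, ?_, ?_⟩
  · have := Int.emod_lt_of_pos k hpos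
    have h0 := Int.emod_nonneg k hpos.ne'
    omega
  · rw [zpow_eq_zpow_emod' k hz, ← zpow_natCast, Int.toNat_of_nonneg (Int.emod_nonneg k hpos.ne')]

theorem pow_eq_one_of_lt {p : ℕ} [Fact p.Prime] {z : G} (hz : z ^ p = 1) (hz1 : z ≠ 1) {n : ℕ} (hn : n < p)
    (h : z ^ n = 1) : n = 0 := by
  have hp : p.Prime := Fact.out
  have hord : orderOf z = p := orderOf_eq_prime hz hz1
  have := orderOf_dvd_of_pow_eq_one h
  rw [hord] at this
  by_contra h0
  exact absurd (Nat.le_of_dvd (Nat.pos_of_ne_zero h0) this) (not_le.mpr hn)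

end Basic

section HeisProd

variable {G : Type*} [Group G] {p : ℕ} [Fact p.Prime]

/-- A Heisenberg pair: `x`, `y` of order dividing `p` whose commutator is central, of order dividing `p` and generates
a subgroup containing all commutators. -/
structure HPair (p : ℕ) (x y : G) : Prop where
  hx : x ^ p = 1
  hy : y ^ p = 1
  hz : ⁅y, x⁆ ^ p = 1
  hz1 : ⁅y, x⁆ ≠ 1
  cl : Cl2 (⊤ : Subgroup G) (zpowers ⁅y, x⁆)

namespace HPair

variable {x y : G}

theorem central (h : HPair p x y) {d : G} (hd : d ∈ zpowers ⁅y, x⁆) (g : G) : d * g = g * d :=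
  h.cl.central d hd g (mem_top g)

theorem zpow_central (h : HPair p x y) (k : ℕ) (g : G) : ⁅y, x⁆ ^ k * g = g * ⁅y, x⁆ ^ k :=
  h.central (Subgroup.pow_mem _ (mem_zpowers _) k) g

theorem comm_mem (h : HPair p x y) (a b : G) : ⁅a, b⁆ ∈ zpowers ⁅y, x⁆ :=
  h.cl.comm a (mem_top a) b (mem_top b)

theorem comm_xy (_h : HPair p x y) : ⁅x, y⁆ = ⁅y, x⁆⁻¹ := (commutatorElement_inv y x).symm

theorem comm_xy_pow (h : HPair p x y) : ⁅x, y⁆ ^ p = 1 := by
  rw [h.comm_xy, inv_pow, h.hz, inv_one]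

theorem comm_xy_ne (h : HPair p x y) : ⁅x, y⁆ ≠ 1 := by
  rw [h.comm_xy]
  intro h1
  exact h.hz1 (inv_eq_one.mp h1)

/-- the map from the Heisenberg group -/
def hfun (x y : G) (u : Heis p) : G := x ^ u.a.val * y ^ u.b.val * ⁅y, x⁆ ^ u.c.val

theorem hfun_mul (h : HPair p x y) (u v : Heis p) :
    hfun x y (u * v) = hfun x y u * hfun x y v := by
  have : NeZero p := ⟨(Fact.out : p.Prime).ne_zero⟩
  unfold hfun
  rw [pow_val_eq h.hx (u * v).a (u.a.val + v.a.val) (by simp),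
    pow_val_eq h.hy (u * v).b (u.b.val + v.b.val) (by simp),
    pow_val_eq h.hz (u * v).c (u.c.val + v.c.val + u.b.val * v.a.val) (by simp)]
  set ua := u.a.val
  set ub := u.b.val
  set uc := u.c.val
  set va := v.a.val
  set vb := v.b.val
  set vc := v.c.val
  set z := ⁅y, x⁆ with hzdef
  have hcen : ∀ (k : ℕ) (a : G), z ^ k * a = a * z ^ k := fun k a => h.zpow_central k a
  have hBA : y ^ ub * x ^ va = z ^ (ub * va) * x ^ va * y ^ ub := by
    have h1 : ⁅y ^ ub, x ^ va⁆ = z ^ (ub * va) := by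
      rw [h.cl.pow_left (mem_top _) (mem_top _), cl2_pow_right h.cl (mem_top _) (mem_top _), ← pow_mul,
        mul_comm]
    rw [← h1, mul_assoc]
    exact Cl2.swap_id _ _
  symm
  calc x ^ ua * y ^ ub * z ^ uc * (x ^ va * y ^ vb * z ^ vc)
      = x ^ ua * y ^ ub * (z ^ uc * (x ^ va * y ^ vb * z ^ vc)) := by simp only [mul_assoc]
    _ = x ^ ua * y ^ ub * ((x ^ va * y ^ vb * z ^ vc) * z ^ uc) := by rw [hcen uc _]
    _ = x ^ ua * (y ^ ub * x ^ va) * (y ^ vb * (z ^ vc * z ^ uc)) := by simp only [mul_assoc]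
    _ = x ^ ua * (z ^ (ub * va) * x ^ va * y ^ ub) * (y ^ vb * (z ^ vc * z ^ uc)) := by rw [hBA]
    _ = (x ^ ua * z ^ (ub * va)) * (x ^ va * y ^ ub * (y ^ vb * (z ^ vc * z ^ uc))) := by
        simp only [mul_assoc]
    _ = (z ^ (ub * va) * x ^ ua) * (x ^ va * y ^ ub * (y ^ vb * (z ^ vc * z ^ uc))) := by
        rw [hcen (ub * va) _]
    _ = z ^ (ub * va) * (x ^ ua * x ^ va * (y ^ ub * y ^ vb) * (z ^ vc * z ^ uc)) := by
        simp only [mul_assoc]
    _ = (x ^ ua * x ^ va * (y ^ ub * y ^ vb) * (z ^ vc * z ^ uc)) * z ^ (ub * va) := by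
        rw [hcen (ub * va) _]
    _ = x ^ (ua + va) * y ^ (ub + vb) * z ^ (uc + vc + ub * va) := by
        rw [pow_add, pow_add, pow_add, pow_add, pow_mul_comm z vc uc]
        simp only [mul_assoc]

theorem hfun_one : hfun x y (1 : Heis p) = 1 := by
  unfold hfun
  simp

/-- the Heisenberg homomorphism -/
noncomputable def hhom (h : HPair p x y) : Heis p →* G where
  toFun := hfun x y
  map_one' := hfun_one
  map_mul' := h.hfun_mul

theorem hhom_apply (h : HPair p x y) (u : Heis p) :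
    h.hhom u = x ^ u.a.val * y ^ u.b.val * ⁅y, x⁆ ^ u.c.val := rfl

/-- commutator of a value of the Heisenberg map with `y`. -/
theorem comm_hfun_y (h : HPair p x y) (i j k : ℕ) : ⁅x ^ i * y ^ j * ⁅y, x⁆ ^ k, y⁆ = ⁅x, y⁆ ^ i := by
  have t : ∀ g : G, g ∈ (⊤ : Subgroup G) := fun g => mem_top g
  rw [h.cl.mul_left (t _) (t _) (t _), h.cl.mul_left (t _) (t _) (t _), h.cl.pow_left (t _) (t _),
    h.cl.pow_left (t _) (t _)]
  have h1 : ⁅y, y⁆ = 1 := commutatorElement_self y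
  have h2 : ⁅⁅y, x⁆ ^ k, y⁆ = 1 := by
    rw [commutatorElement_eq_one_iff_mul_comm]
    exact h.zpow_central k y
  rw [h1, h2, one_pow, mul_one, mul_one]

theorem comm_hfun_x (h : HPair p x y) (i j k : ℕ) : ⁅x ^ i * y ^ j * ⁅y, x⁆ ^ k, x⁆ = ⁅y, x⁆ ^ j := by
  have t : ∀ g : G, g ∈ (⊤ : Subgroup G) := fun g => mem_top g
  rw [h.cl.mul_left (t _) (t _) (t _), h.cl.mul_left (t _) (t _) (t _), h.cl.pow_left (t _) (t _),
    h.cl.pow_left (t _) (t _)]
  have h1 : ⁅x, x⁆ = 1 := commutatorElement_self x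
  have h2 : ⁅⁅y, x⁆ ^ k, x⁆ = 1 := by
    rw [commutatorElement_eq_one_iff_mul_comm]
    exact h.zpow_central k x
  rw [h1, h2, one_pow, one_mul, mul_one]

/-- a central value of the Heisenberg map is a power of the commutator -/
theorem coords_of_central (h : HPair p x y) (u : Heis p)
    (hc : ∀ g : G, h.hhom u * g = g * h.hhom u) : u.a = 0 ∧ u.b = 0 := by
  have : NeZero p := ⟨(Fact.out : p.Prime).ne_zero⟩
  constructor
  · have h1 : ⁅h.hhom u, y⁆ = 1 := commutatorElement_eq_one_iff_mul_comm.mpr (hc y)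
    rw [hhom_apply, h.comm_hfun_y] at h1
    have := pow_eq_one_of_lt h.comm_xy_pow h.comm_xy_ne (ZMod.val_lt _) h1
    exact (ZMod.val_eq_zero _).mp this
  · have h1 : ⁅h.hhom u, x⁆ = 1 := commutatorElement_eq_one_iff_mul_comm.mpr (hc x)
    rw [hhom_apply, h.comm_hfun_x] at h1
    have := pow_eq_one_of_lt h.hz h.hz1 (ZMod.val_lt _) h1
    exact (ZMod.val_eq_zero _).mp this

/-- first step of the decomposition -/
theorem exists_pow_y (h : HPair p x y) (g : G) :
    ∃ j : ℕ, ((y ^ j)⁻¹ * g) * x = x * ((y ^ j)⁻¹ * g) := by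
  have t : ∀ g : G, g ∈ (⊤ : Subgroup G) := fun g => mem_top g
  obtain ⟨j, -, hj⟩ := exists_nat_pow_of_mem_zpowers h.hz (h.comm_mem g x)
  refine ⟨j, ?_⟩
  rw [← commutatorElement_eq_one_iff_mul_comm, h.cl.mul_left (t _) (t _) (t _), h.cl.inv_left (t _) (t _),
    h.cl.pow_left (t _) (t _), hj, inv_mul_cancel]

/-- second step of the decomposition -/
theorem exists_pow_x (h : HPair p x y) (g : G) (hg : g * x = x * g) :
    ∃ i : ℕ, ((x ^ i)⁻¹ * g) * x = x * ((x ^ i)⁻¹ * g) ∧ ((x ^ i)⁻¹ * g) * y = y * ((x ^ i)⁻¹ * g) := by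
  have t : ∀ g : G, g ∈ (⊤ : Subgroup G) := fun g => mem_top g
  have hmem : ⁅g, y⁆ ∈ zpowers ⁅x, y⁆ := by
    rw [h.comm_xy, zpowers_inv]
    exact h.comm_mem g y
  obtain ⟨i, -, hi⟩ := exists_nat_pow_of_mem_zpowers h.comm_xy_pow hmem
  refine ⟨i, ?_, ?_⟩
  · have h1 : Commute ((x ^ i)⁻¹) x := ((Commute.refl x).pow_left i).inv_left
    have h2 : Commute g x := hg
    exact (h1.mul_left h2).eq
  · rw [← commutatorElement_eq_one_iff_mul_comm, h.cl.mul_left (t _) (t _) (t _), h.cl.inv_left (t _) (t _),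
      h.cl.pow_left (t _) (t _), hi, inv_mul_cancel]

/-- an element commuting with `x` and `y` is central, when the centralizer of `x` is abelian -/
theorem central_of_comm (h : HPair p x y)
    (hCab : ∀ a b : G, a * x = x * a → b * x = x * b → a * b = b * a) (w : G) (hwx : w * x = x * w)
    (hwy : w * y = y * w) (g : G) : w * g = g * w := by
  obtain ⟨j, hj⟩ := h.exists_pow_y g
  have h1 : g = y ^ j * ((y ^ j)⁻¹ * g) := by rw [mul_inv_cancel_left]
  have h2 : Commute w (y ^ j) := (show Commute w y from hwy).pow_right j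
  have h3 : Commute w ((y ^ j)⁻¹ * g) := hCab _ _ hwx hj
  rw [h1]
  exact (h2.mul_right h3).eq

/-- the full decomposition -/
theorem exists_decomp (h : HPair p x y)
    (hCab : ∀ a b : G, a * x = x * a → b * x = x * b → a * b = b * a) (g : G) :
    ∃ (i j : ℕ) (w : G), (∀ k : G, w * k = k * w) ∧ g = x ^ i * y ^ j * w := by
  obtain ⟨j, hj⟩ := h.exists_pow_y g
  obtain ⟨i, hi1, hi2⟩ := h.exists_pow_x _ hj
  set g2 := (x ^ i)⁻¹ * ((y ^ j)⁻¹ * g) with hg2
  have hg2c := h.central_of_comm hCab g2 hi1 hi2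
  have hd : ⁅y ^ j, x ^ i⁆ ∈ zpowers ⁅y, x⁆ := h.comm_mem _ _
  refine ⟨i, j, ⁅y ^ j, x ^ i⁆ * g2, ?_, ?_⟩
  · intro k
    rw [mul_assoc, hg2c k, ← mul_assoc, h.central hd k, mul_assoc]
  · have h1 : g = y ^ j * x ^ i * g2 := by
      rw [hg2]; group
    rw [h1, Cl2.swap_id (y ^ j) (x ^ i), h.central hd (x ^ i * y ^ j)]
    simp only [mul_assoc]

end HPair

end HeisProd

end Cfsg.Agent.Lib.Helper87.GE
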