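import Mathlib
import Cfsg.Agent.Lib.Helper87.GE4b
import Cfsg.Agent.Lib.Helper87.GE2
import Cfsg.Agent.Lib.Helper87.FusionSaturated
import Cfsg.Agent.Lib.Helper53.HeisLike
import Cfsg.Agent.Lib.Helper66.DihedralIso
import Cfsg.Agent.Lib.Helper03.PGroupFrattini

set_option autoImplicit false

/-!
Product decomposition `G ≃ Heis p × A` and its consequences.
-/

namespace Cfsg.Agent.Lib.Helper87.GE

open Subgroup Cfsg.Agent.Lib.Helper16 Cfsg.Agent.Lib.Helper32
open scoped commutatorElement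

section Complement

variable {G : Type*} [Group G] [Finite G] {p : ℕ} [Fact p.Prime]

/-- In a central subgroup of exponent `p`, the cyclic subgroup generated by a nontrivial element has a complement. -/
theorem exists_complement_of_central (Zc : Subgroup G) (hcen : ∀ a ∈ Zc, ∀ g : G, a * g = g * a)
    (hexp : ∀ a ∈ Zc, a ^ p = 1) {z : G} (hz : z ∈ Zc) (hz1 : z ≠ 1) :
    ∃ A : Subgroup G, A ≤ Zc ∧ z ∉ A ∧ ∀ w ∈ Zc, ∃ k : ℕ, ∃ a ∈ A, w = z ^ k * a := by
  have hp : p.Prime := Fact.out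
  obtain ⟨A, ⟨hAZ, hzA⟩, hmax⟩ := Cfsg.Agent.Lib.Helper87.exists_max_nat
    (fun A : Subgroup G => A ≤ Zc ∧ z ∉ A) (fun A => Nat.card A) (Nat.card G)
    ⟨⊥, bot_le, fun h => hz1 (mem_bot.mp h)⟩ (fun A _ => Subgroup.card_le_card_group A)
  refine ⟨A, hAZ, hzA, fun w hw => ?_⟩
  by_cases hwA : w ∈ A
  · exact ⟨0, w, hwA, by simp⟩
  have hnorm : (zpowers w).Normal := by
    refine ⟨fun n hn g => ?_⟩
    obtain ⟨k, rfl⟩ := mem_zpowers_iff.mp hn
    have : g * w ^ k * g⁻¹ = w ^ k := by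
      rw [← hcen _ (Zc.zpow_mem hw k) g, mul_inv_cancel_right]
    rw [this]
    exact zpow_mem (mem_zpowers w) k
  have hlt : A < A ⊔ zpowers w := by
    refine lt_of_le_of_ne le_sup_left (fun h => hwA ?_)
    rw [h]
    exact mem_sup_right (mem_zpowers w)
  have hzmem : z ∈ A ⊔ zpowers w := by
    by_contra hzn
    have h1 := hmax (A ⊔ zpowers w) ⟨sup_le hAZ (zpowers_le.mpr hw), hzn⟩
    have h2 := Cfsg.Agent.Lib.Helper53.card_lt_card_of_lt' hlt
    omega
  obtain ⟨a, ha, v, hv, hav⟩ := mem_sup_of_normal_right.mp hzmem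
  obtain ⟨i, -, rfl⟩ := exists_nat_pow_of_mem_zpowers (hexp w hw) hv
  -- z = a * w ^ i
  have hi : ¬ p ∣ i := by
    rintro ⟨m, rfl⟩
    apply hzA
    rw [← hav, pow_mul, hexp w hw, one_pow, mul_one]
    exact ha
  have hcop : Nat.Coprime i p := (Nat.Coprime.symm ((Nat.Prime.coprime_iff_not_dvd hp).mpr hi))
  -- find j with i * j ≡ 1 mod p
  obtain ⟨j, hj⟩ : ∃ j : ℕ, i * j % p = 1 % p := by
    have := Nat.exists_mul_mod_eq_one_of_coprime hcop hp.one_lt
    obtain ⟨m, -, hm⟩ := this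
    exact ⟨m, by rw [hm, Nat.mod_eq_of_lt hp.one_lt]⟩
  have hwij : w ^ (i * j) = w := by
    rw [← Nat.mod_add_div (i * j) p, pow_add, pow_mul, hexp w hw, one_pow, mul_one, hj,
      Nat.mod_eq_of_lt hp.one_lt, pow_one]
  have hwi : w ^ i = a⁻¹ * z := by rw [← hav, inv_mul_cancel_left]
  have hcomm : Commute (a⁻¹) z := (hcen _ (Zc.inv_mem (hAZ ha)) z)
  refine ⟨j, (a⁻¹) ^ j, A.pow_mem (A.inv_mem ha) j, ?_⟩
  rw [← hwij, pow_mul, hwi, hcomm.mul_pow, (hcomm.pow_pow j j).eq]

end Complement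

section Prod

variable {G : Type*} [Group G] [Finite G] {p : ℕ} [Fact p.Prime] {x y : G}

/-- **Product decomposition.** -/
theorem HPair.exists_prodEquiv (h : HPair p x y)
    (hCab : ∀ a b : G, a * x = x * a → b * x = x * b → a * b = b * a)
    (hCexp : ∀ a : G, a * x = x * a → a ^ p = 1) :
    ∃ A : Subgroup G, (∀ a ∈ A, ∀ g : G, a * g = g * a) ∧ (∀ a ∈ A, a ^ p = 1) ∧
      Nonempty (Heis p × A ≃* G) := by
  have hp : p.Prime := Fact.out
  have : NeZero p := ⟨hp.ne_zero⟩
  set z := ⁅y, x⁆ with hzdef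
  have hzc : z ∈ center G := by
    rw [mem_center_iff]
    intro g
    exact (h.central (mem_zpowers _) g).symm
  have hcen : ∀ a ∈ center G, ∀ g : G, a * g = g * a := fun a ha g => (mem_center_iff.mp ha g).symm
  have hexpc : ∀ a ∈ center G, a ^ p = 1 := fun a ha => hCexp a (hcen a ha x)
  obtain ⟨A, hAZ, hzA, hdec⟩ := exists_complement_of_central (p := p) (center G) hcen hexpc hzc h.hz1
  have hAc : ∀ a ∈ A, ∀ g : G, a * g = g * a := fun a ha g => hcen a (hAZ ha) g
  refine ⟨A, hAc, fun a ha => hexpc a (hAZ ha), ?_⟩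
  let Φ : Heis p × A →* G := MonoidHom.noncommCoprod h.hhom A.subtype
    (fun u a => (hAc a a.2 (h.hhom u)).symm)
  have hΦ : ∀ (u : Heis p) (a : A), Φ (u, a) = h.hhom u * (a : G) := fun u a => rfl
  have hord : orderOf z = p := orderOf_eq_prime h.hz h.hz1
  have hinj : Function.Injective Φ := by
    rw [injective_iff_map_eq_one]
    rintro ⟨u, a⟩ hua
    rw [hΦ] at hua
    have hfu : h.hhom u = (a : G)⁻¹ := eq_inv_of_mul_eq_one_left hua
    have hcu : ∀ g : G, h.hhom u * g = g * h.hhom u := by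
      intro g
      rw [hfu]
      exact hAc _ (A.inv_mem a.2) g
    obtain ⟨hua0, hub0⟩ := h.coords_of_central u hcu
    have hfu2 : h.hhom u = z ^ u.c.val := by
      rw [HPair.hhom_apply, hua0, hub0]
      simp [hzdef]
    have hc0 : u.c.val = 0 := by
      by_contra hne
      have hne1 : z ^ u.c.val ≠ 1 := fun h1 =>
        hne (pow_eq_one_of_lt h.hz h.hz1 (ZMod.val_lt _) h1)
      have hmem : z ∈ zpowers (z ^ u.c.val) :=
        mem_zpowers_of_mem_of_ne_one hord (Subgroup.pow_mem _ (mem_zpowers z) _) hne1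
      apply hzA
      have hle : zpowers (z ^ u.c.val) ≤ A := by
        rw [zpowers_le, ← hfu2, hfu]
        exact A.inv_mem a.2
      exact hle hmem
    have hu1 : u = 1 := by
      ext
      · exact hua0
      · exact hub0
      · exact (ZMod.val_eq_zero _).mp hc0
    have ha1 : (a : G) = 1 := by
      rw [hfu2, hc0, pow_zero, one_mul] at hua
      exact hua
    rw [Prod.mk_eq_one]
    exact ⟨hu1, Subtype.ext ha1⟩
  have hsurj : Function.Surjective Φ := by
    intro g
    obtain ⟨i, j, w, hw, rfl⟩ := h.exists_decomp hCab g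
    have hwc : w ∈ center G := by
      rw [mem_center_iff]
      intro k
      exact (hw k).symm
    obtain ⟨k, a, ha, rfl⟩ := hdec w hwc
    refine ⟨(⟨(i : ZMod p), (j : ZMod p), (k : ZMod p)⟩, ⟨a, ha⟩), ?_⟩
    rw [hΦ, HPair.hhom_apply]
    show x ^ ((i : ZMod p)).val * y ^ ((j : ZMod p)).val * z ^ ((k : ZMod p)).val * a = _
    rw [pow_val_eq h.hx _ i rfl, pow_val_eq h.hy _ j rfl, pow_val_eq h.hz _ k rfl]
    simp only [mul_assoc, hzdef]
  exact ⟨MulEquiv.ofBijective Φ ⟨hinj, hsurj⟩⟩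

end Prod

section Transport

/-- a wrapper of `Fin n` without any algebraic structure -/
structure Box (n : ℕ) : Type where
  val : Fin n

/-- the wrapper is equivalent to `Fin n` -/
def boxEquiv (n : ℕ) : Box n ≃ Fin n where
  toFun := Box.val
  invFun := Box.mk
  left_inv := fun _ => rfl
  right_inv := fun _ => rfl

/-- A finite commutative group of exponent dividing `n` has a copy in `Type`. -/
theorem exists_type0 {H : Type*} [Group H] [Finite H] (hc : ∀ a b : H, a * b = b * a) (n : ℕ)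
    (hn : ∀ a : H, a ^ n = 1) :
    ∃ (A0 : Type) (_ : CommGroup A0), (∀ a : A0, a ^ n = 1) ∧ Nonempty (H ≃* A0) := by
  let e : Box (Nat.card H) ≃ H := (boxEquiv (Nat.card H)).trans (Finite.equivFin H).symm
  letI g0 : Group (Box (Nat.card H)) := e.group
  let e' : Box (Nat.card H) ≃* H := e.mulEquiv
  letI cg : CommGroup (Box (Nat.card H)) :=
    { g0 with
      mul_comm := fun a b => e'.injective (by rw [map_mul, map_mul, hc]) }
  refine ⟨Box (Nat.card H), cg, fun a => ?_, ⟨e'.symm⟩⟩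
  apply e'.injective
  rw [map_pow, hn, map_one]

end Transport

section HeisFacts

variable (p : ℕ) [Fact p.Prime]

/-- the coordinates on the model Heisenberg group -/
def heisData : Cfsg.Agent.Lib.Helper53.HeisData p (Heis p) where
  h := fun a b c => ⟨b, a, c⟩
  h_mul := fun a b c a' b' c' => rfl
  h_inj := fun a b c a' b' c' h => by
    have h1 := congrArg Heis.a h
    have h2 := congrArg Heis.b h
    have h3 := congrArg Heis.c h
    exact ⟨h2, h1, h3⟩
  h_surj := fun u => ⟨u.b, u.a, u.c, rfl⟩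

theorem heis_isExtraspecial : Cfsg.IsExtraspecial p (Heis p) := (heisData p).isExtraspecial

theorem heis_card : Nat.card (Heis p) = p ^ 3 := (heisData p).card_eq

theorem heis_exponent (hp2 : p ≠ 2) : Monoid.exponent (Heis p) = p := (heisData p).exponent_eq hp2

end HeisFacts

section HeisTwo

/-- The Heisenberg group over the field of two elements is dihedral of order eight. -/
theorem heisTwo_equiv : Nonempty (Heis 2 ≃* DihedralGroup 4) := by
  have h2 : (1 : ZMod 2) + 1 = 0 := by decide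
  haveI : Fact (Nat.Prime 2) := ⟨Nat.prime_two⟩
  let x0 : Heis 2 := ⟨1, 0, 0⟩
  let y0 : Heis 2 := ⟨0, 1, 0⟩
  have hx2 : x0 ^ 2 = 1 := by
    rw [sq]; ext <;> simp [x0, h2]
  have hy2 : y0 ^ 2 = 1 := by
    rw [sq]; ext <;> simp [y0, h2]
  have hx1 : x0 ≠ 1 := by
    intro h
    have := congrArg Heis.a h
    simp [x0] at this
  have hy1 : y0 ≠ 1 := by
    intro h
    have := congrArg Heis.b h
    simp [y0] at this
  have hxo : orderOf x0 = 2 := orderOf_eq_prime hx2 hx1
  have hyo : orderOf y0 = 2 := orderOf_eq_prime hy2 hy1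
  have hxy2 : ¬ (x0 * y0) ^ 2 ^ 1 = 1 := by
    intro h
    rw [pow_one, sq] at h
    have := congrArg Heis.c h
    simp [x0, y0] at this
  have hxy4 : (x0 * y0) ^ 2 ^ (1 + 1) = 1 := by
    have : (x0 * y0) ^ 2 ^ (1 + 1) = ((x0 * y0) * (x0 * y0)) * ((x0 * y0) * (x0 * y0)) := by
      norm_num [pow_succ]
      simp only [mul_assoc]
    rw [this]
    ext <;> simp [x0, y0, h2]
  have hxyo : orderOf (x0 * y0) = 4 := by
    have := orderOf_eq_prime_pow hxy2 hxy4
    simpa using this
  have hcard : Nat.card (closure ({x0, y0} : Set (Heis 2))) = 8 := by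
    rw [Cfsg.Agent.Lib.Helper66.card_closure_pair hxo hyo, hxyo]
  have htop : closure ({x0, y0} : Set (Heis 2)) = ⊤ := by
    haveI : Finite (Heis 2) := Nat.finite_of_card_ne_zero (by rw [heis_card 2]; norm_num)
    apply Subgroup.eq_top_of_card_eq
    rw [hcard, heis_card 2]
    norm_num
  have := Cfsg.Agent.Lib.Helper66.nonempty_equiv_dihedral_of_closure_eq_top hxo hyo htop
  rw [hxyo] at this
  exact this

end HeisTwo

end Cfsg.Agent.Lib.Helper87.GE
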