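import Mathlib
import Cfsg.Agent.Lib.Helper87.GE4c

set_option autoImplicit false

/-!
Structure of a generalized extraspecial group containing a noncentral element `z1` of order `p` whose centralizer is
elementary abelian.
-/

namespace Cfsg.Agent.Lib.Helper87.GE

open Subgroup Cfsg.Agent.Lib.Helper16 Cfsg.Agent.Lib.Helper32
open scoped commutatorElement

variable {G : Type*} [Group G] [Finite G] {p : ℕ} [Fact p.Prime]

/-- A normal subgroup of prime order of a finite `p`-group is central. -/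
theorem le_center_of_normal_of_card_prime (hG : IsPGroup p G) (N : Subgroup G) [N.Normal]
    (hN : Nat.card N = p) : N ≤ center G := by
  have hp : p.Prime := Fact.out
  have hNbot : N ≠ ⊥ := by
    intro h
    rw [h, Subgroup.card_bot] at hN
    exact hp.one_lt.ne hN
  obtain ⟨x, hxN, hxZ, hx1⟩ := Cfsg.Agent.Lib.Helper38.normal_inf_center_ne_bot p hG N hNbot
  intro n hn
  obtain ⟨k, rfl⟩ := mem_zpowers_iff.mp (mem_zpowers_of_card_prime hN hxN hx1 hn)
  exact zpow_mem hxZ k

theorem eq_of_ne_one_of_card_two {D : Subgroup G} (hD : Nat.card D = 2) {a b : G} (ha : a ∈ D) (hb : b ∈ D)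
    (ha1 : a ≠ 1) (hb1 : b ≠ 1) : a = b := by
  haveI : Fact (Nat.Prime 2) := ⟨Nat.prime_two⟩
  have h1 := mem_zpowers_of_card_prime (p := 2) hD hb hb1 ha
  obtain ⟨n, hn, rfl⟩ := exists_nat_pow_of_mem_zpowers (p := 2) (pow_eq_one_of_card_prime hD hb) h1
  interval_cases n
  · exact absurd (pow_zero b) ha1
  · exact pow_one b

/-- **Structure theorem.** -/
theorem exists_heis_decomp (hG : IsPGroup p G)
    (hfr : frattini G = commutator G) (hcard : Nat.card (commutator G) = p)
    (z1 x : G) (hz1 : z1 ^ p = 1) (hxz1 : x * z1 ≠ z1 * x)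
    (hCab : ∀ a b : G, a * z1 = z1 * a → b * z1 = z1 * b → a * b = b * a)
    (hCexp : ∀ a : G, a * z1 = z1 * a → a ^ p = 1)
    (hxp : p ≠ 2 → x ^ p = 1) :
    ∃ (A : Type) (_ : CommGroup A), (∀ a : A, a ^ p = 1) ∧ Nonempty (G ≃* Heis p × A) := by
  have hp : p.Prime := Fact.out
  have hDc : commutator G ≤ center G := le_center_of_normal_of_card_prime hG (commutator G) hcard
  have hcomm : ∀ a b : G, ⁅a, b⁆ ∈ commutator G := fun a b => by
    rw [commutator_def]
    exact Subgroup.commutator_mem_commutator (mem_top a) (mem_top b)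
  have hpow : ∀ a : G, a ^ p ∈ commutator G := fun a => by
    rw [← hfr]
    exact Cfsg.Agent.Lib.Helper03.pow_mem_frattini_of_isPGroup hG a
  have hcenD : ∀ d ∈ commutator G, ∀ g : G, d * g = g * d := fun d hd g =>
    (mem_center_iff.mp (hDc hd) g).symm
  have cl0 : Cl2 (⊤ : Subgroup G) (commutator G) :=
    ⟨le_top, fun d hd h _ => hcenD d hd h, fun h _ k _ => hcomm h k⟩
  -- choose `y`
  obtain ⟨y, hyp, hyz1⟩ : ∃ y : G, y ^ p = 1 ∧ y * z1 ≠ z1 * y := by
    by_cases hxp1 : x ^ p = 1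
    · exact ⟨x, hxp1, hxz1⟩
    · have hp2 : p = 2 := by
        by_contra hne
        exact hxp1 (hxp hne)
      subst hp2
      refine ⟨z1 * x, ?_, ?_⟩
      · rw [cl0.mul_pow_formula (mem_top z1) (mem_top x), hz1, one_mul]
        have htri : Cl2.tri 2 = 1 := rfl
        rw [htri, pow_one]
        have hne : ⁅x, z1⁆ ≠ 1 := fun h => hxz1 (commutatorElement_eq_one_iff_mul_comm.mp h)
        have heq : x ^ 2 = ⁅x, z1⁆ :=
          eq_of_ne_one_of_card_two hcard (hpow x) (hcomm x z1) hxp1 hne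
        rw [← heq, ← sq]
        exact pow_eq_one_of_card_prime hcard (hpow x)
      · intro h
        apply hxz1
        have : z1 * (x * z1) = z1 * (z1 * x) := by rw [← mul_assoc, h]
        exact mul_left_cancel this
  have hzne : ⁅y, z1⁆ ≠ 1 := fun h => hyz1 (commutatorElement_eq_one_iff_mul_comm.mp h)
  have hle : zpowers ⁅y, z1⁆ ≤ commutator G := zpowers_le.mpr (hcomm y z1)
  have hpair : HPair p z1 y :=
    { hx := hz1
      hy := hyp
      hz := pow_eq_one_of_card_prime hcard (hcomm y z1)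
      hz1 := hzne
      cl := ⟨le_top, fun d hd h _ => hcenD d (hle hd) h,
        fun h _ k _ => mem_zpowers_of_card_prime hcard (hcomm y z1) hzne (hcomm h k)⟩ }
  obtain ⟨A, hAc, hAexp, ⟨e⟩⟩ := hpair.exists_prodEquiv hCab hCexp
  obtain ⟨A0, cg, hA0, ⟨e0⟩⟩ := exists_type0 (H := ↥A)
    (fun a b => Subtype.ext (hAc a a.2 b)) p (fun a => Subtype.ext (by
      have := hAexp a a.2
      simpa using this))
  exact ⟨A0, cg, hA0, ⟨e.symm.trans (MulEquiv.prodCongr (MulEquiv.refl _) e0)⟩⟩

end Cfsg.Agent.Lib.Helper87.GE
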