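import Mathlib
import Cfsg.Agent.Lib.Helper87.GE2
import Cfsg.Agent.Lib.Helper87.GE3
import Cfsg.Agent.Lib.Helper87.GE4
import Cfsg.Agent.Lib.Helper87.FusionSaturated

set_option autoImplicit false

/-!
Fusion-theoretic part: an essential subgroup contains a strongly closed generalized extraspecial subgroup, unless that
subgroup has a very special structure.
-/

namespace Cfsg.Agent.Lib.Helper87.GE

open Cfsg Cfsg.FusionSystem Cfsg.Agent.Lib.Helper87 Subgroup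
open scoped commutatorElement

variable {Ω : Type*} [Group Ω] {S : Subgroup Ω}

section PGroup

variable {p : ℕ} [Fact p.Prime]

theorem le_normalizer_of_conj_mem {G : Type*} [Group G] {K H : Subgroup G}
    (h : ∀ k ∈ K, ∀ x ∈ H, k * x * k⁻¹ ∈ H) : K ≤ normalizer (H : Set G) := by
  intro k hk
  rw [mem_normalizer_iff]
  intro x
  refine ⟨h k hk x, fun hx => ?_⟩
  have := h k⁻¹ (K.inv_mem hk) _ hx
  simpa [mul_assoc] using this

/-- Normalizers grow in finite `p`-subgroups of an arbitrary group. -/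
theorem exists_mem_normalizer_not_mem {R Q : Subgroup Ω} [Finite Q] (hQ : IsPGroup p Q) (hRQ : R < Q) :
    ∃ y ∈ Q, y ∉ R ∧ y ∈ normalizer (R : Set Ω) := by
  have : Group.IsNilpotent Q := hQ.isNilpotent
  have hnc : NormalizerCondition Q := Group.normalizerCondition_of_isNilpotent
  have hlt : R.subgroupOf Q < ⊤ := by
    rw [lt_top_iff_ne_top, Ne, Subgroup.subgroupOf_eq_top]
    exact not_le_of_gt hRQ
  obtain ⟨hle, hnle⟩ := hnc _ hlt
  obtain ⟨y, hy1, hy2⟩ := SetLike.not_le_iff_exists.1 hnle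
  haveI : Finite R := finite_of_le hRQ.le
  refine ⟨y, y.2, ?_, ?_⟩
  · intro hyP
    exact hy2 (Subgroup.mem_subgroupOf.2 hyP)
  · apply mem_normalizer_of_conj_mem
    intro t ht
    have ht' : (⟨t, hRQ.le ht⟩ : Q) ∈ R.subgroupOf Q := Subgroup.mem_subgroupOf.2 ht
    have := (Subgroup.mem_normalizer_iff.1 hy1 _).1 ht'
    rw [Subgroup.mem_subgroupOf] at this
    simpa using this

/-- If `P` is normalized by `S` and not contained in `R ≤ S`, some element of `P` outside `R` normalizes `R`. -/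
theorem exists_mem_normalizer_of_not_le [Finite S] (hS : IsPGroup p S) {P R : Subgroup Ω} (hPS : P ≤ S)
    (hRS : R ≤ S) (hPn : ∀ s ∈ S, ∀ a ∈ P, s * a * s⁻¹ ∈ P) (hnot : ¬ P ≤ R) :
    ∃ x ∈ P, x ∉ R ∧ x ∈ normalizer (R : Set Ω) := by
  let T : Subgroup Ω :=
    { carrier := {g | ∃ r ∈ R, ∃ a ∈ P, g = r * a}
      one_mem' := ⟨1, R.one_mem, 1, P.one_mem, by simp⟩
      mul_mem' := by
        rintro _ _ ⟨r, hr, a, ha, rfl⟩ ⟨r', hr', a', ha', rfl⟩
        refine ⟨r * r', R.mul_mem hr hr', (r'⁻¹ * a * r'⁻¹⁻¹) * a', P.mul_mem (hPn _ (S.inv_mem (hRS hr')) a ha) ha', ?_⟩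
        group
      inv_mem' := by
        rintro _ ⟨r, hr, a, ha, rfl⟩
        refine ⟨r⁻¹, R.inv_mem hr, r * a⁻¹ * r⁻¹, hPn _ (hRS hr) _ (P.inv_mem ha), ?_⟩
        group }
  have hRT : R ≤ T := fun r hr => ⟨r, hr, 1, P.one_mem, by simp⟩
  have hPT : P ≤ T := fun a ha => ⟨1, R.one_mem, a, ha, by simp⟩
  have hTS : T ≤ S := by
    rintro _ ⟨r, hr, a, ha, rfl⟩
    exact S.mul_mem (hRS hr) (hPS ha)
  have hlt : R < T := lt_of_le_of_ne hRT (fun h => hnot (h ▸ hPT))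
  haveI : Finite T := finite_of_le hTS
  obtain ⟨y, hyT, hyR, hyN⟩ := exists_mem_normalizer_not_mem (hS.to_le hTS) hlt
  obtain ⟨r, hr, a, ha, rfl⟩ := hyT
  refine ⟨a, ha, fun haR => hyR (R.mul_mem hr haR), ?_⟩
  have : a = r⁻¹ * (r * a) := by group
  rw [this]
  exact Subgroup.mul_mem _ (Subgroup.inv_mem _ (le_normalizer hr)) hyN

/-- A subgroup of order `p` of a finite `p`-group `S` that is normalized by `S` is central in `S`. -/
theorem central_of_normalized [Finite S] (hS : IsPGroup p S) {D : Subgroup Ω} (hDS : D ≤ S)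
    (hD : Nat.card D = p) (hn : ∀ s ∈ S, ∀ d ∈ D, s * d * s⁻¹ ∈ D) :
    ∀ s ∈ S, ∀ d ∈ D, s * d = d * s := by
  have hp : p.Prime := Fact.out
  haveI : (D.subgroupOf S).Normal := by
    refine ⟨fun n hn' g => ?_⟩
    rw [mem_subgroupOf] at hn' ⊢
    exact hn g g.2 n hn'
  have hcard : Nat.card (D.subgroupOf S) = p := by
    rw [Nat.card_congr (Subgroup.subgroupOfEquivOfLe hDS).toEquiv, hD]
  have hne : D.subgroupOf S ≠ ⊥ := by
    intro h
    rw [h, Subgroup.card_bot] at hcard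
    exact hp.one_lt.ne hcard
  obtain ⟨x, hxN, hxZ, hx1⟩ := Cfsg.Agent.Lib.Helper38.normal_inf_center_ne_bot p hS (D.subgroupOf S) hne
  intro s hs d hd
  have hdm : (⟨d, hDS hd⟩ : S) ∈ D.subgroupOf S := mem_subgroupOf.mpr hd
  obtain ⟨k, hk⟩ := mem_zpowers_iff.mp (mem_zpowers_of_card_prime hcard hxN hx1 hdm)
  have hc : (⟨d, hDS hd⟩ : S) ∈ center S := by
    rw [← hk]; exact zpow_mem hxZ k
  have := mem_center_iff.mp hc ⟨s, hs⟩
  exact congrArg Subtype.val this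

end PGroup

section Fusion

variable [Finite S] (p : ℕ) [Fact p.Prime] (hS : IsPGroup p S) (F : FusionSystem S) (hF : F.IsSaturated p)

include hS hF in
/-- If `z1 ∈ P ∖ D` is `F`-conjugate to a generator `z` of `D` (central in `S`), then `C_P(z1)` is elementary
abelian. -/
theorem centralizer_elemAb {P D : Subgroup Ω} (hP : F.StronglyClosed P) (hD : Nat.card D = p)
    (hcomm : ∀ a ∈ P, ∀ b ∈ P, ⁅a, b⁆ ∈ D) (hpow : ∀ a ∈ P, a ^ p ∈ D)
    {z z1 : Ω} (hzD : z ∈ D) (hzS : z ∈ S) (hzc : ∀ s ∈ S, s * z = z * s) (hz1P : z1 ∈ P) (hz1D : z1 ∉ D)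
    (φ0 : zpowers z1 →* Ω) (hφ0 : φ0 ∈ F.Hom (zpowers z1)) (hφ0z : φ0 ⟨z1, mem_zpowers z1⟩ = z) :
    (∀ a ∈ P, ∀ b ∈ P, a * z1 = z1 * a → b * z1 = z1 * b → a * b = b * a) ∧
      (∀ a ∈ P, a * z1 = z1 * a → a ^ p = 1) := by
  have hPS := hP.1
  have hrange : φ0.range = zpowers z := by
    ext y
    constructor
    · rintro ⟨q, rfl⟩
      obtain ⟨k, hk⟩ := mem_zpowers_iff.mp q.2
      have : q = (⟨z1, mem_zpowers z1⟩ : zpowers z1) ^ k := Subtype.ext (by simp [hk])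
      rw [this, map_zpow, hφ0z]
      exact zpow_mem (mem_zpowers z) k
    · intro hy
      obtain ⟨k, rfl⟩ := mem_zpowers_iff.mp hy
      exact ⟨(⟨z1, mem_zpowers z1⟩ : zpowers z1) ^ k, by rw [map_zpow, hφ0z]⟩
  have hcS : centralizerIn S (zpowers z) = S := by
    apply le_antisymm inf_le_left
    intro s hs
    refine ⟨hs, mem_centralizer_iff.mpr (fun h hh => ?_)⟩
    obtain ⟨k, rfl⟩ := mem_zpowers_iff.mp hh
    exact ((show Commute s z from hzc s hs).zpow_right k).symm.eq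
  have hfc : F.IsFullyCentralized (zpowers z) := by
    refine ⟨zpowers_le.mpr hzS, fun Q _ => ?_⟩
    rw [hcS]
    exact card_le_of_le (centralizerIn_le S Q)
  have hrec := isReceptive_of_isFullyCentralized p hS F hF _ hfc
  obtain ⟨ψ, hψ, hψext⟩ := hrec.2 (zpowers z1) φ0 hφ0 hrange
  set K : Subgroup Ω := P ⊓ centralizer (zpowers z1 : Set Ω) with hK
  have hKN : K ≤ extender S (zpowers z1) φ0 := fun k hk =>
    centralizerIn_le_extender S (zpowers z1) φ0 ⟨hPS hk.1, hk.2⟩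
  have hψK : ψ.comp (inclusion hKN) ∈ F.Hom K := restrict_mem F hKN hψ
  have hinj := F.injective_of_mem hψK
  have hψKP : ∀ k : K, (ψ.comp (inclusion hKN)) k ∈ P := hP.2 K inf_le_left _ hψK
  have hz1K : z1 ∈ K := by
    refine ⟨hz1P, mem_centralizer_iff.mpr (fun h hh => ?_)⟩
    obtain ⟨k, rfl⟩ := mem_zpowers_iff.mp hh
    exact ((Commute.refl z1).zpow_left k).eq
  have hψz1 : (ψ.comp (inclusion hKN)) ⟨z1, hz1K⟩ = z := by
    show ψ ⟨z1, hKN hz1K⟩ = z
    rw [hψext z1 (mem_zpowers z1) (hKN hz1K)]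
    exact hφ0z
  obtain ⟨hab, hexp⟩ := elemAb_of_injective hD hcomm hpow inf_le_left (ψ.comp (inclusion hKN)) hinj hψKP
    ⟨z1, hz1K⟩ hz1D (by rw [hψz1]; exact hzD)
  have hmemK : ∀ a ∈ P, a * z1 = z1 * a → a ∈ K := by
    intro a ha h
    refine ⟨ha, mem_centralizer_iff.mpr (fun q hq => ?_)⟩
    obtain ⟨k, rfl⟩ := mem_zpowers_iff.mp hq
    exact ((show Commute a z1 from h).zpow_right k).symm.eq
  exact ⟨fun a ha b hb h1 h2 => hab a (hmemK a ha h1) b (hmemK b hb h2),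
    fun a ha h1 => hexp a (hmemK a ha h1)⟩

include hS in
/-- An automorphism in `Aut_F(R)` stabilizing the chain `R ≥ R0 ≥ ⟨z⟩ ≥ 1` lies in `Aut_S(R)` when `R` is fully
automized, `R0` is `Aut_F(R)`-invariant and `z` is central in `S`. -/
theorem stabChain_mem_autInducedBy {R : Subgroup Ω} (hRS : R ≤ S) (hfa : F.IsFullyAutomized p R)
    (R0 : Subgroup R) (hR0 : ∀ α ∈ F.autGroup R, ∀ r ∈ R0, α r ∈ R0) (z' : R) (hzR0 : z' ∈ R0)
    (hzp : orderOf z' = p) (hzc : ∀ s ∈ S, s * (z' : Ω) = z' * s) {β : MulAut R}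
    (hβA : β ∈ F.autGroup R) (hβ : StabChain R0 (zpowers z') (zpowers z') β) :
    β ∈ autInducedBy S R := by
  haveI : Finite R := finite_of_le hRS
  have hRp : IsPGroup p R := hS.to_le hRS
  obtain ⟨-, T, hT⟩ := hfa
  have hWR : zpowers z' ≤ R0 := zpowers_le.mpr hzR0
  set U : Subgroup (MulAut R) := chainStab (R := R) (le_refl (zpowers z')) hWR with hU
  have hU' : IsPGroup p (U.subgroupOf (F.autGroup R)) :=
    (isPGroup_chainStab hRp (le_refl (zpowers z')) hWR).comap_subtype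
  have hnorm : (T : Subgroup (F.autGroup R)) ≤ normalizer (U.subgroupOf (F.autGroup R) : Set (F.autGroup R)) := by
    apply le_normalizer_of_conj_mem
    intro τ hτ u hu
    rw [hT, mem_subgroupOf] at hτ
    obtain ⟨s, hs, hsτ⟩ := mem_autInducedBy_iff.mp hτ
    rw [mem_subgroupOf] at hu ⊢
    have hτz : (τ : MulAut R) z' = z' := by
      apply Subtype.ext
      rw [hsτ, hzc s hs, mul_inv_cancel_right]
    show (τ : MulAut R) * (u : MulAut R) * (τ : MulAut R)⁻¹ ∈ U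
    exact stabChain_conj hzp (hR0 _ τ.2) (hR0 _ (inv_mem τ.2)) (by rw [hτz]; exact mem_zpowers z') hu
  have hsup := hU'.to_sup_of_normal_left' T.isPGroup' hnorm
  have heq := T.is_maximal' hsup le_sup_right
  have hle : U.subgroupOf (F.autGroup R) ≤ (T : Subgroup (F.autGroup R)) := by
    rw [← heq]; exact le_sup_left
  have hβU : (⟨β, hβA⟩ : F.autGroup R) ∈ U.subgroupOf (F.autGroup R) := mem_subgroupOf.mpr hβ
  have := hle hβU
  rw [hT, mem_subgroupOf] at this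
  exact this

/-- Extending an automorphism `d` of a receptive subgroup `R` to an element `x` normalizing `R`. -/
theorem exists_extension_elt {P R : Subgroup Ω} (hP : F.StronglyClosed P) (hRS : R ≤ S)
    (hrec : F.IsReceptive R) {d : MulAut R} (hdA : d ∈ F.autGroup R) {x : Ω} (hxP : x ∈ P)
    (hxN : x ∈ normalizer (R : Set Ω)) (hconj : d * conjAut R x hxN * d⁻¹ ∈ autInducedBy S R) :
    ∃ x1 ∈ P, (∀ r : R, (((d * conjAut R x hxN * d⁻¹) r : R) : Ω) = x1 * r * x1⁻¹) ∧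
      ∀ (n : ℕ) (h : x ^ n ∈ R), x1 ^ n = ((d ⟨x ^ n, h⟩ : R) : Ω) := by
  have hxS := hP.1 hxP
  set φd : R →* Ω := R.subtype.comp d.toMonoidHom with hφd_def
  have hφd : φd ∈ F.Hom R := autGroup_hom_mem F hRS hdA
  have hrange : φd.range = R := by
    ext y
    constructor
    · rintro ⟨r, rfl⟩
      exact (d r).2
    · intro hy
      refine ⟨d.symm ⟨y, hy⟩, ?_⟩
      show ((d (d.symm ⟨y, hy⟩) : R) : Ω) = y
      rw [MulEquiv.apply_symm_apply]
  obtain ⟨ψ, hψ, hψext⟩ := hrec.2 R φd hφd hrange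
  have hRN : R ≤ extender S R φd := le_extender hRS (fun r => hRS (d r).2)
  have hxext : x ∈ extender S R φd := by
    rw [mem_extender_iff]
    refine ⟨hxS, hxN, ?_⟩
    obtain ⟨h, hh, hhα⟩ := mem_autInducedBy_iff.mp hconj
    refine ⟨h, hh, fun r hr => ?_⟩
    have e1 : (d * conjAut R x hxN * d⁻¹) (d r) = d ⟨x * r * x⁻¹, hr⟩ := by
      rw [MulAut.mul_apply, MulAut.mul_apply, MulAut.inv_apply_self]
      rfl
    have := hhα (d r)
    rw [e1] at this
    exact this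
  have hψR : ∀ r : R, ψ ⟨r, hRN r.2⟩ = ((d r : R) : Ω) := fun r => hψext r r.2 (hRN r.2)
  refine ⟨ψ ⟨x, hxext⟩, ?_, ?_, ?_⟩
  · exact hP.2 (P ⊓ extender S R φd) inf_le_left (ψ.comp (inclusion inf_le_right))
      (restrict_mem F inf_le_right hψ) ⟨x, ⟨hxP, hxext⟩⟩
  · intro r
    set r0 := d⁻¹ r with hr0
    have hr : r = d r0 := (MulAut.apply_inv_self _ d r).symm
    have e1 : (d * conjAut R x hxN * d⁻¹) r = d (conjAut R x hxN r0) := by
      rw [MulAut.mul_apply, MulAut.mul_apply]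
    rw [e1, ← hψR]
    have e2 : (⟨((conjAut R x hxN r0 : R) : Ω), hRN (conjAut R x hxN r0).2⟩ : extender S R φd) =
        ⟨x, hxext⟩ * ⟨r0, hRN r0.2⟩ * ⟨x, hxext⟩⁻¹ := Subtype.ext rfl
    rw [e2, map_mul, map_mul, map_inv, hψR r0, ← hr]
  · intro n h
    rw [← hψR ⟨x ^ n, h⟩, ← map_pow]
    congr 1

include hS hF in
/-- **Essential subgroups contain `P`**, unless `P` has the exceptional structure. -/
theorem le_of_isEssential {P D : Subgroup Ω} (hP : F.StronglyClosed P) (hDP : D ≤ P) (hD : Nat.card D = p)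
    (hcomm : ∀ a ∈ P, ∀ b ∈ P, ⁅a, b⁆ ∈ D) (hpow : ∀ a ∈ P, a ^ p ∈ D)
    (hDS : ∀ s ∈ S, ∀ d ∈ D, s * d = d * s)
    (hbad : ∀ z1 x : Ω, z1 ∈ P → x ∈ P → z1 ^ p = 1 → x * z1 ≠ z1 * x →
      (∀ a ∈ P, ∀ b ∈ P, a * z1 = z1 * a → b * z1 = z1 * b → a * b = b * a) →
      (∀ a ∈ P, a * z1 = z1 * a → a ^ p = 1) → (p ≠ 2 → x ^ p = 1) → False)
    {R : Subgroup Ω} (hR : F.IsEssential p R) : P ≤ R := by
  by_contra hnot
  have hp : p.Prime := Fact.out
  obtain ⟨hcen, hfn, hnormal, E, hE⟩ := hR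
  have hRS : R ≤ S := hcen.1
  have hPS := hP.1
  haveI : Finite R := finite_of_le hRS
  have hRp : IsPGroup p R := hS.to_le hRS
  have hPn : ∀ s ∈ S, ∀ a ∈ P, s * a * s⁻¹ ∈ P := by
    intro s hs a ha
    have := hP.2 P le_rfl _ (F.conj_mem hPS hs) ⟨a, ha⟩
    simpa [conjHom] using this
  have hDne : D ≠ ⊥ := by
    intro h
    rw [h, Subgroup.card_bot] at hD
    exact hp.one_lt.ne hD
  obtain ⟨⟨z, hzD⟩, hz1'⟩ := (Subgroup.ne_bot_iff_exists_ne_one).mp hDne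
  have hz1 : z ≠ 1 := fun h => hz1' (Subtype.ext h)
  have hzp : z ^ p = 1 := pow_eq_one_of_card_prime hD hzD
  have hzS : z ∈ S := hPS (hDP hzD)
  have hzc : ∀ s ∈ S, s * z = z * s := fun s hs => hDS s hs z hzD
  have hzR : z ∈ R := hcen.2 R (isConj_refl F hRS)
    ⟨hzS, mem_centralizer_iff.mpr (fun r hr => hzc r (hRS hr))⟩
  have hDz : ∀ d ∈ D, d ∈ zpowers z := fun d hd => mem_zpowers_of_card_prime hD hzD hz1 hd
  obtain ⟨x, hxP, hxR, hxN⟩ := exists_mem_normalizer_of_not_le hS hPS hRS hPn hnot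
  have hxS := hPS hxP
  set t : MulAut R := conjAut R x hxN with ht
  have htS : t ∈ autInducedBy S R := conjAut_mem_autInducedBy hxS hxN
  have htA : t ∈ F.autGroup R := autInducedBy_le_autGroup F hRS htS
  have htp : ∃ k, t ^ p ^ k = 1 := by
    obtain ⟨k, hk⟩ := isPGroup_autInducedBy hS R ⟨t, htS⟩
    exact ⟨k, by simpa using congrArg Subtype.val hk⟩
  have htI : t ∉ Inn R := by
    rintro ⟨r, hr⟩
    apply hxR
    have hc : (r : Ω)⁻¹ * x ∈ centralizerIn S R := by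
      refine ⟨S.mul_mem (S.inv_mem (hRS r.2)) hxS, mem_centralizer_iff.mpr (fun y hy => ?_)⟩
      have h1 : ((MulAut.conj r) ⟨y, hy⟩ : R) = t ⟨y, hy⟩ := by rw [hr]
      have h2 : (r : Ω) * y * (r : Ω)⁻¹ = x * y * x⁻¹ := by
        have h := congrArg Subtype.val h1
        have e : ((t ⟨y, hy⟩ : R) : Ω) = x * y * x⁻¹ := rfl
        rw [e] at h
        simpa [MulAut.conj_apply] using h
      have h3 : x * y = (r : Ω) * y * (r : Ω)⁻¹ * x := by rw [h2]; group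
      calc y * ((r : Ω)⁻¹ * x) = (r : Ω)⁻¹ * ((r : Ω) * y * (r : Ω)⁻¹ * x) := by group
        _ = (r : Ω)⁻¹ * (x * y) := by rw [h3]
        _ = (r : Ω)⁻¹ * x * y := by group
    have hcR := hcen.2 R (isConj_refl F hRS) hc
    have : x = (r : Ω) * ((r : Ω)⁻¹ * x) := by group
    rw [this]
    exact R.mul_mem r.2 hcR
  set R0 : Subgroup R := P.subgroupOf R with hR0def
  have hR0 : ∀ α ∈ F.autGroup R, ∀ r ∈ R0, α r ∈ R0 := by
    intro α hα r hr
    rw [mem_subgroupOf] at hr ⊢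
    have hφ := autGroup_hom_mem F hRS hα
    exact hP.2 (R ⊓ P) inf_le_right _ (restrict_mem F inf_le_left hφ) ⟨r, ⟨r.2, hr⟩⟩
  set z' : R := ⟨z, hzR⟩ with hz'def
  have hzR0 : z' ∈ R0 := mem_subgroupOf.mpr (hDP hzD)
  have hzp' : orderOf z' = p := by
    rw [Subgroup.orderOf_mk]
    exact orderOf_eq_prime hzp hz1
  have hmemz' : ∀ w : R, (w : Ω) ∈ D → w ∈ zpowers z' := by
    intro w hw
    obtain ⟨k, hk⟩ := mem_zpowers_iff.mp (hDz _ hw)
    exact mem_zpowers_iff.mpr ⟨k, Subtype.ext (by simpa using hk)⟩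
  have h1 : Moves t ⊤ R0 := by
    intro r _
    rw [mem_subgroupOf]
    show (r : Ω)⁻¹ * (x * r * x⁻¹) ∈ P
    have := hPn (r : Ω)⁻¹ (S.inv_mem (hRS r.2)) x hxP
    have e : (r : Ω)⁻¹ * (x * r * x⁻¹) = ((r : Ω)⁻¹ * x * (r : Ω)⁻¹⁻¹) * x⁻¹ := by group
    rw [e]
    exact P.mul_mem this (P.inv_mem hxP)
  have h2 : Moves t R0 (zpowers z') := by
    intro r hr
    apply hmemz'
    show (r : Ω)⁻¹ * (x * r * x⁻¹) ∈ D
    have := hcomm _ (P.inv_mem (mem_subgroupOf.mp hr)) x hxP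
    have e : (r : Ω)⁻¹ * (x * r * x⁻¹) = ⁅(r : Ω)⁻¹, x⁆ := by rw [commutatorElement_def]; group
    rw [e]
    exact this
  have h3 : t z' = z' := Subtype.ext (by
    show x * z * x⁻¹ = z
    rw [hzc x hxS, mul_inv_cancel_right])
  haveI := hnormal
  obtain ⟨g, hgA, hg1, hg2, hg3⟩ := exists_moving hRp (F.autGroup R) (Inn R) E hE R0 hR0 z' hzR0 hzp' t htA
    htp htI h1 h2 h3
  set z1' : R := g z' with hz1'def
  set z1 : Ω := (z1' : Ω) with hz1def
  have hz1R0 : z1' ∈ R0 := hR0 g hgA z' hzR0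
  have hz1P : z1 ∈ P := mem_subgroupOf.mp hz1R0
  have hz'p : z' ^ p = 1 := Subtype.ext (by simpa using hzp)
  have hz1'p : z1' ^ p = 1 := by rw [hz1'def, ← map_pow, hz'p, map_one]
  have hz1p : z1 ^ p = 1 := by
    have := congrArg Subtype.val hz1'p
    simpa using this
  have hz1D : z1 ∉ D := fun h => hg1 (hmemz' z1' h)
  have hxz1 : x * z1 ≠ z1 * x := by
    intro h
    apply hg2
    apply Subtype.ext
    show x * z1 * x⁻¹ = z1
    rw [h, mul_inv_cancel_right]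
  have hQ1R : zpowers z1 ≤ R := zpowers_le.mpr z1'.2
  have hginvA : g⁻¹ ∈ F.autGroup R := inv_mem hgA
  set φ0 : zpowers z1 →* Ω := (R.subtype.comp (g⁻¹).toMonoidHom).comp (inclusion hQ1R) with hφ0def
  have hφ0 : φ0 ∈ F.Hom (zpowers z1) := restrict_mem F hQ1R (autGroup_hom_mem F hRS hginvA)
  have hφ0z : φ0 ⟨z1, mem_zpowers z1⟩ = z := by
    show ((g⁻¹ ⟨z1, hQ1R (mem_zpowers z1)⟩ : R) : Ω) = z
    have : (⟨z1, hQ1R (mem_zpowers z1)⟩ : R) = g z' := Subtype.ext rfl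
    rw [this, MulAut.inv_apply_self]
  obtain ⟨hab, hexp⟩ := centralizer_elemAb p hS F hF hP hD hcomm hpow hzD hzS hzc hz1P hz1D φ0 hφ0 hφ0z
  by_cases hp2 : p = 2
  · exact hbad z1 x hz1P hxP hz1p hxz1 hab hexp (fun h => absurd hp2 h)
  have hcomm' : Commute z' z1' := by
    apply Subtype.ext
    show z * z1 = z1 * z
    exact (hzc z1 (hPS hz1P)).symm
  obtain ⟨b, hb⟩ := mem_zpowers_iff.mp (h2 z1' hz1R0)
  have htz1 : t z1' = z1' * z' ^ b := by rw [hb, mul_inv_cancel_left]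
  have hbp : ¬ (p : ℤ) ∣ b := by
    rintro ⟨m, rfl⟩
    apply hg2
    rw [htz1, zpow_mul, zpow_natCast, hz'p, one_zpow, mul_one]
  set v : MulAut R := g * t * g⁻¹ with hvdef
  have hvz1 : v z1' = z1' := by
    show (g * t * g⁻¹) (g z') = g z'
    rw [MulAut.mul_apply, MulAut.mul_apply, MulAut.inv_apply_self, h3]
  set w : R := g⁻¹ z' with hwdef
  have hwR0 : w ∈ R0 := hR0 _ hginvA z' hzR0
  obtain ⟨c, hc⟩ := mem_zpowers_iff.mp (h2 w hwR0)
  have htw : t w = w * z' ^ c := by rw [hc, mul_inv_cancel_left]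
  have hvz : v z' = z' * z1' ^ c := by
    show (g * t * g⁻¹) z' = _
    rw [MulAut.mul_apply, MulAut.mul_apply]
    show g (t w) = _
    rw [htw, map_mul, map_zpow, hwdef, MulAut.apply_inv_self]
  have hcp : ¬ (p : ℤ) ∣ c := by
    rintro ⟨m, rfl⟩
    apply hg3
    rw [hvz, zpow_mul, zpow_natCast, hz1'p, one_zpow, mul_one]
  obtain ⟨d, hd, hdz, hdt⟩ := exists_torus hp2 t v z' z1' hcomm' hz'p hz1'p b c hbp hcp h3 htz1 hvz1 hvz
  have hvA : v ∈ F.autGroup R := mul_mem (mul_mem hgA htA) hginvA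
  have hdA : d ∈ F.autGroup R := by
    have hle : closure ({t, v} : Set (MulAut R)) ≤ F.autGroup R := by
      rw [closure_le]
      rintro _ (rfl | rfl)
      · exact htA
      · exact hvA
    exact hle hd
  have hfnp := fullyNormalized_props p hS F hF R hfn
  have hrecR := isReceptive_of_isFullyCentralized p hS F hF R hfnp.1
  have htchain : StabChain R0 (zpowers z') (zpowers z') t := by
    refine ⟨h1, h2, fun r hr => ?_, fun c hc => ?_⟩
    · obtain ⟨k, rfl⟩ := mem_zpowers_iff.mp hr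
      rw [map_zpow, h3, inv_mul_cancel]
      exact one_mem _
    · obtain ⟨k, rfl⟩ := mem_zpowers_iff.mp hc
      rw [map_zpow, h3]
  have hdchain : StabChain R0 (zpowers z') (zpowers z') (d * t * d⁻¹) :=
    stabChain_conj hzp' (hR0 d hdA) (hR0 d⁻¹ (inv_mem hdA))
      (by rw [hdz]; exact pow_mem (mem_zpowers z') 2) htchain
  have hdS : d * t * d⁻¹ ∈ autInducedBy S R :=
    stabChain_mem_autInducedBy p hS F hRS hfnp.2 R0 hR0 z' hzR0 hzp' (fun s hs => hzc s hs)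
      (mul_mem (mul_mem hdA htA) (inv_mem hdA)) hdchain
  obtain ⟨x1, hx1P, hx1conj, hx1pow⟩ := exists_extension_elt F hP hRS hrecR hdA hxP hxN hdS
  have hcl : Cfsg.Agent.Lib.Helper16.Cl2 P D :=
    ⟨hDP, fun d hd h hh => (hDS h (hPS hh) d hd).symm, hcomm⟩
  have hDp : ∀ d ∈ D, d ^ p = 1 := fun d hd => pow_eq_one_of_card_prime hD hd
  have e1 : x * z1 * x⁻¹ = z1 * z ^ b := congrArg Subtype.val htz1
  have e2 : x1 * z1 * x1⁻¹ = z1 * z ^ (4 * b) := by
    rw [hz1def, ← hx1conj z1', hdt]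
    rfl
  have hxpD : x ^ p ∈ D := hpow x hxP
  obtain ⟨m, hm⟩ := mem_zpowers_iff.mp (hDz _ hxpD)
  have hxpR : x ^ p ∈ R := by
    rw [← hm]
    exact zpow_mem hzR m
  have e3 : x1 ^ p = (x ^ p) ^ 2 := by
    rw [hx1pow p hxpR]
    have : (⟨x ^ p, hxpR⟩ : R) = z' ^ m := Subtype.ext hm.symm
    rw [this, map_zpow, hdz, ← hm]
    simp only [Subgroup.coe_zpow, Subgroup.coe_pow]
    rw [← zpow_natCast, ← zpow_natCast, ← zpow_mul, ← zpow_mul, mul_comm]
  have hxp1 : x ^ p = 1 :=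
    pow_eq_one_of_torus hp2 hcl hDp hpow hxP hx1P hz1P hzD b e1 e2 e3 (fun a ha h => hexp a ha h)
  exact hbad z1 x hz1P hxP hz1p hxz1 hab hexp (fun _ => hxp1)

end Fusion

end Cfsg.Agent.Lib.Helper87.GE
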