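import Cfsg.Agent.Lib.Helper87.CutNormal

set_option autoImplicit false

/-!
Group-theoretic forms of "normal in the fusion system" and "centric in the fusion system" for a
system realized through `ι : S →* G`: both only depend on the group `G`, the image `U` of `ι` and the
image `V` of the subgroup. This gives transport of `IsConstrained` between two realizations with the
same image.
-/

namespace Cfsg.Agent.Lib.Helper87

open Cfsg Cfsg.FusionSystem

section Cond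

variable {G : Type*} [Group G]

/-- `V` is normal in the fusion of `G` on `U`: every conjugation map between subgroups of `U` extends,
to the join with `V`, to a conjugation map that normalizes `V`. -/
def GNormal (U V : Subgroup G) : Prop :=
  V ≤ U ∧ ∀ (P' : Subgroup G) (g : G), P' ≤ U → (∀ y ∈ P', g * y * g⁻¹ ∈ U) →
    ∃ g' : G, (∀ y ∈ P' ⊔ V, g' * y * g'⁻¹ ∈ U) ∧ (∀ y ∈ P', g' * y * g'⁻¹ = g * y * g⁻¹) ∧
      (∀ y ∈ V, g' * y * g'⁻¹ ∈ V) ∧ (∀ y ∈ V, g'⁻¹ * y * g' ∈ V)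

/-- `V` is centric in the fusion of `G` on `U`. -/
def GCentric (U V : Subgroup G) : Prop :=
  V ≤ U ∧ ∀ g : G, (∀ y ∈ V, g * y * g⁻¹ ∈ U) → ∀ u ∈ U,
    (∀ y ∈ V, u * (g * y * g⁻¹) = (g * y * g⁻¹) * u) → ∃ y ∈ V, u = g * y * g⁻¹

end Cond

section Iff

variable {Ω : Type*} [Group Ω] {S : Subgroup Ω} {G : Type*} [Group G] {ι : S →* G}
  (F : FusionSystem S) (hι : F.IsRealizedBy ι)

include hι in
theorem isNormal_iff_gNormal {Q : Subgroup Ω} (hQ : Q ≤ S) :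
    F.IsNormal Q ↔ GNormal ι.range (push ι Q) := by
  have hinj := hι.1
  constructor
  · rintro ⟨-, hN⟩
    refine ⟨push_le_range ι Q, fun P' g hP' hg => ?_⟩
    have hP : pull ι P' ≤ S := pull_le ι P'
    have hpp : push ι (pull ι P') = P' := push_pull ι hP'
    have hcond : ∀ x : pull ι P', g * ι ⟨x, hP x.2⟩ * g⁻¹ ∈ ι.range := fun x =>
      hg _ (mem_pull.mp x.2).2
    have hφ := pullConj_mem_hom F hι (pull ι P') hP g hcond
    obtain ⟨ψ, hψ, hψφ, hψQ⟩ := hN (pull ι P') _ hφ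
    obtain ⟨g', hg'⟩ := exists_conj_of_mem_hom F hι hψ
    have hsup : pull ι P' ⊔ Q ≤ S := sup_le hP hQ
    refine ⟨g', ?_, ?_, ?_, ?_⟩
    · intro y hy
      rw [← hpp, ← push_sup ι hP hQ] at hy
      obtain ⟨s, hs, rfl⟩ := mem_push.mp hy
      have := hg' ⟨s, hs⟩
      rw [← this]
      exact ⟨_, rfl⟩
    · intro y hy
      obtain ⟨hyS, hy'⟩ : ∃ s : S, (s : Ω) ∈ pull ι P' ∧ ι s = y := by
        rw [← hpp] at hy
        exact mem_push.mp hy
      obtain ⟨hs, rfl⟩ := hy'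
      have h1 := hg' (Subgroup.inclusion le_sup_left ⟨hyS, hs⟩)
      have h2 := hψφ ⟨hyS, hs⟩
      have h3 := ι_pullConj ι hinj (pull ι P') hP g hcond ⟨hyS, hs⟩
      have h4 : ι ⟨ψ (Subgroup.inclusion le_sup_left ⟨hyS, hs⟩), hom_mem F hψ _⟩
          = ι ⟨pullConj ι hinj (pull ι P') hP g hcond ⟨hyS, hs⟩,
              pullConj_mem ι hinj (pull ι P') hP g hcond ⟨hyS, hs⟩⟩ := by
        congr 1
        exact Subtype.ext h2
      rw [h4, h3] at h1
      exact h1.symm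
    · intro y hy
      obtain ⟨s, hs, rfl⟩ := mem_push.mp hy
      have hs' : (s : Ω) ∈ pull ι P' ⊔ Q := (le_sup_right : Q ≤ pull ι P' ⊔ Q) hs
      have h1 := hg' ⟨s, hs'⟩
      have hmem : ψ ⟨s, hs'⟩ ∈ Q := by
        have hm : ψ ⟨s, hs'⟩ ∈ (Q.subgroupOf (pull ι P' ⊔ Q)).map ψ :=
          ⟨⟨s, hs'⟩, Subgroup.mem_subgroupOf.mpr hs, rfl⟩
        exact hψQ.le hm
      have : ι s = ι ⟨((⟨s, hs'⟩ : ↥(pull ι P' ⊔ Q)) : Ω), hom_le F hψ hs'⟩ := rfl
      rw [this, ← h1]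
      exact mem_push.mpr ⟨⟨_, hom_mem F hψ _⟩, hmem, rfl⟩
    · intro y hy
      obtain ⟨s, hs, rfl⟩ := mem_push.mp hy
      have hsQ : (s : Ω) ∈ (Q.subgroupOf (pull ι P' ⊔ Q)).map ψ := hψQ.ge hs
      obtain ⟨q₀, hq₀, hq₀s⟩ := hsQ
      have h1 := hg' q₀
      have h5 : ι ⟨ψ q₀, hom_mem F hψ q₀⟩ = ι s := by
        congr 1
        exact Subtype.ext hq₀s
      rw [h5] at h1
      rw [h1]
      have : g'⁻¹ * (g' * ι ⟨q₀, hom_le F hψ q₀.2⟩ * g'⁻¹) * g' = ι ⟨q₀, hom_le F hψ q₀.2⟩ := by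
        group
      rw [this]
      exact mem_push.mpr ⟨_, Subgroup.mem_subgroupOf.mp hq₀, rfl⟩
  · rintro ⟨-, hN⟩
    refine ⟨hQ, fun P φ hφ => ?_⟩
    have hP : P ≤ S := hom_le F hφ
    obtain ⟨g, hg⟩ := exists_conj_of_mem_hom F hι hφ
    have hgU : ∀ y ∈ push ι P, g * y * g⁻¹ ∈ ι.range := by
      intro y hy
      obtain ⟨s, hs, rfl⟩ := mem_push.mp hy
      have := hg ⟨s, hs⟩
      exact ⟨_, this⟩
    obtain ⟨g', hg'U, hg'g, hg'Q, hg'Q'⟩ := hN (push ι P) g (push_le_range ι P) hgU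
    have hsup : P ⊔ Q ≤ S := sup_le hP hQ
    have hcond : ∀ x : ↥(P ⊔ Q), g' * ι ⟨x, hsup x.2⟩ * g'⁻¹ ∈ ι.range := by
      intro x
      apply hg'U
      rw [← push_sup ι hP hQ]
      exact coe_mem_push hsup x
    refine ⟨pullConj ι hinj (P ⊔ Q) hsup g' hcond, pullConj_mem_hom F hι (P ⊔ Q) hsup g' hcond,
      ?_, ?_⟩
    · intro x
      have h1 := ι_pullConj ι hinj (P ⊔ Q) hsup g' hcond (Subgroup.inclusion le_sup_left x)
      have h2 := hg'g _ (coe_mem_push hP x)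
      have h3 := hg x
      have h4 : ι ⟨pullConj ι hinj (P ⊔ Q) hsup g' hcond (Subgroup.inclusion le_sup_left x),
          pullConj_mem ι hinj (P ⊔ Q) hsup g' hcond _⟩ = ι ⟨φ x, hom_mem F hφ x⟩ := by
        rw [h1, h3]
        exact h2
      exact congrArg (fun z : S => (z : Ω)) (hinj h4)
    · ext y
      constructor
      · rintro ⟨x, hx, rfl⟩
        have hxQ : (x : Ω) ∈ Q := Subgroup.mem_subgroupOf.mp hx
        have h1 := ι_pullConj ι hinj (P ⊔ Q) hsup g' hcond x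
        have h2 := hg'Q _ (mem_push.mpr ⟨⟨x, hsup x.2⟩, hxQ, rfl⟩)
        rw [← h1] at h2
        obtain ⟨s, hs, hs'⟩ := mem_push.mp h2
        have := hinj hs'
        rw [this] at hs
        exact hs
      · intro hy
        have h2 := hg'Q' _ (mem_push.mpr ⟨⟨y, hQ hy⟩, hy, rfl⟩)
        obtain ⟨s, hs, hs'⟩ := mem_push.mp h2
        have hsup' : (s : Ω) ∈ P ⊔ Q := (le_sup_right : Q ≤ P ⊔ Q) hs
        refine ⟨⟨s, hsup'⟩, Subgroup.mem_subgroupOf.mpr hs, ?_⟩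
        have h1 := ι_pullConj ι hinj (P ⊔ Q) hsup g' hcond ⟨s, hsup'⟩
        have h3 : ι ⟨((⟨s, hsup'⟩ : ↥(P ⊔ Q)) : Ω), hsup hsup'⟩ = ι s := rfl
        rw [h3, hs'] at h1
        have h4 : g' * (g'⁻¹ * ι ⟨y, hQ hy⟩ * g') * g'⁻¹ = ι ⟨y, hQ hy⟩ := by group
        rw [h4] at h1
        exact congrArg (fun z : S => (z : Ω)) (hinj h1)

include hι in
theorem isCentric_iff_gCentric {Q : Subgroup Ω} (hQ : Q ≤ S) :
    F.IsCentric Q ↔ GCentric ι.range (push ι Q) := by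
  have hinj := hι.1
  constructor
  · rintro ⟨-, hC⟩
    refine ⟨push_le_range ι Q, fun g hg u hu hcomm => ?_⟩
    have hcond : ∀ x : Q, g * ι ⟨x, hQ x.2⟩ * g⁻¹ ∈ ι.range := fun x =>
      hg _ (coe_mem_push hQ x)
    have hφ := pullConj_mem_hom F hι Q hQ g hcond
    have hcen := hC _ ⟨_, hφ, rfl⟩
    obtain ⟨s, rfl⟩ := hu
    have hs : (s : Ω) ∈ centralizerIn S (pullConj ι hinj Q hQ g hcond).range := by
      rw [mem_centralizerIn]
      refine ⟨s.2, ?_⟩
      rintro _ ⟨x, rfl⟩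
      have h1 := ι_pullConj ι hinj Q hQ g hcond x
      have h2 := hcomm _ (coe_mem_push hQ x)
      rw [← h1, ← map_mul, ← map_mul] at h2
      have h3 := hinj h2
      have h4 := congrArg (fun z : S => (z : Ω)) h3
      exact h4.symm
    obtain ⟨x, hx⟩ := hcen hs
    refine ⟨_, coe_mem_push hQ x, ?_⟩
    rw [← ι_pullConj ι hinj Q hQ g hcond x]
    congr 1
    exact Subtype.ext hx.symm
  · rintro ⟨-, hC⟩
    refine ⟨hQ, ?_⟩
    rintro R ⟨φ, hφ, rfl⟩ s hs
    rw [mem_centralizerIn] at hs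
    obtain ⟨g, hg⟩ := exists_conj_of_mem_hom F hι hφ
    have hgU : ∀ y ∈ push ι Q, g * y * g⁻¹ ∈ ι.range := by
      intro y hy
      obtain ⟨t, ht, rfl⟩ := mem_push.mp hy
      exact ⟨_, hg ⟨t, ht⟩⟩
    obtain ⟨y, hy, hyu⟩ := hC g hgU (ι ⟨s, hs.1⟩) ⟨_, rfl⟩ (by
      intro y hy
      obtain ⟨t, ht, rfl⟩ := mem_push.mp hy
      have h1 := hg ⟨t, ht⟩
      have h1' : g * ι t * g⁻¹ = ι ⟨φ ⟨t, ht⟩, hom_mem F hφ _⟩ := h1.symm
      rw [h1', ← map_mul, ← map_mul]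
      congr 1
      apply Subtype.ext
      exact (hs.2 _ ⟨⟨t, ht⟩, rfl⟩).symm)
    obtain ⟨t, ht, rfl⟩ := mem_push.mp hy
    have h1 := hg ⟨t, ht⟩
    have h1' : g * ι t * g⁻¹ = ι ⟨φ ⟨t, ht⟩, hom_mem F hφ _⟩ := h1.symm
    rw [h1'] at hyu
    have h2 := congrArg (fun z : S => (z : Ω)) (hinj hyu)
    exact ⟨⟨t, ht⟩, h2.symm⟩

end Iff

section Transport

variable {Ω : Type*} [Group Ω] {S : Subgroup Ω} {Ω' : Type*} [Group Ω'] {S' : Subgroup Ω'}
  {G : Type*} [Group G] {ι : S →* G} {ι' : S' →* G}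

/-- Two fusion systems realized in the same group with the same image: a normal centric subgroup of
one gives a normal centric subgroup of the other. -/
theorem exists_normal_centric_of_realized (F : FusionSystem S) (F' : FusionSystem S')
    (hι : F.IsRealizedBy ι) (hι' : F'.IsRealizedBy ι') (hr : ι.range = ι'.range)
    (h : ∃ Q : Subgroup Ω, F.IsNormal Q ∧ F.IsCentric Q) :
    ∃ Q' : Subgroup Ω', F'.IsNormal Q' ∧ F'.IsCentric Q' := by
  obtain ⟨Q, hQn, hQc⟩ := h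
  have hQ : Q ≤ S := hQn.1
  have hle : push ι Q ≤ ι'.range := hr ▸ push_le_range ι Q
  have hpp : push ι' (pull ι' (push ι Q)) = push ι Q := push_pull ι' hle
  refine ⟨pull ι' (push ι Q), ?_, ?_⟩
  · rw [isNormal_iff_gNormal F' hι' (pull_le ι' _), hpp, ← hr]
    exact (isNormal_iff_gNormal F hι hQ).mp hQn
  · rw [isCentric_iff_gCentric F' hι' (pull_le ι' _), hpp, ← hr]
    exact (isCentric_iff_gCentric F hι hQ).mp hQc

theorem isConstrained_of_realized [Finite G] (p : ℕ) [Fact p.Prime] (F : FusionSystem S)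
    (F' : FusionSystem S') (hι : F.IsRealizedBy ι) (hι' : F'.IsRealizedBy ι')
    (hr : ι.range = ι'.range) (T : Sylow p G) (hT : (T : Subgroup G) = ι'.range)
    (h : F.IsConstrained p) : F'.IsConstrained p :=
  ⟨isSaturated_of_realized F' hι' T hT, exists_normal_centric_of_realized F F' hι hι' hr h.2⟩

end Transport

section GroupSystem

variable {G : Type*} [Group G]

theorem groupFusionSystem_isRealizedBy (S : Subgroup G) :
    (groupFusionSystem S).IsRealizedBy S.subtype := by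
  refine ⟨Subgroup.subtype_injective S, fun P hP φ hφ => ?_⟩
  constructor
  · rintro ⟨-, -, g, hg⟩
    exact ⟨g, fun x => hg x⟩
  · rintro ⟨g, hg⟩
    exact ⟨hP, hφ, g, fun x => hg x⟩

end GroupSystem

end Cfsg.Agent.Lib.Helper87
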