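import Mathlib
import Cfsg.Agent.Lib.Helper06.Hall4.Defs

/-!
# K-H4 pack (S4221, architect helper6), keystone 422109 (K-H4-CJ2): conjugation invariance
-/

set_option autoImplicit false

namespace Cfsg.Agent.Lib.Helper87.Hall4

open Equiv Cfsg.Agent.Lib.Helper06.Hall4

variable {α : Type*} [Fintype α] [DecidableEq α]

/-- LEAF CJ2 (422109), part 1. -/
theorem nfix_conj (g t : Perm α) : nfix (g * t * g⁻¹) = nfix t := by
  unfold nfix
  have h : Function.fixedPoints (g * t * g⁻¹) = g '' Function.fixedPoints t := by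
    ext p
    simp only [Function.mem_fixedPoints, Function.IsFixedPt, Set.mem_image, Perm.mul_apply]
    constructor
    · intro hp
      refine ⟨g⁻¹ p, ?_, by simp⟩
      have := congrArg (fun q => g⁻¹ q) hp
      simpa using this
    · rintro ⟨q, hq, rfl⟩
      simp [hq]
  rw [h, Set.ncard_image_of_injective _ g.injective]

/-- LEAF CJ2 (422109), part 2. -/
theorem card_Cent_conj (G : Subgroup (Perm α)) {g : Perm α} (hg : g ∈ G) (t : Perm α) :
    Nat.card (Cent G (g * t * g⁻¹)) = Nat.card (Cent G t) := by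
  have h : (Cent G t).map (MulAut.conj g).toMonoidHom = Cent G (g * t * g⁻¹) := by
    ext k
    rw [Subgroup.mem_map, mem_Cent]
    constructor
    · rintro ⟨c, hc, rfl⟩
      rw [mem_Cent] at hc
      simp only [MulEquiv.coe_toMonoidHom, MulAut.conj_apply]
      refine ⟨G.mul_mem (G.mul_mem hg hc.1) (G.inv_mem hg), ?_⟩
      calc g * t * g⁻¹ * (g * c * g⁻¹) = g * (t * c) * g⁻¹ := by group
        _ = g * (c * t) * g⁻¹ := by rw [hc.2]
        _ = g * c * g⁻¹ * (g * t * g⁻¹) := by group
    · rintro ⟨hk, hkc⟩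
      refine ⟨g⁻¹ * k * g, ?_, ?_⟩
      · rw [mem_Cent]
        refine ⟨G.mul_mem (G.mul_mem (G.inv_mem hg) hk) hg, ?_⟩
        calc t * (g⁻¹ * k * g) = g⁻¹ * ((g * t * g⁻¹) * k) * g := by group
          _ = g⁻¹ * (k * (g * t * g⁻¹)) * g := by rw [hkc]
          _ = g⁻¹ * k * g * t := by group
      · simp only [MulEquiv.coe_toMonoidHom, MulAut.conj_apply]
        group
  rw [← h]
  exact Subgroup.card_map_of_injective (MulAut.conj g).injective

end Cfsg.Agent.Lib.Helper87.Hall4
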