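import Mathlib
import Cfsg.Agent.Lib.Helper06.Hall4.Defs

/-!
# K-H4 pack (S4221, architect helper6), keystone 422105 (K-H4-P2): `conj_of_agree`
-/

set_option autoImplicit false

namespace Cfsg.Agent.Lib.Helper87.Hall4

open Equiv Cfsg.Agent.Lib.Helper06.Hall4

variable {α : Type*} [Fintype α] [DecidableEq α]

/-- LEAF P2 (422105). -/
theorem conj_of_agree (G : Subgroup (Perm α)) (hodd : Odd4 G)
    {a b c d : α} (hab : a ≠ b) (hac : a ≠ c) (had : a ≠ d) (hbc : b ≠ c) (hbd : b ≠ d)
    (hcd : c ≠ d) {t t' : Perm α} (ht : t ∈ G) (ht' : t' ∈ G) (t2 : t * t = 1) (t2' : t' * t' = 1)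
    (ha : t' a = t a) (hb : t' b = t b) (hc : t' c = t c) (hd : t' d = t d) :
    ∃ u ∈ FS G {a, b, c, d}, u * t * u⁻¹ = t' ∧
      ∀ v : Perm α, v * t = t * v → v * t' = t' * v → v * u = u * v := by
  have htinv : t⁻¹ = t := inv_eq_of_mul_eq_one_right t2
  have htinv' : t'⁻¹ = t' := inv_eq_of_mul_eq_one_right t2'
  have hfix : ∀ p : α, t' p = t p → (t' * t) p = p := by
    intro p hp
    rw [Perm.mul_apply, ← hp]
    have := congrArg (fun σ : Perm α => σ p) t2'
    simpa using this
  set w := t' * t with hw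
  have hwFS : w ∈ FS G {a, b, c, d} := by
    refine ⟨G.mul_mem ht' ht, ?_⟩
    intro s hs
    simp only [Set.mem_insert_iff, Set.mem_singleton_iff] at hs
    rcases hs with rfl | rfl | rfl | rfl
    · exact hfix _ ha
    · exact hfix _ hb
    · exact hfix _ hc
    · exact hfix _ hd
  have hoddw : Odd (orderOf w) := by
    have hdvd : orderOf w ∣ Nat.card (FS G {a, b, c, d}) := Subgroup.orderOf_dvd_natCard _ hwFS
    exact Odd.of_dvd_nat (hodd a b c d hab hac had hbc hbd hcd) hdvd
  obtain ⟨j, hj⟩ := hoddw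
  set u := w ^ (j + 1) with hu
  have huu : u * u = w := by
    rw [hu, ← pow_add]
    have : j + 1 + (j + 1) = orderOf w + 1 := by omega
    rw [this, pow_succ, pow_orderOf_eq_one, one_mul]
  -- `t` inverts `w`
  have htw : t * w * t⁻¹ = w⁻¹ := by
    rw [hw, mul_inv_rev, htinv, htinv']
    calc t * (t' * t) * t = t * t' * (t * t) := by group
      _ = t * t' := by rw [t2, mul_one]
  have htu : t * u * t⁻¹ = u⁻¹ := by
    rw [hu, ← inv_pow, ← htw, conj_pow]
  refine ⟨u, (FS G {a, b, c, d}).pow_mem hwFS _, ?_, ?_⟩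
  · have h1 : t * u⁻¹ = u * t := by
      have : t * u * t⁻¹ * t = u⁻¹ * t := by rw [htu]
      have h2 : t * u = u⁻¹ * t := by rw [← this]; group
      calc t * u⁻¹ = u * (u⁻¹ * t) * u⁻¹ := by group
        _ = u * (t * u) * u⁻¹ := by rw [h2]
        _ = u * t := by group
    calc u * t * u⁻¹ = u * (t * u⁻¹) := by group
      _ = u * (u * t) := by rw [h1]
      _ = (u * u) * t := by group
      _ = t' * (t * t) := by rw [huu, hw]; group
      _ = t' := by rw [t2, mul_one]
  · intro v hvt hvt'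
    have hvw : Commute v w := by
      have h1 : Commute v t := hvt
      have h2 : Commute v t' := hvt'
      exact h2.mul_right h1
    exact (hvw.pow_right (j + 1)).eq

end Cfsg.Agent.Lib.Helper87.Hall4
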