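import Cfsg.Agent.Lib.Helper90.FusionInvariant
import Cfsg.Agent.Lib.Helper91.FusionInvariant
import Cfsg.Agent.Lib.Helper91.FusionCentricExt

set_option autoImplicit false

/-!
Invariant subsystems over the same `S`: conjugation invariance, `p`-elements of automizers of fully normalized
subgroups, and the Frattini criterion for equality.
-/

namespace Cfsg.Agent.Lib.Helper87

open Cfsg Cfsg.FusionSystem

variable {Ω : Type*} [Group Ω] {S : Subgroup Ω}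

/-- An invariant subsystem over the same `S` is conjugation invariant (in the sense of `Helper91.ConjInvariant`). -/
theorem conjInvariant_of_isInvariantIn {E F : FusionSystem S} (h : E.IsInvariantIn F) :
    Cfsg.Agent.Lib.Helper91.ConjInvariant F E := by
  intro Q φ hφ R hRQ ψ hψ hψQ
  have hQS : Q ≤ S := hom_le F hφ
  obtain ⟨α, hα, φ₀, hφ₀, hφx⟩ := Cfsg.Agent.Lib.Helper90.IsInvariantIn.frattini h hQS hφ
  have hρE : φ₀.comp (Subgroup.inclusion hRQ) ∈ E.Hom R := restrict_mem E hRQ hφ₀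
  obtain ⟨ρi, hρi, hρix, hρir⟩ := inv_mem' E hρE rfl
  have h1 : ∀ y : (φ₀.comp (Subgroup.inclusion hRQ)).range, ρi y ∈ R := fun y => hρir.le ⟨y, rfl⟩
  have hψ₁ : (ψ.comp (ρi.codRestrict R h1)) ∈ E.Hom (φ₀.comp (Subgroup.inclusion hRQ)).range :=
    comp_mem' E hρi hψ h1 (fun y => rfl)
  have h2 : ∀ y : (φ₀.comp (Subgroup.inclusion hRQ)).range, (ψ.comp (ρi.codRestrict R h1)) y ∈ Q :=
    fun y => hψQ _
  have hψ₂ : (φ₀.comp ((ψ.comp (ρi.codRestrict R h1)).codRestrict Q h2)) ∈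
      E.Hom (φ₀.comp (Subgroup.inclusion hRQ)).range :=
    comp_mem' E hψ₁ hφ₀ h2 (fun y => rfl)
  have hrS : (φ₀.comp (Subgroup.inclusion hRQ)).range ≤ S := hom_le E hψ₂
  obtain ⟨χ, hχ, hχx⟩ := Cfsg.Agent.Lib.Helper90.IsInvariantIn.exists_conj h hrS hψ₂ hα
  have heq : (R.subgroupOf Q).map φ =
      Cfsg.Agent.Lib.Helper90.autMap α (φ₀.comp (Subgroup.inclusion hRQ)).range := by
    ext y
    rw [Cfsg.Agent.Lib.Helper90.mem_autMap]
    constructor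
    · rintro ⟨q, hq, rfl⟩
      have hqR : (q : Ω) ∈ R := Subgroup.mem_subgroupOf.mp hq
      refine ⟨⟨φ₀ q, hom_mem E hφ₀ q⟩, ⟨⟨q, hqR⟩, rfl⟩, ?_⟩
      exact (hφx q).symm
    · rintro ⟨t, ⟨r, hr⟩, rfl⟩
      refine ⟨⟨r, hRQ r.2⟩, Subgroup.mem_subgroupOf.mpr r.2, ?_⟩
      rw [hφx]
      congr 2
      exact Subtype.ext hr
  refine ⟨χ.comp (Subgroup.inclusion heq.le), cast_mem E heq hχ, fun x hx => ?_⟩
  have ht : ((⟨φ₀ ⟨x, hRQ x.2⟩, hom_mem E hφ₀ _⟩ : S) : Ω) ∈ (φ₀.comp (Subgroup.inclusion hRQ)).range :=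
    ⟨x, rfl⟩
  have h3 := hχx ⟨φ₀ ⟨x, hRQ x.2⟩, hom_mem E hφ₀ _⟩ ht
  have e1 : (Subgroup.inclusion heq.le ⟨φ ⟨(x : Ω), hRQ x.2⟩, hx⟩ :
      Cfsg.Agent.Lib.Helper90.autMap α (φ₀.comp (Subgroup.inclusion hRQ)).range) =
      ⟨α ⟨φ₀ ⟨x, hRQ x.2⟩, hom_mem E hφ₀ _⟩,
        Cfsg.Agent.Lib.Helper90.apply_mem_autMap α _ ht⟩ := by
    apply Subtype.ext
    exact hφx _
  show χ (Subgroup.inclusion heq.le ⟨φ ⟨(x : Ω), hRQ x.2⟩, hx⟩) = _
  rw [e1, h3, hφx]
  congr 2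
  apply Subtype.ext
  show φ₀ ((ψ.comp (ρi.codRestrict R h1)).codRestrict Q h2 ⟨_, ht⟩) = φ₀ ⟨ψ x, hψQ x⟩
  congr 1
  apply Subtype.ext
  show ψ (ρi.codRestrict R h1 ⟨_, ht⟩) = ψ x
  congr 1
  apply Subtype.ext
  show ρi ⟨_, ht⟩ = (x : Ω)
  exact hρix x ⟨_, ht⟩ rfl

/-- For an invariant subsystem `E` of `F` over the same `S`, `Aut_E(P)` is normalized by `Aut_F(P)`. -/
theorem conj_mem_autGroup_of_isInvariantIn {E F : FusionSystem S} (h : E.IsInvariantIn F)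
    {P : Subgroup Ω} (hP : P ≤ S) {a n : MulAut P} (ha : a ∈ F.autGroup P) (hn : n ∈ E.autGroup P) :
    a * n * a⁻¹ ∈ E.autGroup P :=
  Cfsg.Agent.Lib.Helper91.conj_mem_autGroup_of_conjInvariant F E (conjInvariant_of_isInvariantIn h) hP ha hn

/-- For an invariant subsystem `E` over `S` of a saturated system `F` and a fully normalized subgroup `R`, every
element of `p`-power order of `Aut_F(R)` lies in `Aut_E(R)`. -/
theorem pElement_mem_autGroup_of_isInvariantIn [Finite S] (p : ℕ) [Fact p.Prime] (hS : IsPGroup p S)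
    {E F : FusionSystem S} (hF : F.IsSaturated p) (h : E.IsInvariantIn F) {R : Subgroup Ω}
    (hR : F.IsFullyNormalized R) {a : MulAut R} (ha : a ∈ F.autGroup R) (hp : ∃ k : ℕ, orderOf a = p ^ k) :
    a ∈ E.autGroup R := by
  have hRS : R ≤ S := hR.1
  obtain ⟨-, -, P₀, hP₀⟩ := fullyNormalized_props p hS F hF R hR
  have : Finite (F.autGroup R) := finite_autGroup F hRS
  obtain ⟨k, hk⟩ := hp
  have hzp : IsPGroup p (Subgroup.zpowers (⟨a, ha⟩ : F.autGroup R)) := by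
    have hord : orderOf (⟨a, ha⟩ : F.autGroup R) = p ^ k := by
      rw [← hk]
      exact Subgroup.orderOf_mk a ha
    apply IsPGroup.of_card (n := k)
    rw [Nat.card_zpowers, hord]
  obtain ⟨Q, hQ⟩ := hzp.exists_le_sylow
  obtain ⟨g, hg⟩ := MulAction.exists_smul_eq (F.autGroup R) Q P₀
  have haQ : (⟨a, ha⟩ : F.autGroup R) ∈ Q := hQ (Subgroup.mem_zpowers _)
  have h1 : g * ⟨a, ha⟩ * g⁻¹ ∈ (P₀ : Subgroup (F.autGroup R)) := by
    rw [← hg, Sylow.coe_subgroup_smul]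
    exact Subgroup.smul_mem_pointwise_smul _ (MulAut.conj g) _ haQ
  rw [hP₀, Subgroup.mem_subgroupOf] at h1
  have h2 : (g : MulAut R) * a * (g : MulAut R)⁻¹ ∈ E.autGroup R :=
    autInducedBy_le_autGroup E hRS h1
  have h3 := conj_mem_autGroup_of_isInvariantIn h hRS (Subgroup.inv_mem _ g.2) h2
  have e : (g : MulAut R)⁻¹ * ((g : MulAut R) * a * (g : MulAut R)⁻¹) * ((g : MulAut R)⁻¹)⁻¹ = a := by
    group
  rw [e] at h3
  exact h3

/-- The Frattini criterion: an invariant subsystem `E` of `F` over the same `S` with `Aut_F(S) ≤ Aut_E(S)` contains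
`F`. -/
theorem le_of_isInvariantIn_of_autGroup_le {E F : FusionSystem S} (h : E.IsInvariantIn F)
    (hA : F.autGroup S ≤ E.autGroup S) : F ≤ E := by
  intro P φ hφ
  have hPS : P ≤ S := hom_le F hφ
  obtain ⟨α, hα, φ₀, hφ₀, hφx⟩ := Cfsg.Agent.Lib.Helper90.IsInvariantIn.frattini h hPS hφ
  have hαE := (mem_autGroup_iff E le_rfl).mp (hA hα)
  exact comp_mem' E hφ₀ hαE (fun x => hom_mem E hφ₀ x) (fun x => hφx x)

end Cfsg.Agent.Lib.Helper87
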