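import Cfsg.Agent.Lib.Helper87.FusionSaturated
import Cfsg.Agent.Lib.Helper88.SylowLocal

set_option autoImplicit false

namespace Cfsg.Agent.Lib.Helper87

open Cfsg Cfsg.FusionSystem Cfsg.Agent.Lib.Helper88

/-! ### Relative Sylow subgroups -/

section SylowIn

variable {X : Type*} [Group X] [Finite X] {p : ℕ} [Fact p.Prime]

theorem isSylowIn_iff_card {M A : Subgroup X} (hMA : M ≤ A) :
    IsSylowIn p M A ↔ Nat.card M = p ^ (Nat.card A).factorization p :=
  sylow_subgroupOf_iff_card A M hMA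

theorem IsSylowIn.map_equiv {Y : Type*} [Group Y] [Finite Y] (f : X ≃* Y) {M A : Subgroup X}
    (hMA : M ≤ A) (h : IsSylowIn p M A) :
    IsSylowIn p (M.map f.toMonoidHom) (A.map f.toMonoidHom) := by
  rw [isSylowIn_iff_card (Subgroup.map_mono hMA)]
  rw [isSylowIn_iff_card hMA] at h
  rw [Subgroup.card_map_of_injective f.injective, Subgroup.card_map_of_injective f.injective]
  exact h

theorem IsSylowIn.of_le {M M' A : Subgroup X} (hMA : M ≤ A) (h : IsSylowIn p M A)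
    (hMM' : M ≤ M') (hM'A : M' ≤ A) (hM' : IsPGroup p M') : IsSylowIn p M' A := by
  obtain ⟨T, hT⟩ := h
  have hp : IsPGroup p (M'.subgroupOf A) := hM'.comap_subtype
  apply sylow_of_card_ge T hp
  rw [show Nat.card T = Nat.card (T : Subgroup A) from rfl, hT, card_subgroupOf_eq hMA,
    card_subgroupOf_eq hM'A]
  exact card_le_of_le hMM'

theorem exists_isSylowIn (p : ℕ) [Fact p.Prime] (A : Subgroup X) :
    ∃ T : Subgroup X, T ≤ A ∧ IsSylowIn p T A := by
  obtain ⟨T₀⟩ : Nonempty (Sylow p A) := inferInstance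
  refine ⟨(T₀ : Subgroup A).map A.subtype, ?_, T₀, ?_⟩
  · rintro _ ⟨x, -, rfl⟩
    exact x.2
  · exact (Subgroup.comap_map_eq_self_of_injective (Subgroup.subtype_injective A) _).symm

end SylowIn

/-! ### `K`-normalizers -/

section NormK

variable {Ω : Type*} [Group Ω] {S : Subgroup Ω}

/-- `N^K_S(R)`: the elements of `S` normalizing `R` and inducing on it an automorphism in `K`. -/
def normK (S R : Subgroup Ω) (K : Subgroup (MulAut R)) : Subgroup Ω :=
  S ⊓ ((K.comap (Subgroup.normalizerMonoidHom R)).map (Subgroup.normalizer (R : Set Ω)).subtype)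

theorem mem_normK {R : Subgroup Ω} {K : Subgroup (MulAut R)} {g : Ω} :
    g ∈ normK S R K ↔ g ∈ S ∧ ∃ κ ∈ K, ∀ x : R, ((κ x : R) : Ω) = g * (x : Ω) * g⁻¹ := by
  unfold normK
  constructor
  · rintro ⟨hgS, n, hn, rfl⟩
    exact ⟨hgS, _, hn, fun x => rfl⟩
  · rintro ⟨hgS, κ, hκ, hκx⟩
    refine ⟨hgS, ⟨g, mem_normalizer_of_conj_eq hκx⟩, ?_, rfl⟩
    show Subgroup.normalizerMonoidHom R ⟨g, _⟩ ∈ K
    have : Subgroup.normalizerMonoidHom R ⟨g, mem_normalizer_of_conj_eq hκx⟩ = κ := by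
      ext x
      rw [hκx x]
      rfl
    rw [this]
    exact hκ

theorem normK_le (R : Subgroup Ω) (K : Subgroup (MulAut R)) : normK S R K ≤ S := inf_le_left

theorem normK_le_normalizer (R : Subgroup Ω) (K : Subgroup (MulAut R)) :
    normK S R K ≤ Subgroup.normalizer (R : Set Ω) := by
  intro g hg
  obtain ⟨-, κ, -, hκ⟩ := mem_normK.mp hg
  exact mem_normalizer_of_conj_eq hκ

theorem normK_le_normalizerIn (R : Subgroup Ω) (K : Subgroup (MulAut R)) :
    normK S R K ≤ normalizerIn S R :=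
  le_inf (normK_le R K) (normK_le_normalizer R K)

theorem centralizerIn_le_normK (R : Subgroup Ω) (K : Subgroup (MulAut R)) :
    centralizerIn S R ≤ normK S R K := by
  intro g hg
  rw [mem_centralizerIn] at hg
  refine mem_normK.mpr ⟨hg.1, 1, K.one_mem, fun x => ?_⟩
  have := hg.2 x x.2
  show (x : Ω) = g * x * g⁻¹
  rw [← this]; group

theorem autInducedBy_normK_le (R : Subgroup Ω) (K : Subgroup (MulAut R)) :
    autInducedBy (normK S R K) R ≤ autInducedBy S R ⊓ K := by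
  intro α hα
  obtain ⟨g, hg, hgα⟩ := mem_autInducedBy_iff.mp hα
  obtain ⟨hgS, κ, hκ, hκx⟩ := mem_normK.mp hg
  refine ⟨mem_autInducedBy_iff.mpr ⟨g, hgS, hgα⟩, ?_⟩
  have : α = κ := by
    ext x
    rw [hgα, hκx]
  rw [this]; exact hκ

theorem autInducedBy_inf_le (R : Subgroup Ω) (K : Subgroup (MulAut R)) :
    autInducedBy S R ⊓ K ≤ autInducedBy (normK S R K) R := by
  rintro α ⟨hα, hαK⟩
  obtain ⟨g, hg, hgα⟩ := mem_autInducedBy_iff.mp hα
  exact mem_autInducedBy_iff.mpr ⟨g, mem_normK.mpr ⟨hg, α, hαK, hgα⟩, hgα⟩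

/-- The extender contains every subgroup of `N_S(R')` whose induced automorphisms are carried into `Aut_S(R)`. -/
theorem le_extender_of_congr {R R' N' : Subgroup Ω} (e : R' ≃* R) (hN'S : N' ≤ S)
    (hN'n : N' ≤ Subgroup.normalizer (R' : Set Ω))
    (h : ∀ α ∈ autInducedBy N' R', MulAut.congr e α ∈ autInducedBy S R) :
    N' ≤ extender S R' (R.subtype.comp e.toMonoidHom) := by
  intro g hg
  rw [mem_extender_iff]
  refine ⟨hN'S hg, hN'n hg, ?_⟩
  obtain ⟨k, hk, hkα⟩ := mem_autInducedBy_iff.mp (h _ (conjAut_mem_autInducedBy hg (hN'n hg)))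
  refine ⟨k, hk, fun x hx => ?_⟩
  have := hkα (e x)
  show ((e ⟨g * x * g⁻¹, hx⟩ : R) : Ω) = k * ((e x : R) : Ω) * k⁻¹
  rw [← this]
  congr 1
  simp only [MulAut.congr_apply, MulEquiv.trans_apply, MulEquiv.symm_apply_apply]
  congr 1

end NormK

/-! ### Good pairs `(R, K)` -/

section Good

variable {Ω : Type*} [Group Ω] {S : Subgroup Ω} [Finite S]

/-- `(R, K)` is good: `R` is receptive and `Aut^K_S(R)` is a Sylow `p`-subgroup of `Aut^K_F(R)`. -/
def IsGoodK (F : FusionSystem S) (p : ℕ) (R : Subgroup Ω) (K : Subgroup (MulAut R)) : Prop :=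
  F.IsReceptive R ∧ IsSylowIn p (autInducedBy S R ⊓ K) (F.autGroup R ⊓ K)

theorem congr_trans_aut {R R' : Subgroup Ω} (e : R' ≃* R) (χ : MulAut R) (α : MulAut R') :
    MulAut.congr (e.trans (χ : R ≃* R)) α = χ * MulAut.congr e α * χ⁻¹ := by
  ext y
  simp [MulAut.congr, MulAut.mul_apply, MulAut.inv_apply]

/-- AKO Lemma I.5.2(c). -/
theorem exists_extension_of_isGoodK (p : ℕ) [Fact p.Prime] (hS : IsPGroup p S) (F : FusionSystem S)
    {R R' : Subgroup Ω} (K : Subgroup (MulAut R)) (hgood : IsGoodK F p R K) (e : R' ≃* R)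
    (he : IsFIso F e) :
    ∃ χ ∈ F.autGroup R ⊓ K, ∃ ψ ∈ F.Hom (normK S R' (K.comap (MulAut.congr e).toMonoidHom) ⊔ R'),
      ∀ x : R', ψ (Subgroup.inclusion le_sup_right x) = ((χ (e x) : R) : Ω) := by
  have hRS : R ≤ S := hgood.1.1
  have hR'S : R' ≤ S := hom_le F he
  have : Finite R := finite_of_le hRS
  set K' := K.comap (MulAut.congr e).toMonoidHom with hK'
  set N' := normK S R' K' with hN'
  set B : Subgroup (MulAut R) := (autInducedBy N' R').map (MulAut.congr e).toMonoidHom with hB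
  have hBp : IsPGroup p B := (isPGroup_autInducedBy (hS.to_le (normK_le R' K')) R').map _
  have hBle : B ≤ F.autGroup R ⊓ K := by
    rintro _ ⟨α, hα, rfl⟩
    have h1 := autInducedBy_normK_le R' K' hα
    refine ⟨?_, h1.2⟩
    exact (congr_mem_autGroup_iff F he α).mpr (autInducedBy_le_autGroup F hR'S h1.1)
  obtain ⟨χ, hχ, hχB⟩ := hgood.2.exists_conj_le hBle hBp
  refine ⟨χ, hχ, ?_⟩
  have hχF : IsFIso F (χ : R ≃* R) := (isFIso_iff_mem_autGroup F hRS).mpr hχ.1
  set e' : R' ≃* R := e.trans (χ : R ≃* R) with he'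
  have he'F : IsFIso F e' := IsFIso.trans F he hχF
  have hkey : ∀ α ∈ autInducedBy N' R', MulAut.congr e' α ∈ autInducedBy S R := by
    intro α hα
    rw [he', congr_trans_aut]
    exact (hχB _ ⟨α, hα, rfl⟩).1
  have hle := le_extender_of_congr e' (normK_le R' K') (normK_le_normalizer R' K') hkey
  obtain ⟨φ, hφ, hφψ⟩ := hgood.1.2 R' (R.subtype.comp e'.toMonoidHom) he'F (IsFIso.range_eq e')
  have hR'ext : R' ≤ extender S R' (R.subtype.comp e'.toMonoidHom) :=
    le_extender hR'S (hom_mem F he'F)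
  refine ⟨φ.comp (Subgroup.inclusion (sup_le hle hR'ext)), restrict_mem F _ hφ, fun x => ?_⟩
  exact hφψ x x.2 (hR'ext x.2)

theorem isFullyAutomized_isSylowIn {F : FusionSystem S} {p : ℕ} {P : Subgroup Ω}
    (h : F.IsFullyAutomized p P) : IsSylowIn p (autInducedBy S P) (F.autGroup P) := h.2

/-- Every pair `(R, K)` is `F`-isomorphic to a good pair. -/
theorem exists_isGoodK (p : ℕ) [Fact p.Prime] (hS : IsPGroup p S) (F : FusionSystem S)
    (hF : F.IsSaturated p) {R : Subgroup Ω} (hRS : R ≤ S) (K : Subgroup (MulAut R)) :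
    ∃ (R₁ : Subgroup Ω) (e : R ≃* R₁), IsFIso F e ∧
      IsGoodK F p R₁ (K.map (MulAut.congr e).toMonoidHom) := by
  obtain ⟨R₀, hconj, hfn⟩ := exists_isFullyNormalized F hRS
  obtain ⟨e₀, he₀⟩ := exists_isFIso_of_isConj F hconj
  obtain ⟨hfc, hfa⟩ := fullyNormalized_props p hS F hF R₀ hfn
  have hrec := isReceptive_of_isFullyCentralized p hS F hF R₀ hfc
  have hR₀S : R₀ ≤ S := hfn.1
  have : Finite R₀ := finite_of_le hR₀S
  set K₀ := K.map (MulAut.congr e₀).toMonoidHom with hK₀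
  obtain ⟨T, hTA, hT⟩ := exists_isSylowIn p (F.autGroup R₀ ⊓ K₀)
  have hTp : IsPGroup p T := hT.isPGroup hTA
  obtain ⟨χ, hχ, hχT⟩ := (isFullyAutomized_isSylowIn hfa).exists_conj_le (hTA.trans inf_le_left) hTp
  have hχF : IsFIso F (χ : R₀ ≃* R₀) := (isFIso_iff_mem_autGroup F hR₀S).mpr hχ
  refine ⟨R₀, e₀.trans (χ : R₀ ≃* R₀), IsFIso.trans F he₀ hχF, hrec, ?_⟩
  have hK₁ : K.map (MulAut.congr (e₀.trans (χ : R₀ ≃* R₀))).toMonoidHom =
      K₀.map (MulAut.conj χ).toMonoidHom := by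
    rw [hK₀, Subgroup.map_map]
    congr 1
  rw [hK₁]
  have hA₁ : F.autGroup R₀ ⊓ K₀.map (MulAut.conj χ).toMonoidHom =
      (F.autGroup R₀ ⊓ K₀).map (MulAut.conj χ).toMonoidHom := by
    ext x
    rw [mem_map_conj_iff, Subgroup.mem_inf, Subgroup.mem_inf, mem_map_conj_iff]
    constructor
    · rintro ⟨h1, h2⟩
      exact ⟨(F.autGroup R₀).mul_mem ((F.autGroup R₀).mul_mem ((F.autGroup R₀).inv_mem hχ) h1) hχ, h2⟩
    · rintro ⟨h1, h2⟩
      refine ⟨?_, h2⟩
      have := (F.autGroup R₀).mul_mem ((F.autGroup R₀).mul_mem hχ h1) ((F.autGroup R₀).inv_mem hχ)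
      have e1 : χ * (χ⁻¹ * x * χ) * χ⁻¹ = x := by group
      rwa [e1] at this
  rw [hA₁]
  have hT₁ := IsSylowIn.map_equiv (MulAut.conj χ) hTA hT
  have hT₁le : T.map (MulAut.conj χ).toMonoidHom ≤
      autInducedBy S R₀ ⊓ K₀.map (MulAut.conj χ).toMonoidHom := by
    rintro _ ⟨t, ht, rfl⟩
    exact ⟨hχT t ht, ⟨t, (hTA ht).2, rfl⟩⟩
  refine IsSylowIn.of_le (Subgroup.map_mono hTA) hT₁ hT₁le ?_ ?_
  · rw [← hA₁]
    exact inf_le_inf_right _ (autInducedBy_le_autGroup F hR₀S)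
  · exact (isPGroup_autInducedBy hS R₀).to_le inf_le_left

end Good

end Cfsg.Agent.Lib.Helper87
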