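import Cfsg.Agent.Lib.Helper87.ModelEmbed0
import Cfsg.Agent.Lib.Helper87.FusionNormalizer

set_option autoImplicit false

/-!
The embedding of a "pair normalizer" `N_F(Q) ∩ N_F(R₀)` (`Q ≤ R₀`) into a model of `N_F(R')`, `R'` a conjugate of `R₀`:
basic definitions.
-/

namespace Cfsg.Agent.Lib.Helper87

open Cfsg Cfsg.FusionSystem

variable {Ω : Type*} [Group Ω] {S : Subgroup Ω}

/-- The maps of `F` with source `P` that extend to `P ⊔ R` carrying `R` onto `R` and `Q` onto `Q`. -/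
def pairHom (F : FusionSystem S) (Q R P : Subgroup Ω) : Set (P →* Ω) :=
  {φ | ∃ φ' ∈ F.Hom (P ⊔ R), (∀ x : P, φ' (Subgroup.inclusion le_sup_left x) = φ x) ∧
      (R.subgroupOf (P ⊔ R)).map φ' = R ∧ (Q.subgroupOf (P ⊔ R)).map φ' = Q}

section ConjHom

/-- The map `ψD ∘ φ' ∘ ψA⁻¹` on the image of `ψA`. -/
theorem exists_conj_hom (F : FusionSystem S) {A : Subgroup Ω} {ψA : A →* Ω} (hψA : ψA ∈ F.Hom A)
    {φ' : A →* Ω} (hφ' : φ' ∈ F.Hom A) {D : Subgroup Ω} {ψD : D →* Ω} (hψD : ψD ∈ F.Hom D)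
    (hφ'D : ∀ a, φ' a ∈ D) :
    ∃ χ ∈ F.Hom ψA.range, ∀ (a : A) (hb : ψA a ∈ ψA.range), χ ⟨ψA a, hb⟩ = ψD ⟨φ' a, hφ'D a⟩ := by
  obtain ⟨ψinv, hψinv, hinv, hψinvr⟩ := inv_mem' F hψA rfl
  have hinvA : ∀ y : ↥ψA.range, ψinv y ∈ A := by
    intro y
    have : ψinv y ∈ ψinv.range := ⟨y, rfl⟩
    rw [hψinvr] at this; exact this
  have hχ₁ := F.comp_mem hψinv hφ' hinvA
  have hχ₁D : ∀ y : ↥ψA.range, (φ'.comp (ψinv.codRestrict A hinvA)) y ∈ D := fun y => hφ'D _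
  have hχ := F.comp_mem hχ₁ hψD hχ₁D
  refine ⟨_, hχ, fun a hb => ?_⟩
  have h1 : ψinv ⟨ψA a, hb⟩ = (a : Ω) := hinv a ⟨_, hb⟩ rfl
  show ψD ⟨φ' ⟨ψinv ⟨ψA a, hb⟩, _⟩, _⟩ = _
  congr 1
  apply Subtype.ext
  show φ' ⟨ψinv ⟨ψA a, hb⟩, _⟩ = φ' a
  congr 1
  exact Subtype.ext h1

/-- The map `ψA'⁻¹ ∘ c ∘ ψA` on `A`. -/
theorem exists_conj_hom' (F : FusionSystem S) {A : Subgroup Ω} {ψA : A →* Ω} (hψA : ψA ∈ F.Hom A)
    {c : ↥ψA.range →* Ω} (hc : c ∈ F.Hom ψA.range) {A' : Subgroup Ω} {ψA' : A' →* Ω}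
    (hψA' : ψA' ∈ F.Hom A') (hcA' : ∀ y, c y ∈ ψA'.range) :
    ∃ φ' ∈ F.Hom A, ∀ (a : A) (hb : ψA a ∈ ψA.range) (a' : A'),
      c ⟨ψA a, hb⟩ = ψA' a' → φ' a = (a' : Ω) := by
  obtain ⟨ψinv, hψinv, hinv, -⟩ := inv_mem' F hψA' rfl
  have h1 : ∀ a : A, ψA a ∈ ψA.range := fun a => ⟨a, rfl⟩
  have hχ₁ := F.comp_mem hψA hc h1
  have hχ := F.comp_mem hχ₁ hψinv (fun x => hcA' _)
  refine ⟨_, hχ, fun a hb a' h => ?_⟩
  exact hinv a' ⟨_, hcA' _⟩ h.symm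

end ConjHom

section Emb

variable {R₀ T₀ R' : Subgroup Ω} {L : Type*} [Group L]

/-- The composite `T₀ → N_S(R₀) → N_S(R') → L`. -/
def embHom (hT₀R : T₀ ≤ normalizerIn S R₀) (ψ : ↥(normalizerIn S R₀) →* Ω)
    (hψN : ∀ x, ψ x ∈ normalizerIn S R') (ι' : ↥(normalizerIn S R') →* L) : ↥T₀ →* L :=
  ι'.comp ((ψ.comp (Subgroup.inclusion hT₀R)).codRestrict (normalizerIn S R') (fun x => hψN _))

theorem embHom_apply (hT₀R : T₀ ≤ normalizerIn S R₀) (ψ : ↥(normalizerIn S R₀) →* Ω)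
    (hψN : ∀ x, ψ x ∈ normalizerIn S R') (ι' : ↥(normalizerIn S R') →* L) (t : T₀) :
    embHom hT₀R ψ hψN ι' t = ι' ⟨ψ ⟨t, hT₀R t.2⟩, hψN _⟩ := rfl

theorem embHom_injective (hT₀R : T₀ ≤ normalizerIn S R₀) (ψ : ↥(normalizerIn S R₀) →* Ω)
    (hψN : ∀ x, ψ x ∈ normalizerIn S R') (ι' : ↥(normalizerIn S R') →* L)
    (hψinj : Function.Injective ψ) (hιinj : Function.Injective ι') :
    Function.Injective (embHom hT₀R ψ hψN ι') := by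
  intro a b hab
  rw [embHom_apply, embHom_apply] at hab
  have h1 := hιinj hab
  have h2 : ψ ⟨a, hT₀R a.2⟩ = ψ ⟨b, hT₀R b.2⟩ := congrArg Subtype.val h1
  have h3 := hψinj h2
  exact Subtype.ext (congrArg (fun z : ↥(normalizerIn S R₀) => (z : Ω)) h3)

/-- The image of `R₀` under the embedding is the image of `R'` in the model. -/
theorem map_embHom_eq_push (hRT : R₀ ≤ T₀) (hT₀R : T₀ ≤ normalizerIn S R₀)
    (ψ : ↥(normalizerIn S R₀) →* Ω)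
    (hψN : ∀ x, ψ x ∈ normalizerIn S R') (ι' : ↥(normalizerIn S R') →* L)
    (hψR : (R₀.subgroupOf (normalizerIn S R₀)).map ψ = R') :
    (R₀.subgroupOf T₀).map (embHom hT₀R ψ hψN ι') = push ι' R' := by
  ext y
  rw [mem_push]
  constructor
  · rintro ⟨t, ht, rfl⟩
    refine ⟨⟨ψ ⟨t, hT₀R t.2⟩, hψN _⟩, ?_, rfl⟩
    show ψ ⟨t, hT₀R t.2⟩ ∈ R'
    rw [← hψR]
    exact ⟨⟨t, hT₀R t.2⟩, Subgroup.mem_subgroupOf.mp ht, rfl⟩
  · rintro ⟨s, hs, rfl⟩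
    have hs' : (s : Ω) ∈ (R₀.subgroupOf (normalizerIn S R₀)).map ψ := by rw [hψR]; exact hs
    obtain ⟨r, hr, hrs⟩ := hs'
    have hrR : (r : Ω) ∈ R₀ := Subgroup.mem_subgroupOf.mp hr
    refine ⟨⟨r, hRT hrR⟩, Subgroup.mem_subgroupOf.mpr hrR, ?_⟩
    rw [embHom_apply]
    congr 1
    exact Subtype.ext hrs

/-- The embedding maps `T₀` into the normalizer of the image of `Q`. -/
theorem embHom_mem_normalizer [Finite S] {Q : Subgroup Ω} (hT₀S : T₀ ≤ S)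
    (hT₀Q : T₀ ≤ normalizerIn S Q) (hT₀R : T₀ ≤ normalizerIn S R₀) (ψ : ↥(normalizerIn S R₀) →* Ω)
    (hψN : ∀ x, ψ x ∈ normalizerIn S R') (ι' : ↥(normalizerIn S R') →* L) (t : T₀) :
    embHom hT₀R ψ hψN ι' t ∈
      Subgroup.normalizer ((((Q.subgroupOf T₀).map (embHom hT₀R ψ hψN ι') : Subgroup L)) : Set L) := by
  haveI : Finite T₀ := finite_of_le hT₀S
  haveI : Finite ↥((Q.subgroupOf T₀).map (embHom hT₀R ψ hψN ι')) := by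
    have : Finite ↥(Q.subgroupOf T₀) := inferInstance
    exact Finite.of_surjective (fun x : ↥(Q.subgroupOf T₀) =>
      (⟨embHom hT₀R ψ hψN ι' x, ⟨x, x.2, rfl⟩⟩ : ↥((Q.subgroupOf T₀).map (embHom hT₀R ψ hψN ι'))))
      (by rintro ⟨_, x, hx, rfl⟩; exact ⟨⟨x, hx⟩, rfl⟩)
  apply mem_normalizer_of_conj_mem
  rintro _ ⟨q, hq, rfl⟩
  refine ⟨t * q * t⁻¹, ?_, by simp⟩
  have hq' : (q : Ω) ∈ Q := Subgroup.mem_subgroupOf.mp hq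
  show t * q * t⁻¹ ∈ Q.subgroupOf T₀
  rw [Subgroup.mem_subgroupOf]
  have := (hT₀Q t.2).2
  exact (Subgroup.mem_normalizer_iff.mp this _).mp hq'

end Emb

end Cfsg.Agent.Lib.Helper87
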