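import Cfsg.Agent.Lib.Helper87.ModelEmbed1

set_option autoImplicit false

/-!
The embedding of a pair normalizer into a model: realization, forward direction.
-/

namespace Cfsg.Agent.Lib.Helper87

open Cfsg Cfsg.FusionSystem

variable {Ω : Type*} [Group Ω] {S : Subgroup Ω}

theorem emb_realizes_mp [Finite S] (F : FusionSystem S)
    {Q R₀ T₀ R' : Subgroup Ω} {L : Type*} [Group L]
    (hQR : Q ≤ R₀) (hRT : R₀ ≤ T₀) (hT₀S : T₀ ≤ S) (hT₀R : T₀ ≤ normalizerIn S R₀)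
    (ψ : ↥(normalizerIn S R₀) →* Ω) (hψ : ψ ∈ F.Hom (normalizerIn S R₀))
    (hψN : ∀ x, ψ x ∈ normalizerIn S R')
    (hψR : (R₀.subgroupOf (normalizerIn S R₀)).map ψ = R')
    (N : FusionSystem (normalizerIn S R')) (hN : F.IsNormalizerSystem R' N)
    (ι' : ↥(normalizerIn S R') →* L) (hreal : N.IsRealizedBy ι')
    {P : Subgroup Ω} (hP : P ≤ T₀) (φ : P →* Ω) (hφT : ∀ x : P, φ x ∈ T₀)
    (hφ : φ ∈ pairHom F Q R₀ P) :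
    ∃ g : L, g ∈ Subgroup.normalizer
        ((((Q.subgroupOf T₀).map (embHom hT₀R ψ hψN ι') : Subgroup L)) : Set L) ∧
      ∀ x : P, embHom hT₀R ψ hψN ι' ⟨φ x, hφT x⟩ =
        g * embHom hT₀R ψ hψN ι' ⟨x, hP x.2⟩ * g⁻¹ := by
  obtain ⟨φ', hφ', hext, hR, hQ⟩ := hφ
  haveI : Finite T₀ := finite_of_le hT₀S
  have hA : P ⊔ R₀ ≤ T₀ := sup_le hP hRT
  have hANR : P ⊔ R₀ ≤ normalizerIn S R₀ := hA.trans hT₀R
  -- `ψ` restricted to `A = P ⊔ R₀`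
  have hψA := restrict_mem F hANR hψ
  -- values of `φ'`
  have hφ'R : ∀ a : ↥(P ⊔ R₀), (a : Ω) ∈ R₀ → φ' a ∈ R₀ := by
    intro a ha
    have : φ' a ∈ (R₀.subgroupOf (P ⊔ R₀)).map φ' := ⟨a, Subgroup.mem_subgroupOf.mpr ha, rfl⟩
    rw [hR] at this; exact this
  have hφ'Q : ∀ a : ↥(P ⊔ R₀), (a : Ω) ∈ Q → φ' a ∈ Q := by
    intro a ha
    have : φ' a ∈ (Q.subgroupOf (P ⊔ R₀)).map φ' := ⟨a, Subgroup.mem_subgroupOf.mpr ha, rfl⟩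
    rw [hQ] at this; exact this
  have hφ'T : ∀ a : ↥(P ⊔ R₀), φ' a ∈ T₀ := by
    apply sup_hom_mem φ'
    · intro x; rw [hext]; exact hφT x
    · intro r; exact hRT (hφ'R _ r.2)
  have hφ'N : ∀ a : ↥(P ⊔ R₀), φ' a ∈ normalizerIn S R₀ := fun a => hT₀R (hφ'T a)
  -- the map `χ = ψ ∘ φ' ∘ ψ⁻¹` on `B = ψ(A)`
  obtain ⟨χ, hχ, hχψ⟩ := exists_conj_hom F hψA hφ' hψ hφ'N
  generalize hB : (ψ.comp (Subgroup.inclusion hANR)).range = B at χ hχ hχψ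
  have hmemB : ∀ a : ↥(P ⊔ R₀), ψ ⟨a, hANR a.2⟩ ∈ B := fun a => by rw [← hB]; exact ⟨a, rfl⟩
  have hχψ' : ∀ a : ↥(P ⊔ R₀), χ ⟨ψ ⟨a, hANR a.2⟩, hmemB a⟩ = ψ ⟨φ' a, hφ'N a⟩ :=
    fun a => hχψ a (hmemB a)
  clear hχψ
  have hBN : B ≤ normalizerIn S R' := by
    rw [← hB]
    rintro _ ⟨a, rfl⟩
    exact hψN _
  have hR'B : R' ≤ B := by
    intro y hy
    rw [← hψR] at hy
    obtain ⟨r, hr, rfl⟩ := hy
    have hrR : (r : Ω) ∈ R₀ := Subgroup.mem_subgroupOf.mp hr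
    exact hmemB ⟨r, (le_sup_right : R₀ ≤ P ⊔ R₀) hrR⟩
  have hBψ : ∀ y : ↥B, ∃ a : ↥(P ⊔ R₀), (y : Ω) = ψ ⟨a, hANR a.2⟩ := by
    intro y
    have hy : (y : Ω) ∈ (ψ.comp (Subgroup.inclusion hANR)).range := by rw [hB]; exact y.2
    obtain ⟨a, ha⟩ := hy
    exact ⟨a, ha.symm⟩
  have hχN : ∀ y : ↥B, χ y ∈ normalizerIn S R' := by
    intro y
    obtain ⟨a, ha⟩ := hBψ y
    have e : y = ⟨ψ ⟨a, hANR a.2⟩, hmemB a⟩ := Subtype.ext ha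
    rw [e, hχψ']
    exact hψN _
  have hχR' : ∀ y : ↥B, (y : Ω) ∈ R' → χ y ∈ R' := by
    intro y hy
    have hy' := hy
    rw [← hψR] at hy'
    obtain ⟨r, hr, hry⟩ := hy'
    have hrR : (r : Ω) ∈ R₀ := Subgroup.mem_subgroupOf.mp hr
    have hrA : (r : Ω) ∈ P ⊔ R₀ := (le_sup_right : R₀ ≤ P ⊔ R₀) hrR
    have e : y = ⟨ψ ⟨((⟨r, hrA⟩ : ↥(P ⊔ R₀)) : Ω), hANR hrA⟩, hmemB ⟨r, hrA⟩⟩ :=
      Subtype.ext hry.symm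
    rw [e, hχψ']
    rw [← hψR]
    exact ⟨_, Subgroup.mem_subgroupOf.mpr (hφ'R _ hrR), rfl⟩
  -- `χ` is a map of `N`
  have hχmem : χ ∈ N.Hom B := by
    rw [hN B]
    have hle : B ⊔ R' ≤ B := sup_le le_rfl hR'B
    haveI : Finite R' := finite_of_le (hR'B.trans (hBN.trans (normalizerIn_le S R')))
    refine ⟨hχ, hBN, hχN, χ.comp (Subgroup.inclusion hle), restrict_mem F hle hχ, fun x => rfl, ?_⟩
    apply map_subgroupOf_eq_of_forall_mem le_sup_right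
    · exact F.injective_of_mem (restrict_mem F hle hχ)
    · intro x hx
      exact hχR' _ hx
  obtain ⟨g, hg⟩ := exists_conj_of_mem_hom N hreal hχmem
  refine ⟨g, ?_, ?_⟩
  · haveI : Finite ↥((Q.subgroupOf T₀).map (embHom hT₀R ψ hψN ι')) := by
      exact Finite.of_surjective (fun x : ↥(Q.subgroupOf T₀) =>
        (⟨embHom hT₀R ψ hψN ι' x, ⟨x, x.2, rfl⟩⟩ :
          ↥((Q.subgroupOf T₀).map (embHom hT₀R ψ hψN ι'))))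
        (by rintro ⟨_, x, hx, rfl⟩; exact ⟨⟨x, hx⟩, rfl⟩)
    apply mem_normalizer_of_conj_mem
    rintro _ ⟨q, hq, rfl⟩
    have hqQ : (q : Ω) ∈ Q := Subgroup.mem_subgroupOf.mp hq
    have hqA : (q : Ω) ∈ P ⊔ R₀ := (le_sup_right : R₀ ≤ P ⊔ R₀) (hQR hqQ)
    have h1 := hg ⟨ψ ⟨((⟨q, hqA⟩ : ↥(P ⊔ R₀)) : Ω), hANR hqA⟩, hmemB ⟨q, hqA⟩⟩
    refine ⟨⟨φ' ⟨q, hqA⟩, hφ'T _⟩, Subgroup.mem_subgroupOf.mpr (hφ'Q _ hqQ), ?_⟩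
    rw [embHom_apply, embHom_apply]
    rw [← h1]
    congr 1
    apply Subtype.ext
    exact (hχψ' ⟨q, hqA⟩).symm
  · intro x
    have hxA : (x : Ω) ∈ P ⊔ R₀ := (le_sup_left : P ≤ P ⊔ R₀) x.2
    have h1 := hg ⟨ψ ⟨((⟨x, hxA⟩ : ↥(P ⊔ R₀)) : Ω), hANR hxA⟩, hmemB ⟨x, hxA⟩⟩
    rw [embHom_apply, embHom_apply]
    have e1 : ι' ⟨ψ ⟨φ x, hT₀R (hφT x)⟩, hψN _⟩ =
        ι' ⟨χ ⟨ψ ⟨((⟨x, hxA⟩ : ↥(P ⊔ R₀)) : Ω), hANR hxA⟩, hmemB ⟨x, hxA⟩⟩,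
          hom_mem N hχmem _⟩ := by
      congr 1
      apply Subtype.ext
      show ψ ⟨φ x, hT₀R (hφT x)⟩ = χ ⟨ψ ⟨((⟨x, hxA⟩ : ↥(P ⊔ R₀)) : Ω), hANR hxA⟩, hmemB ⟨x, hxA⟩⟩
      rw [hχψ']
      congr 1
      apply Subtype.ext
      exact (hext x).symm
    rw [e1, h1]

end Cfsg.Agent.Lib.Helper87
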