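import Cfsg.Agent.Lib.Helper87.ModelEmbed1

set_option autoImplicit false

/-!
The embedding of a pair normalizer into a model: realization, backward direction.
-/

namespace Cfsg.Agent.Lib.Helper87

open Cfsg Cfsg.FusionSystem

variable {Ω : Type*} [Group Ω] {S : Subgroup Ω}

theorem emb_realizes_mpr [Finite S] (F : FusionSystem S)
    {Q R₀ T₀ R' : Subgroup Ω} {L : Type*} [Group L]
    (hQR : Q ≤ R₀) (hRT : R₀ ≤ T₀) (hT₀S : T₀ ≤ S) (hT₀R : T₀ ≤ normalizerIn S R₀)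
    (ψ : ↥(normalizerIn S R₀) →* Ω) (hψ : ψ ∈ F.Hom (normalizerIn S R₀))
    (hψN : ∀ x, ψ x ∈ normalizerIn S R')
    (hψR : (R₀.subgroupOf (normalizerIn S R₀)).map ψ = R')
    (N : FusionSystem (normalizerIn S R')) (hN : F.IsNormalizerSystem R' N)
    (ι' : ↥(normalizerIn S R') →* L) (hreal : N.IsRealizedBy ι')
    (hpushn : (push ι' R').Normal)
    {P : Subgroup Ω} (hP : P ≤ T₀) (φ : P →* Ω) (hφT : ∀ x : P, φ x ∈ T₀)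
    (g : L) (hgH : g ∈ Subgroup.normalizer
        ((((Q.subgroupOf T₀).map (embHom hT₀R ψ hψN ι') : Subgroup L)) : Set L))
    (hg : ∀ x : P, embHom hT₀R ψ hψN ι' ⟨φ x, hφT x⟩ =
        g * embHom hT₀R ψ hψN ι' ⟨x, hP x.2⟩ * g⁻¹) :
    φ ∈ pairHom F Q R₀ P := by
  have hinj := hreal.1
  have hψinj : Function.Injective ψ := F.injective_of_mem hψ
  have hA : P ⊔ R₀ ≤ T₀ := sup_le hP hRT
  have hANR : P ⊔ R₀ ≤ normalizerIn S R₀ := hA.trans hT₀R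
  have hψA := restrict_mem F hANR hψ
  have hRL := map_embHom_eq_push hRT hT₀R ψ hψN ι' hψR
  -- conjugation by `g` maps `emb(A)` into the image of `ι'`
  have hconjR : ∀ r : T₀, (r : Ω) ∈ R₀ → g * embHom hT₀R ψ hψN ι' r * g⁻¹ ∈ push ι' R' := by
    intro r hr
    have : embHom hT₀R ψ hψN ι' r ∈ push ι' R' := by
      rw [← hRL]; exact ⟨r, Subgroup.mem_subgroupOf.mpr hr, rfl⟩
    exact hpushn.conj_mem _ this g
  have hconjA : ∀ a : ↥(P ⊔ R₀), g * embHom hT₀R ψ hψN ι' ⟨a, hA a.2⟩ * g⁻¹ ∈ ι'.range := by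
    intro a
    have hle : P ⊔ R₀ ≤ ((ι'.range.comap
        ((MulAut.conj g).toMonoidHom.comp (embHom hT₀R ψ hψN ι')))).map T₀.subtype := by
      apply sup_le
      · intro x hx
        refine ⟨⟨x, hP hx⟩, ?_, rfl⟩
        show g * embHom hT₀R ψ hψN ι' ⟨x, hP hx⟩ * g⁻¹ ∈ ι'.range
        rw [← hg ⟨x, hx⟩]
        exact ⟨_, rfl⟩
      · intro r hr
        refine ⟨⟨r, hRT hr⟩, ?_, rfl⟩
        exact push_le_range ι' R' (hconjR ⟨r, hRT hr⟩ hr)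
    obtain ⟨t, ht, hta⟩ := hle a.2
    have : t = ⟨a, hA a.2⟩ := Subtype.ext hta
    rw [← this]; exact ht
  -- the range `B` of `ψ` on `A`
  have hBN : (ψ.comp (Subgroup.inclusion hANR)).range ≤ normalizerIn S R' := by
    rintro _ ⟨a, rfl⟩
    exact hψN _
  have hh : ∀ y : ↥(ψ.comp (Subgroup.inclusion hANR)).range,
      g * ι' ⟨y, hBN y.2⟩ * g⁻¹ ∈ ι'.range := by
    rintro ⟨_, a, rfl⟩
    exact hconjA a
  have hcN := pullConj_mem_hom N hreal _ hBN g hh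
  have hcF : pullConj ι' hinj _ hBN g hh ∈ F.Hom (ψ.comp (Subgroup.inclusion hANR)).range := by
    rw [hN] at hcN; exact hcN.1
  have hcι : ∀ (y : ↥(ψ.comp (Subgroup.inclusion hANR)).range)
      (hc : pullConj ι' hinj _ hBN g hh y ∈ normalizerIn S R'),
      ι' ⟨pullConj ι' hinj _ hBN g hh y, hc⟩ = g * ι' ⟨y, hBN y.2⟩ * g⁻¹ :=
    fun y hc => ι_pullConj ι' hinj _ hBN g hh y
  generalize pullConj ι' hinj _ hBN g hh = c at hcN hcF hcι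
  have hcι' : ∀ (a : ↥(P ⊔ R₀)) (hb : ψ ⟨a, hANR a.2⟩ ∈ (ψ.comp (Subgroup.inclusion hANR)).range)
      (hc : c ⟨ψ ⟨a, hANR a.2⟩, hb⟩ ∈ normalizerIn S R'),
      ι' ⟨c ⟨ψ ⟨a, hANR a.2⟩, hb⟩, hc⟩ = g * embHom hT₀R ψ hψN ι' ⟨a, hA a.2⟩ * g⁻¹ := by
    intro a hb hc
    exact hcι ⟨ψ ⟨a, hANR a.2⟩, hb⟩ hc
  have hcN' : ∀ y, c y ∈ normalizerIn S R' := fun y => hom_mem N hcN y
  -- the target `A' = φ(P) ⊔ R₀`
  have hA' : φ.range ⊔ R₀ ≤ T₀ := by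
    apply sup_le _ hRT
    rintro _ ⟨x, rfl⟩
    exact hφT x
  have hA'NR : φ.range ⊔ R₀ ≤ normalizerIn S R₀ := hA'.trans hT₀R
  have hψA' := restrict_mem F hA'NR hψ
  -- values of `c ∘ ψ`
  have hcP : ∀ (x : P) (hb : ψ ⟨x, hT₀R (hP x.2)⟩ ∈ (ψ.comp (Subgroup.inclusion hANR)).range),
      c ⟨ψ ⟨x, hT₀R (hP x.2)⟩, hb⟩ = ψ ⟨φ x, hT₀R (hφT x)⟩ := by
    intro x hb
    have h1 := hcι' ⟨x, (le_sup_left : P ≤ P ⊔ R₀) x.2⟩ hb (hcN' _)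
    have h2 := hg x
    rw [embHom_apply] at h2
    have h3 : ι' ⟨c ⟨ψ ⟨x, hT₀R (hP x.2)⟩, hb⟩, hcN' _⟩ = ι' ⟨ψ ⟨φ x, hT₀R (hφT x)⟩, hψN _⟩ :=
      h1.trans h2.symm
    exact congrArg Subtype.val (hinj h3)
  have hcR : ∀ (r : Ω) (hr : r ∈ R₀)
      (hb : ψ ⟨r, hT₀R (hRT hr)⟩ ∈ (ψ.comp (Subgroup.inclusion hANR)).range),
      ∃ r' : Ω, ∃ hr' : r' ∈ R₀, c ⟨ψ ⟨r, hT₀R (hRT hr)⟩, hb⟩ = ψ ⟨r', hT₀R (hRT hr')⟩ := by
    intro r hr hb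
    have h1 := hcι' ⟨r, (le_sup_right : R₀ ≤ P ⊔ R₀) hr⟩ hb (hcN' _)
    have h2 := hconjR ⟨r, hRT hr⟩ hr
    rw [← hRL] at h2
    obtain ⟨t, ht, hte⟩ := h2
    have htR : (t : Ω) ∈ R₀ := Subgroup.mem_subgroupOf.mp ht
    refine ⟨t, htR, ?_⟩
    rw [embHom_apply] at hte
    have h3 : ι' ⟨c ⟨ψ ⟨r, hT₀R (hRT hr)⟩, hb⟩, hcN' _⟩ = ι' ⟨ψ ⟨t, hT₀R t.2⟩, hψN _⟩ :=
      h1.trans hte.symm
    exact congrArg Subtype.val (hinj h3)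
  have hcQ : ∀ (q : Ω) (hq : q ∈ Q)
      (hb : ψ ⟨q, hT₀R (hRT (hQR hq))⟩ ∈ (ψ.comp (Subgroup.inclusion hANR)).range),
      ∃ q' : Ω, ∃ hq' : q' ∈ Q, c ⟨ψ ⟨q, hT₀R (hRT (hQR hq))⟩, hb⟩ =
        ψ ⟨q', hT₀R (hRT (hQR hq'))⟩ := by
    intro q hq hb
    have h1 := hcι' ⟨q, (le_sup_right : R₀ ≤ P ⊔ R₀) (hQR hq)⟩ hb (hcN' _)
    have hqL : embHom hT₀R ψ hψN ι' ⟨q, hRT (hQR hq)⟩ ∈
        (Q.subgroupOf T₀).map (embHom hT₀R ψ hψN ι') :=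
      ⟨⟨q, hRT (hQR hq)⟩, Subgroup.mem_subgroupOf.mpr hq, rfl⟩
    have h2 := (Subgroup.mem_normalizer_iff.mp hgH _).mp hqL
    obtain ⟨t, ht, hte⟩ := h2
    have htQ : (t : Ω) ∈ Q := Subgroup.mem_subgroupOf.mp ht
    refine ⟨t, htQ, ?_⟩
    rw [embHom_apply] at hte
    have h3 : ι' ⟨c ⟨ψ ⟨q, hT₀R (hRT (hQR hq))⟩, hb⟩, hcN' _⟩ = ι' ⟨ψ ⟨t, hT₀R t.2⟩, hψN _⟩ :=
      h1.trans hte.symm
    exact congrArg Subtype.val (hinj h3)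
  -- `c` maps into the range of `ψ` on `A'`
  have hcA' : ∀ y, c y ∈ (ψ.comp (Subgroup.inclusion hA'NR)).range := by
    have key : ∀ a : ↥(P ⊔ R₀), (c.comp ((ψ.comp (Subgroup.inclusion hANR)).rangeRestrict)) a ∈
        (ψ.comp (Subgroup.inclusion hA'NR)).range := by
      apply sup_hom_mem
      · intro x
        have hb : ψ ⟨x, hT₀R (hP x.2)⟩ ∈ (ψ.comp (Subgroup.inclusion hANR)).range :=
          ⟨⟨x, (le_sup_left : P ≤ P ⊔ R₀) x.2⟩, rfl⟩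
        have h : c ⟨ψ ⟨x, hT₀R (hP x.2)⟩, hb⟩ ∈ (ψ.comp (Subgroup.inclusion hA'NR)).range := by
          rw [hcP x hb]
          exact ⟨⟨φ x, (le_sup_left : φ.range ≤ φ.range ⊔ R₀) ⟨x, rfl⟩⟩, rfl⟩
        exact h
      · intro r
        have hb : ψ ⟨r, hT₀R (hRT r.2)⟩ ∈ (ψ.comp (Subgroup.inclusion hANR)).range :=
          ⟨⟨r, (le_sup_right : R₀ ≤ P ⊔ R₀) r.2⟩, rfl⟩
        obtain ⟨r', hr', e⟩ := hcR r r.2 hb
        have h : c ⟨ψ ⟨r, hT₀R (hRT r.2)⟩, hb⟩ ∈ (ψ.comp (Subgroup.inclusion hA'NR)).range := by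
          rw [e]
          exact ⟨⟨r', (le_sup_right : R₀ ≤ φ.range ⊔ R₀) hr'⟩, rfl⟩
        exact h
    rintro ⟨_, a, rfl⟩
    exact key a
  obtain ⟨φ', hφ', hφ'c⟩ := exists_conj_hom' F hψA hcF hψA' hcA'
  have hφ'inj : Function.Injective φ' := F.injective_of_mem hφ'
  haveI : Finite R₀ := finite_of_le (hRT.trans hT₀S)
  haveI : Finite Q := finite_of_le (hQR.trans (hRT.trans hT₀S))
  refine ⟨φ', hφ', ?_, ?_, ?_⟩
  · intro x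
    have hb : ψ ⟨x, hT₀R (hP x.2)⟩ ∈ (ψ.comp (Subgroup.inclusion hANR)).range :=
      ⟨⟨x, (le_sup_left : P ≤ P ⊔ R₀) x.2⟩, rfl⟩
    exact hφ'c (Subgroup.inclusion le_sup_left x) hb
      ⟨φ x, (le_sup_left : φ.range ≤ φ.range ⊔ R₀) ⟨x, rfl⟩⟩ (hcP x hb)
  · apply map_subgroupOf_eq_of_forall_mem le_sup_right φ' hφ'inj
    intro a ha
    have hb : ψ ⟨a, hT₀R (hRT ha)⟩ ∈ (ψ.comp (Subgroup.inclusion hANR)).range := ⟨a, rfl⟩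
    obtain ⟨r', hr', e⟩ := hcR a ha hb
    have := hφ'c a hb ⟨r', (le_sup_right : R₀ ≤ φ.range ⊔ R₀) hr'⟩ e
    rw [this]; exact hr'
  · apply map_subgroupOf_eq_of_forall_mem (hQR.trans le_sup_right) φ' hφ'inj
    intro a ha
    have hb : ψ ⟨a, hT₀R (hRT (hQR ha))⟩ ∈ (ψ.comp (Subgroup.inclusion hANR)).range := ⟨a, rfl⟩
    obtain ⟨q', hq', e⟩ := hcQ a ha hb
    have := hφ'c a hb ⟨q', (le_sup_right : R₀ ≤ φ.range ⊔ R₀) (hQR hq')⟩ e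
    rw [this]; exact hq'

end Cfsg.Agent.Lib.Helper87
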