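import Cfsg.Agent.Lib.Helper87.ModelEmbed1

set_option autoImplicit false

/-!
The embedding of a pair normalizer into a model: the Sylow condition.
-/

namespace Cfsg.Agent.Lib.Helper87

open Cfsg Cfsg.FusionSystem

variable {Ω : Type*} [Group Ω] {S : Subgroup Ω}

theorem card_le_of_le_normalizer_emb [Finite S] (p : ℕ) [Fact p.Prime] (F : FusionSystem S)
    {Q R₀ T₀ R' : Subgroup Ω} {L : Type*} [Group L] [Finite L]
    (hQR : Q ≤ R₀) (hRT : R₀ ≤ T₀) (hT₀S : T₀ ≤ S) (hT₀R : T₀ ≤ normalizerIn S R₀)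
    (ψ : ↥(normalizerIn S R₀) →* Ω) (hψ : ψ ∈ F.Hom (normalizerIn S R₀))
    (hψN : ∀ x, ψ x ∈ normalizerIn S R')
    (hψR : (R₀.subgroupOf (normalizerIn S R₀)).map ψ = R')
    (N : FusionSystem (normalizerIn S R')) (hN : F.IsNormalizerSystem R' N)
    (ι' : ↥(normalizerIn S R') →* L) (hreal : N.IsRealizedBy ι')
    (hSyl : ∃ T : Sylow p L, (T : Subgroup L) = ι'.range)
    (hpushn : (push ι' R').Normal)
    (hmax : ∀ θ ∈ F.Hom R₀, Nat.card ↥(normalizerIn S ((Q.subgroupOf R₀).map θ) ⊓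
      normalizerIn S θ.range) ≤ Nat.card T₀)
    (PL : Subgroup L) (hPLp : IsPGroup p PL)
    (hPLH : PL ≤ Subgroup.normalizer
        ((((Q.subgroupOf T₀).map (embHom hT₀R ψ hψN ι') : Subgroup L)) : Set L)) :
    Nat.card PL ≤ Nat.card T₀ := by
  have hinj := hreal.1
  obtain ⟨Syl, hSyleq⟩ := hSyl
  obtain ⟨g, hg⟩ := exists_conj_le_sylow Syl hPLp
  rw [hSyleq] at hg
  have hRL := map_embHom_eq_push hRT hT₀R ψ hψN ι' hψR
  have hR'N : R' ≤ normalizerIn S R' := by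
    intro y hy
    rw [← hψR] at hy
    obtain ⟨r, -, rfl⟩ := hy
    exact hψN r
  -- the map `θ'` on `R'`
  have hh : ∀ x : R', g * ι' ⟨x, hR'N x.2⟩ * g⁻¹ ∈ ι'.range := by
    intro x
    have : ι' ⟨x, hR'N x.2⟩ ∈ push ι' R' := mem_push.mpr ⟨⟨x, hR'N x.2⟩, x.2, rfl⟩
    exact push_le_range ι' R' (hpushn.conj_mem _ this g)
  have hθ'N := pullConj_mem_hom N hreal _ hR'N g hh
  have hθ'F : pullConj ι' hinj _ hR'N g hh ∈ F.Hom R' := by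
    rw [hN] at hθ'N; exact hθ'N.1
  have hθ'ι : ∀ (y : R') (hc : pullConj ι' hinj _ hR'N g hh y ∈ normalizerIn S R'),
      ι' ⟨pullConj ι' hinj _ hR'N g hh y, hc⟩ = g * ι' ⟨y, hR'N y.2⟩ * g⁻¹ :=
    fun y hc => ι_pullConj ι' hinj _ hR'N g hh y
  generalize pullConj ι' hinj _ hR'N g hh = θ' at hθ'N hθ'F hθ'ι
  have hθ'N' : ∀ y, θ' y ∈ normalizerIn S R' := fun y => hom_mem N hθ'N y
  -- the map `θ = θ' ∘ ψ` on `R₀`
  have hR₀NR : R₀ ≤ normalizerIn S R₀ := hRT.trans hT₀R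
  have hψR₀ := restrict_mem F hR₀NR hψ
  have hψR₀R' : ∀ x : R₀, (ψ.comp (Subgroup.inclusion hR₀NR)) x ∈ R' := by
    intro x
    rw [← hψR]
    exact ⟨⟨x, hR₀NR x.2⟩, Subgroup.mem_subgroupOf.mpr x.2, rfl⟩
  have hθ := F.comp_mem hψR₀ hθ'F hψR₀R'
  -- formula for `θ`
  have hθι : ∀ (r : R₀) (hc : (θ'.comp ((ψ.comp (Subgroup.inclusion hR₀NR)).codRestrict R' hψR₀R')) r ∈
      normalizerIn S R'),
      ι' ⟨(θ'.comp ((ψ.comp (Subgroup.inclusion hR₀NR)).codRestrict R' hψR₀R')) r, hc⟩ =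
        g * embHom hT₀R ψ hψN ι' ⟨r, hRT r.2⟩ * g⁻¹ := by
    intro r hc
    exact hθ'ι ⟨ψ ⟨r, hR₀NR r.2⟩, hψR₀R' r⟩ hc
  have hθN : ∀ r, (θ'.comp ((ψ.comp (Subgroup.inclusion hR₀NR)).codRestrict R' hψR₀R')) r ∈
      normalizerIn S R' := fun r => hθ'N' _
  generalize (θ'.comp ((ψ.comp (Subgroup.inclusion hR₀NR)).codRestrict R' hψR₀R')) = θ
    at hθ hθι hθN
  have hθι' : ∀ r : R₀, ι' ⟨θ r, hθN r⟩ = g * embHom hT₀R ψ hψN ι' ⟨r, hRT r.2⟩ * g⁻¹ :=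
    fun r => hθι r (hθN r)
  have hX := hmax θ hθ
  haveI : Finite R₀ := finite_of_le (hRT.trans hT₀S)
  -- conjugation step
  have hstep : ∀ (y : L) (s : ↥(normalizerIn S R')), ι' s = g * y * g⁻¹ →
      ∀ (r t : R₀), y * embHom hT₀R ψ hψN ι' ⟨r, hRT r.2⟩ * y⁻¹ =
        embHom hT₀R ψ hψN ι' ⟨t, hRT t.2⟩ → (s : Ω) * θ r * (s : Ω)⁻¹ = θ t := by
    intro y s hs r t hyr
    have h1 : ι' (s * ⟨θ r, hθN r⟩ * s⁻¹) = ι' ⟨θ t, hθN t⟩ := by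
      rw [map_mul, map_mul, map_inv, hs, hθι', hθι', ← hyr]
      group
    have h2 := hinj h1
    exact congrArg Subtype.val h2
  have key : ∀ y ∈ PL, ∃ s : ↥(normalizerIn S R'),
      (s : Ω) ∈ normalizerIn S ((Q.subgroupOf R₀).map θ) ⊓ normalizerIn S θ.range ∧
        ι' s = g * y * g⁻¹ := by
    intro y hy
    have hy' : g * y * g⁻¹ ∈ ι'.range := hg ⟨y, hy, rfl⟩
    obtain ⟨s, hs⟩ := hy'
    refine ⟨s, ⟨⟨normalizerIn_le S R' s.2, ?_⟩, ⟨normalizerIn_le S R' s.2, ?_⟩⟩, hs⟩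
    · haveI : Finite ↥((Q.subgroupOf R₀).map θ) :=
        Finite.of_surjective (fun x : ↥(Q.subgroupOf R₀) =>
          (⟨θ x, ⟨x, x.2, rfl⟩⟩ : ↥((Q.subgroupOf R₀).map θ)))
          (by rintro ⟨_, x, hx, rfl⟩; exact ⟨⟨x, hx⟩, rfl⟩)
      apply mem_normalizer_of_conj_mem
      rintro _ ⟨q, hq, rfl⟩
      have hqQ : (q : Ω) ∈ Q := Subgroup.mem_subgroupOf.mp hq
      have hqL : embHom hT₀R ψ hψN ι' ⟨q, hRT q.2⟩ ∈
          (Q.subgroupOf T₀).map (embHom hT₀R ψ hψN ι') :=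
        ⟨⟨q, hRT q.2⟩, Subgroup.mem_subgroupOf.mpr hqQ, rfl⟩
      have h2 := (Subgroup.mem_normalizer_iff.mp (hPLH hy) _).mp hqL
      obtain ⟨t, ht, hte⟩ := h2
      have htQ : (t : Ω) ∈ Q := Subgroup.mem_subgroupOf.mp ht
      have h3 := hstep y s hs q ⟨t, hQR htQ⟩ hte.symm
      rw [h3]
      exact ⟨⟨t, hQR htQ⟩, Subgroup.mem_subgroupOf.mpr htQ, rfl⟩
    · haveI : Finite ↥θ.range :=
        Finite.of_surjective (fun x : R₀ => (⟨θ x, ⟨x, rfl⟩⟩ : ↥θ.range))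
          (by rintro ⟨_, x, rfl⟩; exact ⟨x, rfl⟩)
      apply mem_normalizer_of_conj_mem
      rintro _ ⟨r, rfl⟩
      have hrL : embHom hT₀R ψ hψN ι' ⟨r, hRT r.2⟩ ∈ push ι' R' := by
        rw [← hRL]; exact ⟨⟨r, hRT r.2⟩, Subgroup.mem_subgroupOf.mpr r.2, rfl⟩
      have h2 := hpushn.conj_mem _ hrL y
      rw [← hRL] at h2
      obtain ⟨t, ht, hte⟩ := h2
      have htR : (t : Ω) ∈ R₀ := Subgroup.mem_subgroupOf.mp ht
      have h3 := hstep y s hs r ⟨t, htR⟩ hte.symm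
      rw [h3]
      exact ⟨⟨t, htR⟩, rfl⟩
  refine le_trans ?_ hX
  haveI : Finite ↥(normalizerIn S ((Q.subgroupOf R₀).map θ) ⊓ normalizerIn S θ.range) :=
    finite_of_le (inf_le_left.trans (normalizerIn_le S _))
  choose f hf1 hf2 using key
  refine Nat.card_le_card_of_injective
    (fun y : PL => (⟨f y y.2, hf1 y y.2⟩ :
      ↥(normalizerIn S ((Q.subgroupOf R₀).map θ) ⊓ normalizerIn S θ.range))) ?_
  intro y₁ y₂ h12
  have h1 : ((f y₁ y₁.2 : ↥(normalizerIn S R')) : Ω) = f y₂ y₂.2 :=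
    congrArg (fun z : ↥(normalizerIn S ((Q.subgroupOf R₀).map θ) ⊓ normalizerIn S θ.range) => (z : Ω)) h12
  have h2 : f y₁ y₁.2 = f y₂ y₂.2 := Subtype.ext h1
  have h3 : g * (y₁ : L) * g⁻¹ = g * (y₂ : L) * g⁻¹ := by
    rw [← hf2 y₁ y₁.2, ← hf2 y₂ y₂.2, h2]
  exact Subtype.ext (mul_left_cancel (mul_right_cancel h3))

end Cfsg.Agent.Lib.Helper87
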