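import Cfsg.Agent.Lib.Helper87.ModelEmbed2
import Cfsg.Agent.Lib.Helper87.ModelEmbed3
import Cfsg.Agent.Lib.Helper87.ModelEmbed4
import Cfsg.Agent.Lib.Helper87.NormalizerBasic

set_option autoImplicit false

/-!
The embedding of a pair normalizer into a model: the normalizer of the image of `Q` is a model.
-/

namespace Cfsg.Agent.Lib.Helper87

open Cfsg Cfsg.FusionSystem

variable {Ω : Type*} [Group Ω] {S : Subgroup Ω}

theorem isModel_normalizer_emb [Finite S] (p : ℕ) [Fact p.Prime] (hS : IsPGroup p S)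
    (F : FusionSystem S)
    {Q R₀ T₀ R' : Subgroup Ω} {L : Type*} [Group L]
    (hQR : Q ≤ R₀) (hRT : R₀ ≤ T₀) (hT₀S : T₀ ≤ S) (hT₀Q : T₀ ≤ normalizerIn S Q)
    (hT₀R : T₀ ≤ normalizerIn S R₀)
    (ψ : ↥(normalizerIn S R₀) →* Ω) (hψ : ψ ∈ F.Hom (normalizerIn S R₀))
    (hψN : ∀ x, ψ x ∈ normalizerIn S R')
    (hψR : (R₀.subgroupOf (normalizerIn S R₀)).map ψ = R')
    (hR'c : F.IsCentric R')
    (N : FusionSystem (normalizerIn S R')) (hN : F.IsNormalizerSystem R' N)
    (ι' : ↥(normalizerIn S R') →* L) (hmodel : N.IsModel p L ι')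
    (hmax : ∀ θ ∈ F.Hom R₀, Nat.card ↥(normalizerIn S ((Q.subgroupOf R₀).map θ) ⊓
      normalizerIn S θ.range) ≤ Nat.card T₀)
    (D : FusionSystem T₀)
    (hD : ∀ (P : Subgroup Ω) (φ : P →* Ω), φ ∈ D.Hom P ↔
      P ≤ T₀ ∧ (∀ x, φ x ∈ T₀) ∧ φ ∈ pairHom F Q R₀ P) :
    D.IsModel p ↥(Subgroup.normalizer
        ((((Q.subgroupOf T₀).map (embHom hT₀R ψ hψN ι') : Subgroup L)) : Set L))
      ((embHom hT₀R ψ hψN ι').codRestrict _
        (embHom_mem_normalizer hT₀S hT₀Q hT₀R ψ hψN ι')) := by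
  have hR'S : R' ≤ S := hR'c.1
  have hNS : IsPGroup p ↥(normalizerIn S R') := hS.to_le (normalizerIn_le S R')
  haveI : Finite ↥(normalizerIn S R') := finite_of_le (normalizerIn_le S R')
  have hR'n : N.IsNormal R' := isNormal_of_isNormalizerSystem F hR'S N hN
  have hR'Nc : N.IsCentric R' := isCentric_of_isNormalizerSystem F R' hR'c N hN
  have hpushn := push_normal_of_isNormal p hNS N ι' hmodel R' hR'n
  have hcentpush := centralizer_push_le p hNS N ι' hmodel R' hR'n hR'Nc
  obtain ⟨hfin, hreal, hSyl, hC⟩ := hmodel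
  have hinj := hreal.1
  have hψinj : Function.Injective ψ := F.injective_of_mem hψ
  have hembinj := embHom_injective hT₀R ψ hψN ι' hψinj hinj
  haveI : Finite T₀ := finite_of_le hT₀S
  have hT₀p : IsPGroup p T₀ := hS.to_le hT₀S
  have hRL := map_embHom_eq_push hRT hT₀R ψ hψN ι' hψR
  set H : Subgroup L := Subgroup.normalizer
        ((((Q.subgroupOf T₀).map (embHom hT₀R ψ hψN ι') : Subgroup L)) : Set L) with hH
  set ι₀ : T₀ →* H := (embHom hT₀R ψ hψN ι').codRestrict _
        (embHom_mem_normalizer hT₀S hT₀Q hT₀R ψ hψN ι') with hι₀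
  have hι₀inj : Function.Injective ι₀ := by
    intro a b hab
    exact hembinj (congrArg Subtype.val hab)
  refine ⟨inferInstance, ⟨hι₀inj, ?_⟩, ?_, ?_⟩
  · -- realization
    intro P hP φ hφT
    constructor
    · intro hφ
      obtain ⟨-, -, hpair⟩ := (hD P φ).mp hφ
      obtain ⟨g, hgH, hg⟩ := emb_realizes_mp F hQR hRT hT₀S hT₀R ψ hψ hψN hψR N hN ι' hreal
        hP φ hφT hpair
      refine ⟨⟨g, hgH⟩, fun x => ?_⟩
      apply Subtype.ext
      exact hg x
    · rintro ⟨g, hg⟩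
      refine (hD P φ).mpr ⟨hP, hφT, ?_⟩
      refine emb_realizes_mpr F hQR hRT hT₀S hT₀R ψ hψ hψN hψR N hN ι' hreal hpushn hP φ hφT
        g g.2 (fun x => ?_)
      exact congrArg Subtype.val (hg x)
  · -- Sylow
    have hrp : IsPGroup p ι₀.range := hT₀p.of_surjective ι₀.rangeRestrict ι₀.rangeRestrict_surjective
    obtain ⟨PH, hPH⟩ := hrp.exists_le_sylow
    refine ⟨PH, ?_⟩
    symm
    apply Subgroup.eq_of_le_of_card_ge hPH
    have h1 : Nat.card ↥((PH : Subgroup H).map H.subtype) ≤ Nat.card T₀ :=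
      card_le_of_le_normalizer_emb p F hQR hRT hT₀S hT₀R ψ hψ hψN hψR N hN ι' hreal hSyl hpushn
        hmax _ (PH.2.map H.subtype) (Subgroup.map_subtype_le _)
    rw [Subgroup.card_map_of_injective H.subtype_injective] at h1
    have h2 : Nat.card ι₀.range = Nat.card T₀ :=
      (Nat.card_congr (MonoidHom.ofInjective hι₀inj).toEquiv).symm
    rw [h2]; exact h1
  · -- self-centralizing core
    intro c hc
    have hKn : ((push ι' R').subgroupOf H).Normal := hpushn.subgroupOf H
    have hpp : IsPGroup p (push ι' R') := (hNS.to_subgroup _).map ι'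
    have hKp : IsPGroup p ((push ι' R').subgroupOf H) := hpp.comap_subtype
    have hKle : (push ι' R').subgroupOf H ≤ pCore p H :=
      Cfsg.Agent.Lib.Helper52.le_pCore hKn hKp
    have hpushH : push ι' R' ≤ H := by
      intro b hb
      rw [← hRL] at hb
      obtain ⟨r, -, rfl⟩ := hb
      exact (ι₀ r).2
    have hcL : (c : L) ∈ Subgroup.centralizer ((push ι' R' : Subgroup L) : Set L) := by
      rw [Subgroup.mem_centralizer_iff]
      intro b hb
      have hbK : (⟨b, hpushH hb⟩ : H) ∈ (push ι' R').subgroupOf H :=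
        Subgroup.mem_subgroupOf.mpr hb
      have := (Subgroup.mem_centralizer_iff.mp hc) ⟨b, hpushH hb⟩ (hKle hbK)
      exact congrArg Subtype.val this
    exact hKle (Subgroup.mem_subgroupOf.mpr (hcentpush hcL))

end Cfsg.Agent.Lib.Helper87
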