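import Cfsg.Agent.Lib.Helper87.ModelEmbed5
import Cfsg.Agent.S5103
import Cfsg.Agent.S5091

set_option autoImplicit false

/-!
Every model of a pair normalizer `N_F(Q) ∩ N_F(R₀)` embeds in a model of `N_F(R')`, `R'` a fully normalized
conjugate of `R₀`.
-/

namespace Cfsg.Agent.Lib.Helper87

open Cfsg Cfsg.FusionSystem

variable {Ω : Type*} [Group Ω] {S : Subgroup Ω}

theorem isCentric_of_isConj (F : FusionSystem S) {P P' : Subgroup Ω} (hP : F.IsCentric P)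
    (h : F.IsConj P P') : F.IsCentric P' :=
  ⟨isConj_le_right F h, fun Q hQ => hP.2 Q (isConj_trans F h hQ)⟩

theorem exists_embedding_of_pair [Finite S] (p : ℕ) [Fact p.Prime] (hS : IsPGroup p S)
    (F : FusionSystem S) (hF : F.IsSaturated p)
    {Q R₀ T₀ : Subgroup Ω}
    (hQR : Q ≤ R₀) (hRT : R₀ ≤ T₀) (hT₀S : T₀ ≤ S) (hT₀Q : T₀ ≤ normalizerIn S Q)
    (hT₀R : T₀ ≤ normalizerIn S R₀)
    (hcent : F.IsCentric R₀)
    (hmax : ∀ θ ∈ F.Hom R₀, Nat.card ↥(normalizerIn S ((Q.subgroupOf R₀).map θ) ⊓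
      normalizerIn S θ.range) ≤ Nat.card T₀)
    (D : FusionSystem T₀)
    (hD : ∀ (P : Subgroup Ω) (φ : P →* Ω), φ ∈ D.Hom P ↔
      P ≤ T₀ ∧ (∀ x, φ x ∈ T₀) ∧ φ ∈ pairHom F Q R₀ P)
    {M : Type*} [Group M] (j : T₀ →* M) (hM : D.IsModel p M j) :
    ∃ R' : Subgroup Ω, F.IsConj R₀ R' ∧ F.IsFullyNormalized R' ∧ F.IsCentric R' ∧
      ∀ (N : FusionSystem (normalizerIn S R')), F.IsNormalizerSystem R' N →
        ∀ {L : Type*} [Group L] (ι' : ↥(normalizerIn S R') →* L), N.IsModel p L ι' →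
          ∃ f : M →* L, Function.Injective f := by
  have hR₀S : R₀ ≤ S := hcent.1
  obtain ⟨R', hconj, hfn⟩ := exists_isFullyNormalized F hR₀S
  obtain ⟨hfc, hfa⟩ := fullyNormalized_props p hS F hF R' hfn
  have hrec := isReceptive_of_isFullyCentralized p hS F hF R' hfc
  obtain ⟨ψ, hψ, hψN, hψR, -⟩ := exists_normalizer_hom p hS F R' R₀ hfa hrec hconj
  have hR'c := isCentric_of_isConj F hcent hconj
  refine ⟨R', hconj, hfn, hR'c, ?_⟩
  intro N hN L _ ι' hmodel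
  have hmod := isModel_normalizer_emb p hS F hQR hRT hT₀S hT₀Q hT₀R ψ hψ hψN hψR hR'c N hN ι'
    hmodel hmax D hD
  haveI : Finite T₀ := finite_of_le hT₀S
  have hT₀p : IsPGroup p T₀ := hS.to_le hT₀S
  have hDc : D.IsConstrained p := Cfsg.Agent.S5103.result p hT₀p D j hM
  obtain ⟨e, -⟩ := Cfsg.Agent.S5091.result p hT₀p D hDc j _ hM hmod
  exact ⟨(Subgroup.subtype _).comp e.toMonoidHom,
    (Subgroup.subtype_injective _).comp e.injective⟩

end Cfsg.Agent.Lib.Helper87
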