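import Cfsg.Agent.Lib.Helper87.Model
import Cfsg.Agent.Lib.Helper81.PSolvable
import Cfsg.Agent.Lib.Helper81.Cores
import Cfsg.Agent.Lib.Helper15.PSolv
import Cfsg.Agent.Lib.Helper88.FusionBasic
import Cfsg.Agent.S5103
import Cfsg.Agent.S5343

set_option autoImplicit false

/-!
Fusion systems of `p`-solvable groups: a model `G` of a (constrained) system `F` is `p`-solvable exactly when
`Aut_F(O_p(F))` is, and a `p`-solvable group realizing `F` on a Sylow subgroup can be replaced by a model.
-/

namespace Cfsg.Agent.Lib.Helper87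

open Cfsg Cfsg.FusionSystem

universe u

/-- An extension of a `p`-solvable group by a finite normal `p`-subgroup is `p`-solvable. -/
theorem isPSolvable_of_surjective_of_ker {X Y : Type*} [Group X] [Group Y] [Finite X] {p : ℕ}
    [hp : Fact p.Prime] (f : X →* Y) (hf : Function.Surjective f) (hker : IsPGroup p f.ker)
    (hY : IsPSolvable p Y) : IsPSolvable p X := by
  obtain ⟨n, H, h0, hlast, hmono, hnorm, hstep⟩ := hY
  refine ⟨n + 1, Fin.cons ⊥ (fun i => (H i).comap f), ?_, ?_, ?_, ?_, ?_⟩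
  · rfl
  · have : Fin.last (n + 1) = (Fin.last n).succ := rfl
    rw [this, Fin.cons_succ, hlast]
    rfl
  · intro i j hij
    induction i using Fin.cases with
    | zero => rw [Fin.cons_zero]; exact bot_le
    | succ i' =>
      induction j using Fin.cases with
      | zero => exact absurd hij (by simp [Fin.le_def])
      | succ j' =>
        rw [Fin.cons_succ, Fin.cons_succ]
        exact Subgroup.comap_mono (hmono (Fin.succ_le_succ_iff.mp hij))
  · intro i
    induction i using Fin.cases with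
    | zero => rw [Fin.cons_zero]; infer_instance
    | succ i' =>
      rw [Fin.cons_succ]
      exact (hnorm i').comap f
  · intro i
    induction i using Fin.cases with
    | zero =>
      left
      obtain ⟨m, hm⟩ := hker.exists_card_eq
      refine ⟨m, ?_⟩
      have e1 : (Fin.cons ⊥ (fun i => (H i).comap f) : Fin (n + 2) → Subgroup X) (Fin.castSucc 0) = ⊥ := rfl
      have e2 : (Fin.cons ⊥ (fun i => (H i).comap f) : Fin (n + 2) → Subgroup X) (Fin.succ 0) = f.ker := by
        rw [Fin.cons_succ, h0]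
        rfl
      rw [e1, e2, Subgroup.relIndex_bot_left]
      exact hm
    | succ i' =>
      have e1 : (Fin.cons ⊥ (fun i => (H i).comap f) : Fin (n + 2) → Subgroup X) (Fin.castSucc i'.succ) =
          (H i'.castSucc).comap f := by
        rw [← Fin.succ_castSucc, Fin.cons_succ]
      have e2 : (Fin.cons ⊥ (fun i => (H i).comap f) : Fin (n + 2) → Subgroup X) (Fin.succ i'.succ) =
          (H i'.succ).comap f := by
        rw [Fin.cons_succ]
      rw [e1, e2, Subgroup.relIndex_comap, Subgroup.map_comap_eq_self_of_surjective hf]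
      exact hstep i'


section ModelCore

variable {Ω : Type*} [Group Ω] {S : Subgroup Ω} [Finite S] {G : Type*} [Group G] {ι : S →* G}

/-- For a model `G` of `F`: `O_p(F)` is the preimage of `O_p(G)`. -/
theorem core_eq_pull_pCore (p : ℕ) [Fact p.Prime] (hS : IsPGroup p S) (F : FusionSystem S)
    (hmodel : F.IsModel p G ι) : F.core = pull ι (pCore p G) := by
  have hmodel' := hmodel
  obtain ⟨hfin, hreal, ⟨T, hT⟩, hC⟩ := hmodel
  haveI := Cfsg.Agent.Lib.Helper52.pCore_normal p G
  have hle : pCore p G ≤ ι.range := by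
    rw [← hT]; exact Cfsg.Agent.Lib.Helper52.pCore_le_sylow p G T
  apply le_antisymm
  · have hcore : F.IsNormal F.core := Cfsg.Agent.Lib.Helper88.isNormal_core F
    have h1 := map_le_pCore_of_isNormal p hS F ι hmodel' F.core hcore
    intro x hx
    have hxS : x ∈ S := hcore.1 hx
    refine mem_pull.mpr ⟨hxS, h1 ⟨⟨x, hxS⟩, ?_, rfl⟩⟩
    exact Subgroup.mem_subgroupOf.mpr hx
  · exact le_sSup (isNormal_pull_of_normal F hreal (pCore p G) hle)

/-- For a model `G` of `F`: `Aut_F(O_p(F))` is `p`-solvable iff `G` is. -/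
theorem isPSolvable_autGroup_core_iff (p : ℕ) [Fact p.Prime] (hS : IsPGroup p S) (F : FusionSystem S)
    (hmodel : F.IsModel p G ι) : IsPSolvable p (F.autGroup F.core) ↔ IsPSolvable p G := by
  rw [core_eq_pull_pCore p hS F hmodel]
  obtain ⟨hfin, hreal, ⟨T, hT⟩, hC⟩ := hmodel
  have hinj := hreal.1
  have hle : pCore p G ≤ ι.range := by
    rw [← hT]; exact Cfsg.Agent.Lib.Helper52.pCore_le_sylow p G T
  have hQ : pull ι (pCore p G) ≤ S := pull_le ι _
  have hpp : push ι (pull ι (pCore p G)) = pCore p G := push_pull ι hle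
  have hn : (push ι (pull ι (pCore p G))).Normal := by
    rw [hpp]; exact Cfsg.Agent.Lib.Helper52.pCore_normal p G
  have hmem : ∀ g : G, autHom hinj hQ hn g ∈ F.autGroup (pull ι (pCore p G)) := by
    intro g
    rw [mem_autGroup_iff F hQ]
    have hφS : ∀ x : pull ι (pCore p G),
        ((pull ι (pCore p G)).subtype.comp (autHom hinj hQ hn g).toMonoidHom) x ∈ S :=
      fun x => hQ (Subtype.prop _)
    refine (hreal.2 _ hQ _ hφS).mpr ⟨g, fun x => ?_⟩
    exact ι_autHom hinj hQ hn g x
  have hsurj : Function.Surjective ((autHom hinj hQ hn).codRestrict _ hmem) := by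
    rintro ⟨α, hα⟩
    have hα' := (mem_autGroup_iff F hQ).mp hα
    obtain ⟨g, hg⟩ := exists_conj_of_mem_hom F hreal hα'
    refine ⟨g, Subtype.ext ?_⟩
    show autHom hinj hQ hn g = α
    ext x
    have h1 := ι_autHom hinj hQ hn g x
    have h2 := hg x
    have h3 : ι ⟨autHom hinj hQ hn g x, hQ (Subtype.prop _)⟩ = ι ⟨(α x : Ω), hQ (Subtype.prop _)⟩ := by
      rw [h1]; exact h2.symm
    exact congrArg (fun z : S => (z : Ω)) (hinj h3)
  have hker : IsPGroup p ((autHom hinj hQ hn).codRestrict _ hmem).ker := by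
    have h1 : ((autHom hinj hQ hn).codRestrict _ hmem).ker ≤ pCore p G := by
      intro g hg
      have h2 : autHom hinj hQ hn g = 1 := by
        have := MonoidHom.mem_ker.mp hg
        exact congrArg Subtype.val this
      rw [autHom_eq_one_iff, hpp] at h2
      exact hC h2
    exact (Cfsg.Agent.Lib.Helper52.pCore_isPGroup p G).to_le h1
  constructor
  · intro h
    exact isPSolvable_of_surjective_of_ker _ hsurj hker h
  · intro h
    exact Cfsg.Agent.Lib.Helper15.IsPSolvable.of_surjective (Fact.out : p.Prime) h _ hsurj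

end ModelCore

section Main

variable {Ω : Type u} [Group Ω] {S : Subgroup Ω} [Finite S]

/-- A `p`-solvable group realizing `F` on a Sylow subgroup: `F` is constrained and `Aut_F(O_p(F))` is
`p`-solvable. -/
theorem constrained_of_isPSolvable (p : ℕ) [Fact p.Prime] (hS : IsPGroup p S) (F : FusionSystem S)
    {G : Type u} [Group G] [Finite G] (ι : S →* G) (hG : IsPSolvable p G) (hreal : F.IsRealizedBy ι)
    (T : Sylow p G) (hT : (T : Subgroup G) = ι.range) :
    F.IsConstrained p ∧ IsPSolvable p (F.autGroup F.core) := by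
  haveI hKn := Cfsg.Agent.Lib.Helper81.pPrimeCore_normal (G := G) p
  have hbot : pull ι (pPrimeCore p G) = ⊥ := by
    rw [eq_bot_iff]
    intro x hx
    obtain ⟨hxS, hxK⟩ := mem_pull.mp hx
    rw [Subgroup.mem_bot]
    have hcop := Cfsg.Agent.Lib.Helper81.card_pPrimeCore_coprime (G := G) p
    obtain ⟨k, hk⟩ := hS ⟨x, hxS⟩
    have h1 : (ι ⟨x, hxS⟩) ^ p ^ k = 1 := by rw [← map_pow, hk, map_one]
    have h2 : (⟨ι ⟨x, hxS⟩, hxK⟩ : pPrimeCore p G) ^ Nat.card (pPrimeCore p G) = 1 := pow_card_eq_one'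
    have h2' : (ι ⟨x, hxS⟩) ^ Nat.card (pPrimeCore p G) = 1 := congrArg Subtype.val h2
    have h3 : orderOf (ι ⟨x, hxS⟩) ∣ Nat.gcd (p ^ k) (Nat.card (pPrimeCore p G)) :=
      Nat.dvd_gcd (orderOf_dvd_of_pow_eq_one h1) (orderOf_dvd_of_pow_eq_one h2')
    have h4 : Nat.gcd (p ^ k) (Nat.card (pPrimeCore p G)) = 1 :=
      Nat.Coprime.pow_left k hcop.symm
    rw [h4, Nat.dvd_one, orderOf_eq_one_iff] at h3
    have h5 : (⟨x, hxS⟩ : S) = 1 := hreal.1 (by rw [h3, map_one])
    exact congrArg Subtype.val h5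
  obtain ⟨hreal', T', hT'⟩ :=
    Cfsg.Agent.S5343.realizes_quotient F p ι hreal T hT (pPrimeCore p G) hbot
  have hGq : IsPSolvable p (G ⧸ pPrimeCore p G) :=
    Cfsg.Agent.Lib.Helper81.IsPSolvable.quotient (Fact.out : p.Prime) hG _
  have hmodel : F.IsModel p (G ⧸ pPrimeCore p G) ((QuotientGroup.mk' (pPrimeCore p G)).comp ι) :=
    ⟨inferInstance, hreal', ⟨T', hT'⟩,
      Cfsg.Agent.Lib.Helper81.centralizer_pCore_le hGq
        (Cfsg.Agent.Lib.Helper81.pPrimeCore_quotient_eq_bot p)⟩
  exact ⟨Cfsg.Agent.S5103.result p hS F _ hmodel,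
    (isPSolvable_autGroup_core_iff p hS F hmodel).mpr hGq⟩

end Main

end Cfsg.Agent.Lib.Helper87
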