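import Cfsg.Agent.Lib.Helper87.ModelEmbed0
import Cfsg.Agent.Lib.Helper87.NormalizerBasic
import Cfsg.Agent.Lib.Helper87.PSolvableFusion
import Cfsg.Agent.Lib.Helper88.FusionSC10

set_option autoImplicit false

/-!
If `O_p` of the normalizer system of a centric subgroup `Q` is `Q` itself, then `Q` is radical.
-/

namespace Cfsg.Agent.Lib.Helper87

open Cfsg Cfsg.FusionSystem

variable {Ω : Type*} [Group Ω] {S : Subgroup Ω}

theorem isRadical_of_core_eq [Finite S] (p : ℕ) [Fact p.Prime] (hS : IsPGroup p S)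
    (F : FusionSystem S) (Q : Subgroup Ω) (hQc : F.IsCentric Q)
    (N : FusionSystem (normalizerIn S Q)) (hN : F.IsNormalizerSystem Q N)
    {L : Type*} [Group L] (ι : ↥(normalizerIn S Q) →* L) (hmodel : N.IsModel p L ι)
    (hcore : N.core = Q) : F.IsRadical p Q := by
  have hQS : Q ≤ S := hQc.1
  refine ⟨hQS, le_antisymm ?_ (Cfsg.Agent.Lib.Helper88.inn_le_pCoreOf F hS hQS)⟩
  have hQT : Q ≤ normalizerIn S Q := le_normalizerIn hQS
  have hTp : IsPGroup p ↥(normalizerIn S Q) := hS.to_le (normalizerIn_le S Q)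
  haveI : Finite ↥(normalizerIn S Q) := finite_of_le (normalizerIn_le S Q)
  have hQn : N.IsNormal Q := isNormal_of_isNormalizerSystem F hQS N hN
  have hQNc : N.IsCentric Q := isCentric_of_isNormalizerSystem F Q hQc N hN
  have hpn := push_normal_of_isNormal p hTp N ι hmodel Q hQn
  have hcent := centralizer_push_le p hTp N ι hmodel Q hQn hQNc
  have hcoreeq := core_eq_pull_pCore p hTp N hmodel
  obtain ⟨hfin, hreal, ⟨Syl, hSyl⟩, hC⟩ := hmodel
  have hinj := hreal.1
  have hUT : Cfsg.pCore p L ≤ ι.range := by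
    rw [← hSyl]; exact Cfsg.Agent.Lib.Helper52.pCore_le_sylow p L Syl
  have hpCore : Cfsg.pCore p L = push ι Q := by
    rw [← push_pull ι hUT, ← hcoreeq, hcore]
  have hpushp : IsPGroup p (push ι Q) := (hTp.to_subgroup _).map ι
  -- every element of `L` acts on `Q` as an element of `Aut_F(Q)`
  have hc_mem : ∀ g : L, autHom hinj hQT hpn g ∈ F.autGroup Q := by
    intro g
    rw [mem_autGroup_iff F hQS]
    have hh : ∀ x : Q, g * ι ⟨x, hQT x.2⟩ * g⁻¹ ∈ ι.range := by
      intro x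
      exact push_le_range ι Q (hpn.conj_mem _ (coe_mem_push hQT x) g)
    have h1 := pullConj_mem_hom N hreal Q hQT g hh
    rw [hN] at h1
    refine hom_congr F h1.1 (fun x => ?_)
    have e1 := ι_autHom hinj hQT hpn g x
    have e2 := ι_pullConj ι hinj Q hQT g hh x
    have e3 := hinj (e1.trans e2.symm)
    exact congrArg (fun z : ↥(normalizerIn S Q) => (z : Ω)) e3
  intro α hα
  rw [Cfsg.Agent.Lib.Helper88.mem_pCoreOf_iff] at hα
  obtain ⟨N', hN'A, hN'n, hN'p, hαN'⟩ := hα
  have hαA : α ∈ F.autGroup Q := hN'A hαN'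
  -- realize `α` by an element of `L`
  have hαF := (mem_autGroup_iff F hQS).mp hαA
  have hαN : Q.subtype.comp α.toMonoidHom ∈ N.Hom Q := by
    rw [hN]
    have hle : Q ⊔ Q ≤ Q := sup_le le_rfl le_rfl
    refine ⟨hαF, hQT, fun x => hQT (α x).2,
      (Q.subtype.comp α.toMonoidHom).comp (Subgroup.inclusion hle),
      restrict_mem F hle hαF, fun x => rfl, ?_⟩
    haveI : Finite Q := finite_of_le hQS
    apply map_subgroupOf_eq_of_forall_mem le_sup_left
    · exact F.injective_of_mem (restrict_mem F hle hαF)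
    · intro x _
      exact (α _).2
  obtain ⟨g, hg⟩ := exists_conj_of_mem_hom N hreal hαN
  have hcg : autHom hinj hQT hpn g = α := by
    ext x
    have e1 := ι_autHom hinj hQT hpn g x
    have e2 := hg x
    have e3 := hinj (e1.trans e2.symm)
    exact congrArg (fun z : ↥(normalizerIn S Q) => (z : Ω)) e3
  -- the preimage of `N'` is a normal `p`-subgroup
  have hXn : (N'.comap (autHom hinj hQT hpn)).Normal := by
    refine ⟨fun x hx k => ?_⟩
    show autHom hinj hQT hpn (k * x * k⁻¹) ∈ N'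
    rw [map_mul, map_mul, map_inv]
    exact hN'n _ (hc_mem k) _ hx
  have hXp : IsPGroup p (N'.comap (autHom hinj hQT hpn)) := by
    intro x
    obtain ⟨a, ha⟩ := hN'p ⟨autHom hinj hQT hpn x, x.2⟩
    have ha' : autHom hinj hQT hpn ((x : L) ^ p ^ a) = 1 := by
      rw [map_pow]
      exact congrArg Subtype.val ha
    have h1 : (x : L) ^ p ^ a ∈ push ι Q :=
      hcent ((autHom_eq_one_iff hinj hQT hpn _).mp ha')
    obtain ⟨b, hb⟩ := hpushp ⟨_, h1⟩
    have hb' : ((x : L) ^ p ^ a) ^ p ^ b = 1 := congrArg Subtype.val hb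
    refine ⟨a + b, ?_⟩
    apply Subtype.ext
    show (x : L) ^ p ^ (a + b) = 1
    rw [pow_add, pow_mul]
    exact hb'
  have hXle : N'.comap (autHom hinj hQT hpn) ≤ Cfsg.pCore p L :=
    Cfsg.Agent.Lib.Helper52.le_pCore hXn hXp
  have hgQ : g ∈ push ι Q := by
    rw [← hpCore]
    apply hXle
    show autHom hinj hQT hpn g ∈ N'
    rw [hcg]; exact hαN'
  obtain ⟨u, hu, rfl⟩ := mem_push.mp hgQ
  refine ⟨⟨u, hu⟩, ?_⟩
  rw [← hcg]
  ext x
  rw [autHom_ι]
  rfl

end Cfsg.Agent.Lib.Helper87
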