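import Cfsg.Agent.Lib.Helper87.FusionGroup
import Cfsg.Agent.Lib.Helper87.FusionAut
import Cfsg.Agent.Lib.Helper87.FusionSaturated
import Cfsg.Agent.Lib.Helper87.Hyperfocal

set_option autoImplicit false

/-!
Element-level description of a fusion system `E` over a subgroup `T` of a group `G`: the elements of `G` whose
conjugation map on a subgroup `P` is a map of `E`, and a few elementary group-theoretic lemmas on coprime powers.
-/

namespace Cfsg.Agent.Lib.Helper87.NS

open Cfsg Cfsg.FusionSystem Cfsg.Agent.Lib.Helper87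

variable {G : Type*} [Group G]

/-- The elements of `G` whose conjugation map on `P` is a map of `E`. -/
def EE {T : Subgroup G} (E : FusionSystem T) (P : Subgroup G) : Set G :=
  {g | conjHom P g ∈ E.Hom P}

theorem map_conj_eq_of_mem_normalizer {P : Subgroup G} {g : G}
    (hg : g ∈ Subgroup.normalizer (P : Set G)) : P.map (MulAut.conj g).toMonoidHom = P := by
  ext x
  rw [mem_map_conj_iff]
  have hg' : g⁻¹ ∈ Subgroup.normalizer (P : Set G) := Subgroup.inv_mem _ hg
  have := (Subgroup.mem_normalizer_iff.mp hg') x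
  rw [inv_inv] at this
  exact this.symm

theorem conj_mem_of_mem_normalizer {P : Subgroup G} {g : G}
    (hg : g ∈ Subgroup.normalizer (P : Set G)) {x : G} (hx : x ∈ P) : g * x * g⁻¹ ∈ P :=
  (Subgroup.mem_normalizer_iff.mp hg x).mp hx

theorem conj_inv_mem_of_mem_normalizer {P : Subgroup G} {g : G}
    (hg : g ∈ Subgroup.normalizer (P : Set G)) {x : G} (hx : x ∈ P) : g⁻¹ * x * g ∈ P := by
  have := conj_mem_of_mem_normalizer (Subgroup.inv_mem _ hg) hx
  rwa [inv_inv] at this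

section Basic

variable {T : Subgroup G} (E : FusionSystem T)

theorem EE_le {P : Subgroup G} {g : G} (h : g ∈ EE E P) : P ≤ T := hom_le E h

theorem EE_conj_mem {P : Subgroup G} {g : G} (h : g ∈ EE E P) {x : G} (hx : x ∈ P) :
    g * x * g⁻¹ ∈ T := hom_mem E h ⟨x, hx⟩

theorem EE_map_le {P : Subgroup G} {g : G} (h : g ∈ EE E P) :
    P.map (MulAut.conj g).toMonoidHom ≤ T := by
  rintro _ ⟨x, hx, rfl⟩
  exact EE_conj_mem E h hx

theorem mem_EE_of_mem {P : Subgroup G} (hP : P ≤ T) {t : G} (ht : t ∈ T) : t ∈ EE E P :=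
  E.conj_mem hP ht

theorem EE_congr {P : Subgroup G} {g k : G} (h : g ∈ EE E P)
    (hk : ∀ x ∈ P, k * x * k⁻¹ = g * x * g⁻¹) : k ∈ EE E P :=
  hom_congr E h (fun x => hk x x.2)

theorem EE_mono {P P' : Subgroup G} (hPP : P' ≤ P) {g : G} (h : g ∈ EE E P) : g ∈ EE E P' :=
  hom_congr E (restrict_mem E hPP h) (fun _ => rfl)

theorem EE_mul {P : Subgroup G} {g k : G} (hg : g ∈ EE E P)
    (hk : k ∈ EE E (P.map (MulAut.conj g).toMonoidHom)) : k * g ∈ EE E P := by
  refine comp_mem' E hg hk (fun x => ⟨x, x.2, rfl⟩) (fun x => ?_)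
  show k * g * x * (k * g)⁻¹ = k * (g * x * g⁻¹) * k⁻¹
  group

theorem EE_inv {P : Subgroup G} {g : G} (hg : g ∈ EE E P) :
    g⁻¹ ∈ EE E (P.map (MulAut.conj g).toMonoidHom) := by
  obtain ⟨ψ, hψ, hψx, -⟩ := inv_mem' E hg (conjHom_range P g)
  refine hom_congr E hψ (fun y => ?_)
  obtain ⟨x, hx, hxy⟩ := y.2
  have h1 := hψx ⟨x, hx⟩ y hxy
  rw [h1]
  show g⁻¹ * (y : G) * g⁻¹⁻¹ = x
  rw [← hxy]
  show g⁻¹ * (g * x * g⁻¹) * g⁻¹⁻¹ = x
  group

theorem EE_mul_centralizer {P : Subgroup G} {g c : G} (hg : g ∈ EE E P)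
    (hc : c ∈ Subgroup.centralizer (P : Set G)) : g * c ∈ EE E P := by
  refine EE_congr E hg (fun x hx => ?_)
  have h1 : c * x = x * c := (Subgroup.mem_centralizer_iff.mp hc x hx).symm
  calc g * c * x * (g * c)⁻¹ = g * (c * x) * c⁻¹ * g⁻¹ := by group
    _ = g * (x * c) * c⁻¹ * g⁻¹ := by rw [h1]
    _ = g * x * g⁻¹ := by group

/-- The elements of the normalizer of `P` inducing on `P` an automorphism in `E`. -/
def NE {P : Subgroup G} (hP : P ≤ T) : Subgroup G where
  carrier := {g | g ∈ Subgroup.normalizer (P : Set G) ∧ g ∈ EE E P}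
  one_mem' := ⟨Subgroup.one_mem _, mem_EE_of_mem E hP T.one_mem⟩
  mul_mem' := by
    rintro a b ⟨ha, ha'⟩ ⟨hb, hb'⟩
    refine ⟨Subgroup.mul_mem _ ha hb, EE_mul E hb' ?_⟩
    rw [map_conj_eq_of_mem_normalizer hb]
    exact ha'
  inv_mem' := by
    rintro a ⟨ha, ha'⟩
    refine ⟨Subgroup.inv_mem _ ha, ?_⟩
    have := EE_inv E ha'
    rwa [map_conj_eq_of_mem_normalizer ha] at this

theorem mem_NE {P : Subgroup G} (hP : P ≤ T) {g : G} :
    g ∈ NE E hP ↔ g ∈ Subgroup.normalizer (P : Set G) ∧ g ∈ EE E P := Iff.rfl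

theorem centralizer_le_NE {P : Subgroup G} (hP : P ≤ T) :
    Subgroup.centralizer (P : Set G) ≤ NE E hP := by
  intro c hc
  refine ⟨Subgroup.centralizer_le_normalizer (P : Set G) hc, ?_⟩
  have := EE_mul_centralizer E (mem_EE_of_mem E hP T.one_mem) hc
  rwa [one_mul] at this

theorem normalizerIn_le_NE {P : Subgroup G} (hP : P ≤ T) : normalizerIn T P ≤ NE E hP :=
  fun _ ht => ⟨ht.2, mem_EE_of_mem E hP ht.1⟩

/-- Automorphisms in `Aut_E(P)` are induced by elements of `NE`. -/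
theorem mem_autGroup_iff_exists {S : Subgroup G} (hsub : E.IsSubsystemOf (groupFusionSystem S))
    {P : Subgroup G} (hP : P ≤ T) {α : MulAut P} :
    α ∈ E.autGroup P ↔ ∃ g ∈ NE E hP, ∀ x : P, ((α x : P) : G) = g * x * g⁻¹ := by
  rw [mem_autGroup_iff E hP]
  constructor
  · intro h
    obtain ⟨-, -, g, hg⟩ := hsub P h
    have hg' : ∀ x : P, ((α x : P) : G) = g * x * g⁻¹ := fun x => hg x
    refine ⟨g, ⟨mem_normalizer_of_conj_eq hg', ?_⟩, hg'⟩
    exact hom_congr E h (fun x => (hg' x).symm)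
  · rintro ⟨g, ⟨-, hg⟩, hgα⟩
    exact hom_congr E hg (fun x => hgα x)

theorem conjAut_mem_autGroup {P : Subgroup G} (hP : P ≤ T) {g : G} (hg : g ∈ NE E hP) :
    conjAut P g hg.1 ∈ E.autGroup P := by
  rw [mem_autGroup_iff E hP]
  exact hom_congr E hg.2 (fun _ => rfl)

end Basic

/-! ### Coprime powers -/

/-- If `k` has order dividing `m`, commutes with the commutator `a = k x k⁻¹ x⁻¹`, and `a` has order
dividing `q` prime to `m`, then `a = 1`. -/
theorem comm_eq_one_of_coprime {k x : G} {m q : ℕ} (hk : k ^ m = 1)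
    (hcomm : k * (k * x * k⁻¹ * x⁻¹) = (k * x * k⁻¹ * x⁻¹) * k)
    (ha : (k * x * k⁻¹ * x⁻¹) ^ q = 1) (hmq : Nat.Coprime m q) : k * x * k⁻¹ * x⁻¹ = 1 := by
  set a := k * x * k⁻¹ * x⁻¹ with ha_def
  have hc : Commute k a := hcomm
  have key : ∀ j : ℕ, k ^ j * x * (k ^ j)⁻¹ = a ^ j * x := by
    intro j
    induction j with
    | zero => simp
    | succ j ih =>
      have h1 : k ^ (j + 1) * x * (k ^ (j + 1))⁻¹ = k * (k ^ j * x * (k ^ j)⁻¹) * k⁻¹ := by
        rw [pow_succ']; group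
      rw [h1, ih]
      have h2 : k * (a ^ j * x) * k⁻¹ = (k * a ^ j * k⁻¹) * (k * x * k⁻¹) := by group
      rw [h2]
      have h3 : k * a ^ j * k⁻¹ = a ^ j := by
        have := (hc.pow_right j).eq
        rw [this]; group
      rw [h3]
      have h4 : k * x * k⁻¹ = a * x := by rw [ha_def]; group
      rw [h4, ← mul_assoc, ← pow_succ]
  have h5 := key m
  rw [hk] at h5
  have h6 : a ^ m = 1 := by
    have : a ^ m * x = x := by rw [← h5]; group
    exact mul_eq_right.mp this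
  have hd1 := orderOf_dvd_of_pow_eq_one h6
  have hd2 := orderOf_dvd_of_pow_eq_one ha
  have := Nat.eq_one_of_dvd_coprimes hmq hd1 hd2
  exact orderOf_eq_one_iff.mp this

/-- If `e = χ κ` with `χ ∈ N`, `κ` normalizing `N`, `κ ^ q ∈ N`, `e ^ m ∈ N` and `m`, `q` coprime, then `e ∈ N`. -/
theorem mem_of_coprime_pow {N : Subgroup G} {e χ κ : G} (hχ : χ ∈ N)
    (hκ : κ ∈ Subgroup.normalizer (N : Set G)) (he : e = χ * κ) {q m : ℕ} (hκq : κ ^ q ∈ N)
    (hem : e ^ m ∈ N) (hmq : Nat.Coprime m q) : e ∈ N := by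
  have key : ∀ n : ℕ, ∃ ν ∈ N, e ^ n = ν * κ ^ n := by
    intro n
    induction n with
    | zero => exact ⟨1, N.one_mem, by simp⟩
    | succ n ih =>
      obtain ⟨ν, hν, hn⟩ := ih
      refine ⟨ν * (κ ^ n * χ * (κ ^ n)⁻¹), N.mul_mem hν ?_, ?_⟩
      · exact conj_mem_of_mem_normalizer (Subgroup.pow_mem _ hκ n) hχ
      · rw [pow_succ, hn, he, pow_succ]; group
  obtain ⟨ν, hν, hq⟩ := key q
  have heq : e ^ q ∈ N := by rw [hq]; exact N.mul_mem hν hκq
  have hb := Nat.gcd_eq_gcd_ab m q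
  rw [hmq] at hb
  have h1 : e = (e ^ m) ^ (Nat.gcdA m q) * (e ^ q) ^ (Nat.gcdB m q) := by
    rw [← zpow_natCast e m, ← zpow_natCast e q, ← zpow_mul, ← zpow_mul, ← zpow_add, ← hb]
    simp
  rw [h1]
  exact N.mul_mem (N.zpow_mem hem _) (N.zpow_mem heq _)

/-- An element centralizing the normal subgroup `R` and normalizing `U ≥ R`, where `C_U(R) ≤ R`: its
`|R|`-th power centralizes `U`. -/
theorem pow_card_mem_centralizer {R U : Subgroup G} [Finite R] [hRn : R.Normal]
    (hCU : ∀ u ∈ U, u ∈ Subgroup.centralizer (R : Set G) → u ∈ R) {c : G}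
    (hcR : c ∈ Subgroup.centralizer (R : Set G)) (hcU : c ∈ Subgroup.normalizer (U : Set G)) :
    c ^ Nat.card R ∈ Subgroup.centralizer (U : Set G) := by
  rw [Subgroup.mem_centralizer_iff]
  intro u hu
  set z := u⁻¹ * (c * u * c⁻¹) with hz
  have hzU : z ∈ U := U.mul_mem (U.inv_mem hu) (conj_mem_of_mem_normalizer hcU hu)
  have hzC : z ∈ Subgroup.centralizer (R : Set G) := by
    have h1 : z = (u⁻¹ * c * u⁻¹⁻¹) * c⁻¹ := by rw [hz]; group
    rw [h1]
    exact Subgroup.mul_mem _ (Subgroup.normal_centralizer.conj_mem c hcR u⁻¹)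
      (Subgroup.inv_mem _ hcR)
  have hzR : z ∈ R := hCU z hzU hzC
  have hcz : c * z = z * c := (Subgroup.mem_centralizer_iff.mp hcR z hzR).symm
  have hc : Commute c z := hcz
  have key : ∀ n : ℕ, c ^ n * u * (c ^ n)⁻¹ = u * z ^ n := by
    intro n
    induction n with
    | zero => simp
    | succ n ih =>
      have h1 : c ^ (n + 1) * u * (c ^ (n + 1))⁻¹ = c * (c ^ n * u * (c ^ n)⁻¹) * c⁻¹ := by
        rw [pow_succ']; group
      rw [h1, ih]
      have h2 : c * (u * z ^ n) * c⁻¹ = (c * u * c⁻¹) * (c * z ^ n * c⁻¹) := by group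
      rw [h2]
      have h3 : c * z ^ n * c⁻¹ = z ^ n := by
        have := (hc.pow_right n).eq
        rw [this]; group
      have h4 : c * u * c⁻¹ = u * z := by rw [hz]; group
      rw [h3, h4, mul_assoc, ← pow_succ']
  have hzn : z ^ Nat.card R = 1 := by
    have : (⟨z, hzR⟩ : R) ^ Nat.card R = 1 := pow_card_eq_one'
    exact congrArg Subtype.val this
  have h5 := key (Nat.card R)
  rw [hzn, mul_one] at h5
  calc u * c ^ Nat.card R = (c ^ Nat.card R * u * (c ^ Nat.card R)⁻¹) * c ^ Nat.card R := by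
        rw [h5]
    _ = c ^ Nat.card R * u := by group

/-- A `p'`-automorphism induced by `g` is induced by a power of `g` of order prime to `p`. -/
theorem exists_pow_coprime_conj [Finite G] (p : ℕ) [Fact p.Prime] {P : Subgroup G}
    (β : MulAut P) (hβ : Nat.Coprime (orderOf β) p) (g : G)
    (h : ∀ x : P, ((β x : P) : G) = g * (x : G) * g⁻¹) :
    ∃ j : ℕ, Nat.Coprime (orderOf (g ^ j)) p ∧
      ∀ x : P, ((β x : P) : G) = g ^ j * (x : G) * (g ^ j)⁻¹ := by
  have hpos : orderOf g ≠ 0 := (orderOf_pos g).ne'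
  obtain ⟨a, m, hm, hcard⟩ := Nat.exists_eq_pow_mul_and_not_dvd hpos p (Fact.out : p.Prime).ne_one
  have hmp : Nat.Coprime m p := ((Nat.Prime.coprime_iff_not_dvd Fact.out).mpr hm).symm
  have hc : Nat.Coprime (p ^ a) (orderOf β) := (Nat.Coprime.pow_right a hβ).symm
  obtain ⟨i, hi⟩ := exists_pow_eq_self_of_coprime hc
  refine ⟨p ^ a * i, ?_, fun x => ?_⟩
  · have h1 : (g ^ (p ^ a * i)) ^ m = 1 := by
      rw [← pow_mul, mul_comm (p ^ a) i, mul_assoc, ← hcard, pow_mul', pow_orderOf_eq_one, one_pow]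
    exact Nat.Coprime.coprime_dvd_left (orderOf_dvd_of_pow_eq_one h1) hmp
  · have h1 := conj_pow_apply β g h (p ^ a)
    have h2 := conj_pow_apply (β ^ p ^ a) (g ^ p ^ a) h1 i x
    rw [hi, ← pow_mul] at h2
    exact h2

/-- The `m`-th power of an element inducing an automorphism of order `m` centralizes. -/
theorem pow_orderOf_mem_centralizer {P : Subgroup G} (β : MulAut P) (g : G)
    (h : ∀ x : P, ((β x : P) : G) = g * (x : G) * g⁻¹) :
    g ^ orderOf β ∈ Subgroup.centralizer (P : Set G) := by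
  rw [Subgroup.mem_centralizer_iff]
  intro x hx
  have h1 := conj_pow_apply β g h (orderOf β) ⟨x, hx⟩
  rw [pow_orderOf_eq_one] at h1
  have h2 : x = g ^ orderOf β * x * (g ^ orderOf β)⁻¹ := h1
  calc x * g ^ orderOf β = (g ^ orderOf β * x * (g ^ orderOf β)⁻¹) * g ^ orderOf β := by rw [← h2]
    _ = g ^ orderOf β * x := by group

end Cfsg.Agent.Lib.Helper87.NS
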