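import Cfsg.Agent.Lib.Helper87.NS1

set_option autoImplicit false

/-!
Element-level consequences of the invariance of a subsystem `E` (over `T`) of the fusion system of a group `G` on `S`:
strong closure, conjugation invariance under `N_G(T)`, the Frattini factorisation, the normality of `Aut_E(U)` in
`Aut_G(U)`, and the extension condition.
-/

namespace Cfsg.Agent.Lib.Helper87.NS

open Cfsg Cfsg.FusionSystem Cfsg.Agent.Lib.Helper87

variable {G : Type*} [Group G] {S T : Subgroup G}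

section Inv

variable (E : FusionSystem T) (hinv : E.IsInvariantIn (groupFusionSystem S))

include hinv

theorem le_of_isInvariantIn : T ≤ S := hinv.2.1.1

/-- Strong closure, for subgroups. -/
theorem sc_map_le {P : Subgroup G} (hP : P ≤ T) {g : G}
    (h : P.map (MulAut.conj g).toMonoidHom ≤ S) : P.map (MulAut.conj g).toMonoidHom ≤ T := by
  have hTS : T ≤ S := hinv.2.1.1
  have hmem : conjHom P g ∈ (groupFusionSystem S).Hom P :=
    conjHom_mem_groupFusion (hP.trans hTS) h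
  rintro _ ⟨x, hx, rfl⟩
  exact hinv.2.1.2 P hP _ hmem ⟨x, hx⟩

/-- Strong closure, for elements. -/
theorem sc_mem {x g : G} (hx : x ∈ T) (h : g * x * g⁻¹ ∈ S) : g * x * g⁻¹ ∈ T := by
  have hP : Subgroup.zpowers x ≤ T := by
    rw [Subgroup.zpowers_le]; exact hx
  have h1 : (Subgroup.zpowers x).map (MulAut.conj g).toMonoidHom ≤ S := by
    rw [MonoidHom.map_zpowers, Subgroup.zpowers_le]
    exact h
  exact sc_map_le E hinv hP h1 ⟨x, Subgroup.mem_zpowers x, rfl⟩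

/-- A subgroup of `S` containing a conjugate of `T` contains... : `N_G` of a subgroup between `T` and `S`
normalizes `T`. -/
theorem normalizer_le_normalizer_of_le [Finite T] {D : Subgroup G} (hTD : T ≤ D) (hDS : D ≤ S) :
    Subgroup.normalizer (D : Set G) ≤ Subgroup.normalizer (T : Set G) := by
  intro g hg
  have key : ∀ k ∈ Subgroup.normalizer (D : Set G), ∀ x ∈ T, k * x * k⁻¹ ∈ T := by
    intro k hk x hx
    exact sc_mem E hinv hx (hDS (conj_mem_of_mem_normalizer hk (hTD hx)))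
  rw [Subgroup.mem_normalizer_iff]
  intro x
  constructor
  · exact key g hg x
  · intro hx
    have := key g⁻¹ (Subgroup.inv_mem _ hg) _ hx
    have e : g⁻¹ * (g * x * g⁻¹) * g⁻¹⁻¹ = x := by group
    rwa [e] at this

theorem conjAut_mem_autGroup_group {n : G} (hn : n ∈ Subgroup.normalizer (T : Set G)) :
    conjAut T n hn ∈ (groupFusionSystem S).autGroup T := by
  have hTS : T ≤ S := hinv.2.1.1
  rw [mem_autGroup_iff _ hTS]
  exact ⟨hTS, fun x => hTS (Subtype.prop _), n, fun _ => rfl⟩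

/-- Invariance: conjugating a map of `E` by an element of `N_G(T)` gives a map of `E`. -/
theorem EE_conj_normalizer {P : Subgroup G} (hP : P ≤ T) {g : G} (hg : g ∈ EE E P) {n : G}
    (hn : n ∈ Subgroup.normalizer (T : Set G)) :
    n * g * n⁻¹ ∈ EE E (P.map (MulAut.conj n).toMonoidHom) := by
  have hα := conjAut_mem_autGroup_group E hinv hn
  obtain ⟨χ, hχ, hχx⟩ := hinv.2.2.1 P hP (conjHom P g) hg (conjAut T n hn) hα
  have hP' : (P.subgroupOf T).map (T.subtype.comp (conjAut T n hn).toMonoidHom) =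
      P.map (MulAut.conj n).toMonoidHom := by
    ext y
    constructor
    · rintro ⟨t, ht, rfl⟩
      exact ⟨t, Subgroup.mem_subgroupOf.mp ht, rfl⟩
    · rintro ⟨x, hx, rfl⟩
      exact ⟨⟨x, hP hx⟩, Subgroup.mem_subgroupOf.mpr hx, rfl⟩
  have h1 := cast_mem E hP'.symm hχ
  refine hom_congr E h1 (fun y => ?_)
  obtain ⟨x, hx, hxy⟩ := y.2
  have hφx : conjHom P g ⟨x, hx⟩ ∈ T := EE_conj_mem E hg hx
  have hαx : ((conjAut T n hn ⟨x, hP hx⟩ : T) : G) ∈
      (P.subgroupOf T).map (T.subtype.comp (conjAut T n hn).toMonoidHom) :=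
    ⟨⟨x, hP hx⟩, Subgroup.mem_subgroupOf.mpr hx, rfl⟩
  have h2 := hχx ⟨x, hx⟩ hφx hαx
  have h3 : (Subgroup.inclusion hP'.symm.le y) =
      ⟨((conjAut T n hn ⟨x, hP hx⟩ : T) : G), hαx⟩ := by
    apply Subtype.ext
    show (y : G) = n * x * n⁻¹
    exact hxy.symm
  show n * g * n⁻¹ * (y : G) * (n * g * n⁻¹)⁻¹ = χ (Subgroup.inclusion hP'.symm.le y)
  rw [h3, h2, ← hxy]
  show n * g * n⁻¹ * (n * x * n⁻¹) * (n * g * n⁻¹)⁻¹ = n * (g * x * g⁻¹) * n⁻¹
  group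

/-- The Frattini factorisation, for elements. -/
theorem frattini_elt {P : Subgroup G} (hP : P ≤ T) {g : G}
    (h : P.map (MulAut.conj g).toMonoidHom ≤ S) :
    ∃ n ∈ Subgroup.normalizer (T : Set G), ∃ g₀ ∈ EE E P,
      ∀ x ∈ P, g * x * g⁻¹ = n * (g₀ * x * g₀⁻¹) * n⁻¹ := by
  have hTS : T ≤ S := hinv.2.1.1
  have hmem : conjHom P g ∈ (groupFusionSystem S).Hom P :=
    conjHom_mem_groupFusion (hP.trans hTS) h
  obtain ⟨α, hα, φ₀, hφ₀, hfac⟩ := hinv.2.2.2 P hP (conjHom P g) hmem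
  rw [mem_autGroup_iff _ hTS] at hα
  obtain ⟨-, -, n, hn⟩ := hα
  have hn' : ∀ t : T, ((α t : T) : G) = n * t * n⁻¹ := fun t => hn t
  obtain ⟨-, -, g₀, hg₀⟩ := hinv.1 P hφ₀
  refine ⟨n, mem_normalizer_of_conj_eq hn', g₀, hom_congr E hφ₀ (fun x => (hg₀ x).symm), ?_⟩
  intro x hx
  have hx0 : φ₀ ⟨x, hx⟩ ∈ T := hom_mem E hφ₀ ⟨x, hx⟩
  have h1 := hfac ⟨x, hx⟩ hx0
  have h2 : conjHom P g ⟨x, hx⟩ = g * x * g⁻¹ := rfl
  rw [h2, hn'] at h1
  rw [h1]
  show n * (φ₀ ⟨x, hx⟩) * n⁻¹ = _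
  rw [hg₀]

/-- `Aut_E(U)` is normalized by `Aut_G(U)`. -/
theorem NE_normalized {U : Subgroup G} (hU : U ≤ T) {g e : G}
    (hg : g ∈ Subgroup.normalizer (U : Set G)) (he : e ∈ NE E hU) : g * e * g⁻¹ ∈ NE E hU := by
  have hTS : T ≤ S := hinv.2.1.1
  refine ⟨Subgroup.mul_mem _ (Subgroup.mul_mem _ hg he.1) (Subgroup.inv_mem _ hg), ?_⟩
  have hUg : U.map (MulAut.conj g).toMonoidHom ≤ S := by
    rw [map_conj_eq_of_mem_normalizer hg]; exact hU.trans hTS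
  obtain ⟨n, hn, g₀, hg₀, hfac⟩ := frattini_elt E hinv hU hUg
  set U₀ := U.map (MulAut.conj g₀).toMonoidHom with hU₀
  have hU₀T : U₀ ≤ T := EE_map_le E hg₀
  have h1 : g₀⁻¹ ∈ EE E U₀ := EE_inv E hg₀
  have h2 : e ∈ EE E (U₀.map (MulAut.conj g₀⁻¹).toMonoidHom) := by
    rw [hU₀, map_conj_inv_map_conj]; exact he.2
  have h3 : e * g₀⁻¹ ∈ EE E U₀ := EE_mul E h1 h2
  have h4 : g₀ ∈ EE E (U₀.map (MulAut.conj (e * g₀⁻¹)).toMonoidHom) := by
    rw [← map_conj_map_conj, hU₀, map_conj_inv_map_conj, map_conj_eq_of_mem_normalizer he.1]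
    exact hg₀
  have h5 : g₀ * (e * g₀⁻¹) ∈ EE E U₀ := EE_mul E h3 h4
  have h6 := EE_conj_normalizer E hinv hU₀T h5 hn
  have h7 : U₀.map (MulAut.conj n).toMonoidHom = U := by
    rw [hU₀, map_conj_map_conj]
    ext y
    constructor
    · rintro ⟨x, hx, rfl⟩
      have := hfac x hx
      show n * g₀ * x * (n * g₀)⁻¹ ∈ U
      have e1 : n * g₀ * x * (n * g₀)⁻¹ = n * (g₀ * x * g₀⁻¹) * n⁻¹ := by group
      rw [e1, ← this]
      exact conj_mem_of_mem_normalizer hg hx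
    · intro hy
      have hx : g⁻¹ * y * g ∈ U := conj_inv_mem_of_mem_normalizer hg hy
      refine ⟨g⁻¹ * y * g, hx, ?_⟩
      have := hfac _ hx
      show n * g₀ * (g⁻¹ * y * g) * (n * g₀)⁻¹ = y
      have e1 : n * g₀ * (g⁻¹ * y * g) * (n * g₀)⁻¹ = n * (g₀ * (g⁻¹ * y * g) * g₀⁻¹) * n⁻¹ := by
        group
      rw [e1, ← this]
      group
  rw [h7] at h6
  refine EE_congr E h6 (fun x hx => ?_)
  have hx₁ : g⁻¹ * x * g ∈ U := conj_inv_mem_of_mem_normalizer hg hx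
  have hx₂ : e * (g⁻¹ * x * g) * e⁻¹ ∈ U := conj_mem_of_mem_normalizer he.1 hx₁
  have f1 := hfac _ hx₁
  have f2 := hfac _ hx₂
  have f1' : x = n * (g₀ * (g⁻¹ * x * g) * g₀⁻¹) * n⁻¹ := by
    rw [← f1]; group
  have f1'' : g₀⁻¹ * n⁻¹ * x * n * g₀ = g⁻¹ * x * g := by
    calc g₀⁻¹ * n⁻¹ * x * n * g₀
        = g₀⁻¹ * n⁻¹ * (n * (g₀ * (g⁻¹ * x * g) * g₀⁻¹) * n⁻¹) * n * g₀ := by rw [← f1']
      _ = g⁻¹ * x * g := by group
  calc g * e * g⁻¹ * x * (g * e * g⁻¹)⁻¹ = g * (e * (g⁻¹ * x * g) * e⁻¹) * g⁻¹ := by group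
    _ = n * (g₀ * (e * (g⁻¹ * x * g) * e⁻¹) * g₀⁻¹) * n⁻¹ := f2
    _ = n * (g₀ * (e * (g₀⁻¹ * n⁻¹ * x * n * g₀) * e⁻¹) * g₀⁻¹) * n⁻¹ := by rw [f1'']
    _ = n * (g₀ * (e * g₀⁻¹)) * n⁻¹ * x * (n * (g₀ * (e * g₀⁻¹)) * n⁻¹)⁻¹ := by group

/-- If `U` is normal in `G`, the elements inducing on `U` an automorphism in `E` form a normal subgroup. -/
theorem NE_normal_of_normal {U : Subgroup G} (hU : U ≤ T) [hUn : U.Normal] : (NE E hU).Normal := by
  constructor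
  intro e he g
  have hg : g ∈ Subgroup.normalizer (U : Set G) := by
    rw [Subgroup.normalizer_eq_top_iff.mpr hUn]; trivial
  exact NE_normalized E hinv hU hg he

end Inv

/-- The extension condition, for elements. -/
theorem n1_elt (E : FusionSystem T) (p : ℕ) (hE : E.IsNormalIn (groupFusionSystem S) p) {n : G}
    (hn : n ∈ NE E (le_refl T)) :
    ∃ k : G, k ∈ Subgroup.normalizer ((T ⊔ centralizerIn S T : Subgroup G) : Set G) ∧
      (∀ x ∈ T, k * x * k⁻¹ = n * x * n⁻¹) ∧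
      ∀ c ∈ centralizerIn S T, c⁻¹ * (k * c * k⁻¹) ∈ T ⊓ Subgroup.centralizer (T : Set G) := by
  have hTS : T ≤ S := hE.1.2.2.2.1.1
  have hα := conjAut_mem_autGroup E (le_refl T) hn
  obtain ⟨β, hβ, hβx, hβc⟩ := hE.2 _ hα
  have hle : T ⊔ centralizerIn S T ≤ S := sup_le hTS (centralizerIn_le S T)
  rw [mem_autGroup_iff _ hle] at hβ
  obtain ⟨-, -, k, hk⟩ := hβ
  have hk' : ∀ y : ↥(T ⊔ centralizerIn S T), ((β y : ↥(T ⊔ centralizerIn S T)) : G) =
      k * y * k⁻¹ := fun y => hk y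
  refine ⟨k, mem_normalizer_of_conj_eq hk', ?_, ?_⟩
  · intro x hx
    have h1 := hβx ⟨x, hx⟩
    rw [hk'] at h1
    exact h1
  · intro c hc
    have h1 := hβc ⟨c, (le_sup_right : centralizerIn S T ≤ T ⊔ centralizerIn S T) hc⟩ hc
    rw [hk'] at h1
    exact h1

end Cfsg.Agent.Lib.Helper87.NS
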