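import Cfsg.Agent.Lib.Helper87.NS2
import Cfsg.Agent.Lib.Helper87.NormalizerBasic
import Cfsg.Agent.Lib.Helper87.PPowerIndex
import Cfsg.Agent.Lib.Helper27.MetaSCF

set_option autoImplicit false

/-!
Consequences of saturation at the element level: Sylow property of `Aut_T(P)`, extension of automorphisms of a
normal centric subgroup, essential subgroups contain subgroups normal in the ambient group, and a generation
lemma (Alperin plus the Frattini argument).
-/

namespace Cfsg.Agent.Lib.Helper87.NS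

open Cfsg Cfsg.FusionSystem Cfsg.Agent.Lib.Helper87

variable {G : Type*} [Group G] {T : Subgroup G}

/-- In a saturated system `X` over `T`, for `P` fully normalized: an element of a `p`-subgroup `D ≥ T` that
induces on `P` an automorphism in `X` acts on `P` as an element of `N_T(P)`. -/
theorem sylow_aut [Finite T] (p : ℕ) [Fact p.Prime] (hT : IsPGroup p T) (X : FusionSystem T)
    (hX : X.IsSaturated p) {D : Subgroup G} (hD : IsPGroup p D) (hTD : T ≤ D) {P : Subgroup G}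
    (hfn : X.IsFullyNormalized P) {s : G} (hsD : s ∈ D) (hs : s ∈ NE X hfn.1) :
    ∃ t ∈ T, t ∈ Subgroup.normalizer (P : Set G) ∧ ∀ x ∈ P, s * x * s⁻¹ = t * x * t⁻¹ := by
  have hPT : P ≤ T := hfn.1
  obtain ⟨-, -, R', hR'⟩ := fullyNormalized_props p hT X hX P hfn
  have hA₁ : IsPGroup p ((autInducedBy D P).subgroupOf (X.autGroup P)) :=
    (isPGroup_autInducedBy hD P).comap_subtype
  have hle : (R' : Subgroup (X.autGroup P)) ≤ (autInducedBy D P).subgroupOf (X.autGroup P) := by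
    rw [hR']
    intro a ha
    rw [Subgroup.mem_subgroupOf] at ha ⊢
    exact autInducedBy_mono hTD ha
  have heq := R'.is_maximal' hA₁ hle
  have h1 : conjAut P s hs.1 ∈ X.autGroup P := conjAut_mem_autGroup X hPT hs
  have h2 : (⟨conjAut P s hs.1, h1⟩ : X.autGroup P) ∈
      (autInducedBy D P).subgroupOf (X.autGroup P) := by
    rw [Subgroup.mem_subgroupOf]
    exact conjAut_mem_autInducedBy hsD hs.1
  rw [heq, hR', Subgroup.mem_subgroupOf] at h2
  obtain ⟨t, ht, htx⟩ := mem_autInducedBy_iff.mp h2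
  refine ⟨t, ht, mem_normalizer_of_conj_eq htx, fun x hx => ?_⟩
  exact htx ⟨x, hx⟩

/-- Extension of an automorphism of the normal centric subgroup `R` of `T` to an automorphism of `U`
whose automizer it normalizes. -/
theorem ext_lemma [Finite T] (p : ℕ) [Fact p.Prime] (hT : IsPGroup p T) (X : FusionSystem T)
    (hX : X.IsSaturated p) {R U : Subgroup G} (hRU : R ≤ U) (hUT : U ≤ T)
    (hRn : T ≤ Subgroup.normalizer (R : Set G)) (hCR : centralizerIn T R ≤ R) {g : G}
    (hg : g ∈ NE X (hRU.trans hUT))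
    (hcond : ∀ u ∈ U, ∃ u' ∈ U, ∀ x ∈ R, g * (u * x * u⁻¹) * g⁻¹ = u' * (g * x * g⁻¹) * u'⁻¹) :
    ∃ ψ ∈ X.Hom U, (∀ r : U, (r : G) ∈ R → ψ r = g * r * g⁻¹) ∧ ∀ u : U, ψ u ∈ U := by
  have hRT : R ≤ T := hRU.trans hUT
  have hNR : normalizerIn T R = T :=
    le_antisymm (normalizerIn_le T R) (fun t ht => ⟨ht, hRn ht⟩)
  have hfn := isFullyNormalized_of_normalizerIn_eq X hRT hNR
  obtain ⟨hfc, -⟩ := fullyNormalized_props p hT X hX R hfn
  have hrec := isReceptive_of_isFullyCentralized p hT X hX R hfc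
  have hrange : (conjHom R g).range = R := by
    rw [conjHom_range, map_conj_eq_of_mem_normalizer hg.1]
  obtain ⟨ψ₀, hψ₀, hψ₀x⟩ := hrec.2 R (conjHom R g) hg.2 hrange
  have hUext : U ≤ extender T R (conjHom R g) := by
    intro u hu
    rw [mem_extender_iff]
    obtain ⟨u', hu', hcu⟩ := hcond u hu
    refine ⟨hUT hu, hRn (hUT hu), u', hUT hu', fun x hx => ?_⟩
    exact hcu x x.2
  have hψ : ψ₀.comp (Subgroup.inclusion hUext) ∈ X.Hom U := restrict_mem X hUext hψ₀
  have hψR : ∀ r : U, (r : G) ∈ R → (ψ₀.comp (Subgroup.inclusion hUext)) r = g * r * g⁻¹ := by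
    intro r hr
    exact hψ₀x r hr (hUext r.2)
  refine ⟨_, hψ, hψR, fun u => ?_⟩
  set ψ := ψ₀.comp (Subgroup.inclusion hUext) with hψdef
  obtain ⟨u', hu', hcu⟩ := hcond u u.2
  have hψuT : ψ u ∈ T := hom_mem X hψ u
  -- `u'⁻¹ ψ(u)` centralizes `R`
  have hcent : u'⁻¹ * ψ u ∈ centralizerIn T R := by
    refine ⟨T.mul_mem (T.inv_mem (hUT hu')) hψuT, ?_⟩
    show u'⁻¹ * ψ u ∈ Subgroup.centralizer (R : Set G)
    rw [Subgroup.mem_centralizer_iff]
    intro r hr
    -- `r = g x g⁻¹` with `x = g⁻¹ r g ∈ R`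
    have hx : g⁻¹ * r * g ∈ R := conj_inv_mem_of_mem_normalizer hg.1 hr
    have hxU : g⁻¹ * r * g ∈ U := hRU hx
    have huxu : (u : G) * (g⁻¹ * r * g) * (u : G)⁻¹ ∈ R :=
      conj_mem_of_mem_normalizer (hRn (hUT u.2)) hx
    have e1 : ψ (u * ⟨g⁻¹ * r * g, hxU⟩ * u⁻¹) = ψ u * ψ ⟨g⁻¹ * r * g, hxU⟩ * (ψ u)⁻¹ := by
      rw [map_mul, map_mul, map_inv]
    have e2 : ψ ⟨g⁻¹ * r * g, hxU⟩ = r := by
      rw [hψR ⟨g⁻¹ * r * g, hxU⟩ hx]
      show g * (g⁻¹ * r * g) * g⁻¹ = r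
      group
    have e3 : ψ (u * ⟨g⁻¹ * r * g, hxU⟩ * u⁻¹) = u' * r * u'⁻¹ := by
      rw [hψR (u * ⟨g⁻¹ * r * g, hxU⟩ * u⁻¹) huxu]
      have := hcu _ hx
      show g * ((u : G) * (g⁻¹ * r * g) * (u : G)⁻¹) * g⁻¹ = u' * r * u'⁻¹
      rw [this]
      group
    rw [e1, e2] at e3
    -- e3 : ψ u * r * (ψ u)⁻¹ = u' * r * u'⁻¹
    calc r * (u'⁻¹ * ψ u) = u'⁻¹ * (u' * r * u'⁻¹) * ψ u := by group
      _ = u'⁻¹ * (ψ u * r * (ψ u)⁻¹) * ψ u := by rw [e3]
      _ = u'⁻¹ * ψ u * r := by group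
  have h5 : ψ u = u' * (u'⁻¹ * ψ u) := by group
  rw [h5]
  exact U.mul_mem hu' (hRU (hCR hcent))

/-- The element form of the extension lemma, inside the fusion system of a group. -/
theorem ext_elt [Finite T] (p : ℕ) [Fact p.Prime] (hT : IsPGroup p T) (X : FusionSystem T)
    (hX : X.IsSaturated p) {S : Subgroup G} (hsub : X.IsSubsystemOf (groupFusionSystem S))
    {R U : Subgroup G} (hRU : R ≤ U) (hUT : U ≤ T)
    (hRn : T ≤ Subgroup.normalizer (R : Set G)) (hCR : centralizerIn T R ≤ R) {g : G}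
    (hg : g ∈ NE X (hRU.trans hUT))
    (hcond : ∀ u ∈ U, ∃ u' ∈ U, ∀ x ∈ R, g * (u * x * u⁻¹) * g⁻¹ = u' * (g * x * g⁻¹) * u'⁻¹) :
    ∃ g' ∈ NE X hUT, ∀ r ∈ R, g' * r * g'⁻¹ = g * r * g⁻¹ := by
  obtain ⟨ψ, hψ, hψR, hψU⟩ := ext_lemma p hT X hX hRU hUT hRn hCR hg hcond
  obtain ⟨-, -, g', hg'⟩ := hsub U hψ
  haveI : Finite U := finite_of_le hUT
  have hnorm : g' ∈ Subgroup.normalizer (U : Set G) := by
    apply mem_normalizer_of_conj_mem
    intro y hy
    rw [← hg' ⟨y, hy⟩]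
    exact hψU ⟨y, hy⟩
  refine ⟨g', ⟨hnorm, hom_congr X hψ (fun x => (hg' x).symm)⟩, fun r hr => ?_⟩
  rw [← hg' ⟨r, hRU hr⟩]
  exact hψR ⟨r, hRU hr⟩ hr

/-- A subgroup of `T` normal in the ambient group lies in every essential subgroup of a subsystem of the
fusion system of the group. -/
theorem le_of_isEssential_of_normal [Finite T] (p : ℕ) [Fact p.Prime] (hT : IsPGroup p T)
    (X : FusionSystem T) {S : Subgroup G} (hsub : X.IsSubsystemOf (groupFusionSystem S))
    {R : Subgroup G} (hRT : R ≤ T) [hRn : R.Normal] {U : Subgroup G} (hU : X.IsEssential p U) :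
    R ≤ U := by
  by_contra hRU
  have hUT : U ≤ T := hU.1.1
  have hsc : X.StronglyClosed R := by
    refine ⟨hRT, fun R' hR' φ hφ x => ?_⟩
    obtain ⟨-, -, g, hg⟩ := hsub R' hφ
    rw [hg]
    exact hRn.conj_mem _ (hR' x.2) g
  obtain ⟨x, hxR, hxN, hxU⟩ :=
    Cfsg.Agent.Lib.Helper27.MetaSCF.exists_mem_normalizer_not_mem hT X hsc hUT hRU
  have hxT : x ∈ T := hRT hxR
  -- the normal `p`-subgroup of automorphisms induced by `R`
  have hNn : ((autInducedBy R U).subgroupOf (X.autGroup U)).Normal := by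
    constructor
    intro β hβ a
    rw [Subgroup.mem_subgroupOf] at hβ ⊢
    obtain ⟨y, hy, hyβ⟩ := mem_autInducedBy_iff.mp hβ
    obtain ⟨g, hg, hga⟩ := (mem_autGroup_iff_exists X hsub hUT).mp a.2
    apply mem_autInducedBy_iff.mpr
    refine ⟨g * y * g⁻¹, hRn.conj_mem y hy g, fun u => ?_⟩
    show (((a : MulAut U) * (β : MulAut U) * (a : MulAut U)⁻¹) u : G) = _
    rw [MulAut.mul_apply, MulAut.mul_apply, hga, hyβ]
    have h1 : (((a : MulAut U)⁻¹ u : U) : G) = g⁻¹ * u * g := by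
      have h2 := hga ((a : MulAut U)⁻¹ u)
      rw [← MulAut.mul_apply, mul_inv_cancel, MulAut.one_apply] at h2
      rw [h2]; group
    rw [h1]
    group
  have hNp : IsPGroup p ((autInducedBy R U).subgroupOf (X.autGroup U)) :=
    (isPGroup_autInducedBy (hT.to_le hRT) U).comap_subtype
  have hxaut : conjAut U x hxN ∈ X.autGroup U :=
    autInducedBy_le_autGroup X hUT (conjAut_mem_autInducedBy hxT hxN)
  have hβ : (⟨conjAut U x hxN, hxaut⟩ : X.autGroup U) ∈
      (autInducedBy R U).subgroupOf (X.autGroup U) := by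
    rw [Subgroup.mem_subgroupOf]
    exact conjAut_mem_autInducedBy hxR hxN
  obtain ⟨u, hu⟩ := Cfsg.Agent.Lib.Helper27.MetaSCF.inner_of_mem_normal_pSubgroup X hU _ hNn hNp _ hβ
  have hcen : centralizerIn T U ≤ U :=
    Cfsg.Agent.Lib.Helper03.FusEss.centralizerIn_le_of_isEssential X hU
  apply hxU
  refine Cfsg.Agent.Lib.Helper27.MetaSCF.mem_of_conj_eq_inner hcen hxT hUT u (fun e => ?_)
  have h1 := congrArg (fun α : MulAut U => ((α e : U) : G)) hu
  simpa using h1

/-- Generation: a saturated system `E₁` lies in `E₂` as soon as `E₂` contains the automorphisms of order prime to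
`p` of `T` and of the essential subgroups of `E₁`. -/
theorem le_of_coprime_aut [Finite T] (p : ℕ) [Fact p.Prime] (hT : IsPGroup p T)
    (E₁ E₂ : FusionSystem T) (hsat : E₁.IsSaturated p)
    (h2 : ∀ P : Subgroup G, (P = T ∨ E₁.IsEssential p P) → ∀ α ∈ E₁.autGroup P,
      Nat.Coprime (orderOf α) p → α ∈ E₂.autGroup P) :
    E₁ ≤ E₂ := by
  apply Cfsg.Agent.S5082.result p hT E₁ hsat E₂
  intro P hP
  have hPfn : E₁.IsFullyNormalized P := by
    rcases hP with rfl | hP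
    · exact self_isFullyNormalized' E₁
    · exact hP.2.1
  have hPT : P ≤ T := hPfn.1
  obtain ⟨-, -, R, hR⟩ := fullyNormalized_props p hT E₁ hsat P hPfn
  have : Finite (E₁.autGroup P) := finite_autGroup E₁ hPT
  intro α hα
  have hidx : ¬ p ∣ ((autInducedBy T P).subgroupOf (E₁.autGroup P)).index := by
    rw [← hR]; exact R.not_dvd_index
  have htop := Cfsg.Agent.Lib.Helper42.pResidual_sup_eq_top p (E₁.autGroup P) _ hidx
  have hnorm := Cfsg.Agent.Lib.Helper42.pResidual_normal p (E₁.autGroup P)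
  have hmem : (⟨α, hα⟩ : E₁.autGroup P) ∈
      Cfsg.pResidual p (E₁.autGroup P) ⊔ (autInducedBy T P).subgroupOf (E₁.autGroup P) := by
    rw [htop]; trivial
  rw [← SetLike.mem_coe, Subgroup.normal_mul, Set.mem_mul] at hmem
  obtain ⟨β, hβ, γ, hγ, hβγ⟩ := hmem
  have hα' : α = (β : MulAut P) * (γ : MulAut P) := by
    have := congrArg Subtype.val hβγ
    simpa using this.symm
  rw [hα']
  apply Subgroup.mul_mem
  · have hle : Cfsg.pResidual p (E₁.autGroup P) ≤
        (E₂.autGroup P).comap (E₁.autGroup P).subtype := by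
      unfold Cfsg.pResidual
      rw [Subgroup.closure_le]
      intro δ hδ
      show (δ : MulAut P) ∈ E₂.autGroup P
      apply h2 P hP _ δ.2
      rw [Subgroup.orderOf_coe]
      exact hδ
    exact hle hβ
  · exact autInducedBy_le_autGroup E₂ hPT (Subgroup.mem_subgroupOf.mp hγ)

end Cfsg.Agent.Lib.Helper87.NS
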