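import Cfsg.Agent.Lib.Helper87.NS3
import Cfsg.Agent.Lib.Helper52.PCore
import Cfsg.Agent.Lib.Helper74.CR2Basic
import Cfsg.Agent.Lib.Helper90.SylowNormal

set_option autoImplicit false

/-!
Normal subsystems of the fusion system of a group `G` with `C_G(O_p(G)) ≤ O_p(G)`: the subgroups `R = T ∩ O_p(G)`,
`K = C_G(O_p(G)/R)`, `B = C_K(R)`, `G_E` (the elements inducing on `R` an automorphism in `E`) and `X = K ∩ G_E`;
the covering statement `G_E = X C_G(R)`.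
-/

namespace Cfsg.Agent.Lib.Helper87.NS

open Cfsg Cfsg.FusionSystem Cfsg.Agent.Lib.Helper87

variable {G : Type*} [Group G]

/-- The elements of `G` acting trivially by conjugation on `Q/R` (`R`, `Q` normal in `G`). -/
def cq (R Q : Subgroup G) (hR : R.Normal) (hQ : Q.Normal) : Subgroup G where
  carrier := {g | ∀ x ∈ Q, g * x * g⁻¹ * x⁻¹ ∈ R}
  one_mem' := by
    intro x _
    have : (1 : G) * x * 1⁻¹ * x⁻¹ = 1 := by group
    rw [this]; exact R.one_mem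
  mul_mem' := by
    intro a b ha hb x hx
    have h1 := hb x hx
    have h2 := ha x hx
    have e : a * b * x * (a * b)⁻¹ * x⁻¹ = a * (b * x * b⁻¹ * x⁻¹) * a⁻¹ * (a * x * a⁻¹ * x⁻¹) := by
      group
    rw [e]
    exact R.mul_mem (hR.conj_mem _ h1 a) h2
  inv_mem' := by
    intro a ha x hx
    have hy : a⁻¹ * x * a ∈ Q := by
      have := hQ.conj_mem x hx a⁻¹
      rwa [inv_inv] at this
    have h1 := ha _ hy
    have e : a⁻¹ * x * a⁻¹⁻¹ * x⁻¹ = (a * (a⁻¹ * x * a) * a⁻¹ * (a⁻¹ * x * a)⁻¹)⁻¹ := by group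
    rw [e]
    exact R.inv_mem h1

theorem mem_cq {R Q : Subgroup G} {hR : R.Normal} {hQ : Q.Normal} {g : G} :
    g ∈ cq R Q hR hQ ↔ ∀ x ∈ Q, g * x * g⁻¹ * x⁻¹ ∈ R := Iff.rfl

theorem cq_normal (R Q : Subgroup G) (hR : R.Normal) (hQ : Q.Normal) : (cq R Q hR hQ).Normal := by
  constructor
  intro n hn g x hx
  have hy : g⁻¹ * x * g ∈ Q := by
    have := hQ.conj_mem x hx g⁻¹
    rwa [inv_inv] at this
  have h1 := hn _ hy
  have e : g * n * g⁻¹ * x * (g * n * g⁻¹)⁻¹ * x⁻¹ =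
      g * (n * (g⁻¹ * x * g) * n⁻¹ * (g⁻¹ * x * g)⁻¹) * g⁻¹ := by group
  rw [e]
  exact hR.conj_mem _ h1 g

theorem conj_pow_eq {k x : G}
    (hcomm : k * (k * x * k⁻¹ * x⁻¹) = (k * x * k⁻¹ * x⁻¹) * k) (j : ℕ) :
    k ^ j * x * (k ^ j)⁻¹ = (k * x * k⁻¹ * x⁻¹) ^ j * x := by
  set a := k * x * k⁻¹ * x⁻¹ with ha_def
  have hc : Commute k a := hcomm
  induction j with
  | zero => simp
  | succ j ih =>
    have h1 : k ^ (j + 1) * x * (k ^ (j + 1))⁻¹ = k * (k ^ j * x * (k ^ j)⁻¹) * k⁻¹ := by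
      rw [pow_succ']; group
    rw [h1, ih]
    have h2 : k * (a ^ j * x) * k⁻¹ = (k * a ^ j * k⁻¹) * (k * x * k⁻¹) := by group
    rw [h2]
    have h3 : k * a ^ j * k⁻¹ = a ^ j := by
      have := (hc.pow_right j).eq
      rw [this]; group
    rw [h3]
    have h4 : k * x * k⁻¹ = a * x := by rw [ha_def]; group
    rw [h4, ← mul_assoc, ← pow_succ]

theorem pow_conj_eq_of_conj_eq {T : Subgroup G} {k n : G}
    (h : ∀ x ∈ T, k * x * k⁻¹ = n * x * n⁻¹) (hn : ∀ x ∈ T, n * x * n⁻¹ ∈ T) (j : ℕ) :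
    ∀ x ∈ T, k ^ j * x * (k ^ j)⁻¹ = n ^ j * x * (n ^ j)⁻¹ := by
  induction j with
  | zero => intro x _; simp
  | succ j ih =>
    intro x hx
    have h1 : k ^ (j + 1) * x * (k ^ (j + 1))⁻¹ = k ^ j * (k * x * k⁻¹) * (k ^ j)⁻¹ := by
      rw [pow_succ]; group
    have h2 : n ^ (j + 1) * x * (n ^ (j + 1))⁻¹ = n ^ j * (n * x * n⁻¹) * (n ^ j)⁻¹ := by
      rw [pow_succ]; group
    rw [h1, h2, h x hx]
    exact ih _ (hn x hx)

/-- A normal subgroup `N` all of whose `q`-th powers (`q` a power of `p`) lie in the normal subgroup `M`, and whose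
intersection with a Sylow `p`-subgroup lies in `M`, is contained in `M`. -/
theorem le_of_pow_mem_of_sylow_inf_le [Finite G] (p : ℕ) [Fact p.Prime] (S : Sylow p G)
    {M N : Subgroup G} (hM : M.Normal) (hN : N.Normal) (e : ℕ)
    (hpow : ∀ y ∈ N, y ^ p ^ e ∈ M) (hS : (S : Subgroup G) ⊓ N ≤ M) : N ≤ M := by
  intro g hg
  obtain ⟨y1, y2, hy, -, h1, h2, ⟨k, hk⟩, hcop⟩ := Cfsg.Agent.Lib.Helper74.CR2.exists_pParts p g
  have hzN : Subgroup.zpowers g ≤ N := by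
    rw [Subgroup.zpowers_le]; exact hg
  have hy1N : y1 ∈ N := hzN h1
  have hy2N : y2 ∈ N := hzN h2
  have hc : Nat.Coprime (p ^ e) (orderOf y2) := (Nat.Coprime.pow_right e hcop).symm
  obtain ⟨j, hj⟩ := exists_pow_eq_self_of_coprime hc
  have hy2M : y2 ∈ M := by
    rw [← hj]; exact M.pow_mem (hpow y2 hy2N) j
  have hz : IsPGroup p (Subgroup.zpowers y1) := by
    apply IsPGroup.of_card (n := k)
    rw [Nat.card_zpowers, hk]
  obtain ⟨x, hx⟩ := exists_conj_le_sylow S hz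
  have h3 : x * y1 * x⁻¹ ∈ (S : Subgroup G) ⊓ N :=
    ⟨hx ⟨y1, Subgroup.mem_zpowers y1, rfl⟩, hN.conj_mem y1 hy1N x⟩
  have h4 := hS h3
  have hy1M : y1 ∈ M := by
    have := hM.conj_mem _ h4 x⁻¹
    have e1 : x⁻¹ * (x * y1 * x⁻¹) * x⁻¹⁻¹ = y1 := by group
    rwa [e1] at this
  rw [← hy]
  exact M.mul_mem hy1M hy2M

section Main

variable [Finite G]

/-- `R = T ∩ O_p(G)`. -/
def RR (p : ℕ) (T : Subgroup G) : Subgroup G := T ⊓ Cfsg.pCore p G

/-- The standing hypotheses. -/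
structure Ctx (p : ℕ) [Fact p.Prime] (S : Sylow p G) (T : Subgroup G) (E : FusionSystem T) : Prop where
  hG : Subgroup.centralizer ((Cfsg.pCore p G : Subgroup G) : Set G) ≤ Cfsg.pCore p G
  hE : E.IsNormalIn (groupFusionSystem (S : Subgroup G)) p

namespace Ctx

variable {p : ℕ} [Fact p.Prime] {S : Sylow p G} {T : Subgroup G} {E : FusionSystem T}

section

variable (c : Ctx p S T E)

include c

theorem hinv : E.IsInvariantIn (groupFusionSystem (S : Subgroup G)) := c.hE.1.2.2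

theorem hsat : E.IsSaturated p := c.hE.1.1

theorem hsub : E.IsSubsystemOf (groupFusionSystem (S : Subgroup G)) := c.hinv.1

theorem hTS : T ≤ S := c.hinv.2.1.1

theorem hTp : IsPGroup p T := S.isPGroup'.to_le c.hTS

theorem Q_le_S : Cfsg.pCore p G ≤ S := Cfsg.Agent.Lib.Helper52.pCore_le_sylow p G S

theorem RR_le : RR p T ≤ T := inf_le_left

theorem RR_normal : (RR p T).Normal := by
  constructor
  intro x hx g
  have hQn := Cfsg.Agent.Lib.Helper52.pCore_normal p G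
  have hxQ : g * x * g⁻¹ ∈ Cfsg.pCore p G := hQn.conj_mem x hx.2 g
  exact ⟨sc_mem E c.hinv hx.1 (c.Q_le_S hxQ), hxQ⟩

theorem S_le_normalizer_T : (S : Subgroup G) ≤ Subgroup.normalizer (T : Set G) :=
  (Subgroup.le_normalizer).trans
    (normalizer_le_normalizer_of_le E c.hinv c.hTS (le_refl _))

theorem T_le_normalizer_RR : T ≤ Subgroup.normalizer ((RR p T : Subgroup G) : Set G) := by
  have := c.RR_normal
  rw [Subgroup.normalizer_eq_top_iff.mpr this]
  exact le_top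

end

/-- `K = C_G(O_p(G)/R)`. -/
def K (c : Ctx p S T E) : Subgroup G :=
  cq (RR p T) (Cfsg.pCore p G) c.RR_normal (Cfsg.Agent.Lib.Helper52.pCore_normal p G)

/-- `B = C_K(R)`. -/
def B (c : Ctx p S T E) : Subgroup G := c.K ⊓ Subgroup.centralizer ((RR p T : Subgroup G) : Set G)

/-- `G_E`: the elements inducing on `R` an automorphism in `E`. -/
def GEs (c : Ctx p S T E) : Subgroup G := NE E c.RR_le

/-- `X = K ∩ G_E`. -/
def X (c : Ctx p S T E) : Subgroup G := c.K ⊓ c.GEs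

variable (c : Ctx p S T E)

include c

theorem K_normal : c.K.Normal := cq_normal _ _ _ _

theorem centralizer_RR_normal : (Subgroup.centralizer ((RR p T : Subgroup G) : Set G)).Normal :=
  haveI := c.RR_normal
  Subgroup.normal_centralizer

theorem B_normal : c.B.Normal :=
  haveI := c.K_normal
  haveI := c.centralizer_RR_normal
  Subgroup.normal_inf_normal _ _

theorem GEs_normal : c.GEs.Normal :=
  haveI := c.RR_normal
  NE_normal_of_normal E c.hinv c.RR_le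

theorem X_normal : c.X.Normal :=
  haveI := c.K_normal
  haveI := c.GEs_normal
  Subgroup.normal_inf_normal _ _

theorem T_le_K : T ≤ c.K := by
  intro t ht x hx
  have hQn := Cfsg.Agent.Lib.Helper52.pCore_normal p G
  refine ⟨?_, ?_⟩
  · have hxN := c.S_le_normalizer_T (c.Q_le_S hx)
    have h1 : x * t⁻¹ * x⁻¹ ∈ T := conj_mem_of_mem_normalizer hxN (T.inv_mem ht)
    have e : t * x * t⁻¹ * x⁻¹ = t * (x * t⁻¹ * x⁻¹) := by group
    rw [e]
    exact T.mul_mem ht h1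
  · exact Subgroup.mul_mem _ (hQn.conj_mem x hx t) (Subgroup.inv_mem _ hx)

theorem T_le_GEs : T ≤ c.GEs := by
  intro t ht
  exact normalizerIn_le_NE E c.RR_le ⟨ht, c.T_le_normalizer_RR ht⟩

theorem T_le_X : T ≤ c.X := le_inf c.T_le_K c.T_le_GEs

theorem centralizer_le_GEs : Subgroup.centralizer ((RR p T : Subgroup G) : Set G) ≤ c.GEs :=
  centralizer_le_NE E c.RR_le

/-- Elements of `B` of order prime to `p` centralize `O_p(G)`. -/
theorem mem_centralizer_pCore_of_coprime {g : G} (hg : g ∈ c.B) (hcop : Nat.Coprime (orderOf g) p) :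
    g ∈ Subgroup.centralizer ((Cfsg.pCore p G : Subgroup G) : Set G) := by
  rw [Subgroup.mem_centralizer_iff]
  intro x hx
  have ha : g * x * g⁻¹ * x⁻¹ ∈ RR p T := hg.1 x hx
  have hcomm : g * (g * x * g⁻¹ * x⁻¹) = (g * x * g⁻¹ * x⁻¹) * g :=
    (Subgroup.mem_centralizer_iff.mp hg.2 _ ha).symm
  have hRp : IsPGroup p (RR p T) := c.hTp.to_le c.RR_le
  obtain ⟨r, hr⟩ := IsPGroup.iff_card.mp hRp
  have hq : (g * x * g⁻¹ * x⁻¹) ^ Nat.card (RR p T) = 1 := by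
    have : (⟨_, ha⟩ : RR p T) ^ Nat.card (RR p T) = 1 := pow_card_eq_one'
    exact congrArg Subtype.val this
  have hcop' : Nat.Coprime (orderOf g) (Nat.card (RR p T)) := by
    rw [hr]; exact Nat.Coprime.pow_right r hcop
  have h1 := comm_eq_one_of_coprime (pow_orderOf_eq_one g) hcomm hq hcop'
  calc x * g = (g * x * g⁻¹ * x⁻¹)⁻¹ * (g * x) := by group
    _ = g * x := by rw [h1]; group

theorem B_isPGroup : IsPGroup p c.B := by
  rintro ⟨g, hg⟩
  have hpos : orderOf g ≠ 0 := (orderOf_pos g).ne'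
  obtain ⟨a, m, hm, hcard⟩ := Nat.exists_eq_pow_mul_and_not_dvd hpos p (Fact.out : p.Prime).ne_one
  have hmp : Nat.Coprime m p := ((Nat.Prime.coprime_iff_not_dvd Fact.out).mpr hm).symm
  have hy : g ^ p ^ a ∈ c.B := Subgroup.pow_mem _ hg _
  have hym : (g ^ p ^ a) ^ m = 1 := by
    rw [← pow_mul, ← hcard, pow_orderOf_eq_one]
  have hyc : Nat.Coprime (orderOf (g ^ p ^ a)) p :=
    Nat.Coprime.coprime_dvd_left (orderOf_dvd_of_pow_eq_one hym) hmp
  have hyQ : g ^ p ^ a ∈ Cfsg.pCore p G := c.hG (c.mem_centralizer_pCore_of_coprime hy hyc)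
  obtain ⟨b, hb⟩ := Cfsg.Agent.Lib.Helper52.pCore_isPGroup p G ⟨_, hyQ⟩
  have hb' : (g ^ p ^ a) ^ p ^ b = 1 := congrArg Subtype.val hb
  have hd1 := orderOf_dvd_of_pow_eq_one hym
  have hd2 := orderOf_dvd_of_pow_eq_one hb'
  have hcop : Nat.Coprime m (p ^ b) := Nat.Coprime.pow_right b hmp
  have h1 := Nat.eq_one_of_dvd_coprimes hcop hd1 hd2
  refine ⟨a, Subtype.ext ?_⟩
  exact orderOf_eq_one_iff.mp h1

theorem B_le_pCore : c.B ≤ Cfsg.pCore p G :=
  Cfsg.Agent.Lib.Helper52.le_pCore c.B_normal c.B_isPGroup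

theorem centralizerIn_RR_le : centralizerIn T (RR p T) ≤ RR p T := by
  intro x hx
  have hxB : x ∈ c.B := ⟨c.T_le_K hx.1, hx.2⟩
  exact ⟨hx.1, c.B_le_pCore hxB⟩

theorem RR_isFullyNormalized : E.IsFullyNormalized (RR p T) := by
  apply isFullyNormalized_of_normalizerIn_eq E c.RR_le
  exact le_antisymm (normalizerIn_le T _) (fun t ht => ⟨ht, c.T_le_normalizer_RR ht⟩)

/-- An element of `S` inducing on `R` an automorphism in `E` acts on `R` as an element of `T`. -/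
theorem exists_of_mem_S_GEs {s : G} (hsS : s ∈ (S : Subgroup G)) (hs : s ∈ c.GEs) :
    ∃ t ∈ T, t⁻¹ * s ∈ Subgroup.centralizer ((RR p T : Subgroup G) : Set G) := by
  obtain ⟨t, ht, -, htx⟩ := sylow_aut p c.hTp E c.hsat S.isPGroup' c.hTS c.RR_isFullyNormalized hsS hs
  refine ⟨t, ht, ?_⟩
  rw [Subgroup.mem_centralizer_iff]
  intro x hx
  have h1 := htx x hx
  calc x * (t⁻¹ * s) = t⁻¹ * (t * x * t⁻¹) * s := by group
    _ = t⁻¹ * (s * x * s⁻¹) * s := by rw [h1]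
    _ = t⁻¹ * s * x := by group

theorem exists_of_mem_S_X {s : G} (hsS : s ∈ (S : Subgroup G)) (hs : s ∈ c.X) :
    ∃ t ∈ T, ∃ b ∈ c.B, s = t * b := by
  obtain ⟨t, ht, htc⟩ := c.exists_of_mem_S_GEs hsS hs.2
  refine ⟨t, ht, t⁻¹ * s, ⟨?_, htc⟩, by group⟩
  exact Subgroup.mul_mem _ (Subgroup.inv_mem _ (c.T_le_K ht)) hs.1

/-- The extension condition forces a `p`-power of an element of `N_E(T)` into `K`. -/
theorem pow_mem_K_of_n1 {k : G} (hkN : k ∈ NE E (le_refl T))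
    (hkc : ∀ c' ∈ centralizerIn (S : Subgroup G) T,
      c'⁻¹ * (k * c' * k⁻¹) ∈ T ⊓ Subgroup.centralizer (T : Set G)) :
    k ^ Nat.card (Cfsg.pCore p G) ∈ c.K := by
  have hQn := Cfsg.Agent.Lib.Helper52.pCore_normal p G
  have hRn := c.RR_normal
  -- Step 2: `k` acts trivially mod `R` on `Q ∩ T C_S(T)`
  have step2 : ∀ y ∈ (T ⊔ centralizerIn (S : Subgroup G) T : Subgroup G), y ∈ Cfsg.pCore p G →
      k * y * k⁻¹ * y⁻¹ ∈ RR p T := by
    intro y hy hyQ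
    have hCN : centralizerIn (S : Subgroup G) T ≤ Subgroup.normalizer (T : Set G) :=
      fun z hz => c.S_le_normalizer_T hz.1
    have hy' : y ∈ ((T ⊔ centralizerIn (S : Subgroup G) T : Subgroup G) : Set G) := hy
    rw [Subgroup.coe_mul_of_right_le_normalizer_left T _ hCN] at hy'
    obtain ⟨t, ht, c', hc', rfl⟩ := Set.mem_mul.mp hy'
    refine ⟨?_, Subgroup.mul_mem _ (hQn.conj_mem _ hyQ k) (Subgroup.inv_mem _ hyQ)⟩
    have hz := hkc c' hc'
    have hzc : c' * (c'⁻¹ * (k * c' * k⁻¹)) = (c'⁻¹ * (k * c' * k⁻¹)) * c' :=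
      (Subgroup.mem_centralizer_iff.mp hc'.2 _ hz.1).symm
    have e : k * (t * c') * k⁻¹ * (t * c')⁻¹ =
        (k * t * k⁻¹) * (c' * (c'⁻¹ * (k * c' * k⁻¹)) * c'⁻¹) * t⁻¹ := by group
    rw [e, hzc]
    have e2 : c'⁻¹ * (k * c' * k⁻¹) * c' * c'⁻¹ = c'⁻¹ * (k * c' * k⁻¹) := by group
    rw [e2]
    exact T.mul_mem (T.mul_mem (conj_mem_of_mem_normalizer hkN.1 ht) hz.1) (T.inv_mem ht)
  intro x hx
  -- Step 1: `a = [k, x] ∈ Q ∩ T C_S(T)`
  have hxS : x ∈ (S : Subgroup G) := c.Q_le_S hx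
  have hxN : x ∈ Subgroup.normalizer (T : Set G) := c.S_le_normalizer_T hxS
  have haQ : k * x * k⁻¹ * x⁻¹ ∈ Cfsg.pCore p G :=
    Subgroup.mul_mem _ (hQn.conj_mem _ hx k) (Subgroup.inv_mem _ hx)
  have haN : k * x * k⁻¹ * x⁻¹ ∈ NE E (le_refl T) := by
    have h1 := NE_normalized E c.hinv (le_refl T) hxN (Subgroup.inv_mem _ hkN)
    have e : k * x * k⁻¹ * x⁻¹ = k * (x * k⁻¹ * x⁻¹) := by group
    rw [e]
    exact Subgroup.mul_mem _ hkN h1
  have haTC : k * x * k⁻¹ * x⁻¹ ∈ (T ⊔ centralizerIn (S : Subgroup G) T : Subgroup G) := by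
    obtain ⟨t, ht, -, htx⟩ := sylow_aut p c.hTp E c.hsat S.isPGroup' c.hTS
      (self_isFullyNormalized' E) (c.Q_le_S haQ) haN
    have hcent : t⁻¹ * (k * x * k⁻¹ * x⁻¹) ∈ centralizerIn (S : Subgroup G) T := by
      refine ⟨Subgroup.mul_mem _ (Subgroup.inv_mem _ (c.hTS ht)) (c.Q_le_S haQ), ?_⟩
      show _ ∈ Subgroup.centralizer (T : Set G)
      rw [Subgroup.mem_centralizer_iff]
      intro y hy
      have h1 := htx y hy
      calc y * (t⁻¹ * (k * x * k⁻¹ * x⁻¹))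
          = t⁻¹ * (t * y * t⁻¹) * (k * x * k⁻¹ * x⁻¹) := by group
        _ = t⁻¹ * ((k * x * k⁻¹ * x⁻¹) * y * (k * x * k⁻¹ * x⁻¹)⁻¹) * (k * x * k⁻¹ * x⁻¹) := by
            rw [h1]
        _ = t⁻¹ * (k * x * k⁻¹ * x⁻¹) * y := by group
    have e : k * x * k⁻¹ * x⁻¹ = t * (t⁻¹ * (k * x * k⁻¹ * x⁻¹)) := by group
    rw [e]
    exact Subgroup.mul_mem _ (Subgroup.mem_sup_left ht) (Subgroup.mem_sup_right hcent)
  -- Step 3: pass to `G ⧸ R`
  have hcommR : k * (k * x * k⁻¹ * x⁻¹) * k⁻¹ * (k * x * k⁻¹ * x⁻¹)⁻¹ ∈ RR p T := step2 _ haTC haQ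
  let π := QuotientGroup.mk' (RR p T)
  have hcomm' : π k * (π k * π x * (π k)⁻¹ * (π x)⁻¹) = (π k * π x * (π k)⁻¹ * (π x)⁻¹) * π k := by
    have h1 : π (k * (k * x * k⁻¹ * x⁻¹) * k⁻¹ * (k * x * k⁻¹ * x⁻¹)⁻¹) = 1 :=
      (QuotientGroup.eq_one_iff _).mpr hcommR
    simp only [map_mul, map_inv] at h1
    have h2 := mul_inv_eq_one.mp h1
    have h3 : π k * (π k * π x * (π k)⁻¹ * (π x)⁻¹) * (π k)⁻¹ = π k * π x * (π k)⁻¹ * (π x)⁻¹ := h2
    calc π k * (π k * π x * (π k)⁻¹ * (π x)⁻¹)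
        = (π k * (π k * π x * (π k)⁻¹ * (π x)⁻¹) * (π k)⁻¹) * π k := by group
      _ = (π k * π x * (π k)⁻¹ * (π x)⁻¹) * π k := by rw [h3]
  have h4 := conj_pow_eq hcomm' (Nat.card (Cfsg.pCore p G))
  have h5 : (π k * π x * (π k)⁻¹ * (π x)⁻¹) ^ Nat.card (Cfsg.pCore p G) = 1 := by
    have h6 : (k * x * k⁻¹ * x⁻¹) ^ Nat.card (Cfsg.pCore p G) = 1 := by
      have : (⟨_, haQ⟩ : Cfsg.pCore p G) ^ Nat.card (Cfsg.pCore p G) = 1 := pow_card_eq_one'
      exact congrArg Subtype.val this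
    have h7 := congrArg π h6
    simpa only [map_mul, map_inv, map_pow, map_one] using h7
  rw [h5, one_mul] at h4
  have h8 : π (k ^ Nat.card (Cfsg.pCore p G) * x * (k ^ Nat.card (Cfsg.pCore p G))⁻¹ * x⁻¹) = 1 := by
    simp only [map_mul, map_inv, map_pow]
    rw [h4]
    group
  exact (QuotientGroup.eq_one_iff _).mp h8

/-- Every element of `N_E(T)` has a `p`-power in `X C_G(R)`. -/
theorem pow_mem_of_mem_NE {n : G} (hn : n ∈ NE E (le_refl T)) :
    n ^ Nat.card (Cfsg.pCore p G) ∈ c.X ⊔ Subgroup.centralizer ((RR p T : Subgroup G) : Set G) := by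
  obtain ⟨k, -, hkT, hkc⟩ := n1_elt E p c.hE hn
  have hkN : k ∈ NE E (le_refl T) := by
    refine ⟨?_, EE_congr E hn.2 hkT⟩
    apply mem_normalizer_of_conj_mem
    intro y hy
    rw [hkT y hy]
    exact conj_mem_of_mem_normalizer hn.1 hy
  have h1 := c.pow_mem_K_of_n1 hkN hkc
  have hkG : k ∈ c.GEs := by
    refine ⟨?_, EE_mono E c.RR_le hkN.2⟩
    have := c.RR_normal
    rw [Subgroup.normalizer_eq_top_iff.mpr this]; trivial
  have h2 : k ^ Nat.card (Cfsg.pCore p G) ∈ c.X := ⟨h1, Subgroup.pow_mem _ hkG _⟩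
  have h3 := pow_conj_eq_of_conj_eq hkT (fun x hx => conj_mem_of_mem_normalizer hn.1 hx)
    (Nat.card (Cfsg.pCore p G))
  set q := Nat.card (Cfsg.pCore p G)
  have h4 : (k ^ q)⁻¹ * n ^ q ∈ Subgroup.centralizer ((RR p T : Subgroup G) : Set G) := by
    rw [Subgroup.mem_centralizer_iff]
    intro x hx
    have h5 := h3 x (c.RR_le hx)
    calc x * ((k ^ q)⁻¹ * n ^ q) = (k ^ q)⁻¹ * (k ^ q * x * (k ^ q)⁻¹) * n ^ q := by group
      _ = (k ^ q)⁻¹ * (n ^ q * x * (n ^ q)⁻¹) * n ^ q := by rw [h5]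
      _ = (k ^ q)⁻¹ * n ^ q * x := by group
  have e : n ^ q = k ^ q * ((k ^ q)⁻¹ * n ^ q) := by group
  rw [e]
  exact Subgroup.mul_mem _ (Subgroup.mem_sup_left h2) (Subgroup.mem_sup_right h4)

theorem M_normal : (c.X ⊔ Subgroup.centralizer ((RR p T : Subgroup G) : Set G)).Normal :=
  haveI := c.X_normal
  haveI := c.centralizer_RR_normal
  Subgroup.sup_normal _ _

theorem M_le_GEs : c.X ⊔ Subgroup.centralizer ((RR p T : Subgroup G) : Set G) ≤ c.GEs :=
  sup_le inf_le_right c.centralizer_le_GEs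

/-- The covering statement: `G_E = X C_G(R)`. -/
theorem GEs_le : c.GEs ≤ c.X ⊔ Subgroup.centralizer ((RR p T : Subgroup G) : Set G) := by
  have hMn := c.M_normal
  set M := c.X ⊔ Subgroup.centralizer ((RR p T : Subgroup G) : Set G) with hM
  apply le_of_pow_mem_of_sylow_inf_le p S hMn c.GEs_normal
    (Nat.factorization (Nat.card (Cfsg.pCore p G)) p)
  · intro g hg
    -- Frattini
    obtain ⟨ν, hν, m, hm, rfl⟩ := Cfsg.Agent.Lib.Helper90.exists_mul_of_normal S M g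
    have hνG : ν ∈ c.GEs := by
      have h1 : ν = ν * m * m⁻¹ := by group
      rw [h1]
      exact Subgroup.mul_mem _ hg (Subgroup.inv_mem _ (c.M_le_GEs hm))
    have hTM : T ≤ (S : Subgroup G) ⊓ M := le_inf c.hTS (c.T_le_X.trans le_sup_left)
    have hνT : ν ∈ Subgroup.normalizer (T : Set G) :=
      normalizer_le_normalizer_of_le E c.hinv hTM inf_le_left hν
    -- extension to `T`
    obtain ⟨n, hn, hnR⟩ := ext_elt p c.hTp E c.hsat c.hsub c.RR_le (le_refl T)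
      c.T_le_normalizer_RR c.centralizerIn_RR_le hνG (by
        intro u hu
        refine ⟨ν * u * ν⁻¹, conj_mem_of_mem_normalizer hνT hu, fun x _ => ?_⟩
        group)
    have hcent : n⁻¹ * ν ∈ Subgroup.centralizer ((RR p T : Subgroup G) : Set G) := by
      rw [Subgroup.mem_centralizer_iff]
      intro x hx
      have h1 := hnR x hx
      calc x * (n⁻¹ * ν) = n⁻¹ * (n * x * n⁻¹) * ν := by group
        _ = n⁻¹ * (ν * x * ν⁻¹) * ν := by rw [h1]
        _ = n⁻¹ * ν * x := by group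
    -- `ν m ∈ n M`
    have hq : Nat.card (Cfsg.pCore p G) =
        p ^ Nat.factorization (Nat.card (Cfsg.pCore p G)) p := by
      obtain ⟨r, hr⟩ := IsPGroup.iff_card.mp (Cfsg.Agent.Lib.Helper52.pCore_isPGroup p G)
      rw [hr, Nat.Prime.factorization_pow (Fact.out : p.Prime)]
      simp
    rw [← hq]
    have hnm : n⁻¹ * (ν * m) ∈ M := by
      have e : n⁻¹ * (ν * m) = (n⁻¹ * ν) * m := by group
      rw [e]
      exact Subgroup.mul_mem _ (Subgroup.mem_sup_right hcent) hm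
    -- powers modulo the normal subgroup `M`
    have hpow : ∀ j : ℕ, (n ^ j)⁻¹ * (ν * m) ^ j ∈ M := by
      intro j
      induction j with
      | zero => simp
      | succ j ih =>
        have e : (n ^ (j + 1))⁻¹ * (ν * m) ^ (j + 1) =
            n⁻¹ * ((n ^ j)⁻¹ * (ν * m) ^ j) * n⁻¹⁻¹ * (n⁻¹ * (ν * m)) := by
          rw [pow_succ', pow_succ]; group
        rw [e]
        exact Subgroup.mul_mem _ (hMn.conj_mem _ ih _) hnm
    have h2 := hpow (Nat.card (Cfsg.pCore p G))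
    have h3 := c.pow_mem_of_mem_NE hn
    have e : (ν * m) ^ Nat.card (Cfsg.pCore p G) =
        n ^ Nat.card (Cfsg.pCore p G) *
          ((n ^ Nat.card (Cfsg.pCore p G))⁻¹ * (ν * m) ^ Nat.card (Cfsg.pCore p G)) := by group
    rw [e]
    exact Subgroup.mul_mem _ h3 h2
  · rintro s ⟨hsS, hsG⟩
    obtain ⟨t, ht, htc⟩ := c.exists_of_mem_S_GEs hsS hsG
    have e : s = t * (t⁻¹ * s) := by group
    rw [e]
    exact Subgroup.mul_mem _ (Subgroup.mem_sup_left (c.T_le_X ht)) (Subgroup.mem_sup_right htc)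

end Ctx

end Main

end Cfsg.Agent.Lib.Helper87.NS
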