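import Cfsg.Agent.Lib.Helper87.NS4
import Cfsg.Agent.S5093

set_option autoImplicit false

/-!
The normal subgroup `H = O^p(X) T` of `G`: it meets `S` in `T` (via the hyperfocal subgroup theorem applied to `X`),
it is normal in `G`, and `G_E = H C_G(R)`.
-/

namespace Cfsg.Agent.Lib.Helper87.NS

open Cfsg Cfsg.FusionSystem Cfsg.Agent.Lib.Helper87

variable {G : Type*} [Group G] [Finite G]

namespace Ctx

variable {p : ℕ} [Fact p.Prime] {S : Sylow p G} {T : Subgroup G} {E : FusionSystem T}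

/-- `O^p(X)`, inside `G`. -/
def O (c : Ctx p S T E) : Subgroup G :=
  Subgroup.closure {y : G | y ∈ c.X ∧ Nat.Coprime (orderOf y) p}

/-- `H = O^p(X) T`. -/
def H (c : Ctx p S T E) : Subgroup G := c.O ⊔ T

variable (c : Ctx p S T E)

include c

theorem O_le_X : c.O ≤ c.X := by
  unfold O
  rw [Subgroup.closure_le]
  exact fun y hy => hy.1

theorem O_normal : c.O.Normal := by
  have hXn := c.X_normal
  constructor
  intro n hn g
  unfold O at hn ⊢
  induction hn using Subgroup.closure_induction with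
  | mem y hy =>
    apply Subgroup.subset_closure
    refine ⟨hXn.conj_mem y hy.1 g, ?_⟩
    rw [Cfsg.Agent.Lib.Helper42.orderOf_conj_eq]
    exact hy.2
  | one =>
    have : g * 1 * g⁻¹ = 1 := by group
    rw [this]; exact Subgroup.one_mem _
  | mul a b _ _ ha hb =>
    have : g * (a * b) * g⁻¹ = (g * a * g⁻¹) * (g * b * g⁻¹) := by group
    rw [this]; exact Subgroup.mul_mem _ ha hb
  | inv a _ ha =>
    have : g * a⁻¹ * g⁻¹ = (g * a * g⁻¹)⁻¹ := by group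
    rw [this]; exact Subgroup.inv_mem _ ha

theorem O_eq_map : c.O = (Cfsg.pResidual p c.X).map c.X.subtype := by
  unfold O Cfsg.pResidual
  rw [MonoidHom.map_closure]
  congr 1
  ext y
  constructor
  · rintro ⟨hyX, hy⟩
    refine ⟨⟨y, hyX⟩, ?_, rfl⟩
    show Nat.Coprime (orderOf (⟨y, hyX⟩ : c.X)) p
    rw [← Subgroup.orderOf_coe]
    exact hy
  · rintro ⟨k, hk, rfl⟩
    refine ⟨k.2, ?_⟩
    have : Nat.Coprime (orderOf k) p := hk
    rw [← Subgroup.orderOf_coe] at this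
    exact this

theorem T_le_H : T ≤ c.H := le_sup_right

theorem O_le_H : c.O ≤ c.H := le_sup_left

theorem H_le_X : c.H ≤ c.X := sup_le c.O_le_X c.T_le_X

/-- The basic commutator computation: `S ∩ X` is abelian modulo `T`, compatibly with fusion in `K`. -/
theorem comm_mem_T {x y : G} (hxS : x ∈ (S : Subgroup G)) (hxX : x ∈ c.X) (hy : y ∈ c.K)
    (hyx : y * x * y⁻¹ ∈ (S : Subgroup G)) : x⁻¹ * (y * x * y⁻¹) ∈ T := by
  obtain ⟨t, ht, b, hb, rfl⟩ := c.exists_of_mem_S_X hxS hxX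
  have hBn := c.B_normal
  have hbQ : b ∈ Cfsg.pCore p G := c.B_le_pCore hb
  have hbS : b ∈ (S : Subgroup G) := c.Q_le_S hbQ
  have hb' : y * b * y⁻¹ ∈ c.B := hBn.conj_mem b hb y
  have hb'S : y * b * y⁻¹ ∈ (S : Subgroup G) := c.Q_le_S (c.B_le_pCore hb')
  have ht'S : y * t * y⁻¹ ∈ (S : Subgroup G) := by
    have e : y * t * y⁻¹ = (y * (t * b) * y⁻¹) * (y * b * y⁻¹)⁻¹ := by group
    rw [e]
    exact Subgroup.mul_mem _ hyx (Subgroup.inv_mem _ hb'S)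
  have ht' : y * t * y⁻¹ ∈ T := sc_mem E c.hinv ht ht'S
  have hr : y * b * y⁻¹ * b⁻¹ ∈ RR p T := hy b hbQ
  have hbN : b ∈ Subgroup.normalizer (T : Set G) := c.S_le_normalizer_T hbS
  have h1 : t⁻¹ * (y * t * y⁻¹) * (y * b * y⁻¹ * b⁻¹) ∈ T :=
    T.mul_mem (T.mul_mem (T.inv_mem ht) ht') (c.RR_le hr)
  have h2 := conj_inv_mem_of_mem_normalizer hbN h1
  have e : (t * b)⁻¹ * (y * (t * b) * y⁻¹) =
      b⁻¹ * (t⁻¹ * (y * t * y⁻¹) * (y * b * y⁻¹ * b⁻¹)) * b := by group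
  rw [e]
  exact h2

/-- The hyperfocal subgroup theorem in `X`: `S ∩ O^p(X) ≤ T`. -/
theorem S_inf_O_le : (S : Subgroup G) ⊓ c.O ≤ T := by
  haveI := c.X_normal
  obtain ⟨P', hP'⟩ := Cfsg.Agent.Lib.Helper90.exists_sylow_eq_subgroupOf S c.X
  have hyp := Cfsg.Agent.S5093.result p P'
  have hle : (groupFusionSystem (P' : Subgroup c.X)).hyperfocalSubgroup p ≤ T.subgroupOf c.X := by
    unfold hyperfocalSubgroup
    rw [Subgroup.closure_le]
    rintro y ⟨P, α, x, hPP', -, rfl⟩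
    rw [SetLike.mem_coe, Subgroup.mem_subgroupOf]
    have hα := (mem_autGroup_iff (groupFusionSystem (P' : Subgroup c.X)) hPP').mp α.2
    obtain ⟨-, -, g, hg⟩ := hα
    have hg' : (((α : MulAut P) x : P) : c.X) = g * (x : c.X) * g⁻¹ := hg x
    have hmemS : ∀ z : c.X, z ∈ (P' : Subgroup c.X) → (z : G) ∈ (S : Subgroup G) := by
      intro z hz
      rw [hP'] at hz
      exact Subgroup.mem_subgroupOf.mp hz
    have hxP' : (((x : P) : c.X) : G) ∈ (S : Subgroup G) := hmemS _ (hPP' x.2)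
    have hαxP' : ((((α : MulAut P) x : P) : c.X) : G) ∈ (S : Subgroup G) :=
      hmemS _ (hPP' (Subtype.prop _))
    rw [hg'] at hαxP'
    have h1 := c.comm_mem_T hxP' (Subtype.prop _) (g.2.1)
      (by simpa using hαxP')
    rw [hg']
    simpa using h1
  rintro g ⟨hgS, hgO⟩
  rw [c.O_eq_map] at hgO
  obtain ⟨k, hk, rfl⟩ := hgO
  have hkP' : k ∈ (P' : Subgroup c.X) := by
    rw [hP', Subgroup.mem_subgroupOf]; exact hgS
  have hkhyp : k ∈ (groupFusionSystem (P' : Subgroup c.X)).hyperfocalSubgroup p := by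
    rw [hyp]; exact ⟨hkP', hk⟩
  exact Subgroup.mem_subgroupOf.mp (hle hkhyp)

theorem H_inf_S_le : c.H ⊓ (S : Subgroup G) ≤ T := by
  haveI := c.O_normal
  rintro g ⟨hgH, hgS⟩
  have hg' : g ∈ ((c.O ⊔ T : Subgroup G) : Set G) := hgH
  rw [Subgroup.normal_mul] at hg'
  obtain ⟨o, ho, t, ht, rfl⟩ := Set.mem_mul.mp hg'
  have hoS : o ∈ (S : Subgroup G) := by
    have e : o = o * t * t⁻¹ := by group
    rw [e]
    exact Subgroup.mul_mem _ hgS (Subgroup.inv_mem _ (c.hTS ht))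
  exact T.mul_mem (c.S_inf_O_le ⟨hoS, ho⟩) ht

theorem S_inf_H_eq : (S : Subgroup G) ⊓ c.H = T :=
  le_antisymm (by rw [inf_comm]; exact c.H_inf_S_le) (le_inf c.hTS c.T_le_H)

/-- `X = O^p(X) (S ∩ X)`. -/
theorem exists_of_mem_X {g : G} (hg : g ∈ c.X) :
    ∃ o ∈ c.O, ∃ s ∈ (S : Subgroup G) ⊓ c.X, g = o * s := by
  haveI := c.X_normal
  obtain ⟨P', hP'⟩ := Cfsg.Agent.Lib.Helper90.exists_sylow_eq_subgroupOf S c.X
  have htop := Cfsg.Agent.Lib.Helper42.pResidual_sup_eq_top p c.X (P' : Subgroup c.X)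
    P'.not_dvd_index
  haveI := Cfsg.Agent.Lib.Helper42.pResidual_normal p c.X
  have hmem : (⟨g, hg⟩ : c.X) ∈ ((Cfsg.pResidual p c.X ⊔ (P' : Subgroup c.X) : Subgroup c.X) :
      Set c.X) := by
    rw [htop]; trivial
  rw [Subgroup.normal_mul] at hmem
  obtain ⟨o, ho, s, hs, hos⟩ := Set.mem_mul.mp hmem
  refine ⟨(o : G), ?_, (s : G), ⟨?_, s.2⟩, ?_⟩
  · rw [c.O_eq_map]; exact ⟨o, ho, rfl⟩
  · have hs' : s ∈ (P' : Subgroup c.X) := hs
    rw [hP', Subgroup.mem_subgroupOf] at hs'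
    exact hs'
  · have := congrArg Subtype.val hos
    exact this.symm

/-- `X = H B`. -/
theorem exists_of_mem_X' {g : G} (hg : g ∈ c.X) : ∃ h ∈ c.H, ∃ b ∈ c.B, g = h * b := by
  obtain ⟨o, ho, s, hs, rfl⟩ := c.exists_of_mem_X hg
  obtain ⟨t, ht, b, hb, rfl⟩ := c.exists_of_mem_S_X hs.1 hs.2
  exact ⟨o * t, Subgroup.mul_mem _ (c.O_le_H ho) (c.T_le_H ht), b, hb, by group⟩

theorem B_le_centralizer : c.B ≤ Subgroup.centralizer ((RR p T : Subgroup G) : Set G) := inf_le_right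

/-- `G_E = H C_G(R)`. -/
theorem exists_of_mem_GEs {g : G} (hg : g ∈ c.GEs) :
    ∃ h ∈ c.H, ∃ c' ∈ Subgroup.centralizer ((RR p T : Subgroup G) : Set G), g = h * c' := by
  haveI := c.centralizer_RR_normal
  have h1 := c.GEs_le hg
  have h1' : g ∈ ((c.X ⊔ Subgroup.centralizer ((RR p T : Subgroup G) : Set G) : Subgroup G) :
      Set G) := h1
  rw [Subgroup.mul_normal] at h1'
  obtain ⟨x, hx, c₁, hc₁, rfl⟩ := Set.mem_mul.mp h1'
  obtain ⟨h, hh, b, hb, rfl⟩ := c.exists_of_mem_X' hx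
  exact ⟨h, hh, b * c₁, Subgroup.mul_mem _ (c.B_le_centralizer hb) hc₁, by group⟩

/-- `C_H(R) ≤ R`. -/
theorem H_inf_centralizer_le :
    c.H ⊓ Subgroup.centralizer ((RR p T : Subgroup G) : Set G) ≤ RR p T := by
  rintro g ⟨hgH, hgC⟩
  have hgB : g ∈ c.B := ⟨(c.H_le_X hgH).1, hgC⟩
  have hgQ := c.B_le_pCore hgB
  exact ⟨c.H_inf_S_le ⟨hgH, c.Q_le_S hgQ⟩, hgQ⟩

theorem H_normal : c.H.Normal := by
  have hOn := c.O_normal
  have key : ∀ g : G, ∀ t ∈ T, g * t * g⁻¹ ∈ c.H := by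
    intro g t ht
    haveI := c.X_normal
    obtain ⟨ν, hν, n, hn, hgνn⟩ := Cfsg.Agent.Lib.Helper90.exists_mul_of_normal S c.X g⁻¹
    have hg : g = n⁻¹ * ν⁻¹ := by
      have : g = (g⁻¹)⁻¹ := by group
      rw [this, hgνn]; group
    have hTM : T ≤ (S : Subgroup G) ⊓ c.X := le_inf c.hTS c.T_le_X
    have hνT : ν⁻¹ ∈ Subgroup.normalizer (T : Set G) :=
      Subgroup.inv_mem _ (normalizer_le_normalizer_of_le E c.hinv hTM inf_le_left hν)
    have ht' : ν⁻¹ * t * ν⁻¹⁻¹ ∈ T := conj_mem_of_mem_normalizer hνT ht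
    obtain ⟨o, ho, s, hs, hnos⟩ := c.exists_of_mem_X (Subgroup.inv_mem _ hn)
    have hsN : s ∈ Subgroup.normalizer (T : Set G) := c.S_le_normalizer_T hs.1
    have ht'' : s * (ν⁻¹ * t * ν⁻¹⁻¹) * s⁻¹ ∈ T := conj_mem_of_mem_normalizer hsN ht'
    have e : g * t * g⁻¹ = o * (s * (ν⁻¹ * t * ν⁻¹⁻¹) * s⁻¹) * o⁻¹ := by
      rw [hg, hnos]; group
    rw [e]
    exact Subgroup.mul_mem _ (Subgroup.mul_mem _ (c.O_le_H ho) (c.T_le_H ht''))
      (Subgroup.inv_mem _ (c.O_le_H ho))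
  constructor
  intro h hh g
  have hmap : c.H.map (MulAut.conj g).toMonoidHom ≤ c.H := by
    unfold H
    rw [Subgroup.map_sup]
    apply sup_le
    · rintro _ ⟨o, ho, rfl⟩
      exact Subgroup.mem_sup_left (hOn.conj_mem o ho g)
    · rintro _ ⟨t, ht, rfl⟩
      exact key g t ht
  exact hmap ⟨h, hh, rfl⟩

theorem exists_sylow_H :
    ∃ R' : Sylow p c.H, (R' : Subgroup c.H) = T.subgroupOf c.H := by
  haveI := c.H_normal
  obtain ⟨P', hP'⟩ := Cfsg.Agent.Lib.Helper90.exists_sylow_eq_subgroupOf S c.H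
  refine ⟨P', ?_⟩
  rw [hP']
  ext k
  rw [Subgroup.mem_subgroupOf, Subgroup.mem_subgroupOf]
  constructor
  · intro hk
    exact c.H_inf_S_le ⟨k.2, hk⟩
  · intro hk
    exact c.hTS hk

end Ctx

end Cfsg.Agent.Lib.Helper87.NS
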