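import Cfsg.Agent.Lib.Helper87.NS5

set_option autoImplicit false

/-!
The fusion system of `H` on `T` is `E`.
-/

namespace Cfsg.Agent.Lib.Helper87.NS

open Cfsg Cfsg.FusionSystem Cfsg.Agent.Lib.Helper87

variable {G : Type*} [Group G]

theorem mem_normalizer_of_map_eq {N : Subgroup G} {κ : G}
    (h : N.map (MulAut.conj κ).toMonoidHom = N) : κ ∈ Subgroup.normalizer (N : Set G) := by
  rw [Subgroup.mem_normalizer_iff]
  intro x
  constructor
  · intro hx
    rw [← h]
    exact ⟨x, hx, rfl⟩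
  · intro hx
    rw [← h] at hx
    obtain ⟨y, hy, hyx⟩ := hx
    have h1 : κ * y * κ⁻¹ = κ * x * κ⁻¹ := hyx
    have : y = x := mul_left_cancel (mul_right_cancel h1)
    rw [← this]; exact hy

theorem mem_normalizer_sup {A B : Subgroup G} {κ : G}
    (hA : κ ∈ Subgroup.normalizer (A : Set G)) (hB : κ ∈ Subgroup.normalizer (B : Set G)) :
    κ ∈ Subgroup.normalizer ((A ⊔ B : Subgroup G) : Set G) := by
  apply mem_normalizer_of_map_eq
  rw [Subgroup.map_sup, map_conj_eq_of_mem_normalizer hA, map_conj_eq_of_mem_normalizer hB]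

theorem normalizer_le_normalizer_centralizer (U : Subgroup G) :
    Subgroup.normalizer (U : Set G) ≤
      Subgroup.normalizer ((Subgroup.centralizer (U : Set G) : Subgroup G) : Set G) := by
  have key : ∀ a ∈ Subgroup.normalizer (U : Set G), ∀ z ∈ Subgroup.centralizer (U : Set G),
      a * z * a⁻¹ ∈ Subgroup.centralizer (U : Set G) := by
    intro a ha z hz
    rw [Subgroup.mem_centralizer_iff]
    intro u hu
    have hu' : a⁻¹ * u * a ∈ U := conj_inv_mem_of_mem_normalizer ha hu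
    have h1 := Subgroup.mem_centralizer_iff.mp hz _ hu'
    calc u * (a * z * a⁻¹) = a * ((a⁻¹ * u * a) * z) * a⁻¹ := by group
      _ = a * (z * (a⁻¹ * u * a)) * a⁻¹ := by rw [h1]
      _ = a * z * a⁻¹ * u := by group
  intro a ha
  rw [Subgroup.mem_normalizer_iff]
  intro z
  constructor
  · exact key a ha z
  · intro hz
    have := key a⁻¹ (Subgroup.inv_mem _ ha) _ hz
    have e : a⁻¹ * (a * z * a⁻¹) * a⁻¹⁻¹ = z := by group
    rwa [e] at this

variable [Finite G]

namespace Ctx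

variable {p : ℕ} [Fact p.Prime] {S : Sylow p G} {T : Subgroup G} {E : FusionSystem T}

variable (c : Ctx p S T E)

include c

theorem card_RR_coprime {m : ℕ} (hm : Nat.Coprime m p) : Nat.Coprime m (Nat.card (RR p T)) := by
  have hRp : IsPGroup p (RR p T) := c.hTp.to_le c.RR_le
  obtain ⟨r, hr⟩ := IsPGroup.iff_card.mp hRp
  rw [hr]
  exact Nat.Coprime.pow_right r hm

theorem centralizer_U_RR {U : Subgroup G} (hUT : U ≤ T) :
    ∀ u ∈ U, u ∈ Subgroup.centralizer ((RR p T : Subgroup G) : Set G) → u ∈ RR p T :=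
  fun u hu huc => c.centralizerIn_RR_le ⟨hUT hu, huc⟩

/-- Elements of `H` normalizing `U ≥ R` and acting on `U` with order prime to `p` induce automorphisms in `E`. -/
theorem mem_NE_of_mem_H {U : Subgroup G} (hRU : RR p T ≤ U) (hUT : U ≤ T) {h : G}
    (hh : h ∈ c.H) (hhU : h ∈ Subgroup.normalizer (U : Set G)) {m : ℕ} (hm : Nat.Coprime m p)
    (hhm : h ^ m ∈ Subgroup.centralizer (U : Set G)) : h ∈ NE E hUT := by
  haveI := c.RR_normal
  have hhG : h ∈ c.GEs := (c.H_le_X hh).2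
  obtain ⟨e, he, heR⟩ := ext_elt p c.hTp E c.hsat c.hsub hRU hUT c.T_le_normalizer_RR
    c.centralizerIn_RR_le hhG (by
      intro u hu
      refine ⟨h * u * h⁻¹, conj_mem_of_mem_normalizer hhU hu, fun x _ => ?_⟩
      group)
  -- `κ = e⁻¹ h` centralizes `R` and normalizes `U`
  have hκR : e⁻¹ * h ∈ Subgroup.centralizer ((RR p T : Subgroup G) : Set G) := by
    rw [Subgroup.mem_centralizer_iff]
    intro x hx
    have h1 := heR x hx
    calc x * (e⁻¹ * h) = e⁻¹ * (e * x * e⁻¹) * h := by group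
      _ = e⁻¹ * (h * x * h⁻¹) * h := by rw [h1]
      _ = e⁻¹ * h * x := by group
  have hκU : e⁻¹ * h ∈ Subgroup.normalizer (U : Set G) :=
    Subgroup.mul_mem _ (Subgroup.inv_mem _ he.1) hhU
  have hκN : e⁻¹ * h ∈ Subgroup.normalizer ((NE E hUT : Subgroup G) : Set G) := by
    rw [Subgroup.mem_normalizer_iff]
    intro x
    constructor
    · exact fun hx => NE_normalized E c.hinv hUT hκU hx
    · intro hx
      have := NE_normalized E c.hinv hUT (Subgroup.inv_mem _ hκU) hx
      have e1 : (e⁻¹ * h)⁻¹ * (e⁻¹ * h * x * (e⁻¹ * h)⁻¹) * (e⁻¹ * h)⁻¹⁻¹ = x := by group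
      rwa [e1] at this
  have hκq := pow_card_mem_centralizer (c.centralizer_U_RR hUT) hκR hκU
  exact mem_of_coprime_pow he hκN (by group) (centralizer_le_NE E hUT hκq)
    (centralizer_le_NE E hUT hhm) (c.card_RR_coprime hm)

/-- Elements inducing on `U ≥ R` an automorphism in `E` of order prime to `p` act on `U` as elements of `H`. -/
theorem exists_H_of_mem_NE {U : Subgroup G} (hRU : RR p T ≤ U) (hUT : U ≤ T) {e : G}
    (he : e ∈ NE E hUT) {m : ℕ} (hm : Nat.Coprime m p)
    (hem : e ^ m ∈ Subgroup.centralizer (U : Set G)) :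
    ∃ h ∈ c.H, h ∈ Subgroup.normalizer (U : Set G) ∧
      ∃ c₀ ∈ Subgroup.centralizer (U : Set G), e = h * c₀ := by
  haveI := c.RR_normal
  have hCn := c.centralizer_RR_normal
  have hHn := c.H_normal
  have heG : e ∈ c.GEs := by
    refine ⟨?_, EE_mono E hRU he.2⟩
    rw [Subgroup.normalizer_eq_top_iff.mpr c.RR_normal]; trivial
  obtain ⟨h, hh, c', hc', rfl⟩ := c.exists_of_mem_GEs heG
  haveI : Finite U := inferInstance
  have hhU : h ∈ Subgroup.normalizer (U : Set G) := by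
    apply mem_normalizer_of_conj_mem
    intro u hu
    have hu₃ : (h * c') * u * (h * c')⁻¹ ∈ U := conj_mem_of_mem_normalizer he.1 hu
    -- `c'' = c'⁻¹ (u c' u⁻¹)`
    have hc'' : c'⁻¹ * (u * c' * u⁻¹) ∈ Subgroup.centralizer ((RR p T : Subgroup G) : Set G) :=
      Subgroup.mul_mem _ (Subgroup.inv_mem _ hc') (hCn.conj_mem c' hc' u)
    have hc₃ : (h * c') * (c'⁻¹ * (u * c' * u⁻¹)) * (h * c')⁻¹ ∈
        Subgroup.centralizer ((RR p T : Subgroup G) : Set G) := hCn.conj_mem _ hc'' _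
    have e1 : h * u * h⁻¹ = ((h * c') * (c'⁻¹ * (u * c' * u⁻¹)) * (h * c')⁻¹) *
        ((h * c') * u * (h * c')⁻¹) := by group
    have hc₃H : (h * c') * (c'⁻¹ * (u * c' * u⁻¹)) * (h * c')⁻¹ ∈ c.H := by
      have e2 : (h * c') * (c'⁻¹ * (u * c' * u⁻¹)) * (h * c')⁻¹ =
          (h * u * h⁻¹) * ((h * c') * u * (h * c')⁻¹)⁻¹ := by group
      rw [e2]
      exact Subgroup.mul_mem _ (hHn.conj_mem u (c.T_le_H (hUT hu)) h)
        (Subgroup.inv_mem _ (c.T_le_H (hUT hu₃)))
    rw [e1]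
    exact U.mul_mem (hRU (c.H_inf_centralizer_le ⟨hc₃H, hc₃⟩)) hu₃
  have hc'U : c' ∈ Subgroup.normalizer (U : Set G) := by
    have e1 : c' = h⁻¹ * (h * c') := by group
    rw [e1]
    exact Subgroup.mul_mem _ (Subgroup.inv_mem _ hhU) he.1
  set N : Subgroup G := (c.H ⊓ Subgroup.normalizer (U : Set G)) ⊔ Subgroup.centralizer (U : Set G)
    with hN
  have hκN : c' ∈ Subgroup.normalizer (N : Set G) := by
    apply mem_normalizer_sup
    · rw [Subgroup.mem_normalizer_iff]
      intro x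
      constructor
      · rintro ⟨hx1, hx2⟩
        exact ⟨hHn.conj_mem x hx1 c',
          Subgroup.mul_mem _ (Subgroup.mul_mem _ hc'U hx2) (Subgroup.inv_mem _ hc'U)⟩
      · rintro ⟨hx1, hx2⟩
        refine ⟨?_, ?_⟩
        · have := hHn.conj_mem _ hx1 c'⁻¹
          have e1 : c'⁻¹ * (c' * x * c'⁻¹) * c'⁻¹⁻¹ = x := by group
          rwa [e1] at this
        · have := Subgroup.mul_mem _ (Subgroup.mul_mem _ (Subgroup.inv_mem _ hc'U) hx2) hc'U
          have e1 : c'⁻¹ * (c' * x * c'⁻¹) * c' = x := by group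
          rwa [e1] at this
    · exact normalizer_le_normalizer_centralizer U hc'U
  have hκq := pow_card_mem_centralizer (c.centralizer_U_RR hUT) hc' hc'U
  have hmem : h * c' ∈ N :=
    mem_of_coprime_pow (Subgroup.mem_sup_left ⟨hh, hhU⟩) hκN rfl (Subgroup.mem_sup_right hκq)
      (Subgroup.mem_sup_right hem) (c.card_RR_coprime hm)
  have hle : c.H ⊓ Subgroup.normalizer (U : Set G) ≤
      Subgroup.normalizer ((Subgroup.centralizer (U : Set G) : Subgroup G) : Set G) :=
    inf_le_right.trans (normalizer_le_normalizer_centralizer U)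
  have hmem' : h * c' ∈ (N : Set G) := hmem
  rw [hN, Subgroup.coe_mul_of_left_le_normalizer_right _ _ hle] at hmem'
  obtain ⟨h', hh', c₀, hc₀, heq⟩ := Set.mem_mul.mp hmem'
  exact ⟨h', hh'.1, hh'.2, c₀, hc₀, heq.symm⟩

theorem FH_saturated : (fusionSystemOfSubgroup c.H T c.T_le_H).IsSaturated p := by
  haveI := c.H_normal
  have h1 := fusionSystemOfSubgroup_saturated p S c.H
  have key : ∀ (T' : Subgroup G) (hT' : T' = T) (hle : T' ≤ c.H),
      (fusionSystemOfSubgroup c.H T' hle).IsSaturated p →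
      (fusionSystemOfSubgroup c.H T c.T_le_H).IsSaturated p := by
    intro T' hT' hle h
    subst hT'
    exact h
  exact key _ c.S_inf_H_eq inf_le_right h1

theorem FH_sub : (fusionSystemOfSubgroup c.H T c.T_le_H).IsSubsystemOf
    (groupFusionSystem (S : Subgroup G)) :=
  fusionSystemOfSubgroup_isSubsystemOf c.H T S c.T_le_H c.hTS

theorem FH_le_E : fusionSystemOfSubgroup c.H T c.T_le_H ≤ E := by
  haveI := c.RR_normal
  apply le_of_coprime_aut p c.hTp _ E c.FH_saturated
  intro P hP α hα hcop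
  have hPT : P ≤ T := by
    rcases hP with rfl | hP
    · exact le_refl _
    · exact hP.1.1
  have hRP : RR p T ≤ P := by
    rcases hP with rfl | hP
    · exact c.RR_le
    · exact le_of_isEssential_of_normal p c.hTp _ c.FH_sub c.RR_le hP
  have hα' := (mem_autGroup_iff _ hPT).mp hα
  obtain ⟨-, -, h, hh, hhα⟩ := hα'
  have hhα' : ∀ x : P, ((α x : P) : G) = h * x * h⁻¹ := fun x => hhα x
  have hhN : h ∈ Subgroup.normalizer (P : Set G) := mem_normalizer_of_conj_eq hhα'
  have hhm := pow_orderOf_mem_centralizer α h hhα'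
  have h1 := c.mem_NE_of_mem_H hRP hPT hh hhN hcop hhm
  exact (mem_autGroup_iff_exists E c.hsub hPT).mpr ⟨h, h1, hhα'⟩

theorem E_le_FH : E ≤ fusionSystemOfSubgroup c.H T c.T_le_H := by
  haveI := c.RR_normal
  apply le_of_coprime_aut p c.hTp E _ c.hsat
  intro P hP α hα hcop
  have hPT : P ≤ T := by
    rcases hP with rfl | hP
    · exact le_refl _
    · exact hP.1.1
  have hRP : RR p T ≤ P := by
    rcases hP with rfl | hP
    · exact c.RR_le
    · exact le_of_isEssential_of_normal p c.hTp E c.hsub c.RR_le hP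
  obtain ⟨e, he, heα⟩ := (mem_autGroup_iff_exists E c.hsub hPT).mp hα
  have hem := pow_orderOf_mem_centralizer α e heα
  obtain ⟨h, hh, hhN, c₀, hc₀, rfl⟩ := c.exists_H_of_mem_NE hRP hPT he hcop hem
  rw [mem_autGroup_iff _ hPT]
  refine ⟨hPT, fun x => hPT (Subtype.prop _), h, hh, fun x => ?_⟩
  show ((α x : P) : G) = h * x * h⁻¹
  rw [heα x]
  have h1 : c₀ * x = x * c₀ := (Subgroup.mem_centralizer_iff.mp hc₀ x x.2).symm
  calc h * c₀ * x * (h * c₀)⁻¹ = h * (c₀ * x) * c₀⁻¹ * h⁻¹ := by group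
    _ = h * (x * c₀) * c₀⁻¹ * h⁻¹ := by rw [h1]
    _ = h * x * h⁻¹ := by group

/-- Existence. -/
theorem exists_normal :
    ∃ hTH : T ≤ c.H, c.H.Normal ∧ (∃ R' : Sylow p c.H, (R' : Subgroup c.H) = T.subgroupOf c.H) ∧
      ∀ P : Subgroup G, E.Hom P = (fusionSystemOfSubgroup c.H T hTH).Hom P :=
  ⟨c.T_le_H, c.H_normal, c.exists_sylow_H,
    fun P => Set.Subset.antisymm (c.E_le_FH P) (c.FH_le_E P)⟩

end Ctx

end Cfsg.Agent.Lib.Helper87.NS
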