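import Cfsg.Agent.Lib.Helper87.NS6

set_option autoImplicit false

/-!
Uniqueness: every normal subgroup `N` of `G` with `T` a Sylow `p`-subgroup of `N` and `F_T(N) = E` is the subgroup `H`.
-/

namespace Cfsg.Agent.Lib.Helper87.NS

open Cfsg Cfsg.FusionSystem Cfsg.Agent.Lib.Helper87

variable {G : Type*} [Group G] [Finite G]

namespace Ctx

variable {p : ℕ} [Fact p.Prime] {S : Sylow p G} {T : Subgroup G} {E : FusionSystem T}

variable (c : Ctx p S T E)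

include c

theorem eq_H_of_good {N : Subgroup G} (hTN : T ≤ N) (hNn : N.Normal)
    (hSyl : ∃ R₀ : Sylow p N, (R₀ : Subgroup N) = T.subgroupOf N)
    (hHom : ∀ P : Subgroup G, E.Hom P = (fusionSystemOfSubgroup N T hTN).Hom P) : N = c.H := by
  have hRn := c.RR_normal
  have hQn := Cfsg.Agent.Lib.Helper52.pCore_normal p G
  obtain ⟨R₀, hR₀⟩ := hSyl
  -- (u1) `S ∩ N ≤ T`
  have u1 : (S : Subgroup G) ⊓ N ≤ T := by
    have hp : IsPGroup p (((S : Subgroup G) ⊓ N).subgroupOf N) :=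
      (S.isPGroup'.to_le inf_le_left).comap_subtype
    have hle : (R₀ : Subgroup N) ≤ ((S : Subgroup G) ⊓ N).subgroupOf N := by
      rw [hR₀]
      intro k hk
      rw [Subgroup.mem_subgroupOf] at hk ⊢
      exact ⟨c.hTS hk, k.2⟩
    have heq := R₀.is_maximal' hp hle
    intro s hs
    have h1 : (⟨s, hs.2⟩ : N) ∈ ((S : Subgroup G) ⊓ N).subgroupOf N := by
      rw [Subgroup.mem_subgroupOf]; exact hs
    rw [heq, hR₀, Subgroup.mem_subgroupOf] at h1
    exact h1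
  -- (u2) `N ∩ Q ≤ R`
  have u2 : N ⊓ Cfsg.pCore p G ≤ RR p T := fun x hx => ⟨u1 ⟨c.Q_le_S hx.2, hx.1⟩, hx.2⟩
  -- (u3) `N ≤ K`
  have u3 : N ≤ c.K := by
    intro n hn x hx
    apply u2
    refine ⟨?_, Subgroup.mul_mem _ (hQn.conj_mem x hx n) (Subgroup.inv_mem _ hx)⟩
    have e : n * x * n⁻¹ * x⁻¹ = n * (x * n⁻¹ * x⁻¹) := by group
    rw [e]
    exact Subgroup.mul_mem _ hn (hNn.conj_mem _ (Subgroup.inv_mem _ hn) x)
  -- (u4) `N ≤ G_E`
  have u4 : N ≤ c.GEs := by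
    intro n hn
    refine ⟨?_, ?_⟩
    · rw [Subgroup.normalizer_eq_top_iff.mpr hRn]; trivial
    · show conjHom (RR p T) n ∈ E.Hom (RR p T)
      rw [hHom]
      exact ⟨c.RR_le, fun x => c.RR_le (hRn.conj_mem x x.2 n), n, hn, fun _ => rfl⟩
  have hNX : N ≤ c.X := le_inf u3 u4
  -- (u5) `O^p(X) ≤ N`
  have u5 : c.O ≤ N := by
    unfold O
    rw [Subgroup.closure_le]
    rintro y ⟨hyX, hyc⟩
    have h1 : conjHom (RR p T) y ∈ E.Hom (RR p T) := hyX.2.2
    rw [hHom] at h1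
    obtain ⟨-, -, n, hn, hny⟩ := h1
    have hny' : ∀ r ∈ RR p T, y * r * y⁻¹ = n * r * n⁻¹ := fun r hr => hny ⟨r, hr⟩
    have hbC : n⁻¹ * y ∈ Subgroup.centralizer ((RR p T : Subgroup G) : Set G) := by
      rw [Subgroup.mem_centralizer_iff]
      intro r hr
      have h2 := hny' r hr
      calc r * (n⁻¹ * y) = n⁻¹ * (n * r * n⁻¹) * y := by group
        _ = n⁻¹ * (y * r * y⁻¹) * y := by rw [h2]
        _ = n⁻¹ * y * r := by group
    have hbB : n⁻¹ * y ∈ c.B :=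
      ⟨Subgroup.mul_mem _ (Subgroup.inv_mem _ (u3 hn)) hyX.1, hbC⟩
    have hbq : (n⁻¹ * y) ^ Nat.card c.B = 1 := by
      have : (⟨_, hbB⟩ : c.B) ^ Nat.card c.B = 1 := pow_card_eq_one'
      exact congrArg Subtype.val this
    obtain ⟨r, hr⟩ := IsPGroup.iff_card.mp c.B_isPGroup
    have hκN : n⁻¹ * y ∈ Subgroup.normalizer (N : Set G) := by
      rw [Subgroup.normalizer_eq_top_iff.mpr hNn]; trivial
    refine mem_of_coprime_pow (q := Nat.card c.B) (m := orderOf y) hn hκN (by group) ?_ ?_ ?_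
    · rw [hbq]; exact N.one_mem
    · rw [pow_orderOf_eq_one]; exact N.one_mem
    · rw [hr]; exact Nat.Coprime.pow_right r hyc
  have hHN : c.H ≤ N := sup_le u5 hTN
  apply le_antisymm _ hHN
  -- (u7) `N ≤ H`
  intro n hn
  obtain ⟨h, hh, b, hb, rfl⟩ := c.exists_of_mem_X' (hNX hn)
  have hbN : b ∈ N := by
    have e : b = h⁻¹ * (h * b) := by group
    rw [e]
    exact Subgroup.mul_mem _ (Subgroup.inv_mem _ (hHN hh)) hn
  have hbT : b ∈ T := u1 ⟨c.Q_le_S (c.B_le_pCore hb), hbN⟩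
  exact Subgroup.mul_mem _ hh (c.T_le_H hbT)

end Ctx

end Cfsg.Agent.Lib.Helper87.NS
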