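import Mathlib
import Cfsg.Agent.Lib.Helper72.OQFDefs
import Cfsg.Agent.Lib.Helper50.OmegaTransitive
import Cfsg.Agent.Lib.Helper50.SpinorIndex
import Cfsg.Agent.Lib.Helper50.GeoBridge

/-!
# K-OQF pack (S5977 / S5978, architect helper72), keystone 597703 (K-OQF-O1)

Isometries of odd order lie in `Ω` (odd characteristic).
-/

set_option autoImplicit false

namespace Cfsg.Agent.Lib.Helper87.OQF

open Cfsg Cfsg.Geo Cfsg.Agent.Lib.Helper72.OQF
open scoped Matrix MatrixGroups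

variable {F : Type*} [Field F] {ι : Type} [Fintype ι] [DecidableEq ι]

/-- K-OQF-O1 (597703). -/
theorem mem_omegaGL_of_pow_eq_one [Fintype F] (h2 : (2 : F) ≠ 0) (Q : QuadraticForm F (ι → F))
    (hQ : (QuadraticMap.polarBilin Q).Nondegenerate) (hdim : 2 ≤ Fintype.card ι)
    (g : GL ι F) (hg : g ∈ Cfsg.isometryGroup F (⇑Q)) (k : ℕ) (hk : Odd k) (hgk : g ^ k = 1) : g ∈ omegaGL (⇑Q) := by
  classical
  obtain ⟨ζ, hζ⟩ := Cfsg.Agent.Lib.Helper50.exists_nonsquare_of_two_ne_zero h2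
  have hσk : (⟨g, hg⟩ : ↥(Cfsg.isometryGroup F (⇑Q))) ^ k = 1 := by
    apply Subtype.ext
    rw [Subgroup.coe_pow, Subgroup.coe_one]
    exact hgk
  have hΩ : (⟨g, hg⟩ : ↥(Cfsg.isometryGroup F (⇑Q))) ∈ Cfsg.Omega F (⇑Q) := by
    change _ ∈ commutator _
    rw [Cfsg.Agent.Lib.Helper50.mem_commutator_iff h2 Q hQ ζ hζ]
    constructor
    · have hdk : Cfsg.Agent.Lib.Helper50.detHom (⇑Q) ⟨g, hg⟩ ^ k = 1 := by
        rw [← map_pow, hσk, map_one]
      rcases Cfsg.Agent.Lib.Helper50.detHom_eq_one_or h2 Q hQ ⟨g, hg⟩ with h1 | h1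
      · exact h1
      · exfalso
        rw [h1, hk.neg_one_pow] at hdk
        have : ((-1 : Fˣ) : F) = ((1 : Fˣ) : F) := by rw [hdk]
        rw [Units.val_neg, Units.val_one] at this
        apply h2
        linear_combination -this
    · have htk : Cfsg.Agent.Lib.Helper50.theta (⇑Q) ζ ⟨g, hg⟩ ^ k = 1 := by
        rw [← map_pow, hσk, map_one]
      rcases Int.units_eq_one_or (Cfsg.Agent.Lib.Helper50.theta (⇑Q) ζ ⟨g, hg⟩) with h1 | h1
      · exact h1
      · exfalso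
        rw [h1, hk.neg_one_pow] at htk
        exact absurd htk (by decide)
  exact Cfsg.Agent.Lib.Helper50.coe_mem_omegaGL (⇑Q) ⟨g, hg⟩ hΩ

end Cfsg.Agent.Lib.Helper87.OQF
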