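import Mathlib
import Cfsg.Prelude.Def_Solvable
import Cfsg.Agent.S0034
import Cfsg.Agent.S0035

/-!
# K-OTF leaf 399904 F4 `frob_card_order_eq` (S3999 pack, helper87, parallel hand)

In a Frobenius group `L` with complement `H`, for `m ∣ |H|`, `m ≠ 1`, the number of elements of
order `m` of `L` is `|L:H|` times the number of elements of order `m` of `H`.
-/

set_option autoImplicit false
open Cfsg
open scoped Pointwise

namespace Cfsg.Agent.Lib.Helper87.OTF

theorem mem_conj_smul {L : Type*} [Group L] (H : Subgroup L) (g x : L) :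
    x ∈ MulAut.conj g • H ↔ g⁻¹ * x * g ∈ H := by
  rw [Subgroup.mem_pointwise_smul_iff_inv_smul_mem]
  simp [MulAut.smul_def]

theorem orderOf_conj_eq {L : Type*} [Group L] (g x : L) : orderOf (g * x * g⁻¹) = orderOf x := by
  rw [← MulAut.conj_apply]
  exact MulEquiv.orderOf_eq _ _

theorem frob_card_order_eq {L : Type*} [Group L] [Finite L] (H : Subgroup L)
    (hH : Cfsg.IsFrobeniusComplement H) (m : ℕ) (hm : m ∣ Nat.card H) (hm1 : m ≠ 1) :
    Nat.card {x : L // orderOf x = m} = H.index * Nat.card {x : H // orderOf x = m} := by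
  classical
  obtain ⟨hcardK, hmod⟩ := Cfsg.Agent.S0034.result H hH
  obtain ⟨K, hKc, -, -⟩ := Cfsg.Agent.S0035.result H hH
  have hKcard : Nat.card K = H.index := by
    rw [← hcardK]
    exact Nat.card_congr (Equiv.setCongr hKc)
  have hco : Nat.Coprime H.index (Nat.card H) := by
    have hpos : 0 < Nat.card H := Nat.card_pos
    unfold Nat.Coprime
    rw [Nat.gcd_comm, Nat.gcd_rec, hmod, ← Nat.gcd_rec, Nat.gcd_comm]
    simp
  -- every element of order `m` lies in a conjugate of `H`
  have hin : ∀ x : L, orderOf x = m → ∃ g : L, g⁻¹ * x * g ∈ H := by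
    intro x hx
    by_contra hcon
    push Not at hcon
    have hxK : x ∈ K := by
      have : x ∈ (K : Set L) := by
        rw [hKc]
        right
        intro g hg
        exact hcon g ((mem_conj_smul H g x).mp hg)
      exact this
    have h1 : orderOf x ∣ H.index := by
      rw [← hKcard]
      have := Subgroup.orderOf_dvd_natCard K hxK
      exact this
    rw [hx] at h1
    have : m ∣ Nat.gcd H.index (Nat.card H) := Nat.dvd_gcd h1 hm
    rw [hco] at this
    exact hm1 (Nat.dvd_one.mp this)
  -- the bijection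
  have hidx : H.index = Nat.card (L ⧸ H) := Subgroup.index_eq_card H
  rw [hidx, ← Nat.card_prod]
  symm
  refine Nat.card_congr (Equiv.ofBijective
    (fun qy : (L ⧸ H) × {y : H // orderOf y = m} =>
      (⟨qy.1.out * (qy.2.1 : L) * qy.1.out⁻¹,
        (orderOf_conj_eq _ _).trans ((Subgroup.orderOf_coe _).trans qy.2.2)⟩ :
          {x : L // orderOf x = m})) ⟨?_, ?_⟩)
  · rintro ⟨q, y, hy⟩ ⟨q', y', hy'⟩ heq
    have heq' : q.out * (y : L) * q.out⁻¹ = q'.out * (y' : L) * q'.out⁻¹ :=
      congrArg Subtype.val heq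
    set g := q.out⁻¹ * q'.out with hg
    have hy1 : (y : L) ≠ 1 := by
      intro h
      have : orderOf (y : L) = 1 := by rw [h, orderOf_one]
      rw [Subgroup.orderOf_coe, hy] at this
      exact hm1 this
    have hyg : (y : L) = g * (y' : L) * g⁻¹ := by
      have : (y : L) = q.out⁻¹ * (q.out * (y : L) * q.out⁻¹) * q.out := by group
      rw [this, heq', hg]
      group
    have hgH : g ∈ H := by
      by_contra hgn
      have h3 := hH.2.2 g hgn
      have hmem : (y : L) ∈ MulAut.conj g • H := by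
        rw [mem_conj_smul, hyg]
        have : g⁻¹ * (g * (y' : L) * g⁻¹) * g = (y' : L) := by group
        rw [this]
        exact y'.2
      have : (y : L) ∈ H ⊓ (MulAut.conj g • H) := Subgroup.mem_inf.mpr ⟨y.2, hmem⟩
      rw [h3, Subgroup.mem_bot] at this
      exact hy1 this
    have hq : q = q' := by
      have h1 : (QuotientGroup.mk q.out : L ⧸ H) = QuotientGroup.mk q'.out :=
        QuotientGroup.eq.mpr hgH
      rwa [QuotientGroup.out_eq', QuotientGroup.out_eq'] at h1
    subst hq
    have hyy : (y : L) = (y' : L) := by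
      have : (y : L) = q.out⁻¹ * (q.out * (y : L) * q.out⁻¹) * q.out := by group
      rw [this, heq']
      group
    have : y = y' := Subtype.ext hyy
    subst this
    rfl
  · rintro ⟨x, hx⟩
    obtain ⟨g, hg⟩ := hin x hx
    set q : L ⧸ H := QuotientGroup.mk g with hq
    have hh : g⁻¹ * q.out ∈ H := by
      have : (QuotientGroup.mk g : L ⧸ H) = QuotientGroup.mk q.out := by
        rw [QuotientGroup.out_eq']
      exact QuotientGroup.eq.mp this
    set h := g⁻¹ * q.out with hhdef
    have hy : h⁻¹ * (g⁻¹ * x * g) * h ∈ H := H.mul_mem (H.mul_mem (H.inv_mem hh) hg) hh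
    have hord : orderOf (⟨h⁻¹ * (g⁻¹ * x * g) * h, hy⟩ : H) = m := by
      rw [← Subgroup.orderOf_coe]
      show orderOf (h⁻¹ * (g⁻¹ * x * g) * h) = m
      have e : h⁻¹ * (g⁻¹ * x * g) * h = (g * h)⁻¹ * x * ((g * h)⁻¹)⁻¹ := by group
      rw [e, orderOf_conj_eq, hx]
    refine ⟨(q, ⟨⟨h⁻¹ * (g⁻¹ * x * g) * h, hy⟩, hord⟩), ?_⟩
    apply Subtype.ext
    show q.out * (h⁻¹ * (g⁻¹ * x * g) * h) * q.out⁻¹ = x
    have hqo : q.out = g * h := by rw [hhdef]; group
    rw [hqo]
    group

end Cfsg.Agent.Lib.Helper87.OTF
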