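import Mathlib

set_option autoImplicit false

/-!
Leaf L15 of the pack K-RSU3 (S2283): a subset of `F` (`|F| = q²`, `q ≥ 3`, `q ≠ 5, 8`) containing `1`, closed under
addition and under multiplication by `μ³` (`μ` of order `q + 1`) is all of `F` (parallel hand).
-/

namespace Cfsg.Agent.Lib.Helper87.RSU3

/-- natural multiples stay in an additively closed set -/
theorem nsmul_mem_of_add {F : Type*} [Field F] {S : Set F} (hadd : ∀ a ∈ S, ∀ b ∈ S, a + b ∈ S) {a : F}
    (ha : a ∈ S) : ∀ n : ℕ, (n + 1) • a ∈ S := by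
  intro n
  induction n with
  | zero => simpa using ha
  | succ n ih =>
    rw [succ_nsmul]
    exact hadd _ ih _ ha

/-- the arithmetic core -/
theorem arith_core (q r m d : ℕ) (hq : 3 ≤ q) (hq5 : q ≠ 5) (hq8 : q ≠ 8) (hr : 2 ≤ r)
    (hrm : r ^ m = q ^ 2) (hd : d = (q + 1) / Nat.gcd (q + 1) 3) (hdr : d ∣ r - 1) : m = 1 := by
  have hg3 : Nat.gcd (q + 1) 3 ∣ 3 := Nat.gcd_dvd_right _ _
  have hgq : Nat.gcd (q + 1) 3 ∣ q + 1 := Nat.gcd_dvd_left _ _
  have hg : Nat.gcd (q + 1) 3 = 1 ∨ Nat.gcd (q + 1) 3 = 3 :=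
    (Nat.dvd_prime Nat.prime_three).1 hg3
  have hdg : d * Nat.gcd (q + 1) 3 = q + 1 := by rw [hd]; exact Nat.div_mul_cancel hgq
  have hdle : d ≤ r - 1 := Nat.le_of_dvd (by omega) hdr
  have hq3d : q + 1 ≤ 3 * d := by
    rcases hg with h | h <;> rw [h] at hdg <;> omega
  have hq3r : q + 4 ≤ 3 * r := by omega
  rcases Nat.lt_or_ge m 3 with hm | hm
  · interval_cases m
    · -- m = 0
      exfalso
      rw [pow_zero] at hrm
      have : 3 * 3 ≤ q * q := Nat.mul_le_mul hq hq
      have : q ^ 2 = q * q := by ring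
      omega
    · rfl
    · -- m = 2
      exfalso
      have hrq : r = q := Nat.pow_left_injective (by norm_num : 2 ≠ 0) hrm
      subst hrq
      have hd1 : d ∣ r + 1 := ⟨_, hdg.symm⟩
      have hd2 : d ∣ 2 := by
        have : d ∣ (r + 1) - (r - 1) := Nat.dvd_sub hd1 hdr
        rwa [show (r + 1) - (r - 1) = 2 by omega] at this
      have hd2' : d ≤ 2 := Nat.le_of_dvd (by norm_num) hd2
      have hr5 : r ≤ 5 := by omega
      interval_cases r
      · -- r = 3
        norm_num at hdg
        rcases hg with h | h <;> norm_num at h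
        omega
      · -- r = 4
        have h51 : Nat.gcd (4 + 1) 3 = 1 := by norm_num
        rw [h51] at hdg
        omega
      · exact hq5 rfl
  · exfalso
    have h3 : r * r * r ≤ q * q := by
      calc r * r * r = r ^ 3 := by ring
        _ ≤ r ^ m := Nat.pow_le_pow_right (by omega) hm
        _ = q ^ 2 := hrm
        _ = q * q := by ring
    have hr8 : r ≤ 8 := by
      by_contra h
      push_neg at h
      have hq' : q < 3 * r := by omega
      have h1 : q * q < (3 * r) * (3 * r) := Nat.mul_lt_mul'' hq' hq'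
      have h2 : (3 * r) * (3 * r) = 9 * (r * r) := by ring
      have h4 : 9 * (r * r) ≤ r * (r * r) := Nat.mul_le_mul_right _ (by omega)
      have h5 : r * (r * r) = r * r * r := by ring
      omega
    have hq20 : q ≤ 20 := by omega
    interval_cases r <;> interval_cases q <;> omega

variable {F : Type*} [Field F] [Fintype F] {q : ℕ}

theorem span_generic (hq : 3 ≤ q) (hq5 : q ≠ 5) (hq8 : q ≠ 8) (hF : Fintype.card F = q ^ 2)
    (μ : F) (hμ : orderOf μ = q + 1) (S : Set F) (h1 : (1 : F) ∈ S)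
    (hadd : ∀ a ∈ S, ∀ b ∈ S, a + b ∈ S) (hmul : ∀ a ∈ S, μ ^ 3 * a ∈ S) : ∀ c : F, c ∈ S := by
  classical
  obtain ⟨p, hchar⟩ := CharP.exists F
  haveI : CharP F p := hchar
  have hp : p.Prime := by
    rcases CharP.char_is_prime_or_zero F p with h | h
    · exact h
    · exfalso
      subst h
      haveI : CharZero F := CharP.charP_to_charZero F
      exact not_finite F
  have hp2 : 2 ≤ p := hp.two_le
  have hns : ∀ a ∈ S, ∀ n : ℕ, (n + 1) • a ∈ S := fun a ha => nsmul_mem_of_add hadd ha
  have hpz : ∀ y : F, (p - 1) • y = -y := by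
    intro y
    rw [nsmul_eq_mul, Nat.cast_sub hp.one_le, CharP.cast_eq_zero, Nat.cast_one]
    ring
  have h0S : (0 : F) ∈ S := by
    have h := hns 1 h1 (p - 1)
    rw [Nat.sub_add_cancel hp.one_le, nsmul_eq_mul, mul_one, CharP.cast_eq_zero] at h
    exact h
  have hnegS : ∀ a ∈ S, -a ∈ S := by
    intro a ha
    have h := hns a ha (p - 2)
    rw [show p - 2 + 1 = p - 1 by omega, hpz] at h
    exact h
  let T0 : Subring F :=
    { carrier := {x | ∀ a ∈ S, x * a ∈ S}
      mul_mem' := fun {x y} hx hy a ha => by rw [mul_assoc]; exact hx _ (hy a ha)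
      one_mem' := fun a ha => by rw [one_mul]; exact ha
      add_mem' := fun {x y} hx hy a ha => by rw [add_mul]; exact hadd _ (hx a ha) _ (hy a ha)
      zero_mem' := fun a ha => by rw [zero_mul]; exact h0S
      neg_mem' := fun {x} hx a ha => by rw [neg_mul]; exact hnegS _ (hx a ha) }
  have hcard2 : 2 ≤ Fintype.card F := Fintype.one_lt_card
  let T : Subfield F :=
    { T0 with
      inv_mem' := fun x hx => by
        by_cases hx0 : x = 0
        · rw [hx0, inv_zero]; exact T0.zero_mem
        · have hpow : x ^ (Fintype.card F - 1) = 1 := FiniteField.pow_card_sub_one_eq_one x hx0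
          have hinv : x⁻¹ = x ^ (Fintype.card F - 2) := by
            apply inv_eq_of_mul_eq_one_right
            rw [← pow_succ', show Fintype.card F - 2 + 1 = Fintype.card F - 1 by omega]
            exact hpow
          rw [hinv]
          exact T0.pow_mem hx _ }
  have hTmem : ∀ x : F, x ∈ T ↔ ∀ a ∈ S, x * a ∈ S := fun x => Iff.rfl
  have hνT : μ ^ 3 ∈ T := (hTmem _).2 hmul
  have hTS : ∀ x : F, x ∈ T → x ∈ S := by
    intro x hx
    have := (hTmem x).1 hx 1 h1
    rwa [mul_one] at this
  -- cardinalities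
  have hcardT : Nat.card F = Nat.card T ^ Module.finrank T F := Module.natCard_eq_pow_finrank
  have hr2 : 2 ≤ Nat.card T := by
    have : 1 < Nat.card T := Finite.one_lt_card
    omega
  have hμ0 : μ ≠ 0 := by
    intro h
    rw [h, orderOf_zero] at hμ
    omega
  -- the order of `μ ^ 3` divides `|T| - 1`
  have hord : orderOf (μ ^ 3) ∣ Nat.card T - 1 := by
    apply orderOf_dvd_of_pow_eq_one
    haveI : Fintype T := Fintype.ofFinite T
    have hne : (⟨μ ^ 3, hνT⟩ : T) ≠ 0 := by
      intro h
      have : μ ^ 3 = 0 := congrArg Subtype.val h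
      exact hμ0 (pow_eq_zero_iff (by norm_num) |>.1 this)
    have h := FiniteField.pow_card_sub_one_eq_one (⟨μ ^ 3, hνT⟩ : T) hne
    have h' := congrArg Subtype.val h
    rw [Nat.card_eq_fintype_card]
    simpa using h'
  have hordeq : orderOf (μ ^ 3) = (q + 1) / Nat.gcd (q + 1) 3 := by
    rw [orderOf_pow' μ (by norm_num : 3 ≠ 0), hμ]
  have hm1 : Module.finrank T F = 1 := by
    apply arith_core q (Nat.card T) (Module.finrank T F) (orderOf (μ ^ 3)) hq hq5 hq8 hr2 _ hordeq hord
    rw [← hcardT, Nat.card_eq_fintype_card, hF]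
  rw [hm1, pow_one] at hcardT
  have hbij : Function.Bijective (Subtype.val : T → F) :=
    Subtype.val_injective.bijective_of_nat_card_le hcardT.le
  intro c
  obtain ⟨⟨x, hx⟩, rfl⟩ := hbij.2 c
  exact hTS x hx

end Cfsg.Agent.Lib.Helper87.RSU3
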