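import Mathlib
import Cfsg.Agent.Lib.Helper65.RU5Defs
import Cfsg.Agent.Lib.Helper02.RU4Defs

set_option autoImplicit false

/-!
Leaf L1 of the sub-pack K-RU5 (S2279): the vectors `c_k = a^k e_last` (parallel hand).
-/

namespace Cfsg.Agent.Lib.Helper87.RU5x

open Matrix Cfsg.Agent.Lib.Helper73.RU Cfsg.Agent.Lib.Helper65.RU5

theorem cvec_zero (m : ℕ) (F : Type*) [Field F] :
    cvec m F 0 = Pi.single (Fin.last (m + 2)) 1 := by
  funext i
  unfold cvec
  by_cases h : i = Fin.last (m + 2)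
  · subst h
    simp
  · rw [Pi.single_eq_of_ne h]
    have hi : i.val ≠ m + 2 := fun h' => h (Fin.ext (by simpa using h'))
    have hlt : i.val < m + 3 := i.isLt
    obtain ⟨j, hj⟩ : ∃ j, m + 2 - i.val = j + 1 := ⟨m + 1 - i.val, by omega⟩
    rw [hj, Nat.choose_zero_succ]
    simp

theorem aMat_mulVec_cvec (m : ℕ) (F : Type*) [Field F] (k : ℕ) :
    aMat m F *ᵥ cvec m F k = cvec m F (k + 1) := by
  funext i
  rw [Cfsg.Agent.Lib.Helper02.RU4.aMat_mulVec_apply]
  unfold cvec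
  have hlt : i.val < m + 3 := i.isLt
  by_cases h : i.val + 1 < m + 3
  · rw [dif_pos h]
    simp only
    obtain ⟨j, hj⟩ : ∃ j, m + 2 - i.val = j + 1 := ⟨m + 1 - i.val, by omega⟩
    rw [hj, show m + 2 - (i.val + 1) = j by omega, Nat.choose_succ_succ, Nat.cast_add]
    ring
  · rw [dif_neg h]
    have hi : i.val = m + 2 := by omega
    rw [hi, Nat.sub_self, Nat.choose_zero_right, Nat.choose_zero_right, add_zero]

theorem cvec_apply_zero (m : ℕ) (F : Type*) [Field F] (k : ℕ) (hk : k ≤ m + 1) : cvec m F k 0 = 0 := by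
  unfold cvec
  rw [Nat.choose_eq_zero_of_lt (by simp; omega)]
  simp

theorem cvec_apply_one (m : ℕ) (F : Type*) [Field F] (k : ℕ) (hk : k ≤ m) : cvec m F k 1 = 0 := by
  unfold cvec
  have h1 : ((1 : Fin (m + 3)) : ℕ) = 1 := by
    simp [Fin.val_one']
  rw [h1, Nat.choose_eq_zero_of_lt (by omega)]
  simp

theorem cvec_apply_one_top (m : ℕ) (F : Type*) [Field F] : cvec m F (m + 1) 1 = 1 := by
  unfold cvec
  have h1 : ((1 : Fin (m + 3)) : ℕ) = 1 := by
    simp [Fin.val_one']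
  rw [h1, show m + 2 - 1 = m + 1 by omega, Nat.choose_self]
  simp

end Cfsg.Agent.Lib.Helper87.RU5x
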