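import Mathlib
import Cfsg.Agent.Lib.Helper40.NF2Aut
import Cfsg.Agent.Lib.Helper62.Ree2T

/-!
# K-Ree2 pack (architect helper76), keystone 115205 (R2-N): `|N(P)| = 168`

`card_normalizer_eq_of` takes the statement of R2-T (for the given Sylow subgroup) as a hypothesis;
`card_normalizer_eq` is the exact spec statement (R2-T = `Helper62.Ree2.sylow_fixed_eq_one`).
-/

set_option autoImplicit false

namespace Cfsg.Agent.Lib.Helper87.Ree2

open Subgroup

/-- R2-N with R2-T as a hypothesis. -/
theorem card_normalizer_eq_of {G : Type*} [Group G] [Finite G] (P : Sylow 2 G)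
    (hcard : Nat.card ↥(P : Subgroup G) = 8) (hexp : ∀ x ∈ P, x * x = 1)
    (hC : Subgroup.centralizer ((P : Subgroup G) : Set G) = (P : Subgroup G))
    (t : G) (ht3 : t ^ 3 = 1) (htP : t ∉ P) (htN : t ∈ Subgroup.normalizer ((P : Subgroup G) : Set G))
    (hT : ∀ z ∈ P, (∀ n ∈ Subgroup.normalizer ((P : Subgroup G) : Set G), n * z * n⁻¹ = z) → z = 1) :
    Nat.card ↥(Subgroup.normalizer ((P : Subgroup G) : Set G)) = 168 := by
  classical
  set N : Subgroup G := Subgroup.normalizer ((P : Subgroup G) : Set G) with hN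
  have hPN : (P : Subgroup G) ≤ N := Subgroup.le_normalizer
  -- commutativity of `P`
  have hcomm : ∀ x ∈ P, ∀ y ∈ P, x * y = y * x := by
    intro x hx y hy
    have hxy := hexp (x * y) ((P : Subgroup G).mul_mem hx hy)
    have hx2 := hexp x hx
    have hy2 := hexp y hy
    calc x * y = x * (x * y * (x * y)) * y := by rw [hxy, mul_one]
      _ = (x * x) * (y * x) * (y * y) := by group
      _ = y * x := by rw [hx2, hy2, one_mul, mul_one]
  -- the index
  set m := (P : Subgroup G).relIndex N with hm
  have hmcard : m * 8 = Nat.card N := by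
    have h := Subgroup.relIndex_mul_relIndex (⊥ : Subgroup G) (P : Subgroup G) N bot_le hPN
    rw [Subgroup.relIndex_bot_left, Subgroup.relIndex_bot_left, hcard] at h
    rw [hm, mul_comm]
    exact h
  -- `m` divides `|Aut P|`
  have hmaut : m ∣ Nat.card (MulAut ↥(P : Subgroup G)) := by
    have key := Subgroup.card_dvd_of_injective _
      (QuotientGroup.kerLift_injective (P : Subgroup G).normalizerMonoidHom)
    rw [Subgroup.normalizerMonoidHom_ker, ← Subgroup.index, ← Subgroup.relIndex, hC] at key
    exact key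
  have haut : Nat.card (MulAut ↥(P : Subgroup G)) ∣ 168 := by
    let _ : CommGroup ↥(P : Subgroup G) :=
      { (inferInstance : Group ↥(P : Subgroup G)) with
        mul_comm := fun a b => Subtype.ext (hcomm a a.2 b b.2) }
    have h := Cfsg.Agent.Lib.Helper40.NF2.card_mulAut_dvd (X := ↥(P : Subgroup G)) 2 3 Nat.prime_two
      (by
        intro x
        apply Subtype.ext
        rw [pow_two]
        exact hexp x x.2)
      (by rw [hcard]; norm_num)
    have h168 : (∏ i ∈ Finset.range 3, (2 ^ 3 - 2 ^ i)) = 168 := by decide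
    rw [h168] at h
    exact h
  have hm168 : m ∣ 168 := hmaut.trans haut
  -- `m` is odd
  have hmodd : ¬ 2 ∣ m := by
    intro h2
    have h1 : m ∣ (P : Subgroup G).index := Subgroup.relIndex_dvd_index_of_le hPN
    exact P.not_dvd_index (h2.trans h1)
  have hm21 : m ∣ 21 := by
    have hcop : Nat.Coprime m 8 := by
      have : Nat.Coprime m 2 := by
        rw [Nat.coprime_comm, Nat.Prime.coprime_iff_not_dvd Nat.prime_two]
        exact hmodd
      have h8 : (8 : ℕ) = 2 ^ 3 := by norm_num
      rw [h8]
      exact Nat.Coprime.pow_right 3 this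
    have : m ∣ 8 * 21 := by norm_num; exact hm168
    exact hcop.dvd_of_dvd_mul_left this
  -- `3 ∣ m`
  have ht1 : t ≠ 1 := fun h => htP (h ▸ (P : Subgroup G).one_mem)
  have hot : orderOf t = 3 := by
    have hdvd : orderOf t ∣ 3 := orderOf_dvd_of_pow_eq_one ht3
    rcases (Nat.dvd_prime Nat.prime_three).mp hdvd with h | h
    · exact absurd (orderOf_eq_one_iff.mp h) ht1
    · exact h
  have h3N : 3 ∣ Nat.card N := by
    rw [← hot]
    exact Subgroup.orderOf_dvd_natCard N htN
  have h3m : 3 ∣ m := by
    rw [← hmcard] at h3N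
    exact (Nat.Coprime.dvd_of_dvd_mul_right (by norm_num : Nat.Coprime 3 8) h3N)
  -- `m = 3` or `m = 21`
  have hm_cases : m = 3 ∨ m = 21 := by
    have hpos : 0 < m := Nat.pos_of_dvd_of_pos hm21 (by norm_num)
    have hle : m ≤ 21 := Nat.le_of_dvd (by norm_num) hm21
    obtain ⟨k, hk⟩ := h3m
    have hk7 : k ≤ 7 := by omega
    interval_cases k
    · omega
    · left; omega
    · exfalso; rw [hk] at hm21; revert hm21; decide
    · exfalso; rw [hk] at hm21; revert hm21; decide
    · exfalso; rw [hk] at hm21; revert hm21; decide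
    · exfalso; rw [hk] at hm21; revert hm21; decide
    · exfalso; rw [hk] at hm21; revert hm21; decide
    · right; omega
  rcases hm_cases with h3 | h21
  · exfalso
    have hN24 : Nat.card N = 24 := by rw [← hmcard, h3]
    -- a fixed point of `t` on `P`
    set σ : Equiv.Perm ↥(P : Subgroup G) :=
      MulAut.toPerm _ ((P : Subgroup G).normalizerMonoidHom ⟨t, htN⟩) with hσ
    have hσ3 : σ ^ 3 ^ 1 = 1 := by
      rw [pow_one, hσ, ← map_pow, ← map_pow]
      have : (⟨t, htN⟩ : N) ^ 3 = 1 := by
        apply Subtype.ext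
        rw [Subgroup.coe_pow, Subgroup.coe_one]
        exact ht3
      rw [this, map_one, map_one]
    have hσapp : ∀ z : ↥(P : Subgroup G), ((σ z : ↥(P : Subgroup G)) : G) = t * z * t⁻¹ := by
      intro z
      rfl
    have : Fintype ↥(P : Subgroup G) := Fintype.ofFinite _
    have : Fact (Nat.Prime 3) := ⟨Nat.prime_three⟩
    have hf3 : ((Equiv.Perm.equivUnitsEnd σ : Units (Function.End ↥(P : Subgroup G))) :
        Function.End ↥(P : Subgroup G)) ^ 3 ^ 1 = 1 := by
      rw [← Units.val_pow_eq_pow_val, ← map_pow, hσ3, map_one, Units.val_one]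
    have hmod := Equiv.Perm.card_fixedPoints_modEq (p := 3) (n := 1) hf3
    change Fintype.card ↥(P : Subgroup G) ≡ Fintype.card (Function.fixedPoints σ) [MOD 3] at hmod
    have hcardP : Fintype.card ↥(P : Subgroup G) = 8 := by
      rw [← Nat.card_eq_fintype_card]; exact hcard
    rw [hcardP] at hmod
    -- there is a non-trivial fixed point
    have hex : ∃ z : ↥(P : Subgroup G), z ≠ 1 ∧ σ z = z := by
      by_contra hcon0
      have hcon : ∀ z : ↥(P : Subgroup G), z ≠ 1 → σ z ≠ z := fun z hz1 hz => hcon0 ⟨z, hz1, hz⟩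
      have hfix : Function.fixedPoints σ = {1} := by
        ext z
        simp only [Function.mem_fixedPoints, Function.IsFixedPt, Set.mem_singleton_iff]
        constructor
        · intro hz
          by_contra hz1
          exact hcon z hz1 hz
        · rintro rfl
          apply Subtype.ext
          rw [hσapp]
          simp
      have hc1 : Fintype.card (Function.fixedPoints σ) = 1 := by
        rw [← Nat.card_eq_fintype_card, hfix]
        simp
      rw [hc1] at hmod
      revert hmod
      decide
    obtain ⟨z, hz1, hzfix⟩ := hex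
    have hzt : t * (z : G) * t⁻¹ = z := by
      rw [← hσapp, hzfix]
    -- the stabilizer of `z` in `N`
    set S : Subgroup G := N ⊓ Subgroup.centralizer {(z : G)} with hS
    have hPS : (P : Subgroup G) ≤ S := by
      intro x hx
      refine Subgroup.mem_inf.mpr ⟨hPN hx, Subgroup.mem_centralizer_iff.mpr ?_⟩
      intro y hy
      rw [Set.mem_singleton_iff] at hy
      subst hy
      exact hcomm _ z.2 _ hx
    have htS : t ∈ S := by
      refine Subgroup.mem_inf.mpr ⟨htN, Subgroup.mem_centralizer_iff.mpr ?_⟩
      intro y hy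
      rw [Set.mem_singleton_iff] at hy
      subst hy
      have : t * (z : G) * t⁻¹ * t = (z : G) * t := by rw [hzt]
      rw [← this]; group
    have h8S : 8 ∣ Nat.card S := by
      rw [← hcard]
      exact Subgroup.card_dvd_of_le hPS
    have h3S : 3 ∣ Nat.card S := by
      rw [← hot]
      exact Subgroup.orderOf_dvd_natCard S htS
    have h24S : 24 ∣ Nat.card S := by
      have : Nat.Coprime 8 3 := by norm_num
      exact this.mul_dvd_of_dvd_of_dvd h8S h3S
    have hSN : S ≤ N := inf_le_left
    have hSeq : S = N := by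
      apply Subgroup.eq_of_le_of_card_ge hSN
      rw [hN24]
      exact Nat.le_of_dvd Nat.card_pos h24S
    have hz := hT (z : G) z.2 (by
      intro n hn
      have hnS : n ∈ S := by rw [hSeq]; exact hn
      have hc := Subgroup.mem_centralizer_iff.mp (Subgroup.mem_inf.mp hnS).2
      have := hc (z : G) (Set.mem_singleton _)
      rw [← this]; group)
    exact hz1 (Subtype.ext hz)
  · rw [← hmcard, h21]

/-- R2-N (115205). -/
theorem card_normalizer_eq {G : Type*} [Group G] [Finite G] (hperf : commutator G = ⊤) (P : Sylow 2 G)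
    (hcard : Nat.card ↥(P : Subgroup G) = 8) (hexp : ∀ x ∈ P, x * x = 1)
    (hC : Subgroup.centralizer ((P : Subgroup G) : Set G) = (P : Subgroup G))
    (t : G) (ht3 : t ^ 3 = 1) (htP : t ∉ P) (htN : t ∈ Subgroup.normalizer ((P : Subgroup G) : Set G)) :
    Nat.card ↥(Subgroup.normalizer ((P : Subgroup G) : Set G)) = 168 := by
  have hcomm : ∀ x ∈ P, ∀ y ∈ P, x * y = y * x := by
    intro x hx y hy
    have hxy := hexp (x * y) ((P : Subgroup G).mul_mem hx hy)
    have hx2 := hexp x hx
    have hy2 := hexp y hy
    calc x * y = x * (x * y * (x * y)) * y := by rw [hxy, mul_one]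
      _ = (x * x) * (y * x) * (y * y) := by group
      _ = y * x := by rw [hx2, hy2, one_mul, mul_one]
  exact card_normalizer_eq_of P hcard hexp hC t ht3 htP htN
    (fun z hz hfix => Cfsg.Agent.Lib.Helper62.Ree2.sylow_fixed_eq_one hperf P hcomm z hz hfix)

end Cfsg.Agent.Lib.Helper87.Ree2
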