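import Mathlib

set_option autoImplicit false

namespace Cfsg.Agent.Lib.Helper87

/-- Rigidity: an automorphism of a finite group that fixes a Sylow `p`-subgroup `T` elementwise, where
`T` contains a normal subgroup `Q` with `C_G(Q) ≤ Q`, is conjugation by an element of `Z(T)`. -/
theorem rigid_aut {G : Type*} [Group G] [Finite G] (p : ℕ) [Fact p.Prime] (T : Sylow p G)
    (Q : Subgroup G) [hQn : Q.Normal] (hQT : Q ≤ (T : Subgroup G))
    (hCQ : Subgroup.centralizer (Q : Set G) ≤ Q)
    (ψ : G ≃* G) (hψ : ∀ x ∈ (T : Subgroup G), ψ x = x) :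
    ∃ z ∈ (T : Subgroup G), (∀ s ∈ (T : Subgroup G), z * s = s * z) ∧ ∀ g, ψ g = z * g * z⁻¹ := by
  classical
  have hAn : (Subgroup.centralizer (Q : Set G)).Normal := inferInstance
  have hAcomm : ∀ a b : Subgroup.centralizer (Q : Set G), a * b = b * a := by
    intro a b
    apply Subtype.ext
    have := (Subgroup.mem_centralizer_iff.mp a.2) b (hCQ b.2)
    exact this.symm
  letI : CommGroup (Subgroup.centralizer (Q : Set G)) :=
    { (inferInstance : Group (Subgroup.centralizer (Q : Set G))) with mul_comm := hAcomm }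
  have hdmem : ∀ g, ψ g * g⁻¹ ∈ Subgroup.centralizer (Q : Set G) := by
    intro g
    rw [Subgroup.mem_centralizer_iff]
    intro x hx
    have hx' : g⁻¹ * x * g ∈ Q := by
      have := hQn.conj_mem x hx g⁻¹
      rwa [inv_inv] at this
    have h1 : ψ (g⁻¹ * x * g) = g⁻¹ * x * g := hψ _ (hQT hx')
    have h2 : ψ x = x := hψ _ (hQT hx)
    rw [map_mul, map_mul, map_inv, h2] at h1
    calc x * (ψ g * g⁻¹) = ψ g * ((ψ g)⁻¹ * x * ψ g) * g⁻¹ := by group
      _ = ψ g * (g⁻¹ * x * g) * g⁻¹ := by rw [h1]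
      _ = ψ g * g⁻¹ * x := by group
  let d : G → Subgroup.centralizer (Q : Set G) := fun g => ⟨ψ g * g⁻¹, hdmem g⟩
  have hd1 : ∀ g s, s ∈ (T : Subgroup G) → d (g * s) = d g := by
    intro g s hs
    apply Subtype.ext
    show ψ (g * s) * (g * s)⁻¹ = ψ g * g⁻¹
    rw [map_mul, hψ s hs]
    group
  have hd2 : ∀ h g, d (h * g) = d h * MulAut.conjNormal h (d g) := by
    intro h g
    apply Subtype.ext
    show ψ (h * g) * (h * g)⁻¹ = (ψ h * h⁻¹) * (h * (ψ g * g⁻¹) * h⁻¹)
    rw [map_mul]
    group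
  haveI : Fintype (G ⧸ (T : Subgroup G)) := Fintype.ofFinite _
  let w : Subgroup.centralizer (Q : Set G) := ∏ q : G ⧸ (T : Subgroup G), d q.out
  have hw : ∀ h : G, ∏ q : G ⧸ (T : Subgroup G), d (h * q.out) = w := by
    intro h
    have hstep : ∀ q : G ⧸ (T : Subgroup G), d (h * q.out) = d ((h • q).out) := by
      intro q
      have hq : ((h • q : G ⧸ (T : Subgroup G)).out)⁻¹ * (h * q.out) ∈ (T : Subgroup G) := by
        rw [← QuotientGroup.eq]
        simp only [QuotientGroup.out_eq']
        conv_lhs => rw [← QuotientGroup.out_eq' q]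
        rfl
      have := hd1 ((h • q : G ⧸ (T : Subgroup G)).out) _ hq
      rw [← this]
      congr 1
      group
    simp_rw [hstep]
    exact Equiv.prod_comp (MulAction.toPerm h) (fun q : G ⧸ (T : Subgroup G) => d q.out)
  have hw2 : ∀ h : G, ∏ q : G ⧸ (T : Subgroup G), d (h * q.out) =
      d h ^ (T : Subgroup G).index * MulAut.conjNormal h w := by
    intro h
    simp_rw [hd2]
    rw [Finset.prod_mul_distrib, Finset.prod_const, Finset.card_univ, ← map_prod]
    congr 2
    rw [Subgroup.index_eq_card, Nat.card_eq_fintype_card]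
  have hkey : ∀ h : G, d h ^ (T : Subgroup G).index = w * (MulAut.conjNormal h w)⁻¹ := by
    intro h
    have := (hw2 h).symm.trans (hw h)
    exact eq_mul_inv_of_mul_eq this
  -- coprimality
  have hAp : IsPGroup p (Subgroup.centralizer (Q : Set G)) := T.isPGroup'.to_le (hCQ.trans hQT)
  obtain ⟨k, hk⟩ := IsPGroup.iff_card.mp hAp
  have hcop : (Nat.card (Subgroup.centralizer (Q : Set G))).Coprime (T : Subgroup G).index := by
    rw [hk]
    apply Nat.Coprime.pow_left
    exact (Nat.Prime.coprime_iff_not_dvd Fact.out).mpr T.not_dvd_index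
  set e : ℤ := (Nat.card (Subgroup.centralizer (Q : Set G))).gcdB (T : Subgroup G).index with he
  have hinv : ∀ a : Subgroup.centralizer (Q : Set G), (a ^ (T : Subgroup G).index) ^ e = a :=
    fun a => (powCoprime hcop).left_inv a
  let z : Subgroup.centralizer (Q : Set G) := w ^ e
  have hdz : ∀ h : G, d h = z * (MulAut.conjNormal h z)⁻¹ := by
    intro h
    rw [← hinv (d h), hkey h, mul_zpow, inv_zpow, map_zpow]
  have hψz : ∀ g : G, ψ g = (z : G) * g * (z : G)⁻¹ := by
    intro g
    have h1 := congrArg Subtype.val (hdz g)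
    have h2 : ψ g * g⁻¹ = (z : G) * (g * (z : G) * g⁻¹)⁻¹ := by
      simpa [d, MulAut.conjNormal_apply] using h1
    calc ψ g = (ψ g * g⁻¹) * g := by group
      _ = (z : G) * (g * (z : G) * g⁻¹)⁻¹ * g := by rw [h2]
      _ = (z : G) * g * (z : G)⁻¹ := by group
  refine ⟨(z : G), hQT (hCQ z.2), fun s hs => ?_, hψz⟩
  have h1 := hψz s
  rw [hψ s hs] at h1
  calc (z : G) * s = ((z : G) * s * (z : G)⁻¹) * (z : G) := by group
    _ = s * (z : G) := by rw [← h1]

end Cfsg.Agent.Lib.Helper87
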