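import Mathlib
import Cfsg.Prelude.Def_JordanBlocks
import Cfsg.Agent.Lib.Helper73.UCDefs
import Cfsg.Agent.Lib.Helper73.SPCDefs

set_option autoImplicit false

/-!
# K-SPC pack (architect helper73, S2676), keystone 267622 (C13): assembly of the classification

The map `class of shankel d c ↦ (class of topBlock d hd c i)_i` is a bijection from the classes of
`AltSkew (nilM d F)` onto the product of the classes of `SymND _ i`.
-/

namespace Cfsg.Agent.Lib.Helper87.SPC

open Matrix Cfsg.Agent.Lib.Helper73.UC Cfsg.Agent.Lib.Helper73.SPC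

variable {F : Type*} [Field F]

/-- determinant of a congruent matrix is a unit -/
theorem c13_isUnit_det_of_congRel {ι : Type*} [Fintype ι] [DecidableEq ι] {A B B' : Matrix ι ι F}
    (h : CongRel A B B') (hB : IsUnit B.det) : IsUnit B'.det := by
  obtain ⟨x, hx, -, rfl⟩ := h
  rw [Matrix.det_mul, Matrix.det_mul, Matrix.det_transpose]
  exact (hx.mul hB).mul hx

theorem orbCount_altSkew_nilM_of {t : ℕ} (d : Fin t → ℕ) (hd : ∀ k, 1 ≤ d k)
    (H1 : ∀ B : Matrix (JI d) (JI d) F,
      (Bᵀ = -B ∧ (nilM d F)ᵀ * B = -(B * nilM d F)) ↔ ∃ c ∈ AC d, shankel d c = B)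
    (H2 : ∀ c : CIdx d → F, IsUnit (shankel d c).det ↔ IsUnit (topC d hd c).det)
    (H3 : ∀ c : CIdx d → F, c ∈ AC d → ∀ i : ℕ,
      (topBlock d hd c i)ᵀ = (-1 : F) ^ i • topBlock d hd c i)
    (H4 : ∀ c : CIdx d → F, IsUnit (topC d hd c).det ↔ ∀ i : ℕ, IsUnit (topBlock d hd c i).det)
    (H5 : ∀ c c' : CIdx d → F, CongRel (nilM d F) (shankel d c) (shankel d c') → ∀ i : ℕ,
      CongRel (1 : Matrix {k : Fin t // d k = i} {k : Fin t // d k = i} F)
        (topBlock d hd c i) (topBlock d hd c' i))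
    (H6 : ∀ c : CIdx d → F, c ∈ AC d →
      ∀ y : (∀ i : ℕ, Matrix {k : Fin t // d k = i} {k : Fin t // d k = i} F),
      (∀ i, IsUnit (y i).det) →
      ∃ c' ∈ AC d, CongRel (nilM d F) (shankel d c) (shankel d c') ∧
        ∀ i, topBlock d hd c' i = (y i)ᵀ * topBlock d hd c i * y i)
    (H7 : ∀ c c' : CIdx d → F, c ∈ AC d → c' ∈ AC d → IsUnit (shankel d c).det →
      IsUnit (shankel d c').det → (∀ i, topBlock d hd c i = topBlock d hd c' i) →
      CongRel (nilM d F) (shankel d c) (shankel d c'))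
    (H8 : ∀ T : (∀ i : ℕ, Matrix {k : Fin t // d k = i} {k : Fin t // d k = i} F),
      (∀ i, (T i)ᵀ = (-1 : F) ^ i • T i) → ∃ c ∈ AC d, ∀ i, topBlock d hd c i = T i) :
    orbCount (nilM d F) (AltSkew (nilM d F)) =
      ∏ i ∈ Finset.range (Finset.univ.sup d + 1),
        orbCount (1 : Matrix {k : Fin t // d k = i} {k : Fin t // d k = i} F)
          (SymND {k : Fin t // d k = i} i) := by
  classical
  set N : ℕ := Finset.univ.sup d + 1 with hN
  -- index types beyond the range are empty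
  have hempty : ∀ i : ℕ, N ≤ i → IsEmpty {k : Fin t // d k = i} := by
    intro i hi
    refine ⟨fun k => ?_⟩
    have h1 : d k.1 ≤ Finset.univ.sup d := Finset.le_sup (Finset.mem_univ k.1)
    have h2 := k.2
    omega
  -- the chosen coefficient system of a member of `AltSkew`
  have hex : ∀ B : ↥(AltSkew (nilM d F)), ∃ c ∈ AC d, shankel d c = B.1 := fun B =>
    (H1 B.1).1 ⟨B.2.1, B.2.2.2⟩
  choose cOf hcAC hcB using hex
  have hcU : ∀ B : ↥(AltSkew (nilM d F)), IsUnit (shankel d (cOf B)).det := fun B => by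
    rw [hcB B]; exact B.2.2.1
  have htopU : ∀ c : CIdx d → F, IsUnit (shankel d c).det → ∀ i, IsUnit (topBlock d hd c i).det :=
    fun c hc => (H4 c).1 ((H2 c).1 hc)
  have htopS : ∀ (B : ↥(AltSkew (nilM d F))) (i : ℕ),
      topBlock d hd (cOf B) i ∈ (SymND {k : Fin t // d k = i} i : Set (Matrix _ _ F)) := fun B i =>
    ⟨H3 _ (hcAC B) i, htopU _ (hcU B) i⟩
  -- the map on representatives
  let s0 := (congSetoid (nilM d F)).comap (Subtype.val : ↥(AltSkew (nilM d F)) → Matrix (JI d) (JI d) F)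
  let s1 : ∀ i : ℕ, Setoid ↥(SymND {k : Fin t // d k = i} i : Set (Matrix _ _ F)) := fun i =>
    (congSetoid (1 : Matrix {k : Fin t // d k = i} {k : Fin t // d k = i} F)).comap Subtype.val
  let φ0 : ↥(AltSkew (nilM d F)) → (∀ i : Fin N, Quotient (s1 i)) := fun B i =>
    Quotient.mk (s1 i) ⟨topBlock d hd (cOf B) i, htopS B i⟩
  have hφ0 : ∀ B B' : ↥(AltSkew (nilM d F)), s0.r B B' → φ0 B = φ0 B' := by
    intro B B' h
    funext i
    apply Quotient.sound
    show CongRel _ _ _
    have h' : CongRel (nilM d F) (shankel d (cOf B)) (shankel d (cOf B')) := by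
      rw [hcB B, hcB B']; exact h
    exact H5 _ _ h' i
  let φ : Quotient s0 → (∀ i : Fin N, Quotient (s1 i)) := Quotient.lift φ0 hφ0
  have hinj : Function.Injective φ := by
    intro q q'
    induction q using Quotient.inductionOn with | _ B => ?_
    induction q' using Quotient.inductionOn with | _ B' => ?_
    intro h
    apply Quotient.sound
    show CongRel (nilM d F) B.1 B'.1
    have hi : ∀ i : ℕ, ∃ y : Matrix {k : Fin t // d k = i} {k : Fin t // d k = i} F,
        IsUnit y.det ∧ yᵀ * topBlock d hd (cOf B) i * y = topBlock d hd (cOf B') i := by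
      intro i
      by_cases hiN : i < N
      · have h1 := congrFun h ⟨i, hiN⟩
        have h2 : CongRel (1 : Matrix {k : Fin t // d k = i} {k : Fin t // d k = i} F)
            (topBlock d hd (cOf B) i) (topBlock d hd (cOf B') i) := Quotient.exact h1
        obtain ⟨y, hy, -, hy2⟩ := h2
        exact ⟨y, hy, hy2⟩
      · have := hempty i (not_lt.mp hiN)
        exact ⟨1, by simp, Subsingleton.elim _ _⟩
    choose y hy hy2 using hi
    obtain ⟨c'', hc''AC, hc''R, hc''top⟩ := H6 (cOf B) (hcAC B) y hy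
    have hU'' : IsUnit (shankel d c'').det := c13_isUnit_det_of_congRel hc''R (hcU B)
    have h7 := H7 c'' (cOf B') hc''AC (hcAC B') hU'' (hcU B') (fun i => by rw [hc''top i, hy2 i])
    have := congRel_trans hc''R h7
    rwa [hcB B, hcB B'] at this
  have hsurj : Function.Surjective φ := by
    intro q
    -- representatives
    have hrep : ∀ i : ℕ, ∃ T : Matrix {k : Fin t // d k = i} {k : Fin t // d k = i} F,
        Tᵀ = (-1 : F) ^ i • T ∧ IsUnit T.det ∧
          ∀ hiN : i < N, ∀ hT : T ∈ (SymND {k : Fin t // d k = i} i : Set (Matrix _ _ F)),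
            Quotient.mk (s1 i) ⟨T, hT⟩ = q ⟨i, hiN⟩ := by
      intro i
      by_cases hiN : i < N
      · obtain ⟨T, hT⟩ := Quotient.exists_rep (q ⟨i, hiN⟩)
        exact ⟨T.1, T.2.1, T.2.2, fun _ _ => hT⟩
      · have := hempty i (not_lt.mp hiN)
        refine ⟨0, Subsingleton.elim _ _, ?_, fun h => absurd h hiN⟩
        rw [Matrix.det_isEmpty]; exact isUnit_one
    choose T hT1 hT2 hT3 using hrep
    obtain ⟨c, hcA, hctop⟩ := H8 T hT1
    have hUc : IsUnit (shankel d c).det := by
      rw [H2, H4]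
      intro i; rw [hctop i]; exact hT2 i
    have hmem : shankel d c ∈ AltSkew (nilM d F) := by
      have := (H1 (shankel d c)).2 ⟨c, hcA, rfl⟩
      exact ⟨this.1, hUc, this.2⟩
    refine ⟨Quotient.mk s0 ⟨shankel d c, hmem⟩, ?_⟩
    funext i
    show Quotient.mk (s1 i) _ = q i
    have h5 : CongRel (nilM d F) (shankel d (cOf ⟨shankel d c, hmem⟩)) (shankel d c) := by
      rw [hcB]; exact congRel_refl _ _
    have h5' := H5 _ _ h5 i
    rw [← hT3 i i.2 ⟨hT1 i, hT2 i⟩]
    apply Quotient.sound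
    show CongRel _ (topBlock d hd (cOf ⟨shankel d c, hmem⟩) i) (T i)
    have h6 := hctop i
    rw [← h6]
    exact h5'
  have hcard : Nat.card (Quotient s0) = Nat.card (∀ i : Fin N, Quotient (s1 i)) :=
    Nat.card_congr (Equiv.ofBijective φ ⟨hinj, hsurj⟩)
  unfold orbCount
  rw [Finset.prod_range]
  rw [← Nat.card_pi]
  exact hcard

end Cfsg.Agent.Lib.Helper87.SPC
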