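import Mathlib
import Cfsg.Prelude.Def_GeometricClasses
import Cfsg.Agent.Lib.Helper87.SU3Defs
import Cfsg.Agent.Lib.Helper10.SU3KDefs

set_option autoImplicit false

namespace Cfsg.Agent.Lib.Helper87.SU3

open Cfsg Cfsg.Geo Matrix

section group

variable {G : Type*} [Group G]

theorem false_of_maximal_le {K H M L : Subgroup G} (hH : IsMaximalIn K H) (hHM : H ≤ M)
    (hML : M ⊓ K ≤ L) (hLK : L ≤ K) (hs : ∃ s ∈ K, s ∉ L) (hl : ∃ l ∈ L, l ∉ M) : False := by
  have hHL : H ≤ L := (le_inf hHM hH.1.le).trans hML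
  rcases hH.2 L hHL hLK with h | h
  · obtain ⟨l, hl1, hl2⟩ := hl
    rw [h] at hl1
    exact hl2 (hHM hl1)
  · obtain ⟨s, hs1, hs2⟩ := hs
    rw [h] at hs2
    exact hs2 hs1

theorem eq_inf_of_maximal {K H X : Subgroup G} (hH : IsMaximalIn K H) (hHX : H ≤ X) (hX : ¬ K ≤ X) :
    H = X ⊓ K := by
  rcases hH.2 (X ⊓ K) (le_inf hHX hH.1.le) inf_le_right with h | h
  · exact h.symm
  · exfalso
    apply hX
    rw [← h]
    exact inf_le_left

theorem mem_map_conj {g x : G} {A : Subgroup G} :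
    x ∈ A.map (MulAut.conj g).toMonoidHom ↔ g⁻¹ * x * g ∈ A := by
  rw [Subgroup.mem_map]
  constructor
  · rintro ⟨y, hy, rfl⟩
    have : g⁻¹ * ((MulAut.conj g).toMonoidHom y) * g = y := by
      simp [MulAut.conj_apply, mul_assoc]
    rwa [this]
  · intro h
    refine ⟨g⁻¹ * x * g, h, ?_⟩
    simp [MulAut.conj_apply, mul_assoc]

theorem false_of_maximal_le_conj {K H M0 L : Subgroup G} (g : G)
    (hgK : K.map (MulAut.conj g).toMonoidHom = K) (hH : IsMaximalIn K H)
    (hHM : H ≤ M0.map (MulAut.conj g).toMonoidHom)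
    (hML : M0 ⊓ K ≤ L) (hLK : L ≤ K) (hs : ∃ s ∈ K, s ∉ L) (hl : ∃ l ∈ L, l ∉ M0) : False := by
  have hinj : Function.Injective (MulAut.conj g).toMonoidHom := (MulAut.conj g).injective
  refine false_of_maximal_le (L := L.map (MulAut.conj g).toMonoidHom) hH hHM ?_ ?_ ?_ ?_
  · conv_lhs => rw [← hgK]
    rw [← Subgroup.map_inf _ _ _ hinj]
    exact Subgroup.map_mono hML
  · conv_rhs => rw [← hgK]
    exact Subgroup.map_mono hLK
  · obtain ⟨s, hs1, hs2⟩ := hs
    refine ⟨g * s * g⁻¹, ?_, ?_⟩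
    · rw [← hgK, mem_map_conj]
      have : g⁻¹ * (g * s * g⁻¹) * g = s := by group
      rwa [this]
    · rw [mem_map_conj]
      have : g⁻¹ * (g * s * g⁻¹) * g = s := by group
      rwa [this]
  · obtain ⟨l, hl1, hl2⟩ := hl
    refine ⟨g * l * g⁻¹, ?_, ?_⟩
    · rw [mem_map_conj]
      have : g⁻¹ * (g * l * g⁻¹) * g = l := by group
      rwa [this]
    · rw [mem_map_conj]
      have : g⁻¹ * (g * l * g⁻¹) * g = l := by group
      rwa [this]

end group

variable {F : Type*} [Field F] [Fintype F]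

local notation "M3" => Matrix (Fin 3) (Fin 3) F
local notation "G3" => GL (Fin 3) F

/-- `GU` normalises `SU3`. -/
theorem map_conj_SU3 (q : ℕ) (g : G3) (hg : g ∈ GU 3 F q) :
    (SU3 F q).map (MulAut.conj g).toMonoidHom = SU3 F q := by
  ext x
  rw [mem_map_conj]
  have hdet : ∀ y : G3, y ∈ specialLinear (Fin 3) F ↔ Matrix.GeneralLinearGroup.det y = 1 := by
    intro y; rw [specialLinear, MonoidHom.mem_ker]
  rw [Subgroup.mem_inf, Subgroup.mem_inf]
  constructor
  · rintro ⟨h1, h2⟩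
    refine ⟨?_, ?_⟩
    · have : x = g * (g⁻¹ * x * g) * g⁻¹ := by group
      rw [this]; exact mul_mem (mul_mem hg h1) (inv_mem hg)
    · rw [hdet] at h2 ⊢
      rw [map_mul, map_mul, map_inv] at h2
      rw [← h2, mul_comm, ← mul_assoc, mul_inv_cancel, one_mul]
  · rintro ⟨h1, h2⟩
    refine ⟨mul_mem (mul_mem (inv_mem hg) h1) hg, ?_⟩
    rw [hdet] at h2 ⊢
    rw [map_mul, map_mul, map_inv, h2, mul_one, inv_mul_cancel]

theorem card25 (hF : Fintype.card F = 25) : Fintype.card F = 5 ^ 2 := by rw [hF]; norm_num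

theorem charP5 (hF : Fintype.card F = 25) : CharP F 5 :=
  Cfsg.Agent.Lib.Helper10.SU3K.charP_of_card (card25 hF) Nat.prime_five

theorem five_eq_zero (hF : Fintype.card F = 25) : (5 : F) = 0 := by
  haveI := charP5 hF
  exact_mod_cast CharP.cast_eq_zero F 5

theorem exists_omega (hF : Fintype.card F = 25) : ∃ ω : F, ω ^ 2 + ω + 1 = 0 := by
  classical
  have hcard : Fintype.card Fˣ = 24 := by rw [Fintype.card_units, hF]
  have h3 : (3 : ℕ) ∣ Fintype.card Fˣ := by rw [hcard]; norm_num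
  haveI : Fact (Nat.Prime 3) := ⟨Nat.prime_three⟩
  obtain ⟨x, hx⟩ := exists_prime_orderOf_dvd_card 3 h3
  refine ⟨(x : F), ?_⟩
  have hx3 : (x : F) ^ 3 = 1 := by
    have : x ^ 3 = 1 := by rw [← hx]; exact pow_orderOf_eq_one x
    have := congrArg (fun u : Fˣ => (u : F)) this
    simpa using this
  have hx1 : (x : F) ≠ 1 := by
    intro h
    have : x = 1 := Units.ext h
    rw [this, orderOf_one] at hx
    norm_num at hx
  have hfac : ((x : F) - 1) * ((x : F) ^ 2 + (x : F) + 1) = 0 := by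
    have : ((x : F) - 1) * ((x : F) ^ 2 + (x : F) + 1) = (x : F) ^ 3 - 1 := by ring
    rw [this, hx3, sub_self]
  rcases mul_eq_zero.mp hfac with h | h
  · exact absurd (sub_eq_zero.mp h) hx1
  · exact h

theorem omega_cube {ω : F} (hω : ω ^ 2 + ω + 1 = 0) : ω ^ 3 = 1 := by
  have : ω ^ 3 - 1 = (ω - 1) * (ω ^ 2 + ω + 1) := by ring
  rw [hω, mul_zero] at this
  exact sub_eq_zero.mp this

theorem omega_ne_one (hF : Fintype.card F = 25) {ω : F} (hω : ω ^ 2 + ω + 1 = 0) : ω ≠ 1 := by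
  intro h
  rw [h] at hω
  have h5 := five_eq_zero hF
  have h3 : (3 : F) = 0 := by
    have : (1 : F) ^ 2 + 1 + 1 = 3 := by norm_num
    rw [← this]; exact hω
  have : (1 : F) = 0 := by linear_combination 2 * h3 - h5
  exact one_ne_zero this

end Cfsg.Agent.Lib.Helper87.SU3
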