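import Mathlib
import Cfsg.Prelude.Def_GeometricClasses
import Cfsg.Agent.Lib.Helper87.SU3Defs
import Cfsg.Agent.Lib.Helper10.SU3KDefs
import Cfsg.Agent.Lib.Helper87.SU3GlueA

set_option autoImplicit false

namespace Cfsg.Agent.Lib.Helper87.SU3

open Cfsg Cfsg.Geo Matrix

variable {F : Type*} [Field F] [Fintype F]

local notation "M3" => Matrix (Fin 3) (Fin 3) F
local notation "G3" => GL (Fin 3) F

theorem mem_specialLinear_iff (g : G3) : g ∈ specialLinear (Fin 3) F ↔ (g : M3).det = 1 := by
  rw [specialLinear, MonoidHom.mem_ker]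
  constructor
  · intro h
    have h4 := congrArg Units.val h
    rwa [Matrix.GeneralLinearGroup.val_det_apply] at h4
  · intro h
    apply Units.ext
    rw [Matrix.GeneralLinearGroup.val_det_apply]
    exact h

theorem mem_SU3_five_iff (hF : Fintype.card F = 25) (g : G3) :
    g ∈ SU3 F 5 ↔ Cfsg.Agent.Lib.Helper10.SU3K.dag 5 (g : M3) * (g : M3) = 1 ∧ (g : M3).det = 1 := by
  rw [Subgroup.mem_inf, mem_specialLinear_iff,
    Cfsg.Agent.Lib.Helper10.SU3K.mem_GU_iff_dag (card25 hF) Nat.prime_five]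

/-! ### the half-turn `r5` -/

theorem r5m_mul_self (hF : Fintype.card F = 25) : (r5m : M3) * r5m = 1 := by
  have h5 := five_eq_zero hF
  ext i j
  fin_cases i <;> fin_cases j <;>
    simp [r5m, Matrix.mul_apply, Fin.sum_univ_three, Matrix.one_apply] <;>
    linear_combination 8 * h5

/-- the half-turn as an element of `GL_3(F)`. -/
def r5 (hF : Fintype.card F = 25) : G3 := ⟨r5m, r5m, r5m_mul_self hF, r5m_mul_self hF⟩

theorem r5_val (hF : Fintype.card F = 25) : ((r5 hF : G3) : M3) = r5m := rfl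

theorem three_pow_five (hF : Fintype.card F = 25) : (3 : F) ^ 5 = 3 := by
  have h5 := five_eq_zero hF
  linear_combination 48 * h5

theorem four_pow_five (hF : Fintype.card F = 25) : (4 : F) ^ 5 = 4 := by
  have h5 := five_eq_zero hF
  linear_combination 204 * h5

theorem r5m_pow_five (hF : Fintype.card F = 25) (i j : Fin 3) : (r5m : M3) i j ^ 5 = r5m i j := by
  fin_cases i <;> fin_cases j <;> simp [r5m, three_pow_five hF, four_pow_five hF]

theorem dag_r5m (hF : Fintype.card F = 25) : Cfsg.Agent.Lib.Helper10.SU3K.dag 5 (r5m : M3) = r5m := by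
  ext i j
  rw [Cfsg.Agent.Lib.Helper10.SU3K.dag_apply, r5m_pow_five hF]
  fin_cases i <;> fin_cases j <;> simp [r5m]

theorem r5_mem_SU3 (hF : Fintype.card F = 25) : r5 hF ∈ SU3 F 5 := by
  rw [mem_SU3_five_iff hF, r5_val, dag_r5m hF]
  refine ⟨r5m_mul_self hF, ?_⟩
  have h5 := five_eq_zero hF
  rw [Matrix.det_fin_three]
  simp [r5m]
  linear_combination 2 * h5

/-! ### diagonal matrices stabilise the standard frame -/

theorem diag_mem_stdFrame_stabilizer (g : G3) (d : Fin 3 → F) (hd : ∀ i, d i ≠ 0)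
    (hg : (g : M3) = Matrix.diagonal d) : g ∈ decompositionStabilizer (stdFrame F) := by
  refine ⟨1, fun i => ?_⟩
  simp only [stdFrame, Equiv.Perm.coe_one, id_eq]
  rw [Submodule.map_span, Set.image_singleton, Matrix.toLin'_apply, hg]
  have : Matrix.diagonal d *ᵥ (Pi.single i (1 : F)) = d i • Pi.single i (1 : F) := by
    ext j
    rw [Matrix.mulVec_single_one]
    by_cases hji : j = i
    · subst hji; simp
    · simp [Matrix.diagonal_apply, hji, Pi.single_apply]
  rw [this]
  exact Submodule.span_singleton_smul_eq (IsUnit.mk0 _ (hd i)) _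

end Cfsg.Agent.Lib.Helper87.SU3
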