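import Mathlib
import Cfsg.Prelude.Def_GeometricClasses
import Cfsg.Agent.Lib.Helper87.SU3Defs
import Cfsg.Agent.Lib.Helper10.SU3KDefs
import Cfsg.Agent.Lib.Helper87.SU3GlueA
import Cfsg.Agent.Lib.Helper87.SU3GlueB
import Cfsg.Agent.Lib.Helper57.SU3KC1
import Cfsg.Agent.Lib.Helper16.SU3KA2
import Cfsg.Agent.Lib.Helper29.SU3KNF1
import Cfsg.Agent.Lib.Helper39.SU3KA1
import Cfsg.Agent.Lib.Helper77.SU3KA3
import Cfsg.Agent.Lib.Helper80.SU3KNF2
import Cfsg.Agent.Lib.Helper34.SU3KB1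

set_option autoImplicit false

namespace Cfsg.Agent.Lib.Helper87.SU3

open Cfsg Cfsg.Geo Matrix

variable {F : Type*} [Field F] [Fintype F]

local notation "M3" => Matrix (Fin 3) (Fin 3) F
local notation "G3" => GL (Fin 3) F

theorem stabX5_eq (hF : Fintype.card F = 25) : stab (InX5 (F := F)) = stab InX5' :=
  stab_congr (Cfsg.Agent.Lib.Helper57.SU3K.inX5_iff_inX5' hF)

theorem r5_mem_stab (hF : Fintype.card F = 25) : r5 hF ∈ stab (InX5 (F := F)) := by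
  rw [stabX5_eq hF]
  exact Cfsg.Agent.Lib.Helper16.SU3K.mem_stab_of_real hF (r5 hF) (r5_mem_SU3 hF) 1 r5m (r5m_pow_five hF) (by rw [one_smul]; rfl)

/-- `q = 5`: no maximal subgroup of `SU_3(5)` lies in a frame stabiliser. -/
theorem frames_five (hF : Fintype.card F = 25) {H : Subgroup G3} (hH : IsMaximalIn (SU3 F 5) H)
    (D : Fin 3 → Submodule F (Fin 3 → F)) (hD : IsNondegenerateMDecomposition (hermForm 3 F 5) 1 D)
    (hHD : H ≤ decompositionStabilizer D) : False := by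
  obtain ⟨g, hg, heq⟩ := Cfsg.Agent.Lib.Helper29.SU3K.exists_conj_stdFrame 5 (card25 hF) D hD
  rw [heq] at hHD
  refine false_of_maximal_le_conj (L := stab InX5 ⊓ SU3 F 5) g (map_conj_SU3 5 g hg) hH hHD ?_
    inf_le_right ?_ ?_
  · exact le_inf (Cfsg.Agent.Lib.Helper39.SU3K.stdFrame_stabilizer_le_stab hF) inf_le_right
  · obtain ⟨s, hs1, hs2⟩ := (Cfsg.Agent.Lib.Helper77.SU3K.a7_small hF).1
    exact ⟨s, hs1, fun h => hs2 h.1⟩
  · exact ⟨r5 hF, ⟨r5_mem_stab hF, r5_mem_SU3 hF⟩, (Cfsg.Agent.Lib.Helper77.SU3K.a7_small hF).2 _ (r5_val hF)⟩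

/-! ### `diag(ω, ω², 1)` -/

theorem dg5_mul (hF : Fintype.card F = 25) {ω : F} (hω : ω ^ 2 + ω + 1 = 0) :
    (dg5 ω : M3) * dg5 (ω ^ 2) = 1 := by
  have h3 := omega_cube hω
  ext i j
  fin_cases i <;> fin_cases j <;>
    simp [dg5, Matrix.mul_apply, Fin.sum_univ_three, Matrix.one_apply]
  · linear_combination h3
  · linear_combination (ω ^ 3 + 1) * h3

theorem dg5_mul' (hF : Fintype.card F = 25) {ω : F} (hω : ω ^ 2 + ω + 1 = 0) :
    (dg5 (ω ^ 2) : M3) * dg5 ω = 1 := by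
  have h3 := omega_cube hω
  ext i j
  fin_cases i <;> fin_cases j <;>
    simp [dg5, Matrix.mul_apply, Fin.sum_univ_three, Matrix.one_apply]
  · linear_combination h3
  · linear_combination (ω ^ 3 + 1) * h3

/-- `diag(ω, ω², 1)` as an element of `GL_3(F)`. -/
def dgE (hF : Fintype.card F = 25) {ω : F} (hω : ω ^ 2 + ω + 1 = 0) : G3 :=
  ⟨dg5 ω, dg5 (ω ^ 2), dg5_mul hF hω, dg5_mul' hF hω⟩

theorem dgE_val (hF : Fintype.card F = 25) {ω : F} (hω : ω ^ 2 + ω + 1 = 0) :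
    ((dgE hF hω : G3) : M3) = dg5 ω := rfl

theorem dg5_eq_diagonal (ω : F) : (dg5 ω : M3) = Matrix.diagonal ![ω, ω ^ 2, 1] := by
  ext i j
  fin_cases i <;> fin_cases j <;> simp [dg5]

theorem omega_ne_zero {ω : F} (hω : ω ^ 2 + ω + 1 = 0) : ω ≠ 0 := by
  intro h
  rw [h] at hω
  simp at hω

theorem dgE_mem_SU3 (hF : Fintype.card F = 25) {ω : F} (hω : ω ^ 2 + ω + 1 = 0) :
    dgE hF hω ∈ SU3 F 5 := by
  have h3 := omega_cube hω
  rw [mem_SU3_five_iff hF, dgE_val]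
  constructor
  · ext i j
    fin_cases i <;> fin_cases j <;>
      simp [dg5, Cfsg.Agent.Lib.Helper10.SU3K.dag_apply, Matrix.mul_apply, Fin.sum_univ_three,
        Matrix.one_apply]
    · linear_combination (ω ^ 3 + 1) * h3
    · linear_combination (ω ^ 9 + ω ^ 6 + ω ^ 3 + 1) * h3
  · rw [Matrix.det_fin_three]
    simp [dg5]
    linear_combination h3

theorem dgE_mem_frame (hF : Fintype.card F = 25) {ω : F} (hω : ω ^ 2 + ω + 1 = 0) :
    dgE hF hω ∈ decompositionStabilizer (stdFrame F) := by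
  refine diag_mem_stdFrame_stabilizer _ ![ω, ω ^ 2, 1] ?_ ?_
  · intro i
    fin_cases i
    · exact omega_ne_zero hω
    · exact pow_ne_zero _ (omega_ne_zero hω)
    · exact one_ne_zero
  · rw [dgE_val, dg5_eq_diagonal]

/-- `q = 5`: no maximal subgroup of `SU_3(5)` lies in an orthogonal subfield group. -/
theorem subfield_five (hF : Fintype.card F = 25) {H : Subgroup G3} (hH : IsMaximalIn (SU3 F 5) H)
    (F₀ : Subfield F) (hF₀ : Fintype.card F = Nat.card F₀ ^ 2) (P : G3)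
    (hP : IsFormRationalStructure (hermForm 3 F 5) F₀ 1 P)
    (hHM : H ≤ subfieldSubgroup F₀ P) : False := by
  obtain ⟨g, hg, heq⟩ := Cfsg.Agent.Lib.Helper80.SU3K.exists_conj_stdSubfield_five hF F₀ hF₀ P hP
  rw [heq] at hHM
  obtain ⟨ω, hω⟩ := exists_omega hF
  refine false_of_maximal_le_conj (L := stab InX5 ⊓ SU3 F 5) g (map_conj_SU3 5 g hg) hH hHM ?_
    inf_le_right ?_ ?_
  · intro x hx
    rw [Subgroup.mem_inf] at hx
    obtain ⟨c, A, hA, hxA⟩ := (Cfsg.Agent.Lib.Helper34.SU3K.stdSubfield_facts hF F₀ hF₀).1 x hx.1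
    refine Subgroup.mem_inf.2 ⟨?_, hx.2⟩
    rw [stabX5_eq hF]
    exact Cfsg.Agent.Lib.Helper16.SU3K.mem_stab_of_real hF x hx.2 c A hA hxA
  · obtain ⟨s, hs1, hs2⟩ := (Cfsg.Agent.Lib.Helper77.SU3K.a7_small hF).1
    exact ⟨s, hs1, fun h => hs2 h.1⟩
  · refine ⟨dgE hF hω, Subgroup.mem_inf.2 ⟨?_, dgE_mem_SU3 hF hω⟩, ?_⟩
    · exact Cfsg.Agent.Lib.Helper39.SU3K.stdFrame_stabilizer_le_stab hF (Subgroup.mem_inf.2 ⟨dgE_mem_frame hF hω, dgE_mem_SU3 hF hω⟩)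
    · exact (Cfsg.Agent.Lib.Helper34.SU3K.stdSubfield_facts hF F₀ hF₀).2 ω hω _ (dgE_val hF hω)

end Cfsg.Agent.Lib.Helper87.SU3
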