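import Mathlib
import Cfsg.Prelude.Def_GeometricClasses
import Cfsg.Agent.Lib.Helper87.SU3Defs
import Cfsg.Agent.Lib.Helper10.SU3KDefs
import Cfsg.Agent.Lib.Helper87.SU3GlueA
import Cfsg.Agent.Lib.Helper87.SU3GlueB
import Cfsg.Agent.Lib.Helper30.SU3KNF3
import Cfsg.Agent.Lib.Helper48.SU3KC4
import Cfsg.Agent.Lib.Helper27.SU3KC5
import Cfsg.Agent.Lib.Helper32.SU3KC6
import Cfsg.Agent.Lib.Helper23.SU3KD1

set_option autoImplicit false

namespace Cfsg.Agent.Lib.Helper87.SU3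

open Cfsg Cfsg.Geo Matrix

variable {F : Type*} [Field F] [Fintype F]

local notation "M3" => Matrix (Fin 3) (Fin 3) F
local notation "G3" => GL (Fin 3) F

theorem scalar_mem_stabY5 (z : G3) (c : F) (hc : c ^ 3 = 1) (hz : (z : M3) = c • (1 : M3)) :
    z ∈ stab (InY5 (F := F)) := by
  intro v
  have hv : (z : M3) *ᵥ v = c • v := by rw [hz, Matrix.smul_mulVec, Matrix.one_mulVec]
  rw [hv]
  have h6 : c ^ 6 = 1 := by
    have : c ^ 6 = (c ^ 3) ^ 2 := by ring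
    rw [this, hc, one_pow]
  have hn : nrm 5 (c • v) = nrm 5 v := by
    simp only [nrm, Pi.smul_apply, smul_eq_mul, mul_pow]
    have h6' : c ^ (5 + 1) = 1 := h6
    rw [h6']; ring
  have hcub : cub (c • v) = cub v := by
    simp only [cub, Pi.smul_apply, smul_eq_mul, mul_pow, hc]; ring
  have hprd : prd (c • v) = prd v := by
    simp only [prd, Pi.smul_apply, smul_eq_mul]
    have : c * v 0 * (c * v 1) * (c * v 2) = c ^ 3 * (v 0 * v 1 * v 2) := by ring
    rw [this, hc, one_mul]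
  unfold InY5
  rw [hn, hcub, hprd]

theorem scalar_mem_SU3 (hF : Fintype.card F = 25) (z : G3) (c : F) (hc : c ^ 3 = 1)
    (hz : (z : M3) = c • (1 : M3)) : z ∈ SU3 F 5 := by
  rw [mem_SU3_five_iff hF, hz]
  have h6 : c ^ 5 * c = 1 := by
    have : c ^ 5 * c = (c ^ 3) ^ 2 := by ring
    rw [this, hc, one_pow]
  constructor
  · rw [Cfsg.Agent.Lib.Helper10.SU3K.dag_smul, Cfsg.Agent.Lib.Helper10.SU3K.dag_one 5 (by norm_num),
      Matrix.smul_mul, Matrix.one_mul, smul_smul, h6, one_smul]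
  · rw [Matrix.det_smul, Matrix.det_one, mul_one, Fintype.card_fin, hc]

/-- `q = 5`: no maximal subgroup of `SU_3(5)` lies in the normaliser of a symplectic-type group of order 27. -/
theorem c6_five (hF : Fintype.card F = 25) {H : Subgroup G3} (hH : IsMaximalIn (SU3 F 5) H)
    (R : Subgroup G3) (hR : IsSymplecticTypeGroup 3 R)
    (habs : ActsAbsolutelyIrreducibly (matrixSet R)) (hsim : R ≤ similarityGroup (hermForm 3 F 5))
    (hcard : Nat.card R = 27) (hcen : Nat.card (Subgroup.center R) = 3)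
    (hHR : H ≤ subgroupNormalizer R) : False := by
  obtain ⟨g, hg, ω, hω, R₀, hR₀, rfl⟩ := Cfsg.Agent.Lib.Helper30.SU3K.exists_conj_heis_five hF R hR habs hsim hcard hcen
  have hN : subgroupNormalizer (R₀.map (MulAut.conj g).toMonoidHom) =
      (subgroupNormalizer R₀).map (MulAut.conj g).toMonoidHom := by
    unfold subgroupNormalizer
    exact (Subgroup.map_equiv_normalizer_eq R₀ (MulAut.conj g)).symm
  rw [hN] at hHR
  obtain ⟨hgens, hnorm⟩ := Cfsg.Agent.Lib.Helper48.SU3K.m10_gens_mem hF ω hω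
  obtain ⟨a0, ha0, ha0m⟩ := hgens (aM ω) (Or.inr (Or.inr (Or.inr (Or.inl rfl))))
  obtain ⟨b0, hb0, hb0m⟩ := hgens bM (Or.inr (Or.inr (Or.inr (Or.inr rfl))))
  obtain ⟨S0, hS0, hS0m⟩ := hgens (sM ω) (Or.inl rfl)
  obtain ⟨S1, hS1, hS1m⟩ := hgens (sM' ω) (Or.inr (Or.inl rfl))
  obtain ⟨t0, ht0, ht0m⟩ := hgens t5m (Or.inr (Or.inr (Or.inl rfl)))
  have ha0R : a0 ∈ R₀ := (hR₀ a0).2 ⟨0, 1, 0, by rw [ha0]; simp⟩
  have hb0R : b0 ∈ R₀ := (hR₀ b0).2 ⟨0, 0, 1, by rw [hb0]; simp⟩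
  have hω3 := omega_cube hω
  -- the Heisenberg group lies in the overgroup
  have hR₀L : R₀ ≤ stab InY5 ⊓ SU3 F 5 := by
    intro x hx
    obtain ⟨i, j, k, hx⟩ := (hR₀ x).1 hx
    have hw : ((a0 ^ j * b0 ^ k : G3) : M3) = aM ω ^ j * bM ^ k := by
      rw [Units.val_mul, Units.val_pow_eq_pow_val, Units.val_pow_eq_pow_val, ha0, hb0]
    have hz : ((x * (a0 ^ j * b0 ^ k)⁻¹ : G3) : M3) = ω ^ i • (1 : M3) := by
      rw [Units.val_mul, hx, ← hw, Matrix.smul_mul, ← Units.val_mul, mul_inv_cancel, Units.val_one]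
    have hc : (ω ^ i) ^ 3 = 1 := by rw [← pow_mul, mul_comm, pow_mul, hω3, one_pow]
    have hzL : x * (a0 ^ j * b0 ^ k)⁻¹ ∈ stab InY5 ⊓ SU3 F 5 :=
      Subgroup.mem_inf.2 ⟨scalar_mem_stabY5 _ _ hc hz, scalar_mem_SU3 hF _ _ hc hz⟩
    have hwL : a0 ^ j * b0 ^ k ∈ stab InY5 ⊓ SU3 F 5 :=
      mul_mem (pow_mem ha0m j) (pow_mem hb0m k)
    have : x = x * (a0 ^ j * b0 ^ k)⁻¹ * (a0 ^ j * b0 ^ k) := by group
    rw [this]
    exact mul_mem hzL hwL
  refine false_of_maximal_le_conj (L := stab InY5 ⊓ SU3 F 5) g (map_conj_SU3 5 g hg) hH hHR ?_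
    inf_le_right ?_ ?_
  · intro n hn
    rw [Subgroup.mem_inf] at hn
    obtain ⟨hnN, hnS⟩ := hn
    have hyR : n * a0 * n⁻¹ ∈ R₀ := (Subgroup.mem_normalizer_iff.1 hnN a0).1 ha0R
    have hy := (hR₀ (n * a0 * n⁻¹)).1 hyR
    have hns : ¬ ∃ c : F, ((n * a0 * n⁻¹ : G3) : M3) = c • (1 : M3) := by
      rintro ⟨c, hc⟩
      have h1 : a0 = n⁻¹ * (n * a0 * n⁻¹) * n := by group
      have h2 : (a0 : M3) = c • (1 : M3) := by
        rw [h1, Units.val_mul, Units.val_mul, hc, Matrix.mul_smul, Matrix.mul_one, Matrix.smul_mul,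
          ← Units.val_mul, inv_mul_cancel, Units.val_one]
      rw [ha0] at h2
      have e00 := congrFun (congrFun h2 0) 0
      have e11 := congrFun (congrFun h2 1) 1
      simp [aM] at e00 e11
      exact omega_ne_one hF hω (e11.trans e00.symm)
    obtain ⟨u, hu, huy⟩ := Cfsg.Agent.Lib.Helper27.SU3K.heis_conj_to_a hF ω hω (n * a0 * n⁻¹) hy hns
    have huy' : u * (n * a0 * n⁻¹) * u⁻¹ = a0 := Units.ext (huy.trans ha0.symm)
    have hcl : Subgroup.closure {x : G3 | (x : M3) = sM ω ∨ (x : M3) = sM' ω ∨ (x : M3) = aM ω ∨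
        (x : M3) = bM} ≤ (stab InY5 ⊓ SU3 F 5) ⊓ subgroupNormalizer R₀ := by
      rw [Subgroup.closure_le]
      rintro x (hx | hx | hx | hx)
      · have : x = S0 := Units.ext (hx.trans hS0.symm)
        rw [this]
        exact Subgroup.mem_inf.2 ⟨hS0m, hnorm R₀ hR₀ S0 (Or.inl hS0)⟩
      · have : x = S1 := Units.ext (hx.trans hS1.symm)
        rw [this]
        exact Subgroup.mem_inf.2 ⟨hS1m, hnorm R₀ hR₀ S1 (Or.inr hS1)⟩
      · have : x = a0 := Units.ext (hx.trans ha0.symm)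
        rw [this]
        exact Subgroup.mem_inf.2 ⟨ha0m, Subgroup.le_normalizer ha0R⟩
      · have : x = b0 := Units.ext (hx.trans hb0.symm)
        rw [this]
        exact Subgroup.mem_inf.2 ⟨hb0m, Subgroup.le_normalizer hb0R⟩
    have huL := Subgroup.mem_inf.1 (hcl hu)
    have hg'S : u * n ∈ SU3 F 5 := mul_mem (Subgroup.mem_inf.1 huL.1).2 hnS
    have hg'N : u * n ∈ subgroupNormalizer R₀ := mul_mem huL.2 hnN
    have hcomm : ((u * n : G3) : M3) * aM ω = aM ω * ((u * n : G3) : M3) := by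
      have h1 : (u * n) * a0 * (u * n)⁻¹ = a0 := by
        calc (u * n) * a0 * (u * n)⁻¹ = u * (n * a0 * n⁻¹) * u⁻¹ := by group
          _ = a0 := huy'
      have h2 : (u * n) * a0 = a0 * (u * n) := by
        calc (u * n) * a0 = ((u * n) * a0 * (u * n)⁻¹) * (u * n) := by group
          _ = a0 * (u * n) := by rw [h1]
      have h3 := congrArg (fun t : G3 => (t : M3)) h2
      simp only [Units.val_mul] at h3
      rw [ha0] at h3
      simpa [Units.val_mul] using h3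
    have hg'R : u * n ∈ R₀ := Cfsg.Agent.Lib.Helper23.SU3K.mem_heis_of_commute_a hF ω hω R₀ hR₀ (u * n) hg'S hg'N hcomm
    have hn' : n = u⁻¹ * (u * n) := by group
    rw [hn']
    exact mul_mem (inv_mem huL.1) (hR₀L hg'R)
  · obtain ⟨s, hs, hsS, hsY⟩ := (Cfsg.Agent.Lib.Helper32.SU3K.m10_out hF ω hω).1
    exact ⟨s, hsS, fun h => hsY (Subgroup.mem_inf.1 h).1⟩
  · refine ⟨t0, ht0m, ?_⟩
    intro htN
    have htt : t0 * t0 = 1 := by
      apply Units.ext
      rw [Units.val_mul, ht0, (Cfsg.Agent.Lib.Helper32.SU3K.m10_out hF ω hω).2.2, Units.val_one]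
    have hinv : t0⁻¹ = t0 := inv_eq_of_mul_eq_one_right htt
    have hyR : t0 * a0 * t0⁻¹ ∈ R₀ := (Subgroup.mem_normalizer_iff.1 htN a0).1 ha0R
    obtain ⟨i, j, k, hijk⟩ := (hR₀ _).1 hyR
    rw [hinv, Units.val_mul, Units.val_mul, ht0, ha0] at hijk
    exact (Cfsg.Agent.Lib.Helper32.SU3K.m10_out hF ω hω).2.1 ⟨i, j, k, hijk⟩

end Cfsg.Agent.Lib.Helper87.SU3
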