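import Mathlib
import Cfsg.Prelude.Def_GeometricClasses
import Cfsg.Agent.Lib.Helper87.SU3Defs
import Cfsg.Agent.Lib.Helper10.SU3KDefs
import Cfsg.Agent.Lib.Helper61.AschUMain
import Cfsg.Agent.Lib.Helper32.SUMaxN1
import Cfsg.Agent.Lib.Helper26.SUMaxN2
import Cfsg.Agent.Lib.Helper14.SUMaxN3
import Cfsg.Agent.Lib.Helper70.SUMaxN5
import Cfsg.Agent.Lib.Helper94.SUMaxD6a
import Cfsg.Agent.Lib.Helper91.SUMaxD6b
import Cfsg.Agent.Lib.Helper23.SUMaxD6c
import Cfsg.Agent.Lib.Helper63.SLMaxD3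
import Cfsg.Agent.Lib.Helper36.SLMaxD2
import Cfsg.Agent.Lib.Helper19.UnitaryDet
import Cfsg.Agent.Lib.Helper87.SU3GlueA
import Cfsg.Agent.Lib.Helper87.SU3GlueB
import Cfsg.Agent.Lib.Helper87.SU3GlueC
import Cfsg.Agent.Lib.Helper87.SU3GlueD
import Cfsg.Agent.Lib.Helper08.SU3KF1
import Cfsg.Agent.Lib.Helper34.SU3KN6

set_option autoImplicit false

namespace Cfsg.Agent.Lib.Helper87.SU3

open Cfsg Cfsg.Geo Matrix

variable {F : Type*} [Field F] [Fintype F]

local notation "M3" => Matrix (Fin 3) (Fin 3) F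
local notation "G3" => GL (Fin 3) F

/-- arithmetic of the class-6 field condition. -/
theorem minimalField_arith {q p e : ℕ} (hq : 3 ≤ q) (hF : Fintype.card F = q ^ 2)
    (hmin : IsMinimalFieldFor 3 p e F) : q = p ∧ p % 3 = 2 := by
  obtain ⟨hp, -, hcard, hdvd, hminimal⟩ := hmin
  have hpe : p ^ e = q ^ 2 := by rw [← hcard, hF]
  have he0 : e ≠ 0 := by
    rintro rfl
    rw [pow_zero] at hpe
    have : 9 ≤ q ^ 2 := by nlinarith
    omega
  have heven : e = 2 * q.factorization p := by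
    have h1 : (p ^ e).factorization p = e := by
      rw [hp.factorization_pow]; simp
    have h2 : (q ^ 2).factorization p = 2 * q.factorization p := by
      rw [Nat.factorization_pow]; simp
    rw [← h1, hpe, h2]
  have he2 : 2 ≤ e := by omega
  have hp2 : 2 ≤ p := hp.two_le
  have hpmod : p % 3 = 2 := by
    have h3 : p % 3 = 0 ∨ p % 3 = 1 ∨ p % 3 = 2 := by omega
    rcases h3 with h3 | h3 | h3
    · exfalso
      have h3p : 3 ∣ p := Nat.dvd_of_mod_eq_zero h3
      have hp3 : p = 3 := ((Nat.prime_dvd_prime_iff_eq Nat.prime_three hp).1 h3p).symm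
      have hpos : 1 ≤ p ^ e := Nat.one_le_pow _ _ (by omega)
      have h3pe : 3 ∣ p ^ e := dvd_pow h3p he0
      have : 3 ∣ 1 := by
        have := (Nat.dvd_sub (m := p ^ e) (n := p ^ e - 1) (k := 3)) h3pe hdvd
        rwa [Nat.sub_sub_self hpos] at this
      omega
    · exfalso
      have : 3 ∣ p ^ 1 - 1 := by
        rw [pow_one]
        exact Nat.dvd_of_mod_eq_zero (Nat.sub_mod_eq_zero_of_mod_eq (by rw [h3]))
      exact hminimal 1 (by norm_num) (by omega) this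
    · exact h3
  have he : e = 2 := by
    by_contra hne
    have : 3 ∣ p ^ 2 - 1 := by
      apply Nat.dvd_of_mod_eq_zero
      apply Nat.sub_mod_eq_zero_of_mod_eq
      rw [Nat.pow_mod, hpmod]
    exact hminimal 2 (by norm_num) (by omega) this
  rw [he] at hpe
  exact ⟨(Nat.pow_left_injective (n := 2) (by norm_num) hpe).symm, hpmod⟩

/-- arithmetic of the class-6 orders in dimension 3. -/
theorem c6_orders {r k c n : ℕ} (hr : r.Prime) (h9 : 3 ^ 2 * c = n)
    (h : (Odd r ∧ c = r ∧ 1 ≤ k ∧ n = r ^ (1 + 2 * k)) ∨ (r = 2 ∧ c = 4 ∧ n = 2 ^ (2 + 2 * k))) :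
    r = 3 ∧ n = 27 ∧ c = 3 := by
  rcases h with ⟨-, rfl, hk, hn⟩ | ⟨rfl, rfl, hn⟩
  · have hc0 : 0 < c := hr.pos
    have h1 : c ^ (2 * k) = 9 := by
      have : c * c ^ (2 * k) = c * 9 := by
        rw [← pow_succ', show 2 * k + 1 = 1 + 2 * k by ring, ← hn, ← h9]; ring
      exact Nat.eq_of_mul_eq_mul_left hc0 this
    have h3 : c ∣ 3 := by
      have : c ∣ 9 := by rw [← h1]; exact dvd_pow_self c (by omega)
      have : c ∣ 3 ^ 2 := by norm_num; exact this
      exact hr.dvd_of_dvd_pow this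
    have hc3 : c = 3 := (Nat.prime_dvd_prime_iff_eq hr Nat.prime_three).1 h3
    subst hc3
    refine ⟨rfl, ?_, rfl⟩
    rw [← h9]; norm_num
  · exfalso
    rw [← h9] at hn
    rcases k with _ | _ | k
    · norm_num at hn
    · norm_num at hn
    · have : 2 ^ (2 + 2 * (k + 1 + 1)) = 64 * 2 ^ (2 * k) := by ring
      rw [this] at hn
      have : 1 ≤ 2 ^ (2 * k) := Nat.one_le_two_pow
      omega


/-- **S5778**: the maximal subgroups of `SU_3(q)`, `q ≥ 3`. -/
theorem su3_main (q : ℕ) (hF : Fintype.card F = q ^ 2) (hq : 3 ≤ q) (H : Subgroup G3)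
    (hH : IsMaximalIn (GU 3 F q ⊓ specialLinear (Fin 3) F) H)
    (hfield : (q = 3 ∨ q = 5) → ∀ K : Subalgebra F (Matrix (Fin 3) (Fin 3) F), IsFieldSubalgebra 3 K →
      IsAdjointClosedFor (hermForm 3 F q) K →
      ¬ IsMaximalIn (GU 3 F q ⊓ specialLinear (Fin 3) F)
        (subalgebraNormalizer K ⊓ (GU 3 F q ⊓ specialLinear (Fin 3) F))) :
    (∃ W : Submodule F (Fin 3 → F), W ≠ ⊥ ∧ IsTotallySingularFor (hermForm 3 F q) W ∧ H = subspaceStabilizer W ⊓ (GU 3 F q ⊓ specialLinear (Fin 3) F)) ∨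
    (∃ W : Submodule F (Fin 3 → F), W ≠ ⊥ ∧ IsNondegenerateOn (hermForm 3 F q) W ∧ 2 * Module.finrank F W < 3 ∧ H = subspaceStabilizer W ⊓ (GU 3 F q ⊓ specialLinear (Fin 3) F)) ∨
    (q ≠ 5 ∧ ∃ D : Fin 3 → Submodule F (Fin 3 → F), IsNondegenerateMDecomposition (hermForm 3 F q) 1 D ∧ H = decompositionStabilizer D ⊓ (GU 3 F q ⊓ specialLinear (Fin 3) F)) ∨
    (q ≠ 3 ∧ q ≠ 5 ∧ ∃ K : Subalgebra F (Matrix (Fin 3) (Fin 3) F), IsFieldSubalgebra 3 K ∧ IsAdjointClosedFor (hermForm 3 F q) K ∧ H = subalgebraNormalizer K ⊓ (GU 3 F q ⊓ specialLinear (Fin 3) F)) ∨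
    (∃ (F₀ : Subfield F) (r : ℕ) (P : GL (Fin 3) F), r.Prime ∧ Odd r ∧ Fintype.card F = Nat.card F₀ ^ r ∧ IsFormRationalStructure (hermForm 3 F q) F₀ 1 P ∧ H = subfieldSubgroup F₀ P ⊓ (GU 3 F q ⊓ specialLinear (Fin 3) F)) ∨
    (Odd q ∧ 7 ≤ q ∧ ∃ (F₀ : Subfield F) (P : GL (Fin 3) F), Fintype.card F = Nat.card F₀ ^ 2 ∧ IsFormRationalStructure (hermForm 3 F q) F₀ 1 P ∧ H = subfieldSubgroup F₀ P ⊓ (GU 3 F q ⊓ specialLinear (Fin 3) F)) ∨
    (∃ (p : ℕ) (R : Subgroup (GL (Fin 3) F)), p.Prime ∧ q = p ∧ p % 3 = 2 ∧ 11 ≤ p ∧ IsSymplecticTypeGroup 3 R ∧ ActsAbsolutelyIrreducibly (matrixSet R) ∧ R ≤ similarityGroup (hermForm 3 F q) ∧ Nat.card R = 27 ∧ Nat.card (Subgroup.center R) = 3 ∧ H = subgroupNormalizer R ⊓ (GU 3 F q ⊓ specialLinear (Fin 3) F)) ∨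
    InUnitaryResidualClass H := by
  classical
  have hn : (3 : ℕ) ≤ 3 := le_refl 3
  have hex : ¬ ((3 : ℕ) = 3 ∧ q = 2) := by rintro ⟨-, h⟩; omega
  have hHS : H ≤ SU3 F q := hH.1.le
  rcases Cfsg.Agent.Lib.Helper61.AschU.aschbacher_unitary hF hn H (hHS.trans inf_le_left) with
    ⟨M, hM, hHM⟩ | hres
  swap
  · exact Or.inr (Or.inr (Or.inr (Or.inr (Or.inr (Or.inr (Or.inr hres))))))
  have hfin : Module.finrank F (Fin 3 → F) = 3 := by simp
  have key : ∀ {X : Subgroup G3}, H ≤ X ⊓ GU 3 F q → ¬ SU3 F q ≤ X → H = X ⊓ SU3 F q :=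
    fun h1 h2 => eq_inf_of_maximal hH (h1.trans inf_le_left) h2
  unfold InUnitaryClass InUnitaryPartialClass at hM
  dsimp only at hM
  rcases hM with (h | h | h | h | h | h | h | h) | h | h | h
  · -- totally singular subspace
    obtain ⟨W, h0, hts, rfl⟩ := h
    have h1 : W ≠ ⊤ := by
      rintro rfl
      have := hts (Pi.single 0 1) Submodule.mem_top (Pi.single 0 1) Submodule.mem_top
      rw [Cfsg.Agent.Lib.Helper19.hermForm_single_single hF, if_pos rfl] at this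
      exact one_ne_zero this
    exact Or.inl ⟨W, h0, hts, key hHM
      (Cfsg.Agent.Lib.Helper32.SUMax.su_not_le_subspaceStabilizer hF hn hex W h0 h1)⟩
  · -- non-degenerate subspace
    obtain ⟨W, h0, hnd, hdim, rfl⟩ := h
    have h1 : W ≠ ⊤ := by
      rintro rfl
      rw [finrank_top, hfin] at hdim
      omega
    exact Or.inr (Or.inl ⟨W, h0, hnd, hdim, key hHM
      (Cfsg.Agent.Lib.Helper32.SUMax.su_not_le_subspaceStabilizer hF hn hex W h0 h1)⟩)
  · -- non-degenerate decomposition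
    obtain ⟨t, k, D, hD, rfl⟩ := h
    have hsum := Cfsg.Agent.Lib.Helper36.SLMax.mul_eq_of_isMDecomposition D hD.decomp
    have ht := hD.decomp.two_le
    have hk := hD.decomp.pos
    have htk : t = 3 ∧ k = 1 := by
      have h3 : t ≤ 3 := Nat.le_of_dvd (by norm_num) ⟨k, hsum.symm⟩
      interval_cases t <;> omega
    obtain ⟨rfl, rfl⟩ := htk
    have hN2 := Cfsg.Agent.Lib.Helper26.SUMax.su_not_le_decompositionStabilizer hF hn hex D hD.decomp
    by_cases hq5 : q = 5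
    · exfalso
      subst hq5
      have hF25 : Fintype.card F = 25 := by rw [hF]; norm_num
      exact frames_five hF25 hH D hD (hHM.trans inf_le_left)
    · exact Or.inr (Or.inr (Or.inl ⟨hq5, D, hD, key hHM hN2⟩))
  · -- totally isotropic pair
    exfalso
    obtain ⟨k, D, hk, -⟩ := h
    omega
  · -- subfield, odd prime index
    obtain ⟨F₀, r, P, hr, hodd, hcard, hrat, rfl⟩ := h
    exact Or.inr (Or.inr (Or.inr (Or.inr (Or.inl ⟨F₀, r, P, hr, hodd, hcard, hrat, key hHM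
      (Cfsg.Agent.Lib.Helper70.SUMax.su_not_le_subfieldSubgroup hF hn hex F₀ r hr hcard P)⟩))))
  · -- subfield, index 2
    obtain ⟨F₀, P, hodd, hcard, hrat, rfl⟩ := h
    have hN5 := Cfsg.Agent.Lib.Helper70.SUMax.su_not_le_subfieldSubgroup hF hn hex F₀ 2
      Nat.prime_two hcard P
    by_cases hq7 : 7 ≤ q
    · exact Or.inr (Or.inr (Or.inr (Or.inr (Or.inr (Or.inl ⟨hodd, hq7, F₀, P, hcard, hrat,
        key hHM hN5⟩)))))
    · have hq35 : q = 3 ∨ q = 5 := by
        obtain ⟨m, hm⟩ := hodd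
        omega
      rcases hq35 with rfl | rfl
      · have hF9 : Fintype.card F = 9 := by rw [hF]; norm_num
        obtain ⟨D, hD, hle⟩ := Cfsg.Agent.Lib.Helper08.SU3K.subfield_le_frame_three hF9 F₀ hcard P hrat
        have hHD : H ≤ decompositionStabilizer D ⊓ GU 3 F 3 :=
          le_inf (hHM.trans hle) (hHM.trans inf_le_right)
        exact Or.inr (Or.inr (Or.inl ⟨by norm_num, D, hD, key hHD
          (Cfsg.Agent.Lib.Helper26.SUMax.su_not_le_decompositionStabilizer hF hn hex D hD.decomp)⟩))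
      · exfalso
        have hF25 : Fintype.card F = 25 := by rw [hF]; norm_num
        exact subfield_five hF25 hH F₀ hcard P hrat (hHM.trans inf_le_left)
  · -- symplectic-type subfield structure: even dimension only
    exfalso
    obtain ⟨F₀, P, ζ, heven, -⟩ := h
    revert heven
    decide
  · -- class 6
    obtain ⟨r, R, p, e, k, hR, habs, hsim, hrp, hminf, hcase, rfl⟩ := h
    have hcl := Cfsg.Agent.Lib.Helper91.SUMax.commutator_central_of_symplecticType R hR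
    have hcard := Cfsg.Agent.Lib.Helper94.SUMax.card_sq_mul_card_center_fin (by norm_num) R habs hcl
    obtain ⟨hr3, hR27, hz3⟩ := c6_orders hR.prime hcard
      (hcase.imp id (fun h => ⟨h.1, h.2.2.1, h.2.2.2⟩))
    subst hr3
    rw [hz3] at hminf
    obtain ⟨hqp, hp3⟩ := minimalField_arith hq hF hminf
    have hp := hminf.1
    subst hqp
    by_cases h11 : 11 ≤ q
    · exact Or.inr (Or.inr (Or.inr (Or.inr (Or.inr (Or.inr (Or.inl ⟨q, R, hp, rfl, hp3, h11, hR, habs,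
        hsim, hR27, hz3, key hHM (Cfsg.Agent.Lib.Helper34.SU3K.su3_not_le_subgroupNormalizer q hp h11 hp3 hF R habs hR27)⟩))))))
    · exfalso
      have hq58 : q = 5 ∨ q = 8 := by omega
      rcases hq58 with rfl | rfl
      · have hF25 : Fintype.card F = 25 := by rw [hF]; norm_num
        exact c6_five hF25 hH R hR habs hsim hR27 hz3 (hHM.trans inf_le_left)
      · norm_num at hp
  · -- class 3
    obtain ⟨r, K, hr, hodd, hK, hadj, rfl⟩ := h
    have hdvd := Cfsg.Agent.Lib.Helper63.SLMax.dvd_of_isFieldSubalgebra K hK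
    have hr3 : r = 3 := (Nat.prime_dvd_prime_iff_eq hr Nat.prime_three).mp hdvd
    subst hr3
    have hHK := key hHM
      (Cfsg.Agent.Lib.Helper14.SUMax.su_not_le_subalgebraNormalizer hF hn hex (by norm_num) K hK)
    by_cases hq35 : q = 3 ∨ q = 5
    · exfalso
      rw [hHK] at hH
      exact hfield hq35 K hK hadj hH
    · push Not at hq35
      exact Or.inr (Or.inr (Or.inr (Or.inl ⟨hq35.1, hq35.2, K, hK, hadj, hHK⟩)))
  · -- tensor product
    exfalso
    obtain ⟨n₁, n₂, e, P, f₁, f₂, h1, h12, -⟩ := h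
    have hc := Fintype.card_congr e
    simp only [Fintype.card_fin, Fintype.card_prod] at hc
    have h3 : n₁ ≤ 3 := Nat.le_of_dvd (by norm_num) ⟨n₂, hc⟩
    interval_cases n₁ <;> omega
  · -- tensor wreath
    exfalso
    obtain ⟨k, t, e, P, f₁, hk, ht, -⟩ := h
    have hc := Fintype.card_congr e
    simp only [Fintype.card_fin, Fintype.card_pi, Finset.prod_const, Finset.card_univ] at hc
    have h9 : 3 ^ 2 ≤ k ^ t := by
      calc 3 ^ 2 ≤ k ^ 2 := Nat.pow_le_pow_left hk 2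
        _ ≤ k ^ t := Nat.pow_le_pow_right (by omega) ht
    omega

end Cfsg.Agent.Lib.Helper87.SU3
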