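import Mathlib
import Cfsg.Prelude.Def_GeometricClasses
import Cfsg.Agent.Lib.Helper87.SU3Defs
import Cfsg.Agent.Lib.Helper10.SU3KDefs
import Cfsg.Agent.Lib.Helper87.SU3GlueA
import Cfsg.Agent.Lib.Helper87.SU3GlueB

set_option autoImplicit false

namespace Cfsg.Agent.Lib.Helper87.SU3

open Cfsg Cfsg.Geo Matrix

variable {F : Type*} [Field F] [Fintype F]

local notation "M3" => Matrix (Fin 3) (Fin 3) F
local notation "G3" => GL (Fin 3) F

/-- the normaliser of `⟨d⟩` lies in `L` as soon as the centraliser does and an element `n0 ∈ L` squares `d`. -/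
theorem std_of_data {S L : Subgroup G3} (d n0 : G3) (hd7 : d ^ 7 = 1)
    (hn0S : n0 ∈ S) (hn0L : n0 ∈ L)
    (hn : n0 * d = d ^ 2 * n0)
    (htr : ∀ i : ℕ, ((d : M3) ^ i).trace = (d : M3).trace → i % 7 = 1 ∨ i % 7 = 2 ∨ i % 7 = 4)
    (hcent : ∀ h ∈ S, h * d = d * h → h ∈ L) :
    ∀ g ∈ S, g * d * g⁻¹ ∈ Subgroup.zpowers d → g ∈ L := by
  intro g hgS hg
  obtain ⟨m, hm⟩ := Subgroup.mem_zpowers_iff.1 hg
  have hm' : d ^ m = d ^ (m % ((7 : ℕ) : ℤ)) := zpow_eq_zpow_emod' m hd7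
  have hnn : 0 ≤ m % ((7 : ℕ) : ℤ) := Int.emod_nonneg _ (by norm_num)
  obtain ⟨i, hi⟩ := Int.eq_ofNat_of_zero_le hnn
  rw [hm', hi, zpow_natCast] at hm
  -- hm : d ^ i = g * d * g⁻¹
  have htrace : ((d : M3) ^ i).trace = (d : M3).trace := by
    have h1 := congrArg (fun t : G3 => (t : M3)) hm
    simp only [Units.val_pow_eq_pow_val, Units.val_mul] at h1
    rw [h1, Matrix.trace_units_conj]
  have hi7 := htr i htrace
  have hdi : d ^ i = d ^ (i % 7) := by
    conv_lhs => rw [← Nat.div_add_mod i 7]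
    rw [pow_add, pow_mul, hd7, one_pow, one_mul]
  rw [hdi] at hm
  have hconj1 : n0 * d * n0⁻¹ = d ^ 2 := by rw [hn]; group
  have hconj2 : (n0 * n0) * d * (n0 * n0)⁻¹ = d ^ 4 := by
    have h1 : (n0 * n0) * d * (n0 * n0)⁻¹ = n0 * (n0 * d * n0⁻¹) * n0⁻¹ := by group
    have h2 : n0 * (d * d) * n0⁻¹ = (n0 * d * n0⁻¹) * (n0 * d * n0⁻¹) := by group
    rw [h1, hconj1, pow_two, h2, hconj1, ← pow_add]
  rcases hi7 with h | h | h
  · rw [h, pow_one] at hm
    refine hcent g hgS ?_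
    have : g * d = (g * d * g⁻¹) * g := by group
    rw [this, ← hm]
  · rw [h, ← hconj1] at hm
    have hc : (n0⁻¹ * g) * d = d * (n0⁻¹ * g) := by
      have h1 : (n0⁻¹ * g) * d = n0⁻¹ * (g * d * g⁻¹) * g := by group
      rw [h1, ← hm]; group
    have := hcent _ (mul_mem (inv_mem hn0S) hgS) hc
    have hg' : g = n0 * (n0⁻¹ * g) := by group
    rw [hg']
    exact mul_mem hn0L this
  · rw [h, ← hconj2] at hm
    have hc : ((n0 * n0)⁻¹ * g) * d = d * ((n0 * n0)⁻¹ * g) := by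
      have h1 : ((n0 * n0)⁻¹ * g) * d = (n0 * n0)⁻¹ * (g * d * g⁻¹) * g := by group
      rw [h1, ← hm]; group
    have := hcent _ (mul_mem (inv_mem (mul_mem hn0S hn0S)) hgS) hc
    have hg' : g = (n0 * n0) * ((n0 * n0)⁻¹ * g) := by group
    rw [hg']
    exact mul_mem (mul_mem hn0L hn0L) this

/-- monomial matrices stabilise the standard frame. -/
theorem monomial_mem_stdFrame_stabilizer (g : G3) (σ : Equiv.Perm (Fin 3)) (d : Fin 3 → F)
    (hd : ∀ i, d i ≠ 0)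
    (hg : ∀ i, (g : M3) *ᵥ (Pi.single i (1 : F)) = d i • Pi.single (σ i) (1 : F)) :
    g ∈ decompositionStabilizer (stdFrame F) := by
  refine ⟨σ, fun i => ?_⟩
  simp only [stdFrame]
  rw [Submodule.map_span, Set.image_singleton, Matrix.toLin'_apply, hg]
  exact Submodule.span_singleton_smul_eq (IsUnit.mk0 _ (hd i)) _

end Cfsg.Agent.Lib.Helper87.SU3
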