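import Mathlib
import Cfsg.Prelude.Def_GeometricClasses
import Cfsg.Agent.Lib.Helper87.SU3Defs
import Cfsg.Agent.Lib.Helper10.SU3KDefs
import Cfsg.Agent.Lib.Helper87.SU3GlueA
import Cfsg.Agent.Lib.Helper87.SU3GlueB
import Cfsg.Agent.Lib.Helper87.SU3GlueC
import Cfsg.Agent.Lib.Helper87.SU3GlueF
import Cfsg.Agent.Lib.Helper82.SU3KC7

set_option autoImplicit false

namespace Cfsg.Agent.Lib.Helper87.SU3

open Cfsg Cfsg.Geo Matrix

variable {F : Type*} [Field F] [Fintype F]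

local notation "M3" => Matrix (Fin 3) (Fin 3) F
local notation "G3" => GL (Fin 3) F

theorem orderOf_eq_seven {d : G3} (h7 : d ^ 7 = 1) (h1 : d ≠ 1) : orderOf d = 7 := by
  haveI : Fact (Nat.Prime 7) := ⟨by norm_num⟩
  exact orderOf_eq_prime h7 h1

theorem exists_iota (hF : Fintype.card F = 9) : ∃ ι : F, ι ^ 2 = -1 := by
  classical
  have hcard : Fintype.card Fˣ = 8 := by rw [Fintype.card_units, hF]
  obtain ⟨x, hx⟩ := IsCyclic.exists_generator (α := Fˣ)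
  have hord : orderOf x = 8 := by
    rw [orderOf_eq_card_of_forall_mem_zpowers hx, Nat.card_eq_fintype_card, hcard]
  refine ⟨((x ^ 2 : Fˣ) : F), ?_⟩
  have h8 : ((x : F)) ^ 8 = 1 := by
    have : x ^ 8 = 1 := by rw [← hord]; exact pow_orderOf_eq_one x
    have := congrArg (fun u : Fˣ => (u : F)) this
    simpa using this
  have h4 : ((x : F)) ^ 4 ≠ 1 := by
    intro h
    have : x ^ 4 = 1 := Units.ext (by simpa using h)
    have := orderOf_dvd_of_pow_eq_one this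
    rw [hord] at this
    norm_num at this
  have hfac : (((x : F)) ^ 4 - 1) * (((x : F)) ^ 4 + 1) = 0 := by
    have : (((x : F)) ^ 4 - 1) * (((x : F)) ^ 4 + 1) = (x : F) ^ 8 - 1 := by ring
    rw [this, h8, sub_self]
  rcases mul_eq_zero.mp hfac with h | h
  · exact absurd (sub_eq_zero.mp h) h4
  · rw [Units.val_pow_eq_pow_val, ← pow_mul]
    exact eq_neg_of_add_eq_zero_left h

/-- `q = 3`: the standard data for the field-normaliser argument. -/
theorem exists_std_three (hF : Fintype.card F = 9) :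
    ∃ (d : G3) (L : Subgroup G3), orderOf d = 7 ∧ d ∈ SU3 F 3 ∧ L ≤ SU3 F 3 ∧
      (∀ g ∈ SU3 F 3, g * d * g⁻¹ ∈ Subgroup.zpowers d → g ∈ L) ∧
      (∃ e ∈ L, e * d * e⁻¹ ∉ Subgroup.zpowers d) ∧ (∃ e ∈ SU3 F 3, e ∉ L) := by
  obtain ⟨ι, hι⟩ := exists_iota hF
  obtain ⟨hmats, ⟨s, hs, hsS, hsL⟩, hx7, hx1, hnx, htr, hout, hd2, hcent⟩ := Cfsg.Agent.Lib.Helper82.SU3K.l27_facts hF ι hι
  obtain ⟨gw, hgw, hgwL⟩ := hmats (w3m ι) (Or.inl rfl)
  obtain ⟨gA, hgA, hgAL⟩ := hmats mA3 (Or.inr (Or.inl rfl))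
  obtain ⟨gB, hgB, hgBL⟩ := hmats mB3 (Or.inr (Or.inr (Or.inl rfl)))
  obtain ⟨gd, hgd, hgdL⟩ := hmats d3m (Or.inr (Or.inr (Or.inr rfl)))
  obtain ⟨d, hd⟩ : ∃ d : G3, d = gw * gA := ⟨_, rfl⟩
  obtain ⟨n0, hn0⟩ : ∃ n0 : G3, n0 = gB * gw := ⟨_, rfl⟩
  have hdv : (d : M3) = x3m ι := by rw [hd, Units.val_mul, hgw, hgA]; rfl
  have hn0v : (n0 : M3) = n3m ι := by rw [hn0, Units.val_mul, hgB, hgw]; rfl
  have hdL : d ∈ stab (InX3 ι) ⊓ SU3 F 3 := by rw [hd]; exact mul_mem hgwL hgAL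
  have hn0L : n0 ∈ stab (InX3 ι) ⊓ SU3 F 3 := by rw [hn0]; exact mul_mem hgBL hgwL
  have hd7 : d ^ 7 = 1 := by
    apply Units.ext; rw [Units.val_pow_eq_pow_val, hdv, hx7, Units.val_one]
  have hd1 : d ≠ 1 := by
    intro h; apply hx1; rw [← hdv, h, Units.val_one]
  refine ⟨d, stab (InX3 ι) ⊓ SU3 F 3, orderOf_eq_seven hd7 hd1, (Subgroup.mem_inf.1 hdL).2, inf_le_right,
    ?_, ?_, ?_⟩
  · refine std_of_data (S := SU3 F 3) d n0 hd7 (Subgroup.mem_inf.1 hn0L).2 hn0L ?_ ?_ ?_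
    · apply Units.ext
      rw [Units.val_mul, Units.val_mul, Units.val_pow_eq_pow_val, hdv, hn0v, hnx]
    · intro i; rw [hdv]; exact htr i
    · intro h hhS hcomm
      have hcm : (h : M3) * x3m ι = x3m ι * (h : M3) := by
        have := congrArg (fun t : G3 => (t : M3)) hcomm
        simpa [Units.val_mul, hdv] using this
      obtain ⟨b, hb⟩ := hcent h hhS hcm
      have : h = d ^ b := by
        apply Units.ext
        rw [Units.val_pow_eq_pow_val, hdv]; exact hb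
      rw [this]
      exact pow_mem hdL b
  · refine ⟨gd, hgdL, ?_⟩
    intro hmem
    obtain ⟨m, hm⟩ := Subgroup.mem_zpowers_iff.1 hmem
    have hcomm : (gd * d * gd⁻¹) * d = d * (gd * d * gd⁻¹) := by
      rw [← hm]
      exact (Commute.zpow_self d m)
    have hinv : gd⁻¹ = gd := by
      apply inv_eq_of_mul_eq_one_right
      apply Units.ext
      rw [Units.val_mul, hgd, hd2, Units.val_one]
    rw [hinv] at hcomm
    have := congrArg (fun t : G3 => (t : M3)) hcomm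
    simp only [Units.val_mul, hgd, hdv] at this
    exact hout this
  · exact ⟨s, hsS, fun h => hsL (Subgroup.mem_inf.1 h).1⟩

end Cfsg.Agent.Lib.Helper87.SU3
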