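import Mathlib
import Cfsg.Prelude.Def_GeometricClasses
import Cfsg.Agent.Lib.Helper87.SU3Defs
import Cfsg.Agent.Lib.Helper10.SU3KDefs
import Cfsg.Agent.Lib.Helper87.SU3GlueA
import Cfsg.Agent.Lib.Helper87.SU3GlueB
import Cfsg.Agent.Lib.Helper87.SU3GlueC
import Cfsg.Agent.Lib.Helper87.SU3GlueF
import Cfsg.Agent.Lib.Helper87.SU3GlueG3
import Cfsg.Agent.Lib.Helper62.SU3KC3
import Cfsg.Agent.Lib.Helper18.SU3KC2

set_option autoImplicit false

namespace Cfsg.Agent.Lib.Helper87.SU3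

open Cfsg Cfsg.Geo Matrix

variable {F : Type*} [Field F] [Fintype F]

local notation "M3" => Matrix (Fin 3) (Fin 3) F
local notation "G3" => GL (Fin 3) F

theorem scalar_mem_stabX5 (hF : Fintype.card F = 25) (z : G3) (c : F) (hc0 : c ≠ 0)
    (hz : (z : M3) = c • (1 : M3)) (hzS : z ∈ SU3 F 5) : z ∈ stab (InX5 (F := F)) := by
  apply Cfsg.Agent.Lib.Helper39.SU3K.stdFrame_stabilizer_le_stab hF
  refine Subgroup.mem_inf.2 ⟨?_, hzS⟩
  refine diag_mem_stdFrame_stabilizer z (fun _ => c) (fun _ => hc0) ?_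
  rw [hz]
  ext i j
  by_cases hij : i = j
  · subst hij; simp
  · simp [hij, Matrix.one_apply]

/-- `q = 5`: the standard data for the field-normaliser argument. -/
theorem exists_std_five (hF : Fintype.card F = 25) :
    ∃ (d : G3) (L : Subgroup G3), orderOf d = 7 ∧ d ∈ SU3 F 5 ∧ L ≤ SU3 F 5 ∧
      (∀ g ∈ SU3 F 5, g * d * g⁻¹ ∈ Subgroup.zpowers d → g ∈ L) ∧
      (∃ e ∈ L, e * d * e⁻¹ ∉ Subgroup.zpowers d) ∧ (∃ e ∈ SU3 F 5, e ∉ L) := by
  obtain ⟨ω, hω⟩ := exists_omega hF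
  obtain ⟨hx7, hx1, hnx, htr, hout, hmats, hr2⟩ := Cfsg.Agent.Lib.Helper62.SU3K.x5_n5_facts hF ω hω
  obtain ⟨gA, hgA, hgAS⟩ := hmats (mA5 ω) (Or.inr (Or.inl rfl))
  obtain ⟨gB, hgB, hgBS⟩ := hmats (mB5 ω) (Or.inr (Or.inr (Or.inl rfl)))
  obtain ⟨gC, hgC, hgCS⟩ := hmats mC5 (Or.inr (Or.inr (Or.inr (Or.inl rfl))))
  have hω0 := omega_ne_zero hω
  -- the monomial matrices lie in the stabiliser of `InX5`
  have hmono : ∀ (g : G3) (σ : Equiv.Perm (Fin 3)) (c : Fin 3 → F), (∀ i, c i ≠ 0) →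
      (∀ i, (g : M3) *ᵥ (Pi.single i (1 : F)) = c i • Pi.single (σ i) (1 : F)) → g ∈ SU3 F 5 →
      g ∈ stab (InX5 (F := F)) ⊓ SU3 F 5 := fun g σ c hc hg hgS =>
    Subgroup.mem_inf.2 ⟨Cfsg.Agent.Lib.Helper39.SU3K.stdFrame_stabilizer_le_stab hF
      (Subgroup.mem_inf.2 ⟨monomial_mem_stdFrame_stabilizer g σ c hc hg, hgS⟩), hgS⟩
  have hAL : gA ∈ stab (InX5 (F := F)) ⊓ SU3 F 5 := by
    refine hmono gA (Equiv.swap 1 2) ![ω ^ 2, -ω, 1] ?_ ?_ hgAS
    · intro i; fin_cases i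
      · exact pow_ne_zero _ hω0
      · exact neg_ne_zero.2 hω0
      · exact one_ne_zero
    · intro i
      rw [hgA, Matrix.mulVec_single_one]
      fin_cases i <;> ext j <;> fin_cases j <;> simp [mA5, Equiv.swap_apply_def]
  have hBL : gB ∈ stab (InX5 (F := F)) ⊓ SU3 F 5 := by
    refine hmono gB (Equiv.swap 0 1) ![ω, -ω ^ 2, 1] ?_ ?_ hgBS
    · intro i; fin_cases i
      · exact hω0
      · exact neg_ne_zero.2 (pow_ne_zero _ hω0)
      · exact one_ne_zero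
    · intro i
      rw [hgB, Matrix.mulVec_single_one]
      fin_cases i <;> ext j <;> fin_cases j <;> simp [mB5, Equiv.swap_apply_def]
  have hCL : gC ∈ stab (InX5 (F := F)) ⊓ SU3 F 5 := by
    refine hmono gC (Equiv.swap 1 2) ![-1, 1, 1] ?_ ?_ hgCS
    · intro i; fin_cases i
      · exact neg_ne_zero.2 one_ne_zero
      · exact one_ne_zero
      · exact one_ne_zero
    · intro i
      rw [hgC, Matrix.mulVec_single_one]
      fin_cases i <;> ext j <;> fin_cases j <;> simp [mC5, Equiv.swap_apply_def]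
  have hrL : r5 hF ∈ stab (InX5 (F := F)) ⊓ SU3 F 5 :=
    Subgroup.mem_inf.2 ⟨r5_mem_stab hF, r5_mem_SU3 hF⟩
  obtain ⟨d, hd⟩ : ∃ d : G3, d = r5 hF * gA := ⟨_, rfl⟩
  obtain ⟨n0, hn0⟩ : ∃ n0 : G3, n0 = gB * r5 hF * gC := ⟨_, rfl⟩
  have hdv : (d : M3) = x5m ω := by rw [hd, Units.val_mul, r5_val, hgA]; rfl
  have hn0v : (n0 : M3) = n5m ω := by rw [hn0, Units.val_mul, Units.val_mul, r5_val, hgB, hgC]; rfl
  have hdL : d ∈ stab (InX5 (F := F)) ⊓ SU3 F 5 := by rw [hd]; exact mul_mem hrL hAL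
  have hn0L : n0 ∈ stab (InX5 (F := F)) ⊓ SU3 F 5 := by rw [hn0]; exact mul_mem (mul_mem hBL hrL) hCL
  have hd7 : d ^ 7 = 1 := by
    apply Units.ext; rw [Units.val_pow_eq_pow_val, hdv, hx7, Units.val_one]
  have hd1 : d ≠ 1 := by
    intro h; apply hx1; rw [← hdv, h, Units.val_one]
  refine ⟨d, stab InX5 ⊓ SU3 F 5, orderOf_eq_seven hd7 hd1, (Subgroup.mem_inf.1 hdL).2, inf_le_right, ?_, ?_, ?_⟩
  · refine std_of_data (S := SU3 F 5) d n0 hd7 (Subgroup.mem_inf.1 hn0L).2 hn0L ?_ ?_ ?_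
    · apply Units.ext
      rw [Units.val_mul, Units.val_mul, Units.val_pow_eq_pow_val, hdv, hn0v, hnx]
    · intro i; rw [hdv]; exact htr i
    · intro h hhS hcomm
      have hcm : (h : M3) * x5m ω = x5m ω * (h : M3) := by
        have := congrArg (fun t : G3 => (t : M3)) hcomm
        simpa [Units.val_mul, hdv] using this
      obtain ⟨a, b, hab⟩ := Cfsg.Agent.Lib.Helper18.SU3K.centralizer_x5 hF ω hω h hhS hcm
      -- h = z * d ^ b with z scalar
      have hz : ((h * (d ^ b)⁻¹ : G3) : M3) = ω ^ a • (1 : M3) := by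
        have : (h : M3) = ω ^ a • ((d ^ b : G3) : M3) := by
          rw [Units.val_pow_eq_pow_val, hdv]; exact hab
        rw [Units.val_mul, this, Matrix.smul_mul, ← Units.val_mul, mul_inv_cancel, Units.val_one]
      have hzS : h * (d ^ b)⁻¹ ∈ SU3 F 5 :=
        mul_mem hhS (inv_mem (pow_mem (Subgroup.mem_inf.1 hdL).2 b))
      have hzL := scalar_mem_stabX5 hF _ _ (pow_ne_zero a hω0) hz hzS
      have : h = h * (d ^ b)⁻¹ * d ^ b := by group
      rw [this]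
      exact mul_mem (Subgroup.mem_inf.2 ⟨hzL, hzS⟩) (pow_mem hdL b)
  · refine ⟨r5 hF, hrL, ?_⟩
    intro hmem
    obtain ⟨m, hm⟩ := Subgroup.mem_zpowers_iff.1 hmem
    have hcomm : (r5 hF * d * (r5 hF)⁻¹) * d = d * (r5 hF * d * (r5 hF)⁻¹) := by
      rw [← hm]
      exact (Commute.zpow_self d m)
    have hinv : (r5 hF)⁻¹ = r5 hF := by
      apply inv_eq_of_mul_eq_one_right
      apply Units.ext
      rw [Units.val_mul, r5_val, hr2, Units.val_one]
    rw [hinv] at hcomm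
    have := congrArg (fun t : G3 => (t : M3)) hcomm
    simp only [Units.val_mul, r5_val, hdv] at this
    exact hout this
  · obtain ⟨s, hs1, hs2⟩ := (Cfsg.Agent.Lib.Helper77.SU3K.a7_small hF).1
    exact ⟨s, hs1, fun h => hs2 (Subgroup.mem_inf.1 h).1⟩


end Cfsg.Agent.Lib.Helper87.SU3
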