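import Mathlib
import Cfsg.Prelude.Def_GeometricClasses
import Cfsg.Agent.Lib.Helper10.SU3KDefs
import Cfsg.Agent.Lib.Helper51.SU3FA
import Cfsg.Agent.Lib.Helper01.SU3FB
import Cfsg.Agent.Lib.Helper92.SU3FC
import Cfsg.Agent.Lib.Helper87.SU3GlueG3
import Cfsg.Agent.Lib.Helper87.SU3GlueG5

/-!
Backup assembly of the degree-3 field case of S5778: the assembly is helper10's (notes/S5778_field_keystones.lean.txt),
the standard data `exists_std` come from helper87's `exists_std_three` / `exists_std_five`.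
-/

set_option autoImplicit false
set_option linter.unusedSectionVars false

namespace Cfsg.Agent.Lib.Helper87.SU3

open Cfsg Cfsg.Geo Matrix Cfsg.Agent.Lib.Helper10.SU3K
open scoped Matrix MatrixGroups

variable {F : Type*} [Field F] [Fintype F] {q : ℕ}

theorem exists_std (hF : Fintype.card F = q ^ 2) (hq : q = 3 ∨ q = 5) :
    ∃ (d : GL (Fin 3) F) (L : Subgroup (GL (Fin 3) F)), orderOf d = 7 ∧ d ∈ SUg 3 F q ∧ L ≤ SUg 3 F q ∧
      (∀ g ∈ SUg 3 F q, g * d * g⁻¹ ∈ Subgroup.zpowers d → g ∈ L) ∧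
      (∃ e ∈ L, e * d * e⁻¹ ∉ Subgroup.zpowers d) ∧ (∃ e ∈ SUg 3 F q, e ∉ L) := by
  rcases hq with rfl | rfl
  · exact exists_std_three (by rw [hF]; norm_num)
  · exact exists_std_five (by rw [hF]; norm_num)

theorem zpowers_eq_of_mem {G : Type*} [Group G] (c d : G) (hc : orderOf c = 7) (hd : orderOf d = 7)
    (hmem : c ∈ Subgroup.zpowers d) : Subgroup.zpowers c = Subgroup.zpowers d := by
  have hle : Subgroup.zpowers c ≤ Subgroup.zpowers d := by
    rw [Subgroup.zpowers_le]; exact hmem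
  have hdfin : Finite (Subgroup.zpowers d) := by
    have : Nat.card (Subgroup.zpowers d) ≠ 0 := by rw [Nat.card_zpowers, hd]; norm_num
    exact Nat.finite_of_card_ne_zero this
  apply Subgroup.eq_of_le_of_card_ge hle
  rw [Nat.card_zpowers, Nat.card_zpowers, hc, hd]

theorem conj_mem_of_zpowers_eq {G : Type*} [Group G] (y a b : G) (h : Subgroup.zpowers a = Subgroup.zpowers b)
    (hy : y * a * y⁻¹ ∈ Subgroup.zpowers a) : y * b * y⁻¹ ∈ Subgroup.zpowers b := by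
  have hb : b ∈ Subgroup.zpowers a := by rw [h]; exact Subgroup.mem_zpowers b
  obtain ⟨m, rfl⟩ := Subgroup.mem_zpowers_iff.1 hb
  rw [← conj_zpow, ← h]
  exact Subgroup.zpow_mem _ hy m

/-- assembly -/
theorem field_not_maximal_bk (hF : Fintype.card F = q ^ 2) (hq : q = 3 ∨ q = 5)
    (K : Subalgebra F (Matrix (Fin 3) (Fin 3) F)) (hK : IsFieldSubalgebra 3 K)
    (hadj : IsAdjointClosedFor (hermForm 3 F q) K) :
    ¬ IsMaximalIn (GU 3 F q ⊓ specialLinear (Fin 3) F)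
      (subalgebraNormalizer K ⊓ (GU 3 F q ⊓ specialLinear (Fin 3) F)) := by
  intro hmax
  obtain ⟨c, hcK, hc7, hcSU⟩ := Cfsg.Agent.Lib.Helper51.SU3F.exists_order_seven hF hq K hK hadj
  have hN := Cfsg.Agent.Lib.Helper01.SU3F.normalizer_le hF hq K hK c hcK hc7 hcSU
  obtain ⟨d, L, hd7, hdSU, hLS, hNL, ⟨e1, he1L, he1⟩, ⟨e2, he2S, he2L⟩⟩ := exists_std (F := F) hF hq
  obtain ⟨g0, hg0S, hg0⟩ := Cfsg.Agent.Lib.Helper92.SU3F.exists_conj_of_order_seven hF hq c d hc7 hd7 hcSU hdSU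
  set S : Subgroup (GL (Fin 3) F) := GU 3 F q ⊓ specialLinear (Fin 3) F with hS
  have hc'7 : orderOf (g0 * c * g0⁻¹) = 7 := by
    have := MulEquiv.orderOf_eq (MulAut.conj g0) c
    rw [← hc7, ← this]
    rfl
  have hz : Subgroup.zpowers (g0 * c * g0⁻¹) = Subgroup.zpowers d := zpowers_eq_of_mem _ _ hc'7 hd7 hg0
  let M : Subgroup (GL (Fin 3) F) := L.comap (MulAut.conj g0).toMonoidHom
  have hM : ∀ x, x ∈ M ↔ g0 * x * g0⁻¹ ∈ L := fun x => Iff.rfl
  have hconjS : ∀ x, g0 * x * g0⁻¹ ∈ S ↔ x ∈ S := by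
    intro x
    constructor
    · intro h
      have := S.mul_mem (S.mul_mem (S.inv_mem hg0S) h) hg0S
      simpa [mul_assoc] using this
    · intro h
      exact S.mul_mem (S.mul_mem hg0S h) (S.inv_mem hg0S)
  -- key: conjugates
  have hkey : ∀ x : GL (Fin 3) F, x * c * x⁻¹ ∈ Subgroup.zpowers c →
      (g0 * x * g0⁻¹) * d * (g0 * x * g0⁻¹)⁻¹ ∈ Subgroup.zpowers d := by
    intro x hx
    apply conj_mem_of_zpowers_eq _ _ _ hz
    obtain ⟨m, hm⟩ := Subgroup.mem_zpowers_iff.1 hx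
    have : (g0 * x * g0⁻¹) * (g0 * c * g0⁻¹) * (g0 * x * g0⁻¹)⁻¹ = (g0 * c * g0⁻¹) ^ m := by
      rw [conj_zpow, hm]
      group
    rw [this]
    exact Subgroup.zpow_mem _ (Subgroup.mem_zpowers _) m
  have hkey' : ∀ x : GL (Fin 3) F,
      (g0 * x * g0⁻¹) * d * (g0 * x * g0⁻¹)⁻¹ ∈ Subgroup.zpowers d → x * c * x⁻¹ ∈ Subgroup.zpowers c := by
    intro x hx
    have h1 := conj_mem_of_zpowers_eq _ _ _ hz.symm hx
    obtain ⟨m, hm⟩ := Subgroup.mem_zpowers_iff.1 h1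
    have : x * c * x⁻¹ = c ^ m := by
      have h2 : (g0 * x * g0⁻¹) * (g0 * c * g0⁻¹) * (g0 * x * g0⁻¹)⁻¹ = g0 * (x * c * x⁻¹) * g0⁻¹ := by group
      rw [h2, conj_zpow] at hm
      have h3 : g0⁻¹ * (g0 * c ^ m * g0⁻¹) * g0 = g0⁻¹ * (g0 * (x * c * x⁻¹) * g0⁻¹) * g0 := by rw [hm]
      have e1 : g0⁻¹ * (g0 * c ^ m * g0⁻¹) * g0 = c ^ m := by group
      have e2 : g0⁻¹ * (g0 * (x * c * x⁻¹) * g0⁻¹) * g0 = x * c * x⁻¹ := by group
      rw [e1, e2] at h3
      exact h3.symm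
    rw [this]
    exact Subgroup.zpow_mem _ (Subgroup.mem_zpowers _) m
  have h1 : subalgebraNormalizer K ⊓ S ≤ M := by
    intro x hx
    rw [hM]
    apply hNL _ ((hconjS x).2 hx.2)
    exact hkey x (hN x hx)
  have h2 : M ≤ S := fun x hx => (hconjS x).1 (hLS ((hM x).1 hx))
  rcases hmax.2 M h1 h2 with h | h
  · have hmem : g0⁻¹ * e1 * g0 ∈ M := by
      rw [hM]
      have : g0 * (g0⁻¹ * e1 * g0) * g0⁻¹ = e1 := by group
      rw [this]; exact he1L
    rw [h] at hmem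
    have h3 := hN _ hmem
    apply he1
    have h4 := hkey _ h3
    have : g0 * (g0⁻¹ * e1 * g0) * g0⁻¹ = e1 := by group
    rw [this] at h4
    exact h4
  · have hmem : g0⁻¹ * e2 * g0 ∈ M := by
      rw [h]
      have := (hconjS (g0⁻¹ * e2 * g0)).1
      apply this
      have e : g0 * (g0⁻¹ * e2 * g0) * g0⁻¹ = e2 := by group
      rw [e]; exact he2S
    rw [hM] at hmem
    have e : g0 * (g0⁻¹ * e2 * g0) * g0⁻¹ = e2 := by group
    rw [e] at hmem
    exact he2L hmem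


end Cfsg.Agent.Lib.Helper87.SU3
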