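import Cfsg.Agent.Lib.Helper87.ModelEmbed6
import Cfsg.Agent.Lib.Helper87.ModelEmbed7
import Cfsg.Agent.Lib.Helper90.Involves
import Cfsg.Agent.S5090
import Cfsg.Agent.S5098
import Cfsg.Prelude.Def_FusionReduction

set_option autoImplicit false

/-!
`H`-freeness can be tested at the fully normalized centric radical subgroups.
-/

namespace Cfsg.Agent.Lib.Helper87

open Cfsg Cfsg.FusionSystem

universe u

variable {Ω : Type u} [Group Ω] {S : Subgroup Ω}

/-- The normalizer system of a fully normalized centric subgroup is constrained. -/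
theorem isConstrained_normalizerSystem [Finite S] (p : ℕ) [Fact p.Prime] (hS : IsPGroup p S)
    (F : FusionSystem S) (hF : F.IsSaturated p) (R : Subgroup Ω) (hfn : F.IsFullyNormalized R)
    (hRc : F.IsCentric R) (N : FusionSystem (normalizerIn S R)) (hN : F.IsNormalizerSystem R N) :
    N.IsConstrained p :=
  ⟨Cfsg.Agent.S5098.result p hS F hF R hfn N hN, R,
    isNormal_of_isNormalizerSystem F hRc.1 N hN, isCentric_of_isNormalizerSystem F R hRc N hN⟩

/-- The description of `N_F(Q)` as a pair normalizer for `Q ≤ R₀` with `R₀` normal in `N_F(Q)`. -/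
theorem normalizerSystem_hom_iff_pairHom (F : FusionSystem S) {Q R₀ : Subgroup Ω} (hQS : Q ≤ S)
    [Finite S]
    (N : FusionSystem (normalizerIn S Q)) (hN : F.IsNormalizerSystem Q N) (hQR : Q ≤ R₀)
    (hR₀ : N.IsNormal R₀) (P : Subgroup Ω) (φ : P →* Ω) :
    φ ∈ N.Hom P ↔ P ≤ normalizerIn S Q ∧ (∀ x, φ x ∈ normalizerIn S Q) ∧ φ ∈ pairHom F Q R₀ P := by
  haveI : Finite Q := finite_of_le hQS
  constructor
  · intro hφ
    refine ⟨hom_le N hφ, hom_mem N hφ, ?_⟩
    obtain ⟨ψ₁, hψ₁, hext, hR⟩ := hR₀.2 P φ hφ
    have hψ₁' := hψ₁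
    rw [hN] at hψ₁'
    obtain ⟨hψ₁F, -, -, χ, hχ, hχext, hχQ⟩ := hψ₁'
    refine ⟨ψ₁, hψ₁F, hext, hR, ?_⟩
    apply map_subgroupOf_eq_of_forall_mem (hQR.trans le_sup_right) ψ₁ (F.injective_of_mem hψ₁F)
    intro x hx
    have h1 : χ (Subgroup.inclusion le_sup_left x) ∈ (Q.subgroupOf ((P ⊔ R₀) ⊔ Q)).map χ :=
      ⟨_, Subgroup.mem_subgroupOf.mpr hx, rfl⟩
    rw [hχQ, hχext] at h1
    exact h1
  · rintro ⟨hP, hφT, φ', hφ', hext, hR, hQ⟩
    rw [hN]
    have hle : P ⊔ Q ≤ P ⊔ R₀ := sup_le_sup_left hQR P
    refine ⟨hom_congr F (restrict_mem F le_sup_left hφ') (fun x => (hext x).symm), hP, hφT,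
      φ'.comp (Subgroup.inclusion hle), restrict_mem F hle hφ', fun x => hext x, ?_⟩
    apply map_subgroupOf_eq_of_forall_mem le_sup_right _ (F.injective_of_mem (restrict_mem F hle hφ'))
    intro x hx
    have h1 : φ' (Subgroup.inclusion hle x) ∈ (Q.subgroupOf (P ⊔ R₀)).map φ' :=
      ⟨_, Subgroup.mem_subgroupOf.mpr hx, rfl⟩
    rw [hQ] at h1
    exact h1

theorem isSectionFree_of_radical [Finite S] (p : ℕ) [Fact p.Prime] (hS : IsPGroup p S)
    (F : FusionSystem S) (hF : F.IsSaturated p) (H : Type*) [Group H]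
    (h : ∀ Q : Subgroup Ω, F.IsFullyNormalized Q → F.IsCentric Q → F.IsRadical p Q →
      ∀ N : FusionSystem (normalizerIn S Q), F.IsNormalizerSystem Q N →
        ∀ (L : Type u) [Group L] (ι : ↥(normalizerIn S Q) →* L), N.IsModel p L ι →
          ¬ Cfsg.Involves H L) : F.IsSectionFree p H := by
  have claim : ∀ n : ℕ, ∀ Q : Subgroup Ω, Nat.card S - Nat.card Q = n → F.IsFullyNormalized Q →
      F.IsCentric Q → ∀ N : FusionSystem (normalizerIn S Q), F.IsNormalizerSystem Q N →
        ∀ (L : Type u) [Group L] (ι : ↥(normalizerIn S Q) →* L), N.IsModel p L ι →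
          ¬ Cfsg.Involves H L := by
    intro n
    induction n using Nat.strong_induction_on with
    | _ n ih =>
      intro Q hn hfn hQc N hN L _ ι hmodel
      have hQS : Q ≤ S := hQc.1
      haveI : Finite ↥(normalizerIn S Q) := finite_of_le (normalizerIn_le S Q)
      have hTp : IsPGroup p ↥(normalizerIn S Q) := hS.to_le (normalizerIn_le S Q)
      by_cases hcore : N.core = Q
      · exact h Q hfn hQc (isRadical_of_core_eq p hS F Q hQc N hN ι hmodel hcore) N hN L ι hmodel
      · have hcoren : N.IsNormal N.core := Cfsg.Agent.Lib.Helper88.isNormal_core N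
        have hQn : N.IsNormal Q := isNormal_of_isNormalizerSystem F hQS N hN
        have hQR : Q ≤ N.core := le_sSup hQn
        have hRT : N.core ≤ normalizerIn S Q := hcoren.1
        have hRS : N.core ≤ S := hRT.trans (normalizerIn_le S Q)
        have hsc := Cfsg.Agent.Lib.Helper90.IsNormal.stronglyClosed N hcoren
        have hconjmem := Cfsg.Agent.Lib.Helper90.StronglyClosed.conj_mem N hsc
        haveI : Finite ↥N.core := finite_of_le hRS
        have hT₀R : normalizerIn S Q ≤ normalizerIn S N.core := by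
          intro t ht
          refine ⟨normalizerIn_le S Q ht, ?_⟩
          exact mem_normalizer_of_conj_mem (fun y hy => hconjmem t ht y hy)
        have hcent : F.IsCentric N.core := isCentric_of_le F hQc hQR hRS
        have hmax : ∀ θ ∈ F.Hom N.core, Nat.card ↥(normalizerIn S ((Q.subgroupOf N.core).map θ) ⊓
            normalizerIn S θ.range) ≤ Nat.card ↥(normalizerIn S Q) := by
          intro θ hθ
          have hconj : F.IsConj Q ((Q.subgroupOf N.core).map θ) := by
            refine ⟨θ.comp (Subgroup.inclusion hQR), restrict_mem F hQR hθ, ?_⟩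
            ext y
            constructor
            · rintro ⟨x, rfl⟩
              exact ⟨Subgroup.inclusion hQR x, Subgroup.mem_subgroupOf.mpr x.2, rfl⟩
            · rintro ⟨x, hx, rfl⟩
              exact ⟨⟨x, Subgroup.mem_subgroupOf.mp hx⟩, rfl⟩
          refine le_trans ?_ (hfn.2 _ hconj)
          haveI : Finite ↥(normalizerIn S ((Q.subgroupOf N.core).map θ)) :=
            finite_of_le (normalizerIn_le S _)
          exact Nat.card_le_card_of_injective (Subgroup.inclusion inf_le_left)
            (Subgroup.inclusion_injective _)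
        obtain ⟨R', hconj, hR'fn, hR'c, hemb⟩ := exists_embedding_of_pair p hS F hF hQR hRT
          (normalizerIn_le S Q) le_rfl hT₀R hcent hmax N
          (normalizerSystem_hom_iff_pairHom F hQS N hN hQR hcoren) ι hmodel
        -- a model of `N_F(R')`
        have hR'S : R' ≤ S := hR'c.1
        let N' := normalizerSystem F R' hR'S
        have hN' : F.IsNormalizerSystem R' N' := normalizerSystem_isNormalizerSystem F R' hR'S
        haveI : Finite ↥(normalizerIn S R') := finite_of_le (normalizerIn_le S R')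
        have hT'p : IsPGroup p ↥(normalizerIn S R') := hS.to_le (normalizerIn_le S R')
        have hN'c := isConstrained_normalizerSystem p hS F hF R' hR'fn hR'c N' hN'
        obtain ⟨L', _, ι', hmodel'⟩ := Cfsg.Agent.S5090.result p hT'p N' hN'c
        obtain ⟨f, hf⟩ := hemb N' hN' ι' hmodel'
        -- induction
        have hcard : Nat.card ↥N.core = Nat.card ↥R' := by
          obtain ⟨φ, hφ, hr⟩ := hconj
          exact Nat.card_congr (homEquiv F hφ hr).toEquiv
        have hlt : Nat.card ↥Q < Nat.card ↥N.core := by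
          by_contra hge
          push Not at hge
          exact hcore (Subgroup.eq_of_le_of_card_ge hQR hge).symm
        have hle : Nat.card ↥R' ≤ Nat.card ↥S := card_le_of_le hR'S
        have hnot := ih (Nat.card S - Nat.card R') (by omega) R' rfl hR'fn hR'c N' hN' L' ι' hmodel'
        intro hinv
        exact hnot (Cfsg.Agent.Lib.Helper90.Involves.of_injective_right f hf hinv)
  intro Q hfn hQc N hN L _ ι hmodel
  exact claim _ Q rfl hfn hQc N hN L ι hmodel

end Cfsg.Agent.Lib.Helper87
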