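import Cfsg.Agent.Lib.Helper87.SectionFree1
import Cfsg.Agent.S5086

set_option autoImplicit false

/-!
The normalizer system of a fully normalized subgroup of an `H`-free system is `H`-free.
-/

namespace Cfsg.Agent.Lib.Helper87

open Cfsg Cfsg.FusionSystem

universe u

variable {Ω : Type u} [Group Ω] {S : Subgroup Ω}

/-- Key construction: for `Q` fully normalized, `Q ≤ R₀ ≤ N_S(Q)` and an `F`-map `θ` on `R₀`, the image `θ(R₀)` can be
carried back by an `F`-map `χ` defined on `N_S(θ(Q))` to an `N_F(Q)`-conjugate of `R₀`. -/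
theorem exists_back_hom [Finite S] (p : ℕ) [Fact p.Prime] (hS : IsPGroup p S)
    (F : FusionSystem S) (hF : F.IsSaturated p) {Q R₀ : Subgroup Ω} (hfn : F.IsFullyNormalized Q)
    (N : FusionSystem (normalizerIn S Q)) (hN : F.IsNormalizerSystem Q N)
    (hQR : Q ≤ R₀) (hRT : R₀ ≤ normalizerIn S Q) (θ : R₀ →* Ω) (hθ : θ ∈ F.Hom R₀) :
    θ.range ≤ normalizerIn S ((Q.subgroupOf R₀).map θ) ∧
    ∃ χ ∈ F.Hom (normalizerIn S ((Q.subgroupOf R₀).map θ)),
      (∀ x, χ x ∈ normalizerIn S Q) ∧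
      N.IsConj R₀ ((θ.range.subgroupOf (normalizerIn S ((Q.subgroupOf R₀).map θ))).map χ) := by
  have hQS : Q ≤ S := hfn.1
  haveI : Finite Q := finite_of_le hQS
  have hθinj : Function.Injective θ := F.injective_of_mem hθ
  -- `θ(Q)` is conjugate to `Q`
  have hconj : F.IsConj Q ((Q.subgroupOf R₀).map θ) := by
    refine ⟨θ.comp (Subgroup.inclusion hQR), restrict_mem F hQR hθ, ?_⟩
    ext y
    constructor
    · rintro ⟨x, rfl⟩
      exact ⟨Subgroup.inclusion hQR x, Subgroup.mem_subgroupOf.mpr x.2, rfl⟩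
    · rintro ⟨x, hx, rfl⟩
      exact ⟨⟨x, Subgroup.mem_subgroupOf.mp hx⟩, rfl⟩
  have hQ₁S : (Q.subgroupOf R₀).map θ ≤ S := isConj_le_right F hconj
  haveI : Finite ↥((Q.subgroupOf R₀).map θ) := finite_of_le hQ₁S
  -- `θ(R₀)` normalizes `θ(Q)`
  have hR₁N : θ.range ≤ normalizerIn S ((Q.subgroupOf R₀).map θ) := by
    rintro _ ⟨r, rfl⟩
    refine ⟨hom_mem F hθ r, ?_⟩
    apply mem_normalizer_of_conj_mem
    rintro _ ⟨q, hq, rfl⟩
    refine ⟨r * q * r⁻¹, ?_, by simp⟩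
    have hqQ : (q : Ω) ∈ Q := Subgroup.mem_subgroupOf.mp hq
    show r * q * r⁻¹ ∈ Q.subgroupOf R₀
    rw [Subgroup.mem_subgroupOf]
    exact (Subgroup.mem_normalizer_iff.mp (hRT r.2).2 _).mp hqQ
  refine ⟨hR₁N, ?_⟩
  obtain ⟨hfc, hfa⟩ := fullyNormalized_props p hS F hF Q hfn
  have hrec := isReceptive_of_isFullyCentralized p hS F hF Q hfc
  obtain ⟨χ, hχ, hχN, hχQ, hχQ'⟩ := exists_normalizer_hom p hS F Q _ hfa hrec (isConj_symm F hconj)
  refine ⟨χ, hχ, hχN, ?_⟩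
  -- the composite `χ ∘ θ` on `R₀`
  have hθN : ∀ r : R₀, θ r ∈ normalizerIn S ((Q.subgroupOf R₀).map θ) := fun r => hR₁N ⟨r, rfl⟩
  have hcomp := F.comp_mem hθ hχ hθN
  have hcompQ : ∀ r : R₀, (r : Ω) ∈ Q → (χ.comp (θ.codRestrict _ hθN)) r ∈ Q := by
    intro r hr
    apply hχQ'
    exact ⟨r, Subgroup.mem_subgroupOf.mpr hr, rfl⟩
  refine ⟨χ.comp (θ.codRestrict _ hθN), ?_, ?_⟩
  · rw [hN]
    have hle : R₀ ⊔ Q ≤ R₀ := sup_le le_rfl hQR
    refine ⟨hcomp, hRT, fun x => hχN _, (χ.comp (θ.codRestrict _ hθN)).comp (Subgroup.inclusion hle),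
      restrict_mem F hle hcomp, fun x => rfl, ?_⟩
    apply map_subgroupOf_eq_of_forall_mem le_sup_right _
      (F.injective_of_mem (restrict_mem F hle hcomp))
    intro x hx
    exact hcompQ _ hx
  · ext y
    constructor
    · rintro ⟨r, rfl⟩
      exact ⟨⟨θ r, hθN r⟩, Subgroup.mem_subgroupOf.mpr ⟨r, rfl⟩, rfl⟩
    · rintro ⟨x, hx, rfl⟩
      obtain ⟨r, hr⟩ := Subgroup.mem_subgroupOf.mp hx
      refine ⟨r, ?_⟩
      show χ ⟨θ r, hθN r⟩ = χ x
      congr 1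
      exact Subtype.ext hr

/-- A subgroup `R₀ ⊇ Q` centric in `N_F(Q)` (`Q` fully normalized) is centric in `F`. -/
theorem isCentric_of_isCentric_normalizerSystem [Finite S] (p : ℕ) [Fact p.Prime]
    (hS : IsPGroup p S)
    (F : FusionSystem S) (hF : F.IsSaturated p) {Q R₀ : Subgroup Ω} (hfn : F.IsFullyNormalized Q)
    (N : FusionSystem (normalizerIn S Q)) (hN : F.IsNormalizerSystem Q N)
    (hQR : Q ≤ R₀) (hR₀c : N.IsCentric R₀) : F.IsCentric R₀ := by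
  have hRT : R₀ ≤ normalizerIn S Q := hR₀c.1
  refine ⟨hRT.trans (normalizerIn_le S Q), ?_⟩
  rintro R₁ ⟨θ, hθ, rfl⟩
  obtain ⟨hR₁N, χ, hχ, hχN, hconj⟩ := exists_back_hom p hS F hF hfn N hN hQR hRT θ hθ
  have hχinj : Function.Injective χ := F.injective_of_mem hχ
  have hcen := hR₀c.2 _ hconj
  intro c hc
  rw [mem_centralizerIn] at hc
  -- `c` normalizes `θ(Q)`
  have hcN : c ∈ normalizerIn S ((Q.subgroupOf R₀).map θ) := by
    refine ⟨hc.1, ?_⟩
    haveI : Finite ↥((Q.subgroupOf R₀).map θ) := by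
      apply finite_of_le (S := S)
      rintro _ ⟨q, -, rfl⟩
      exact hom_mem F hθ q
    apply mem_normalizer_of_conj_mem
    rintro _ ⟨q, hq, rfl⟩
    have h1 := hc.2 (θ q) ⟨q, rfl⟩
    have h2 : c * θ q * c⁻¹ = θ q := by
      rw [← h1, mul_assoc, mul_inv_cancel, mul_one]
    rw [h2]
    exact ⟨q, hq, rfl⟩
  have hχc : χ ⟨c, hcN⟩ ∈ centralizerIn (normalizerIn S Q)
      ((θ.range.subgroupOf (normalizerIn S ((Q.subgroupOf R₀).map θ))).map χ) := by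
    rw [mem_centralizerIn]
    refine ⟨hχN _, ?_⟩
    rintro _ ⟨x, hx, rfl⟩
    have hxr : (x : Ω) ∈ θ.range := Subgroup.mem_subgroupOf.mp hx
    have h1 := hc.2 x hxr
    have h2 : x * (⟨c, hcN⟩ : ↥(normalizerIn S ((Q.subgroupOf R₀).map θ))) = ⟨c, hcN⟩ * x :=
      Subtype.ext h1
    rw [← map_mul, ← map_mul, h2]
  obtain ⟨x, hx, hxc⟩ := hcen hχc
  have h3 := hχinj hxc
  have hxr : (x : Ω) ∈ θ.range := Subgroup.mem_subgroupOf.mp hx
  rw [h3] at hxr
  exact hxr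

/-- The pair-maximality of a subgroup `R₀ ⊇ Q` fully normalized in `N_F(Q)`. -/
theorem card_pair_le_of_isFullyNormalized_normalizerSystem [Finite S] (p : ℕ) [Fact p.Prime]
    (hS : IsPGroup p S)
    (F : FusionSystem S) (hF : F.IsSaturated p) {Q R₀ : Subgroup Ω} (hfn : F.IsFullyNormalized Q)
    (N : FusionSystem (normalizerIn S Q)) (hN : F.IsNormalizerSystem Q N)
    (hQR : Q ≤ R₀) (hR₀n : N.IsFullyNormalized R₀) (θ : R₀ →* Ω) (hθ : θ ∈ F.Hom R₀) :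
    Nat.card ↥(normalizerIn S ((Q.subgroupOf R₀).map θ) ⊓ normalizerIn S θ.range) ≤
      Nat.card ↥(normalizerIn (normalizerIn S Q) R₀) := by
  have hRT : R₀ ≤ normalizerIn S Q := hR₀n.1
  obtain ⟨hR₁N, χ, hχ, hχN, hconj⟩ := exists_back_hom p hS F hF hfn N hN hQR hRT θ hθ
  have hχinj : Function.Injective χ := F.injective_of_mem hχ
  refine le_trans ?_ (hR₀n.2 _ hconj)
  haveI : Finite ↥(normalizerIn (normalizerIn S Q)
      ((θ.range.subgroupOf (normalizerIn S ((Q.subgroupOf R₀).map θ))).map χ)) :=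
    finite_of_le ((normalizerIn_le _ _).trans (normalizerIn_le S Q))
  have hR₂fin : Finite ↥((θ.range.subgroupOf (normalizerIn S ((Q.subgroupOf R₀).map θ))).map χ) :=
    finite_of_le (isConj_le_right N hconj |>.trans (normalizerIn_le S Q))
  have hmem : ∀ x : ↥(normalizerIn S ((Q.subgroupOf R₀).map θ) ⊓ normalizerIn S θ.range),
      χ ⟨x, x.2.1⟩ ∈ normalizerIn (normalizerIn S Q)
        ((θ.range.subgroupOf (normalizerIn S ((Q.subgroupOf R₀).map θ))).map χ) := by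
    intro x
    refine ⟨hχN _, ?_⟩
    apply mem_normalizer_of_conj_mem
    rintro _ ⟨y, hy, rfl⟩
    have hyr : (y : Ω) ∈ θ.range := Subgroup.mem_subgroupOf.mp hy
    have hx2 := x.2.2.2
    have h1 : (x : Ω) * y * (x : Ω)⁻¹ ∈ θ.range := (Subgroup.mem_normalizer_iff.mp hx2 _).mp hyr
    refine ⟨⟨x, x.2.1⟩ * y * ⟨x, x.2.1⟩⁻¹, Subgroup.mem_subgroupOf.mpr h1, ?_⟩
    rw [map_mul, map_mul, map_inv]
  refine Nat.card_le_card_of_injective (fun x => ⟨χ ⟨x, x.2.1⟩, hmem x⟩) ?_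
  intro a b hab
  have h1 : χ ⟨a, a.2.1⟩ = χ ⟨b, b.2.1⟩ := congrArg Subtype.val hab
  have h2 := hχinj h1
  exact Subtype.ext (congrArg (fun z : ↥(normalizerIn S ((Q.subgroupOf R₀).map θ)) => (z : Ω)) h2)

end Cfsg.Agent.Lib.Helper87
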