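import Cfsg.Agent.Lib.Helper87.SectionFree2

set_option autoImplicit false

/-!
The normalizer system of a fully normalized subgroup of an `H`-free system is `H`-free (final assembly).
-/

namespace Cfsg.Agent.Lib.Helper87

open Cfsg Cfsg.FusionSystem

universe u

variable {Ω : Type u} [Group Ω] {S : Subgroup Ω}

/-- The description of `N_{N_F(Q)}(R₀)` as a pair normalizer for `Q ≤ R₀`. -/
theorem nested_normalizerSystem_hom_iff_pairHom [Finite S] (F : FusionSystem S) {Q R₀ : Subgroup Ω}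
    (hQS : Q ≤ S)
    (N : FusionSystem (normalizerIn S Q)) (hN : F.IsNormalizerSystem Q N) (hQR : Q ≤ R₀)
    (hRT : R₀ ≤ normalizerIn S Q)
    (N₂ : FusionSystem (normalizerIn (normalizerIn S Q) R₀)) (hN₂ : N.IsNormalizerSystem R₀ N₂)
    (P : Subgroup Ω) (φ : P →* Ω) :
    φ ∈ N₂.Hom P ↔ P ≤ normalizerIn (normalizerIn S Q) R₀ ∧
      (∀ x, φ x ∈ normalizerIn (normalizerIn S Q) R₀) ∧ φ ∈ pairHom F Q R₀ P := by
  haveI : Finite Q := finite_of_le hQS
  constructor
  · intro hφ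
    refine ⟨hom_le N₂ hφ, hom_mem N₂ hφ, ?_⟩
    rw [hN₂] at hφ
    obtain ⟨-, -, -, ψ₁, hψ₁, hext, hR⟩ := hφ
    rw [hN] at hψ₁
    obtain ⟨hψ₁F, -, -, χ, hχ, hχext, hχQ⟩ := hψ₁
    refine ⟨ψ₁, hψ₁F, hext, hR, ?_⟩
    apply map_subgroupOf_eq_of_forall_mem (hQR.trans le_sup_right) ψ₁ (F.injective_of_mem hψ₁F)
    intro x hx
    have h1 : χ (Subgroup.inclusion le_sup_left x) ∈ (Q.subgroupOf ((P ⊔ R₀) ⊔ Q)).map χ :=
      ⟨_, Subgroup.mem_subgroupOf.mpr hx, rfl⟩
    rw [hχQ, hχext] at h1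
    exact h1
  · rintro ⟨hP, hφT, φ', hφ', hext, hR, hQ⟩
    have hPT : P ≤ normalizerIn S Q := hP.trans (normalizerIn_le _ _)
    have hφT' : ∀ x, φ x ∈ normalizerIn S Q := fun x => normalizerIn_le _ _ (hφT x)
    have hφ'Q : ∀ x : ↥(P ⊔ R₀), (x : Ω) ∈ Q → φ' x ∈ Q := by
      intro x hx
      have h1 : φ' x ∈ (Q.subgroupOf (P ⊔ R₀)).map φ' := ⟨_, Subgroup.mem_subgroupOf.mpr hx, rfl⟩
      rw [hQ] at h1
      exact h1
    have hφ'R : ∀ x : ↥(P ⊔ R₀), (x : Ω) ∈ R₀ → φ' x ∈ R₀ := by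
      intro x hx
      have h1 : φ' x ∈ (R₀.subgroupOf (P ⊔ R₀)).map φ' := ⟨_, Subgroup.mem_subgroupOf.mpr hx, rfl⟩
      rw [hR] at h1
      exact h1
    rw [hN₂]
    refine ⟨?_, hP, hφT, φ', ?_, hext, hR⟩
    · -- `φ` is a map of `N`
      rw [hN]
      have hle : P ⊔ Q ≤ P ⊔ R₀ := sup_le_sup_left hQR P
      refine ⟨hom_congr F (restrict_mem F le_sup_left hφ') (fun x => (hext x).symm), hPT, hφT',
        φ'.comp (Subgroup.inclusion hle), restrict_mem F hle hφ', fun x => hext x, ?_⟩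
      apply map_subgroupOf_eq_of_forall_mem le_sup_right _
        (F.injective_of_mem (restrict_mem F hle hφ'))
      intro x hx
      exact hφ'Q _ hx
    · -- `φ'` is a map of `N`
      rw [hN]
      have hle : (P ⊔ R₀) ⊔ Q ≤ P ⊔ R₀ := sup_le le_rfl (hQR.trans le_sup_right)
      refine ⟨hφ', sup_le hPT hRT, ?_, φ'.comp (Subgroup.inclusion hle), restrict_mem F hle hφ',
        fun x => rfl, ?_⟩
      · apply sup_hom_mem φ'
        · intro x; rw [hext]; exact hφT' x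
        · intro r; exact hRT (hφ'R _ r.2)
      · apply map_subgroupOf_eq_of_forall_mem le_sup_right _
          (F.injective_of_mem (restrict_mem F hle hφ'))
        intro x hx
        exact hφ'Q _ hx

theorem isSectionFree_normalizerSystem [Finite S] (p : ℕ) [Fact p.Prime] (hS : IsPGroup p S)
    (F : FusionSystem S) (hF : F.IsSaturated p) (H : Type*) [Group H]
    (hfree : F.IsSectionFree p H) (Q : Subgroup Ω) (hQ : F.IsFullyNormalized Q)
    (N : FusionSystem (normalizerIn S Q)) (hN : F.IsNormalizerSystem Q N) :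
    N.IsSectionFree p H := by
  have hQS : Q ≤ S := hQ.1
  haveI : Finite ↥(normalizerIn S Q) := finite_of_le (normalizerIn_le S Q)
  have hTp : IsPGroup p ↥(normalizerIn S Q) := hS.to_le (normalizerIn_le S Q)
  have hNsat : N.IsSaturated p := Cfsg.Agent.S5098.result p hS F hF Q hQ N hN
  apply isSectionFree_of_radical p hTp N hNsat H
  intro R₀ hR₀n hR₀c hR₀r N₂ hN₂ M _ j hM
  have hQn : N.IsNormal Q := isNormal_of_isNormalizerSystem F hQS N hN
  have hQR : Q ≤ R₀ := ((Cfsg.Agent.S5086.result p hTp N hNsat Q).mp hQn).2 R₀ hR₀c hR₀r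
  have hRT : R₀ ≤ normalizerIn S Q := hR₀c.1
  have hRT₀ : R₀ ≤ normalizerIn (normalizerIn S Q) R₀ := le_normalizerIn hRT
  have hT₀S : normalizerIn (normalizerIn S Q) R₀ ≤ S :=
    (normalizerIn_le _ _).trans (normalizerIn_le S Q)
  have hT₀R : normalizerIn (normalizerIn S Q) R₀ ≤ normalizerIn S R₀ := by
    intro t ht
    exact ⟨hT₀S ht, ht.2⟩
  have hcent := isCentric_of_isCentric_normalizerSystem p hS F hF hQ N hN hQR hR₀c
  have hmax := card_pair_le_of_isFullyNormalized_normalizerSystem p hS F hF hQ N hN hQR hR₀n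
  obtain ⟨R', hconj, hR'fn, hR'c, hemb⟩ := exists_embedding_of_pair p hS F hF hQR hRT₀ hT₀S
    (normalizerIn_le _ _) hT₀R hcent hmax N₂
    (nested_normalizerSystem_hom_iff_pairHom F hQS N hN hQR hRT N₂ hN₂) j hM
  have hR'S : R' ≤ S := hR'c.1
  let N' := normalizerSystem F R' hR'S
  have hN' : F.IsNormalizerSystem R' N' := normalizerSystem_isNormalizerSystem F R' hR'S
  haveI : Finite ↥(normalizerIn S R') := finite_of_le (normalizerIn_le S R')
  have hT'p : IsPGroup p ↥(normalizerIn S R') := hS.to_le (normalizerIn_le S R')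
  have hN'c := isConstrained_normalizerSystem p hS F hF R' hR'fn hR'c N' hN'
  obtain ⟨L', _, ι', hmodel'⟩ := Cfsg.Agent.S5090.result p hT'p N' hN'c
  obtain ⟨f, hf⟩ := hemb N' hN' ι' hmodel'
  intro hinv
  exact hfree R' hR'fn hR'c N' hN' L' ι' hmodel'
    (Cfsg.Agent.Lib.Helper90.Involves.of_injective_right f hf hinv)

end Cfsg.Agent.Lib.Helper87
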