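import Cfsg.Agent.Lib.Helper87.GroupCond
import Cfsg.Agent.Lib.Helper87.Hyperfocal
import Cfsg.Prelude.Def_FusionComponents

set_option autoImplicit false

/-!
The fusion systems of a subnormal chain of subgroups form a subnormal chain of fusion systems.
-/

namespace Cfsg.Agent.Lib.Helper87

open Cfsg Cfsg.FusionSystem

section Cast

variable {Ω : Type*} [Group Ω]

theorem fusionSystem_ext {T : Subgroup Ω} (E₁ E₂ : FusionSystem T)
    (h : ∀ P, E₁.Hom P = E₂.Hom P) : E₁ = E₂ := by
  cases E₁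
  cases E₂
  simp only [FusionSystem.mk.injEq]
  funext P
  exact h P

/-- Transport of a property of fusion systems along an equality of the underlying subgroups. -/
theorem fusionSystem_cast (C : ∀ {T : Subgroup Ω}, FusionSystem T → Prop) {T₁ T₂ : Subgroup Ω}
    (E₁ : FusionSystem T₁) (E₂ : FusionSystem T₂) (hT : T₁ = T₂)
    (h : ∀ P, E₁.Hom P = E₂.Hom P) (h1 : C E₁) : C E₂ := by
  subst hT
  have := fusionSystem_ext E₁ E₂ h
  subst this
  exact h1

theorem isSubnormalIn_of_isNormalIn_of_isSubnormalIn {T U S : Subgroup Ω} {E : FusionSystem T}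
    {D : FusionSystem U} {F : FusionSystem S} {p : ℕ} (hED : E.IsNormalIn D p)
    (hDF : D.IsSubnormalIn F p) : E.IsSubnormalIn F p := by
  induction hDF with
  | refl F p => exact IsSubnormalIn.step (IsSubnormalIn.refl E p) hED
  | step _ hn ih => exact IsSubnormalIn.step (ih hED) hn

end Cast

section Chain

variable {G : Type*} [Group G] [Finite G] (p : ℕ) [Fact p.Prime]

theorem relFusionSystem_isNormalIn (K H T T₀ : Subgroup G) (hTK : T ≤ K) (hHK : H ≤ K)
    (hT₀H : T₀ ≤ H) (hT₀ : T₀ = T ⊓ H) [hN : (H.subgroupOf K).Normal] (R : Sylow p K)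
    (hR : (R : Subgroup K) = T.subgroupOf K) :
    (relFusionSystem H T₀ hT₀H).IsNormalIn (relFusionSystem K T hTK) p := by
  have hι := relFusionSystem_realized K T hTK
  have hR' : (R : Subgroup K) = (Subgroup.inclusion hTK).range := by
    rw [hR, Subgroup.inclusion_range]
  have hmain := cutSystem_isNormalIn (relFusionSystem K T hTK) hι (H.subgroupOf K) p R hR'
  have hpull : pull (Subgroup.inclusion hTK) (H.subgroupOf K) = T₀ := by
    rw [hT₀]
    ext x
    rw [mem_pull]
    constructor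
    · rintro ⟨h, hx⟩
      exact ⟨h, Subgroup.mem_subgroupOf.mp hx⟩
    · rintro ⟨h, hx⟩
      exact ⟨h, Subgroup.mem_subgroupOf.mpr hx⟩
  refine fusionSystem_cast (fun E => E.IsNormalIn (relFusionSystem K T hTK) p) _ _ hpull ?_ hmain
  intro P
  ext φ
  rw [mem_cutSystem_iff]
  constructor
  · rintro ⟨⟨hPT, hφT, -⟩, hP, n, hn, hnφ⟩
    rw [hpull] at hP
    have hnH : ((n : K) : G) ∈ H := Subgroup.mem_subgroupOf.mp hn
    have heq : ∀ x : P, φ x = (n : G) * (x : G) * (n : G)⁻¹ := fun x =>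
      congrArg Subtype.val (hnφ x (hPT x.2) (hφT x))
    refine ⟨hP, fun x => ?_, n, hnH, heq⟩
    rw [hT₀]
    refine ⟨hφT x, ?_⟩
    rw [heq x]
    exact H.mul_mem (H.mul_mem hnH (hT₀H (hP x.2))) (H.inv_mem hnH)
  · rintro ⟨hP, hφ, g, hg, hgφ⟩
    have hT₀T : T₀ ≤ T := hT₀ ▸ inf_le_left
    refine ⟨⟨hP.trans hT₀T, fun x => hT₀T (hφ x), g, hHK hg, hgφ⟩, hpull ▸ hP, ⟨g, hHK hg⟩,
      Subgroup.mem_subgroupOf.mpr hg, fun x hx hy => ?_⟩
    exact Subtype.ext (hgφ x)

/-- The fusion system of a subnormal subgroup `H` on `S ∩ H` is subnormal in `F_S(G)`. -/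
theorem relFusionSystem_isSubnormalIn (S : Sylow p G) (H : Subgroup G) (hH : H.IsSubnormal)
    (hsyl : ∀ K : Subgroup G, K.IsSubnormal →
      ∃ Q : Sylow p K, (Q : Subgroup K) = (S : Subgroup G).subgroupOf K) :
    (relFusionSystem H ((S : Subgroup G) ⊓ H) inf_le_right).IsSubnormalIn
      (groupFusionSystem (S : Subgroup G)) p := by
  induction hH with
  | top =>
    refine fusionSystem_cast (fun E => E.IsSubnormalIn (groupFusionSystem (S : Subgroup G)) p)
      (groupFusionSystem (S : Subgroup G)) _ (inf_top_eq _).symm ?_ (IsSubnormalIn.refl _ p)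
    intro P
    ext φ
    constructor
    · rintro ⟨hP, hφ, g, hg⟩
      exact ⟨hP.trans (inf_top_eq _).ge, fun x => ⟨hφ x, Subgroup.mem_top _⟩, g,
        Subgroup.mem_top _, hg⟩
    · rintro ⟨hP, hφ, g, -, hg⟩
      exact ⟨hP.trans inf_le_left, fun x => (hφ x).1, g, hg⟩
  | step H K h_le hK hN ih =>
    obtain ⟨R, hR⟩ := hsyl K hK
    have hR' : (R : Subgroup K) = ((S : Subgroup G) ⊓ K).subgroupOf K := by
      rw [hR, Subgroup.inf_subgroupOf_right]
    have hT₀ : (S : Subgroup G) ⊓ H = ((S : Subgroup G) ⊓ K) ⊓ H := by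
      rw [inf_assoc, inf_eq_right.mpr h_le]
    have hn := relFusionSystem_isNormalIn p K H ((S : Subgroup G) ⊓ K) ((S : Subgroup G) ⊓ H)
      inf_le_right h_le inf_le_right hT₀ R hR'
    exact isSubnormalIn_of_isNormalIn_of_isSubnormalIn hn ih

end Chain

end Cfsg.Agent.Lib.Helper87
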