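import Cfsg.Agent.Lib.Helper87.PSolvableFusion
import Cfsg.Agent.Lib.Helper40.PSolv
import Cfsg.Agent.Lib.Helper53.PPrime
import Cfsg.Agent.Lib.Helper54.Basic

set_option autoImplicit false

/-!
Closure properties of `p`-solvable groups: extensions, subgroups of subgroups, groups of `p`-power or
`p'` order.
-/

namespace Cfsg.Agent.Lib.Helper87.TRS

open Cfsg

section

variable {p : ℕ} [hp : Fact p.Prime]

/-- A group whose order is a power of `p` or prime to `p` is `p`-solvable. -/
theorem isPSolvable_of_card {X : Type*} [Group X]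
    (h : (∃ m : ℕ, Nat.card X = p ^ m) ∨ (Nat.card X).Coprime p) : IsPSolvable p X := by
  refine ⟨1, ![⊥, ⊤], rfl, rfl, ?_, ?_, ?_⟩
  · intro i j hij
    fin_cases i <;> fin_cases j
    · exact le_rfl
    · exact bot_le
    · exact absurd hij (by decide)
    · exact le_rfl
  · intro i
    fin_cases i
    · show (⊥ : Subgroup X).Normal
      infer_instance
    · show (⊤ : Subgroup X).Normal
      infer_instance
  · intro i
    have hi : i = 0 := Subsingleton.elim _ _
    subst hi
    have e : (⊥ : Subgroup X).relIndex ⊤ = Nat.card X := by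
      rw [Subgroup.relIndex_top_right, Subgroup.index_bot]
    show (∃ m : ℕ, (⊥ : Subgroup X).relIndex ⊤ = p ^ m) ∨ ((⊥ : Subgroup X).relIndex ⊤).Coprime p
    rw [e]
    exact h

/-- An extension of a `p`-solvable group by a finite normal subgroup whose order is a power of `p` or prime
to `p` is `p`-solvable. -/
theorem isPSolvable_of_surjective_of_card_ker {X Y : Type*} [Group X] [Group Y] [Finite X]
    (f : X →* Y) (hf : Function.Surjective f)
    (hker : (∃ m : ℕ, Nat.card f.ker = p ^ m) ∨ (Nat.card f.ker).Coprime p)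
    (hY : IsPSolvable p Y) : IsPSolvable p X := by
  obtain ⟨n, H, h0, hlast, hmono, hnorm, hstep⟩ := hY
  refine ⟨n + 1, Fin.cons ⊥ (fun i => (H i).comap f), ?_, ?_, ?_, ?_, ?_⟩
  · rfl
  · have : Fin.last (n + 1) = (Fin.last n).succ := rfl
    rw [this, Fin.cons_succ, hlast]
    rfl
  · intro i j hij
    induction i using Fin.cases with
    | zero => rw [Fin.cons_zero]; exact bot_le
    | succ i' =>
      induction j using Fin.cases with
      | zero => exact absurd hij (by simp [Fin.le_def])
      | succ j' =>
        rw [Fin.cons_succ, Fin.cons_succ]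
        exact Subgroup.comap_mono (hmono (Fin.succ_le_succ_iff.mp hij))
  · intro i
    induction i using Fin.cases with
    | zero => rw [Fin.cons_zero]; infer_instance
    | succ i' =>
      rw [Fin.cons_succ]
      exact (hnorm i').comap f
  · intro i
    induction i using Fin.cases with
    | zero =>
      have e1 : (Fin.cons ⊥ (fun i => (H i).comap f) : Fin (n + 2) → Subgroup X) (Fin.castSucc 0) = ⊥ := rfl
      have e2 : (Fin.cons ⊥ (fun i => (H i).comap f) : Fin (n + 2) → Subgroup X) (Fin.succ 0) = f.ker := by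
        rw [Fin.cons_succ, h0]
        rfl
      rw [e1, e2, Subgroup.relIndex_bot_left]
      exact hker
    | succ i' =>
      have e1 : (Fin.cons ⊥ (fun i => (H i).comap f) : Fin (n + 2) → Subgroup X) (Fin.castSucc i'.succ) =
          (H i'.castSucc).comap f := by
        rw [← Fin.succ_castSucc, Fin.cons_succ]
      have e2 : (Fin.cons ⊥ (fun i => (H i).comap f) : Fin (n + 2) → Subgroup X) (Fin.succ i'.succ) =
          (H i'.succ).comap f := by
        rw [Fin.cons_succ]
      rw [e1, e2, Subgroup.relIndex_comap, Subgroup.map_comap_eq_self_of_surjective hf]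
      exact hstep i'

/-- `p`-solvability is invariant under isomorphism. -/
theorem isPSolvable_of_equiv {X Y : Type*} [Group X] [Group Y] (e : X ≃* Y) (hX : IsPSolvable p X) :
    IsPSolvable p Y :=
  Cfsg.Agent.Lib.Helper15.IsPSolvable.of_surjective hp.out hX e.toMonoidHom e.surjective

/-- Subgroups of a `p`-solvable subgroup are `p`-solvable. -/
theorem isPSolvable_of_le {M : Type*} [Group M] {A B : Subgroup M} (h : A ≤ B) (hB : IsPSolvable p B) :
    IsPSolvable p A :=
  isPSolvable_of_equiv (Subgroup.subgroupOfEquivOfLe h)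
    (Cfsg.Agent.Lib.Helper40.isPSolvable_subgroup hp.out hB (A.subgroupOf B))

/-- A nontrivial `p`-solvable group has a nontrivial `O_p` or a nontrivial `O_{p'}`. -/
theorem pCore_ne_bot_or_pPrimeCore_ne_bot {N : Type*} [Group N] [Finite N] [Nontrivial N]
    (hN : IsPSolvable p N) : pCore p N ≠ ⊥ ∨ pPrimeCore p N ≠ ⊥ := by
  by_contra hcon
  push_neg at hcon
  obtain ⟨h1, h2⟩ := hcon
  obtain ⟨n, H, h0, hlast, hmono, hnorm, hstep⟩ := hN
  have key : ∀ (i : ℕ) (hi : i < n + 1), H ⟨i, hi⟩ = ⊥ := by
    intro i
    induction i with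
    | zero => intro hi; exact h0
    | succ k ih =>
      intro hi
      have hk := ih (by omega)
      have hkn : k < n := by omega
      have hs := hstep ⟨k, hkn⟩
      have e1 : (⟨k, hkn⟩ : Fin n).castSucc = ⟨k, by omega⟩ := rfl
      have e2 : (⟨k, hkn⟩ : Fin n).succ = ⟨k + 1, hi⟩ := rfl
      rw [e1, e2, hk, Subgroup.relIndex_bot_left] at hs
      rcases hs with ⟨m, hm⟩ | hc
      · have hle : H ⟨k + 1, hi⟩ ≤ pCore p N :=
          le_sSup ⟨hnorm _, IsPGroup.of_card hm⟩
        rw [h1] at hle
        exact le_bot_iff.mp hle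
      · have hle : H ⟨k + 1, hi⟩ ≤ pPrimeCore p N := le_sSup ⟨hnorm _, hc⟩
        rw [h2] at hle
        exact le_bot_iff.mp hle
  have := key n (by omega)
  have h3 : H (Fin.last n) = ⊥ := this
  rw [hlast] at h3
  exact top_ne_bot h3

end

end Cfsg.Agent.Lib.Helper87.TRS
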