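import Cfsg.Agent.Lib.Helper87.TRS9
import Cfsg.Agent.Lib.Helper88.FusionRD13
import Cfsg.Agent.S5243
import Cfsg.Agent.S5290

set_option autoImplicit false

/-!
Termination: for a constrained system with `p`-solvable automizer of the core which is its own
`p'`-residual, the hyperfocal subgroup is proper.
-/

namespace Cfsg.Agent.Lib.Helper87.TRS

open Cfsg Cfsg.FusionSystem Cfsg.Agent.Lib.Helper87

variable {Ω : Type*} [Group Ω] {S : Subgroup Ω}

theorem hasPrimeToPIndexIn_trans {p : ℕ} {D E F : FusionSystem S} (hDE : D.HasPrimeToPIndexIn E p)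
    (hEF : E.HasPrimeToPIndexIn F p) : D.HasPrimeToPIndexIn F p := by
  refine ⟨fun P => (hDE.1 P).trans (hEF.1 P), fun P hP => ?_⟩
  rw [Subgroup.map_le_iff_le_comap, Subgroup.closure_le]
  rintro α ⟨k, hk⟩
  show (α : MulAut P) ∈ D.autGroup P
  have hαE : (α : MulAut P) ∈ E.autGroup P :=
    hEF.2 P hP ⟨α, Subgroup.subset_closure ⟨k, hk⟩, rfl⟩
  have hord : orderOf (⟨(α : MulAut P), hαE⟩ : E.autGroup P) = p ^ k := by
    rw [← Subgroup.orderOf_coe, ← hk, ← Subgroup.orderOf_coe]
  exact hDE.2 P hP ⟨⟨(α : MulAut P), hαE⟩, Subgroup.subset_closure ⟨k, hord⟩, rfl⟩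

theorem isPPrimeResidual_self {p : ℕ} {E F : FusionSystem S} (h : F.IsPPrimeResidual p E) :
    E.IsPPrimeResidual p E := by
  refine ⟨h.1, ⟨fun P => subset_rfl, fun P _ => ?_⟩, fun D hD hDE => ?_⟩
  · rintro _ ⟨a, -, rfl⟩
    exact a.2
  · exact h.2.2 D hD (hasPrimeToPIndexIn_trans hDE h.2.1)

theorem isFullyAutomized_of_isNormal {p : ℕ} (E : FusionSystem S) (hE : E.IsSaturated p) {Q : Subgroup Ω}
    (hQ : E.IsNormal Q) : E.IsFullyAutomized p Q := by
  obtain ⟨Q', hconj, hfa, -⟩ := hE Q hQ.1
  have := Cfsg.Agent.Lib.Helper91.eq_of_isConj_of_isNormal E hQ hconj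
  subst this
  exact hfa

theorem hyperfocal_ne_of_good [Finite S] (p : ℕ) [hp : Fact p.Prime] (hS : IsPGroup p S)
    (E : FusionSystem S) (hE : E.IsSaturated p) (hG : Good p E) (hres : E.IsPPrimeResidual p E)
    (hne : S ≠ ⊥) : E.hyperfocalSubgroup p ≠ S := by
  have hQn : E.IsNormal E.core := Cfsg.Agent.Lib.Helper88.isNormal_core E
  have hQS : E.core ≤ S := hQn.1
  haveI : Finite E.core := finite_of_le hQS
  have hQc : E.IsCentric E.core := isCentric_core_of_isConstrained hG.1
  have hcen : centralizerIn S E.core ≤ E.core := hQc.2 E.core (isConj_refl E hQS)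
  have hQsc := Cfsg.Agent.Lib.Helper89.IsNormal.stronglyClosed hQn
  have hQconj : ∀ s ∈ S, ∀ q ∈ E.core, s * q * s⁻¹ ∈ E.core :=
    Cfsg.Agent.Lib.Helper91.stronglyClosed_conj_mem' E hQsc
  by_cases hA : Nontrivial (E.autGroup E.core)
  · rcases Cfsg.Agent.Lib.Helper88.pResidual_ne_top_or_pElemGen_ne_top p hG.2 with h1 | h2
    · -- `O^p(A) ≠ A`
      intro heq
      have hle := hyperfocal_le_autPreimage p E hQn hQconj
      obtain ⟨-, R, hR⟩ := isFullyAutomized_of_isNormal E hE hQn
      apply h1
      apply pResidual_eq_top_of_sylow_le R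
      rw [hR]
      intro a ha
      have ha' : (a : MulAut E.core) ∈ autInducedBy S E.core := ha
      obtain ⟨s, hsS, hs⟩ := mem_autInducedBy_iff.mp ha'
      have hsU : s ∈ Cfsg.Agent.Lib.Helper91.autPreimage S E.core
          ((pResidual p (E.autGroup E.core)).map (E.autGroup E.core).subtype) := by
        apply hle
        rw [heq]
        exact hsS
      obtain ⟨-, b, ⟨b', hb', rfl⟩, hb⟩ := hsU
      have : b' = a := by
        apply Subtype.ext
        apply MulEquiv.ext
        intro q
        apply Subtype.ext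
        exact (hb q).trans (hs q).symm
      rw [← this]
      exact hb'
    · -- `O^{p'}(A) ≠ A`
      exfalso
      haveI : (Cfsg.Agent.Lib.Helper88.pElemGen p (E.autGroup E.core)).Normal :=
        Cfsg.Agent.Lib.Helper88.pElemGen_normal p
      haveI : Nontrivial (E.autGroup E.core ⧸ Cfsg.Agent.Lib.Helper88.pElemGen p (E.autGroup E.core)) := by
        rw [← not_subsingleton_iff_nontrivial, QuotientGroup.subsingleton_iff]
        exact h2
      have hΔ : (Nat.card (E.autGroup E.core ⧸
          Cfsg.Agent.Lib.Helper88.pElemGen p (E.autGroup E.core))).Coprime p := by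
        have : Nat.card (E.autGroup E.core ⧸ Cfsg.Agent.Lib.Helper88.pElemGen p (E.autGroup E.core)) =
            (Cfsg.Agent.Lib.Helper88.pElemGen p (E.autGroup E.core)).index := rfl
        rw [this]
        exact index_pElemGen_coprime
      have hInn : (innerFusionSystem E.core).IsNormalIn E p :=
        Cfsg.Agent.Lib.Helper88.isNormalIn_of_isWeaklyNormalIn_of_centralizerIn_le p E
          (innerFusionSystem E.core) ((Cfsg.Agent.S5290.result p hS E hE E.core hQS).mp hQn) hcen
      have hker : ((innerFusionSystem E.core).autGroup E.core).subgroupOf (E.autGroup E.core) ≤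
          (QuotientGroup.mk' (Cfsg.Agent.Lib.Helper88.pElemGen p (E.autGroup E.core))).ker := by
        rw [QuotientGroup.ker_mk']
        apply Cfsg.Agent.Lib.Helper88.le_pElemGen_of_isPGroup
        have hle : (innerFusionSystem E.core).autGroup E.core ≤ autInducedBy E.core E.core := by
          intro α hα
          have := (mem_autGroup_iff (innerFusionSystem E.core) le_rfl).mp hα
          obtain ⟨-, g, hg, hgx⟩ := this
          exact mem_autInducedBy_iff.mpr ⟨g, hg, fun x => hgx x⟩
        exact ((isPGroup_autInducedBy (hS.to_le hQS) E.core).to_le hle).comap_subtype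
      obtain ⟨F₀, hF₀n, hF₀ne, -, -, hF₀min⟩ := Cfsg.Agent.S5243.result p hS E hE hQS
        (innerFusionSystem E.core) hInn hΔ
        (QuotientGroup.mk' (Cfsg.Agent.Lib.Helper88.pElemGen p (E.autGroup E.core)))
        (QuotientGroup.mk'_surjective _) hker
      have h3 : E.IsSubsystemOf F₀ := hF₀min E hres
      have h4 : F₀.IsSubsystemOf E := hF₀n.1.2.2.1
      exact hF₀ne (fun P => Set.Subset.antisymm (h4 P) (h3 P))
  · -- trivial automizer
    rw [not_nontrivial_iff_subsingleton] at hA
    have hSQ : S ≤ E.core := by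
      intro s hs
      apply hcen
      have hsn : s ∈ Subgroup.normalizer (E.core : Set Ω) := mem_normalizer_of_forall_conj hQconj hs
      have hcA : conjAut E.core s hsn ∈ E.autGroup E.core :=
        autInducedBy_le_autGroup E hQS (conjAut_mem_autInducedBy hs hsn)
      have h1 : (⟨conjAut E.core s hsn, hcA⟩ : E.autGroup E.core) = 1 := Subsingleton.elim _ _
      have h2 : conjAut E.core s hsn = 1 := congrArg Subtype.val h1
      rw [mem_centralizerIn]
      refine ⟨hs, fun q hq => ?_⟩
      have h3 : ((conjAut E.core s hsn ⟨q, hq⟩ : E.core) : Ω) = q := by rw [h2]; rfl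
      rw [conjAut_apply] at h3
      have h4 : s * q * s⁻¹ = q := h3
      calc q * s = (s * q * s⁻¹) * s := by rw [h4]
        _ = s * q := by group
    have hbot : E.hyperfocalSubgroup p ≤ ⊥ := by
      apply hyperfocal_le_of_coprime_gen
      intro P hPS β _ x
      have hPQ : P ≤ E.core := hPS.trans hSQ
      have hφ := (mem_autGroup_iff E hPS).mp β.2
      obtain ⟨α, hα, hαx⟩ := (Cfsg.Agent.S5106.result p hS E hE E.core hQS).mp hQn P hPQ _ hφ
      have h1 : (⟨α, hα⟩ : E.autGroup E.core) = 1 := Subsingleton.elim _ _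
      have h2 : α = 1 := congrArg Subtype.val h1
      have h3 := hαx x
      rw [h2] at h3
      have h4 : (((β : MulAut P) x : P) : Ω) = (x : Ω) := h3.symm
      rw [h4]
      simp
    intro heq
    apply hne
    rw [← heq]
    exact le_bot_iff.mp hbot

end Cfsg.Agent.Lib.Helper87.TRS
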