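import Cfsg.Agent.Lib.Helper87.TRS10
import Cfsg.Agent.Lib.Helper87.PSolvableFusion
import Cfsg.Agent.Lib.Helper88.FusionOP4
import Cfsg.Agent.Lib.Helper88.FusionOL7
import Cfsg.Agent.S5090

set_option autoImplicit false

/-!
The standing property forces a terminating residual series; the equivalence with models.
-/

namespace Cfsg.Agent.Lib.Helper87.TRS

open Cfsg Cfsg.FusionSystem Cfsg.Agent.Lib.Helper87

universe u

variable {Ω : Type u} [Group Ω]

theorem hasTerminatingResidualSeries_of_good (p : ℕ) [hp : Fact p.Prime] (n : ℕ) :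
    ∀ (S : Subgroup Ω) [Finite S], IsPGroup p S → ∀ F : FusionSystem S, Nat.card S = n → Good p F →
      F.HasTerminatingResidualSeries p := by
  induction n using Nat.strong_induction_on with
  | _ n ih =>
    intro S _ hS F hcard hG
    by_cases hbot : S = ⊥
    · exact HasTerminatingResidualSeries.trivial F p hbot
    have hF : F.IsSaturated p := hG.1.1
    obtain ⟨E, hE⟩ := Cfsg.Agent.Lib.Helper88.exists_isPPrimeResidual p hS F hF
    have hEw := isWeaklyNormalIn_of_isPPrimeResidual p hS F hF E hE
    have hEn : E.IsNormalIn F p := Cfsg.Agent.Lib.Helper88.isNormalIn_of_isWeaklyNormalIn_self p F E hEw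
    have hEc : E.IsConstrained p := Cfsg.Agent.Lib.Helper91.isConstrained_of_isNormalIn p hS F hG.1 E hEn
    have hEg : Good p E := good_of_isWeaklyNormalIn p hS hG hEw hEc
    obtain ⟨D, hD⟩ := Cfsg.Agent.Lib.Helper88.exists_isPResidual p hS E hE.1
    have hTsc : E.StronglyClosed (E.hyperfocalSubgroup p) :=
      Cfsg.Agent.Lib.Helper88.stronglyClosed_hyperfocalSubgroup p hS E hE.1
    have hTS : E.hyperfocalSubgroup p ≤ S := hTsc.1
    haveI : Finite (E.hyperfocalSubgroup p) := finite_of_le hTS
    have hTn : ((E.hyperfocalSubgroup p).subgroupOf S).Normal :=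
      Cfsg.Agent.Lib.Helper88.normal_subgroupOf_of_stronglyClosed hTsc
    have hDn : D.IsNormalIn E p :=
      Cfsg.Agent.S5120.result p hS E hE.1 (E.hyperfocalSubgroup p) hTS hTn le_rfl D hD.1 hD.2
    have hDc : D.IsConstrained p := Cfsg.Agent.Lib.Helper91.isConstrained_of_isNormalIn p hS E hEc D hDn
    have hDg : Good p D := good_of_isWeaklyNormalIn p hS hEg hDn.1 hDc
    have hTne : E.hyperfocalSubgroup p ≠ S :=
      hyperfocal_ne_of_good p hS E hE.1 hEg (isPPrimeResidual_self hE) hbot
    have hlt : Nat.card (E.hyperfocalSubgroup p) < n := by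
      rw [← hcard]
      by_contra hge
      push_neg at hge
      exact hTne (Subgroup.eq_of_le_of_card_ge hTS hge)
    have hDs := ih _ hlt (E.hyperfocalSubgroup p) (hS.to_le hTS) D rfl hDg
    exact HasTerminatingResidualSeries.step F E p D hE hD hDs

/-- The standing property in terms of models. -/
theorem good_iff_model {S : Subgroup Ω} [Finite S] (p : ℕ) [Fact p.Prime] (hS : IsPGroup p S)
    (F : FusionSystem S) :
    Good p F ↔ (F.IsConstrained p ∧ ∀ (G : Type u) [Group G] (ι : S →* G), F.IsModel p G ι →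
      Cfsg.IsPSolvable p G) := by
  constructor
  · rintro ⟨hc, hs⟩
    refine ⟨hc, fun G _ ι hmodel => ?_⟩
    exact (isPSolvable_autGroup_core_iff p hS F hmodel).mp hs
  · rintro ⟨hc, hs⟩
    refine ⟨hc, ?_⟩
    obtain ⟨G, _, ι, hmodel⟩ := Cfsg.Agent.S5090.result p hS F hc
    exact (isPSolvable_autGroup_core_iff p hS F hmodel).mpr (hs G ι hmodel)

theorem main {S : Subgroup Ω} [Finite S] (p : ℕ) [Fact p.Prime] (hS : IsPGroup p S)
    (F : FusionSystem S) (hF : F.IsSaturated p) :
    F.HasTerminatingResidualSeries p ↔ (F.IsConstrained p ∧ ∀ (G : Type u) [Group G] (ι : S →* G),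
      F.IsModel p G ι → Cfsg.IsPSolvable p G) := by
  rw [← good_iff_model p hS F]
  constructor
  · intro h
    exact good_of_hasTerminatingResidualSeries F p h inferInstance hS hF
  · intro h
    exact hasTerminatingResidualSeries_of_good p (Nat.card S) S hS F rfl h

end Cfsg.Agent.Lib.Helper87.TRS
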