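import Cfsg.Agent.Lib.Helper87.TRS1
import Cfsg.Agent.Lib.Helper42.PResidual
import Cfsg.Agent.Lib.Helper81.Cores

set_option autoImplicit false

/-!
Extensions of `p`-solvable groups by `p`-solvable groups are `p`-solvable.
-/

namespace Cfsg.Agent.Lib.Helper87.TRS

open Cfsg

variable {p : ℕ} [hp : Fact p.Prime]

theorem isPSolvable_ext_aux (n : ℕ) : ∀ (G : Type*) [Group G] [Finite G], Nat.card G = n →
    ∀ (N : Subgroup G) [N.Normal], IsPSolvable p N → IsPSolvable p (G ⧸ N) → IsPSolvable p G := by
  induction n using Nat.strong_induction_on with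
  | _ n ih =>
    intro G _ _ hcard N hNn hN hQ
    by_cases hbot : N = ⊥
    · subst hbot
      exact isPSolvable_of_equiv (QuotientGroup.quotientBot (G := G)) hQ
    · -- a nontrivial characteristic subgroup of `N` of `p`-power or `p'` order
      haveI : Nontrivial N := (Subgroup.nontrivial_iff_ne_bot N).mpr hbot
      have hC : ∃ C : Subgroup N, C.Characteristic ∧ C ≠ ⊥ ∧
          ((∃ m : ℕ, Nat.card C = p ^ m) ∨ (Nat.card C).Coprime p) := by
        rcases pCore_ne_bot_or_pPrimeCore_ne_bot hN with h | h
        · refine ⟨pCore p N, Cfsg.Agent.Lib.Helper15.pCore_characteristic p N, h, Or.inl ?_⟩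
          exact (Cfsg.Agent.Lib.Helper52.pCore_isPGroup p N).exists_card_eq
        · refine ⟨pPrimeCore p N, Cfsg.Agent.Lib.Helper15.pPrimeCore_characteristic p N, h, Or.inr ?_⟩
          exact Cfsg.Agent.Lib.Helper81.card_pPrimeCore_coprime (G := N) p
      obtain ⟨C, hCchar, hCne, hCcard⟩ := hC
      haveI := hCchar
      set C' : Subgroup G := C.map N.subtype with hC'
      haveI hC'n : C'.Normal := ConjAct.normal_of_characteristic_of_normal
      have hcardC : Nat.card C' = Nat.card C :=
        Nat.card_congr (C.equivMapOfInjective N.subtype N.subtype_injective).symm.toEquiv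
      have hC'ne : C' ≠ ⊥ := by
        intro h
        apply hCne
        exact (Subgroup.map_eq_bot_iff_of_injective _ N.subtype_injective).mp h
      -- the quotient is smaller
      have hlt : Nat.card (G ⧸ C') < n := by
        have h1 := Subgroup.card_eq_card_quotient_mul_card_subgroup C'
        have h2 : 1 < Nat.card C' := by
          haveI : Nontrivial C' := (Subgroup.nontrivial_iff_ne_bot C').mpr hC'ne
          exact Finite.one_lt_card
        have h3 : 0 < Nat.card (G ⧸ C') := Nat.card_pos
        rw [← hcard, h1]
        nlinarith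
      -- apply the induction hypothesis to `G ⧸ C'` and the image of `N`
      set f : G →* G ⧸ C' := QuotientGroup.mk' C' with hf
      have hfs : Function.Surjective f := QuotientGroup.mk'_surjective C'
      set N' : Subgroup (G ⧸ C') := N.map f with hN'
      haveI hN'n : N'.Normal := hNn.map f hfs
      have hN'solv : IsPSolvable p N' :=
        Cfsg.Agent.Lib.Helper15.IsPSolvable.of_surjective hp.out hN (f.subgroupMap N)
          (f.subgroupMap_surjective N)
      have hle : N ≤ N'.comap f := Subgroup.le_comap_map f N
      have hQ' : IsPSolvable p ((G ⧸ C') ⧸ N') := by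
        refine Cfsg.Agent.Lib.Helper15.IsPSolvable.of_surjective hp.out hQ
          (QuotientGroup.map N N' f hle) ?_
        intro y
        obtain ⟨y', rfl⟩ := QuotientGroup.mk'_surjective N' y
        obtain ⟨g, rfl⟩ := hfs y'
        exact ⟨QuotientGroup.mk g, rfl⟩
      have hG' : IsPSolvable p (G ⧸ C') := ih _ hlt (G ⧸ C') rfl N' hN'solv hQ'
      refine isPSolvable_of_surjective_of_card_ker f hfs ?_ hG'
      have hker : f.ker = C' := QuotientGroup.ker_mk' C'
      rw [hker, hcardC]
      exact hCcard

/-- An extension of a `p`-solvable group by a `p`-solvable group is `p`-solvable. -/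
theorem isPSolvable_ext {G : Type*} [Group G] [Finite G] (N : Subgroup G) [N.Normal]
    (hN : IsPSolvable p N) (hQ : IsPSolvable p (G ⧸ N)) : IsPSolvable p G :=
  isPSolvable_ext_aux (Nat.card G) G rfl N hN hQ

/-- If `O^p(G)` is `p`-solvable then so is `G`. -/
theorem isPSolvable_of_pResidual {G : Type*} [Group G] [Finite G]
    (h : IsPSolvable p (pResidual p G)) : IsPSolvable p G := by
  haveI := Cfsg.Agent.Lib.Helper42.pResidual_normal p G
  refine isPSolvable_ext (pResidual p G) h (isPSolvable_of_card (Or.inl ?_))
  exact (Cfsg.Agent.Lib.Helper42.isPGroup_quotient_pResidual p G).exists_card_eq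

end Cfsg.Agent.Lib.Helper87.TRS
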