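import Cfsg.Agent.Lib.Helper87.TRS2
import Cfsg.Agent.Lib.Helper90.FusionInvariant
import Cfsg.Agent.Lib.Helper91.FusionConstrained
import Cfsg.Agent.S5106
import Cfsg.Agent.Lib.Helper88.FusionSolv3
import Cfsg.Agent.Lib.Helper88.FusionRL2

set_option autoImplicit false

/-!
The largest normal subgroup of a weakly normal subsystem; restriction of automizers; inheritance of
`p`-solvability of the automizer of the core.
-/

namespace Cfsg.Agent.Lib.Helper87.TRS

open Cfsg Cfsg.FusionSystem Cfsg.Agent.Lib.Helper87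

variable {Ω : Type*} [Group Ω] {S T : Subgroup Ω}

/-- The standing property: constrained, and the automizer of the largest normal subgroup is `p`-solvable. -/
def Good (p : ℕ) (F : FusionSystem S) : Prop :=
  F.IsConstrained p ∧ IsPSolvable p (F.autGroup F.core)

/-- `O_p(E) = O_p(F) ∩ T` for `E` weakly normal in `F` over `T`. -/
theorem core_eq_inf [Finite S] {p : ℕ} [Fact p.Prime] (hS : IsPGroup p S) {E : FusionSystem T}
    {F : FusionSystem S} (hE : E.IsWeaklyNormalIn F p) : E.core = F.core ⊓ T := by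
  have hTsc : F.StronglyClosed T := hE.2.2.2.1
  have hTS : T ≤ S := hTsc.1
  haveI : Finite T := finite_of_le hTS
  have hT : IsPGroup p T := hS.to_le hTS
  have hEn : E.IsNormal E.core := Cfsg.Agent.Lib.Helper88.isNormal_core E
  have hFn : F.IsNormal F.core := Cfsg.Agent.Lib.Helper88.isNormal_core F
  apply le_antisymm
  · refine le_inf ?_ hEn.1
    have h1 := Cfsg.Agent.Lib.Helper90.isNormal_closure_conj hS hE hEn
    refine le_trans ?_ (le_sSup h1)
    intro x hx
    apply Subgroup.subset_closure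
    exact ⟨E.core.subtype, subtype_mem F (hEn.1.trans hTS), ⟨x, hx⟩, rfl⟩
  · exact le_sSup (Cfsg.Agent.Lib.Helper91.isNormal_inf_of_subsystem p hT F E hE.1 hE.2.2.1 hTsc hFn)

/-! ### Restriction of automorphisms -/

section Res

variable (F : FusionSystem S) {R P : Subgroup Ω}

/-- Restriction of the automorphisms in `Aut_F(P)` to an invariant subgroup `R ≤ P`. -/
def resAut (hRP : R ≤ P)
    (hinv : ∀ β ∈ F.autGroup P, ∀ x : P, (x : Ω) ∈ R → ((β x : P) : Ω) ∈ R) :
    F.autGroup P →* MulAut R where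
  toFun β :=
    { toFun := fun r => ⟨((β : MulAut P) ⟨r, hRP r.2⟩ : P), hinv β β.2 _ r.2⟩
      invFun := fun r => ⟨((β : MulAut P)⁻¹ ⟨r, hRP r.2⟩ : P),
        hinv _ ((F.autGroup P).inv_mem β.2) _ r.2⟩
      left_inv := fun r => by
        apply Subtype.ext
        show ((((β : MulAut P)⁻¹ ⟨(((β : MulAut P) ⟨r, hRP r.2⟩ : P) : Ω), _⟩ : P)) : Ω) = r
        have : (⟨(((β : MulAut P) ⟨r, hRP r.2⟩ : P) : Ω), hRP (hinv β β.2 _ r.2)⟩ : P) =
            (β : MulAut P) ⟨r, hRP r.2⟩ := rfl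
        rw [this, MulAut.inv_apply_self]
      right_inv := fun r => by
        apply Subtype.ext
        show ((((β : MulAut P) ⟨(((β : MulAut P)⁻¹ ⟨r, hRP r.2⟩ : P) : Ω), _⟩ : P)) : Ω) = r
        have : (⟨(((β : MulAut P)⁻¹ ⟨r, hRP r.2⟩ : P) : Ω),
            hRP (hinv _ ((F.autGroup P).inv_mem β.2) _ r.2)⟩ : P) = (β : MulAut P)⁻¹ ⟨r, hRP r.2⟩ := rfl
        rw [this, MulAut.apply_inv_self]
      map_mul' := fun r s => by
        apply Subtype.ext
        show (((β : MulAut P) ⟨(r * s : R), _⟩ : P) : Ω) = _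
        have : (⟨((r * s : R) : Ω), hRP (r * s).2⟩ : P) = ⟨r, hRP r.2⟩ * ⟨s, hRP s.2⟩ := rfl
        rw [this, map_mul]
        rfl }
  map_one' := by
    apply MulEquiv.ext
    intro r
    rfl
  map_mul' β γ := by
    apply MulEquiv.ext
    intro r
    rfl

theorem resAut_apply (hRP : R ≤ P)
    (hinv : ∀ β ∈ F.autGroup P, ∀ x : P, (x : Ω) ∈ R → ((β x : P) : Ω) ∈ R)
    (β : F.autGroup P) (r : R) :
    ((resAut F hRP hinv β r : R) : Ω) = (((β : MulAut P) ⟨r, hRP r.2⟩ : P) : Ω) := rfl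

theorem resAut_mem (hPS : P ≤ S) (hRP : R ≤ P)
    (hinv : ∀ β ∈ F.autGroup P, ∀ x : P, (x : Ω) ∈ R → ((β x : P) : Ω) ∈ R)
    (β : F.autGroup P) : resAut F hRP hinv β ∈ F.autGroup R := by
  rw [mem_autGroup_iff F (hRP.trans hPS)]
  have h1 := autGroup_hom_mem F hPS β.2
  exact hom_congr F (restrict_mem F hRP h1) (fun r => rfl)

theorem resAut_eq_one_iff (hRP : R ≤ P)
    (hinv : ∀ β ∈ F.autGroup P, ∀ x : P, (x : Ω) ∈ R → ((β x : P) : Ω) ∈ R)
    (β : F.autGroup P) :
    resAut F hRP hinv β = 1 ↔ ∀ r : R, (((β : MulAut P) ⟨r, hRP r.2⟩ : P) : Ω) = r := by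
  constructor
  · intro h r
    have := congrArg (fun a : MulAut R => ((a r : R) : Ω)) h
    exact this
  · intro h
    apply MulEquiv.ext
    intro r
    apply Subtype.ext
    exact h r

end Res

/-- Invariance of a strongly closed subgroup under the automizers of the subgroups containing it. -/
theorem stronglyClosed_aut_mem (F : FusionSystem S) {R P : Subgroup Ω} (hR : F.StronglyClosed R)
    (hPS : P ≤ S) (hRP : R ≤ P) :
    ∀ β ∈ F.autGroup P, ∀ x : P, (x : Ω) ∈ R → ((β x : P) : Ω) ∈ R := by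
  intro β hβ x hx
  have h1 := autGroup_hom_mem F hPS hβ
  have h2 := restrict_mem F hRP h1
  exact hR.2 R le_rfl _ h2 ⟨x, hx⟩

/-- If `Q` is normal in `F`, `R ≤ Q` is strongly closed and `Aut_F(Q)` is `p`-solvable then `Aut_F(R)` is
`p`-solvable. -/
theorem isPSolvable_autGroup_of_le_normal [Finite S] (p : ℕ) [Fact p.Prime] (hS : IsPGroup p S)
    (F : FusionSystem S) (hF : F.IsSaturated p) {Q R : Subgroup Ω} (hQ : F.IsNormal Q)
    (hR : F.StronglyClosed R) (hRQ : R ≤ Q) (h : IsPSolvable p (F.autGroup Q)) :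
    IsPSolvable p (F.autGroup R) := by
  have hQS : Q ≤ S := hQ.1
  have hinv := stronglyClosed_aut_mem F hR hQS hRQ
  have hmem : ∀ β : F.autGroup Q, resAut F hRQ hinv β ∈ F.autGroup R :=
    fun β => resAut_mem F hQS hRQ hinv β
  refine Cfsg.Agent.Lib.Helper15.IsPSolvable.of_surjective (Fact.out : p.Prime) h
    ((resAut F hRQ hinv).codRestrict _ hmem) ?_
  rintro ⟨α, hα⟩
  have hα' := autGroup_hom_mem F (hRQ.trans hQS) hα
  obtain ⟨β, hβ, hβx⟩ := (Cfsg.Agent.S5106.result p hS F hF Q hQS).mp hQ R hRQ _ hα'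
  refine ⟨⟨β, hβ⟩, Subtype.ext ?_⟩
  apply MulEquiv.ext
  intro r
  apply Subtype.ext
  exact hβx r

/-- Inheritance of the standing property by a constrained weakly normal subsystem. -/
theorem good_of_isWeaklyNormalIn [Finite S] (p : ℕ) [Fact p.Prime] (hS : IsPGroup p S)
    {F : FusionSystem S} (hF : Good p F) {E : FusionSystem T} (hE : E.IsWeaklyNormalIn F p)
    (hEc : E.IsConstrained p) : Good p E := by
  refine ⟨hEc, ?_⟩
  have hFsat : F.IsSaturated p := hE.2.1
  have hTsc : F.StronglyClosed T := hE.2.2.2.1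
  have hFn : F.IsNormal F.core := Cfsg.Agent.Lib.Helper88.isNormal_core F
  have hFsc := Cfsg.Agent.Lib.Helper89.IsNormal.stronglyClosed hFn
  rw [core_eq_inf hS hE]
  have hsc : F.StronglyClosed (F.core ⊓ T) := Cfsg.Agent.Lib.Helper88.stronglyClosed_inf hFsc hTsc
  have h1 := isPSolvable_autGroup_of_le_normal p hS F hFsat hFn hsc inf_le_left hF.2
  refine isPSolvable_of_le ?_ h1
  exact Cfsg.Agent.Lib.Helper88.autGroup_le_autGroup_of_isSubsystemOf E F hE.2.2.1 _

end Cfsg.Agent.Lib.Helper87.TRS
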