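import Cfsg.Agent.Lib.Helper87.TRS3
import Cfsg.Agent.Lib.Helper88.FusionFrat6

set_option autoImplicit false

/-!
Group-theoretic lemmas on `p`-groups of automorphisms, and the key fixed-point lemma: an automorphism of
order prime to `p` in the system which fixes a self-centralizing normal subgroup of the hyperfocal subgroup
elementwise is trivial.
-/

namespace Cfsg.Agent.Lib.Helper87.TRS

open Cfsg Cfsg.FusionSystem Cfsg.Agent.Lib.Helper87

section Grp

variable {p : ℕ} [hp : Fact p.Prime]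

/-- A finite group whose elements of order prime to `p` are trivial is a `p`-group. -/
theorem isPGroup_of_forall_coprime {X : Type*} [Group X] [Finite X]
    (h : ∀ g : X, (orderOf g).Coprime p → g = 1) : IsPGroup p X := by
  intro g
  have hpos : 0 < orderOf g := orderOf_pos g
  obtain ⟨k, m, hm, hkm⟩ := Nat.exists_eq_pow_mul_and_not_dvd hpos.ne' p hp.out.ne_one
  refine ⟨k, ?_⟩
  apply h
  have h1 : orderOf (g ^ p ^ k) = orderOf g / Nat.gcd (orderOf g) (p ^ k) := orderOf_pow g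
  have h2 : Nat.gcd (orderOf g) (p ^ k) = p ^ k := by
    rw [hkm]
    exact Nat.gcd_eq_right (Dvd.intro _ rfl)
  have h3 : orderOf (g ^ p ^ k) = m := by
    rw [h1, h2, hkm]
    exact Nat.mul_div_cancel_left m (pos_of_ne_zero (pow_ne_zero k hp.out.ne_zero))
  rw [h3]
  exact (Nat.Prime.coprime_iff_not_dvd hp.out).mpr hm |>.symm

/-- `O^{p'}(A)` has index prime to `p`. -/
theorem index_pElemGen_coprime {A : Type*} [Group A] [Finite A] :
    (Cfsg.Agent.Lib.Helper88.pElemGen p A).index.Coprime p := by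
  obtain ⟨P⟩ : Nonempty (Sylow p A) := inferInstance
  have hle : (P : Subgroup A) ≤ Cfsg.Agent.Lib.Helper88.pElemGen p A :=
    Cfsg.Agent.Lib.Helper88.le_pElemGen_of_isPGroup P.isPGroup'
  have hdvd : (Cfsg.Agent.Lib.Helper88.pElemGen p A).index ∣ (P : Subgroup A).index :=
    Subgroup.index_dvd_of_le hle
  have hnd : ¬ p ∣ (P : Subgroup A).index := P.not_dvd_index
  have hnd' : ¬ p ∣ (Cfsg.Agent.Lib.Helper88.pElemGen p A).index := fun h => hnd (h.trans hdvd)
  exact ((Nat.Prime.coprime_iff_not_dvd hp.out).mpr hnd').symm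

/-- If a Sylow `p`-subgroup lies in `O^p(X)` then `O^p(X) = X`. -/
theorem pResidual_eq_top_of_sylow_le {X : Type*} [Group X] [Finite X] (P : Sylow p X)
    (h : (P : Subgroup X) ≤ pResidual p X) : pResidual p X = ⊤ := by
  haveI := Cfsg.Agent.Lib.Helper42.pResidual_normal p X
  have hdvd : (pResidual p X).index ∣ (P : Subgroup X).index := Subgroup.index_dvd_of_le h
  have hnd : ¬ p ∣ (P : Subgroup X).index := P.not_dvd_index
  obtain ⟨k, hk⟩ := (Cfsg.Agent.Lib.Helper42.isPGroup_quotient_pResidual p X).exists_card_eq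
  have hidx : (pResidual p X).index = p ^ k := hk
  rw [← Subgroup.index_eq_one, hidx]
  rcases Nat.eq_zero_or_pos k with rfl | hkpos
  · simp
  · exfalso
    apply hnd
    refine dvd_trans ?_ hdvd
    rw [hidx]
    exact dvd_pow_self p hkpos.ne'

end Grp

section Fix

variable {Ω : Type*} [Group Ω] {S : Subgroup Ω}

theorem pow_apply_of_fix {V : Type*} [Group V] (γ : MulAut V) (x z : V) (h1 : γ x = x * z) (h2 : γ z = z)
    (n : ℕ) : (γ ^ n) x = x * z ^ n := by
  induction n with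
  | zero => simp
  | succ n ih =>
    rw [pow_succ', MulAut.mul_apply, ih, map_mul, map_pow, h1, h2, pow_succ', mul_assoc]

/-- The key fixed-point lemma. -/
theorem eq_one_of_fix [Finite S] {p : ℕ} [Fact p.Prime] (hS : IsPGroup p S) (E : FusionSystem S)
    {Q₀ V : Subgroup Ω} (hQV : Q₀ ≤ V) (hVS : V ≤ S)
    (hQn : ∀ s ∈ S, ∀ q ∈ Q₀, s * q * s⁻¹ ∈ Q₀)
    (hQc : centralizerIn (E.hyperfocalSubgroup p) Q₀ ≤ Q₀)
    (γ : MulAut V) (hγ : γ ∈ E.autGroup V) (hord : (orderOf γ).Coprime p)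
    (hfix : ∀ q : V, (q : Ω) ∈ Q₀ → γ q = q) : γ = 1 := by
  haveI : Finite V := finite_of_le hVS
  have hQS : Q₀ ≤ S := hQV.trans hVS
  haveI : Finite Q₀ := finite_of_le hQS
  have hQp : IsPGroup p Q₀ := hS.to_le hQS
  obtain ⟨k, hk⟩ := hQp.exists_card_eq
  -- the displacement of `x` lies in `Q₀` and is fixed
  have hz : ∀ x : V, ((x⁻¹ * γ x : V) : Ω) ∈ Q₀ := by
    intro x
    apply hQc
    rw [mem_centralizerIn]
    constructor
    · apply Subgroup.subset_closure
      refine ⟨V, ⟨γ, hγ⟩, x, hVS, ?_, rfl⟩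
      apply Subgroup.subset_closure
      show (orderOf (⟨γ, hγ⟩ : E.autGroup V)).Coprime p
      rw [← Subgroup.orderOf_coe]
      exact hord
    · intro q hq
      have hqV : q ∈ V := hQV hq
      have hq'' : (x : Ω) * q * (x : Ω)⁻¹ ∈ Q₀ := hQn _ (hVS x.2) q hq
      have e1 : γ ⟨q, hqV⟩ = ⟨q, hqV⟩ := hfix _ hq
      have e2 : γ (x * ⟨q, hqV⟩ * x⁻¹) = x * ⟨q, hqV⟩ * x⁻¹ := hfix _ hq''
      rw [map_mul, map_mul, map_inv, e1] at e2
      have e3 : ((γ x : V) : Ω) * q * ((γ x : V) : Ω)⁻¹ = (x : Ω) * q * (x : Ω)⁻¹ :=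
        congrArg Subtype.val e2
      show q * ((x : Ω)⁻¹ * ((γ x : V) : Ω)) = (x : Ω)⁻¹ * ((γ x : V) : Ω) * q
      calc q * ((x : Ω)⁻¹ * ((γ x : V) : Ω))
          = (x : Ω)⁻¹ * ((x : Ω) * q * (x : Ω)⁻¹) * ((γ x : V) : Ω) := by group
        _ = (x : Ω)⁻¹ * (((γ x : V) : Ω) * q * ((γ x : V) : Ω)⁻¹) * ((γ x : V) : Ω) := by rw [e3]
        _ = (x : Ω)⁻¹ * ((γ x : V) : Ω) * q := by group
  have hpow : γ ^ p ^ k = 1 := by
    apply MulEquiv.ext
    intro x
    have h1 : γ x = x * (x⁻¹ * γ x) := by group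
    have h2 : γ (x⁻¹ * γ x) = x⁻¹ * γ x := hfix _ (hz x)
    rw [pow_apply_of_fix γ x (x⁻¹ * γ x) h1 h2]
    have h3 : (x⁻¹ * γ x) ^ p ^ k = 1 := by
      have : (⟨((x⁻¹ * γ x : V) : Ω), hz x⟩ : Q₀) ^ Nat.card Q₀ = 1 := pow_card_eq_one'
      rw [hk] at this
      have h4 : (((x⁻¹ * γ x : V) : Ω)) ^ p ^ k = 1 := by
        have := congrArg Subtype.val this
        simpa using this
      apply Subtype.ext
      rw [Subgroup.coe_pow]
      exact h4
    rw [h3, mul_one]
    rfl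
  have hdvd : orderOf γ ∣ p ^ k := orderOf_dvd_of_pow_eq_one hpow
  have h1 : orderOf γ = 1 := Nat.Coprime.eq_one_of_dvd (Nat.Coprime.pow_right k hord) hdvd
  exact orderOf_eq_one_iff.mp h1

end Fix

end Cfsg.Agent.Lib.Helper87.TRS
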