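import Cfsg.Agent.Lib.Helper87.TRS4
import Cfsg.Agent.Lib.Helper88.FusionRD6
import Cfsg.Agent.Lib.Helper88.FusionRD7
import Cfsg.Agent.Lib.Helper88.FusionRD9

set_option autoImplicit false

/-!
Going up through a subsystem of index prime to `p`.
-/

namespace Cfsg.Agent.Lib.Helper87.TRS

open Cfsg Cfsg.FusionSystem Cfsg.Agent.Lib.Helper87

variable {Ω : Type*} [Group Ω] {S T : Subgroup Ω}

/-- In a constrained system the largest normal subgroup is centric. -/
theorem isCentric_core_of_isConstrained [Finite S] {p : ℕ} {F : FusionSystem S}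
    (hF : F.IsConstrained p) : F.IsCentric F.core := by
  obtain ⟨-, Q, hQn, hQc⟩ := hF
  have hle : Q ≤ F.core := le_sSup hQn
  exact isCentric_of_le F hQc hle (Cfsg.Agent.Lib.Helper88.isNormal_core F).1

/-- A normal subgroup containing its centralizer is centric. -/
theorem isCentric_of_isNormal_of_centralizerIn_le (F : FusionSystem S) {Q : Subgroup Ω}
    (hQ : F.IsNormal Q) (hc : centralizerIn S Q ≤ Q) : F.IsCentric Q := by
  refine ⟨hQ.1, fun Q' hQ' => ?_⟩
  have := Cfsg.Agent.Lib.Helper91.eq_of_isConj_of_isNormal F hQ hQ'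
  subst this
  exact hc

theorem isWeaklyNormalIn_of_isPPrimeResidual [Finite S] (p : ℕ) [Fact p.Prime] (hS : IsPGroup p S)
    (F : FusionSystem S) (hF : F.IsSaturated p) (E : FusionSystem S) (hE : F.IsPPrimeResidual p E) :
    E.IsWeaklyNormalIn F p :=
  ⟨hE.1, hF, Cfsg.Agent.Lib.Helper88.isInvariantIn_pPrimeResidual p hS F F hF
    (Cfsg.Agent.Lib.Helper88.isInvariantIn_self F) E hE⟩

theorem core_eq_of_isPPrimeResidual [Finite S] (p : ℕ) [Fact p.Prime] (hS : IsPGroup p S)
    (F : FusionSystem S) (hF : F.IsSaturated p) (E : FusionSystem S) (hE : F.IsPPrimeResidual p E) :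
    E.core = F.core := by
  rw [core_eq_inf hS (isWeaklyNormalIn_of_isPPrimeResidual p hS F hF E hE)]
  exact inf_eq_left.mpr (Cfsg.Agent.Lib.Helper88.isNormal_core F).1

/-- Going up through a subsystem of index prime to `p`. -/
theorem good_of_pPrimeResidual [Finite S] (p : ℕ) [hp : Fact p.Prime] (hS : IsPGroup p S)
    (F : FusionSystem S) (hF : F.IsSaturated p) (E : FusionSystem S) (hE : F.IsPPrimeResidual p E)
    (hG : Good p E) : Good p F := by
  have hcore := core_eq_of_isPPrimeResidual p hS F hF E hE
  have hFn : F.IsNormal F.core := Cfsg.Agent.Lib.Helper88.isNormal_core F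
  have hQS : F.core ≤ S := hFn.1
  have hEcen : E.IsCentric E.core := isCentric_core_of_isConstrained hG.1
  have hcen : centralizerIn S F.core ≤ F.core := by
    have := hEcen.2 E.core (Cfsg.Agent.Lib.Helper87.isConj_refl E hEcen.1)
    rw [hcore] at this
    exact this
  refine ⟨⟨hF, F.core, hFn, isCentric_of_isNormal_of_centralizerIn_le F hFn hcen⟩, ?_⟩
  -- `p`-solvability of the automizer
  have hEsolv : IsPSolvable p (E.autGroup F.core) := by
    have := hG.2
    rw [hcore] at this
    exact this
  haveI : Finite F.core := finite_of_le hQS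
  haveI : Finite (MulAut F.core) := inferInstance
  set A := F.autGroup F.core with hA
  set N := Cfsg.Agent.Lib.Helper88.pElemGen p A with hN
  haveI : N.Normal := Cfsg.Agent.Lib.Helper88.pElemGen_normal p
  have hle : N.map A.subtype ≤ E.autGroup F.core := hE.2.1.2 F.core hQS
  have h1 : IsPSolvable p (N.map A.subtype) := isPSolvable_of_le hle hEsolv
  have h2 : IsPSolvable p N :=
    isPSolvable_of_equiv (N.equivMapOfInjective A.subtype A.subtype_injective).symm h1
  refine isPSolvable_ext N h2 (isPSolvable_of_card (Or.inr ?_))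
  have : Nat.card (A ⧸ N) = N.index := rfl
  rw [this]
  exact index_pElemGen_coprime

end Cfsg.Agent.Lib.Helper87.TRS
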