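import Cfsg.Agent.Lib.Helper87.TRS5
import Cfsg.Agent.Lib.Helper88.FusionHyp2
import Cfsg.Agent.Lib.Helper88.FusionSolv2
import Cfsg.Agent.Lib.Helper88.FusionExtMod5
import Cfsg.Agent.Lib.Helper90.GTNormal
import Cfsg.Agent.S5120

set_option autoImplicit false

/-!
Going up through the subsystem of `p`-power index over the hyperfocal subgroup.
-/

namespace Cfsg.Agent.Lib.Helper87.TRS

open Cfsg Cfsg.FusionSystem Cfsg.Agent.Lib.Helper87

variable {Ω : Type*} [Group Ω] {S : Subgroup Ω}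

/-- The automorphisms of `V` fixing every element of `Q₀`. -/
def fixSub (Q₀ V : Subgroup Ω) : Subgroup (MulAut V) where
  carrier := {β | ∀ x : V, (x : Ω) ∈ Q₀ → β x = x}
  one_mem' := fun x _ => rfl
  mul_mem' := fun {a b} ha hb x hx => by rw [MulAut.mul_apply, hb x hx, ha x hx]
  inv_mem' := fun {a} ha x hx => by
    have h := ha x hx
    calc a⁻¹ x = a⁻¹ (a x) := by rw [h]
      _ = x := by simp

theorem mem_fixSub {Q₀ V : Subgroup Ω} {β : MulAut V} :
    β ∈ fixSub Q₀ V ↔ ∀ x : V, (x : Ω) ∈ Q₀ → β x = x := Iff.rfl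

theorem isPGroup_fixSub_inf [Finite S] {p : ℕ} [Fact p.Prime] (hS : IsPGroup p S) (E : FusionSystem S)
    {Q₀ V : Subgroup Ω} (hQV : Q₀ ≤ V) (hVS : V ≤ S)
    (hQn : ∀ s ∈ S, ∀ q ∈ Q₀, s * q * s⁻¹ ∈ Q₀)
    (hQc : centralizerIn (E.hyperfocalSubgroup p) Q₀ ≤ Q₀) :
    IsPGroup p ↥(fixSub Q₀ V ⊓ E.autGroup V) := by
  haveI : Finite V := finite_of_le hVS
  apply isPGroup_of_forall_coprime
  intro g hg
  have h1 : (orderOf (g : MulAut V)).Coprime p := by
    rw [Subgroup.orderOf_coe]; exact hg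
  have h2 := eq_one_of_fix hS E hQV hVS hQn hQc (g : MulAut V) g.2.2 h1 (fun q hq => g.2.1 q hq)
  exact Subtype.ext h2

theorem fixSub_inf_conj_mem (E : FusionSystem S) {Q₀ V : Subgroup Ω}
    (hinv : ∀ β ∈ E.autGroup V, ∀ x : V, (x : Ω) ∈ Q₀ → ((β x : V) : Ω) ∈ Q₀) :
    ∀ α ∈ E.autGroup V, ∀ β ∈ fixSub Q₀ V ⊓ E.autGroup V, α * β * α⁻¹ ∈ fixSub Q₀ V ⊓ E.autGroup V := by
  intro α hα β hβ
  refine ⟨fun x hx => ?_, (E.autGroup V).mul_mem ((E.autGroup V).mul_mem hα hβ.2) ((E.autGroup V).inv_mem hα)⟩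
  rw [MulAut.mul_apply, MulAut.mul_apply]
  have h1 : ((α⁻¹ x : V) : Ω) ∈ Q₀ := hinv α⁻¹ ((E.autGroup V).inv_mem hα) x hx
  rw [hβ.1 _ h1]
  simp

/-- Going up through the subsystem of `p`-power index over the hyperfocal subgroup. -/
theorem good_of_pResidual [Finite S] (p : ℕ) [hp : Fact p.Prime] (hS : IsPGroup p S)
    (E : FusionSystem S) (hE : E.IsSaturated p) (D : FusionSystem (E.hyperfocalSubgroup p))
    (hD : E.IsPResidual p D) (hG : Good p D) : Good p E := by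
  have hTsc : E.StronglyClosed (E.hyperfocalSubgroup p) :=
    Cfsg.Agent.Lib.Helper88.stronglyClosed_hyperfocalSubgroup p hS E hE
  have hTS : E.hyperfocalSubgroup p ≤ S := hTsc.1
  haveI : Finite (E.hyperfocalSubgroup p) := finite_of_le hTS
  have hTn : ((E.hyperfocalSubgroup p).subgroupOf S).Normal :=
    Cfsg.Agent.Lib.Helper88.normal_subgroupOf_of_stronglyClosed hTsc
  have hDn : D.IsNormalIn E p :=
    Cfsg.Agent.S5120.result p hS E hE (E.hyperfocalSubgroup p) hTS hTn le_rfl D hD.1 hD.2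
  have hDw : D.IsWeaklyNormalIn E p := hDn.1
  have hcoreD : D.core = E.core ⊓ E.hyperfocalSubgroup p := core_eq_inf hS hDw
  have hQn : E.IsNormal E.core := Cfsg.Agent.Lib.Helper88.isNormal_core E
  have hQS : E.core ≤ S := hQn.1
  have hQsc := Cfsg.Agent.Lib.Helper89.IsNormal.stronglyClosed hQn
  set Q₀ := E.core ⊓ E.hyperfocalSubgroup p with hQ₀
  have hQ₀sc : E.StronglyClosed Q₀ := Cfsg.Agent.Lib.Helper88.stronglyClosed_inf hQsc hTsc
  have hQ₀n : E.IsNormal Q₀ :=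
    Cfsg.Agent.Lib.Helper90.GT.isNormal_of_le_of_stronglyClosed E hQn hQ₀sc inf_le_left
  have hQ₀S : Q₀ ≤ S := hQ₀sc.1
  have hDcen : D.IsCentric D.core := isCentric_core_of_isConstrained hG.1
  have hcT : centralizerIn (E.hyperfocalSubgroup p) Q₀ ≤ Q₀ := by
    have := hDcen.2 D.core (isConj_refl D hDcen.1)
    rwa [hcoreD] at this
  have hconj : ∀ s ∈ S, ∀ q ∈ Q₀, s * q * s⁻¹ ∈ Q₀ :=
    Cfsg.Agent.Lib.Helper91.stronglyClosed_conj_mem' E hQ₀sc
  -- `Q₀ C_S(Q₀)` is normal in `E`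
  have hCsc : E.StronglyClosed (centralizerIn S Q₀) :=
    Cfsg.Agent.Lib.Helper88.stronglyClosed_centralizerIn_of_isNormal hQ₀n
  have hRsc : E.StronglyClosed (Q₀ ⊔ centralizerIn S Q₀) :=
    Cfsg.Agent.Lib.Helper88.stronglyClosed_sup p hS E hE hQ₀sc hCsc
  have hR : E.IsNormal (Q₀ ⊔ centralizerIn S Q₀) := by
    rw [Cfsg.Agent.S5086.result p hS E hE]
    refine ⟨hRsc, fun V hVc hVr => ?_⟩
    have hVS : V ≤ S := hVc.1
    have hQ₀V : Q₀ ≤ V := Cfsg.Agent.Lib.Helper89.IsNormal.le_of_centric_radical hS hQ₀n hVc hVr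
    refine sup_le hQ₀V ?_
    by_contra hCV
    obtain ⟨g, hgC, hgn, hgV⟩ := Cfsg.Agent.Lib.Helper90.exists_normalizer_not_mem hS
      (centralizerIn_le S Q₀) hVS (Cfsg.Agent.Lib.Helper91.stronglyClosed_conj_mem' E hCsc) hCV
    apply hgV
    have hgS : g ∈ S := (centralizerIn_le S Q₀) hgC
    have hinv := stronglyClosed_aut_mem E hQ₀sc hVS hQ₀V
    have hmem : conjAut V g hgn ∈ (fixSub Q₀ V ⊓ E.autGroup V) ⊓ E.autGroup V := by
      have hE' : conjAut V g hgn ∈ E.autGroup V :=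
        autInducedBy_le_autGroup E hVS (conjAut_mem_autInducedBy hgS hgn)
      refine ⟨⟨fun x hx => ?_, hE'⟩, hE'⟩
      apply Subtype.ext
      rw [conjAut_apply]
      have := (mem_centralizerIn.mp hgC).2 (x : Ω) hx
      rw [← this]
      group
    have hInn := Cfsg.Agent.Lib.Helper91.inf_autGroup_le_inn_of_isRadical E hVr
      (fixSub Q₀ V ⊓ E.autGroup V) (isPGroup_fixSub_inf hS E hQ₀V hVS hconj hcT)
      (fixSub_inf_conj_mem E hinv) hmem
    have hmem' : Cfsg.Agent.Lib.Helper89.conjAut V g hgn ∈ Inn V := by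
      have : Cfsg.Agent.Lib.Helper89.conjAut V g hgn = conjAut V g hgn := by
        ext x; rfl
      rw [this]; exact hInn
    exact Cfsg.Agent.Lib.Helper89.mem_of_conjAut_mem_inn E hVc hgS hgn hmem'
  have hRle : Q₀ ⊔ centralizerIn S Q₀ ≤ E.core := le_sSup hR
  have hcen : centralizerIn S E.core ≤ E.core := by
    intro g hg
    apply hRle
    apply (le_sup_right : centralizerIn S Q₀ ≤ Q₀ ⊔ centralizerIn S Q₀)
    rw [mem_centralizerIn] at hg ⊢
    exact ⟨hg.1, fun x hx => hg.2 x hx.1⟩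
  refine ⟨⟨hE, E.core, hQn, isCentric_of_isNormal_of_centralizerIn_le E hQn hcen⟩, ?_⟩
  -- `p`-solvability
  haveI : Finite E.core := finite_of_le hQS
  haveI : Finite Q₀ := finite_of_le hQ₀S
  have hinvQ := stronglyClosed_aut_mem E hQ₀sc hQS (inf_le_left : Q₀ ≤ E.core)
  have h1 : IsPSolvable p (E.autGroup Q₀) := by
    apply isPSolvable_of_pResidual
    have hle : (pResidual p (E.autGroup Q₀)).map (E.autGroup Q₀).subtype ≤ D.autGroup Q₀ :=
      hD.2.2.2 Q₀ inf_le_right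
    have hDs : IsPSolvable p (D.autGroup Q₀) := by
      have := hG.2
      rwa [hcoreD] at this
    exact isPSolvable_of_equiv
      ((pResidual p (E.autGroup Q₀)).equivMapOfInjective _ (Subgroup.subtype_injective _)).symm
      (isPSolvable_of_le hle hDs)
  have h2 : IsPSolvable p (resAut E inf_le_left hinvQ).range := by
    refine isPSolvable_of_le ?_ h1
    rintro _ ⟨β, rfl⟩
    exact resAut_mem E hQS inf_le_left hinvQ β
  have hkp : IsPGroup p (resAut E inf_le_left hinvQ).ker := by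
    apply isPGroup_of_forall_coprime
    intro g hg
    have h3 : (orderOf ((g : E.autGroup E.core) : MulAut E.core)).Coprime p := by
      rw [Subgroup.orderOf_coe, Subgroup.orderOf_coe]; exact hg
    have h4 := (resAut_eq_one_iff E inf_le_left hinvQ (g : E.autGroup E.core)).mp g.2
    have h5 := eq_one_of_fix hS E (inf_le_left : Q₀ ≤ E.core) hQS hconj hcT
      ((g : E.autGroup E.core) : MulAut E.core) (g : E.autGroup E.core).2 h3
      (fun q hq => Subtype.ext (h4 ⟨q, hq⟩))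
    exact Subtype.ext (Subtype.ext h5)
  refine isPSolvable_of_surjective_of_card_ker (resAut E inf_le_left hinvQ).rangeRestrict
    (resAut E inf_le_left hinvQ).rangeRestrict_surjective (Or.inl ?_) h2
  rw [MonoidHom.ker_rangeRestrict]
  exact hkp.exists_card_eq

end Cfsg.Agent.Lib.Helper87.TRS
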