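import Cfsg.Agent.Lib.Helper87.TRS6

set_option autoImplicit false

/-!
A terminating residual series forces the standing property.
-/

namespace Cfsg.Agent.Lib.Helper87.TRS

open Cfsg Cfsg.FusionSystem Cfsg.Agent.Lib.Helper87

variable {Ω : Type*} [Group Ω]

theorem good_of_eq_bot {S : Subgroup Ω} {p : ℕ} [hp : Fact p.Prime] (F : FusionSystem S)
    (hF : F.IsSaturated p) (hS : S = ⊥) : Good p F := by
  subst hS
  haveI : Finite (⊥ : Subgroup Ω) := inferInstance
  have hn : F.IsNormal F.core := Cfsg.Agent.Lib.Helper88.isNormal_core F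
  have hcb : F.core = ⊥ := le_bot_iff.mp hn.1
  refine ⟨⟨hF, F.core, hn, isCentric_of_isNormal_of_centralizerIn_le F hn ?_⟩, ?_⟩
  · rw [hcb]; exact centralizerIn_le _ _
  · apply isPSolvable_of_card
    left
    refine ⟨0, ?_⟩
    rw [pow_zero]
    haveI : Subsingleton (F.core) := by
      rw [hcb]; infer_instance
    haveI : Subsingleton (MulAut F.core) := ⟨fun a b => by ext x; exact congrArg _ (Subsingleton.elim _ _)⟩
    exact Nat.card_unique

theorem good_of_hasTerminatingResidualSeries {S : Subgroup Ω} (F : FusionSystem S) (p : ℕ)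
    (h : F.HasTerminatingResidualSeries p) :
    ∀ [Fact p.Prime], Finite S → IsPGroup p S → F.IsSaturated p → Good p F := by
  induction h with
  | @trivial S F p hS =>
    intro _ _ _ hF
    exact good_of_eq_bot F hF hS
  | @step S F E p D hFE hED _ ih =>
    intro _ hfin hS hF
    have hTS : E.hyperfocalSubgroup p ≤ S := Cfsg.Agent.Lib.Helper88.hyperfocalSubgroup_le E p
    have hDg : Good p D := ih (haveI := hfin; finite_of_le hTS) (hS.to_le hTS) hED.1
    haveI := hfin
    have hEg : Good p E := good_of_pResidual p hS E hFE.1 D hED hDg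
    exact good_of_pPrimeResidual p hS F hF E hFE hEg

end Cfsg.Agent.Lib.Helper87.TRS
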