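import Cfsg.Agent.Lib.Helper87.TRS7

set_option autoImplicit false

/-!
The hyperfocal subgroup of a system with a normal subgroup `Q` lies in the preimage of `O^p(Aut(Q))`.
-/

namespace Cfsg.Agent.Lib.Helper87.TRS

open Cfsg Cfsg.FusionSystem Cfsg.Agent.Lib.Helper87

variable {Ω : Type*} [Group Ω] {S : Subgroup Ω}

/-- To bound the hyperfocal subgroup it suffices to treat automorphisms of order prime to `p`. -/
theorem hyperfocal_le_of_coprime_gen (E : FusionSystem S) (p : ℕ) (U : Subgroup Ω)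
    (h : ∀ (P : Subgroup Ω), P ≤ S → ∀ β : E.autGroup P, (orderOf β).Coprime p →
      ∀ x : P, (x : Ω)⁻¹ * (((β : MulAut P) x : P) : Ω) ∈ U) :
    E.hyperfocalSubgroup p ≤ U := by
  unfold hyperfocalSubgroup
  rw [Subgroup.closure_le]
  rintro y ⟨P, α, x, hPS, hα, rfl⟩
  have key : ∀ α : E.autGroup P, α ∈ Cfsg.pResidual p _ →
      ∀ x : P, (x : Ω)⁻¹ * (((α : MulAut P) x : P) : Ω) ∈ U := by
    intro α hα
    unfold Cfsg.pResidual at hα
    induction hα using Subgroup.closure_induction with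
    | mem β hβ => exact h P hPS β hβ
    | one =>
      intro x
      simp
    | mul a b _ _ ha hb =>
      intro x
      have h3 : (x : Ω)⁻¹ * ((((a * b : E.autGroup P) : MulAut P) x : P) : Ω)
          = ((x : Ω)⁻¹ * (((b : MulAut P) x : P) : Ω)) *
            ((((b : MulAut P) x : P) : Ω)⁻¹ * (((a : MulAut P) ((b : MulAut P) x) : P) : Ω)) := by
        simp [mul_assoc]
      rw [h3]
      exact Subgroup.mul_mem _ (hb x) (ha _)
    | inv a _ ha =>
      intro x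
      have h4 := ha ((a : MulAut P)⁻¹ x)
      have h5 : (a : MulAut P) ((a : MulAut P)⁻¹ x) = x := by simp
      rw [h5] at h4
      have h3 : (x : Ω)⁻¹ * ((((a⁻¹ : E.autGroup P) : MulAut P) x : P) : Ω)
          = ((((a : MulAut P)⁻¹ x : P) : Ω)⁻¹ * (x : Ω))⁻¹ := by
        simp
      rw [h3]
      exact Subgroup.inv_mem _ h4
  exact key α hα x

/-- The compatibility relation between an automorphism of `P` and one of `Q`, where `P` normalizes `Q`. -/
def Rel {P Q : Subgroup Ω} (hPn : ∀ x ∈ P, ∀ q ∈ Q, x * q * x⁻¹ ∈ Q) (β : MulAut P) (ψ : MulAut Q) : Prop :=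
  ∀ (x : P) (q : Q), ((β x : P) : Ω) * ((ψ q : Q) : Ω) * ((β x : P) : Ω)⁻¹ =
    ((ψ ⟨(x : Ω) * q * (x : Ω)⁻¹, hPn x x.2 q q.2⟩ : Q) : Ω)

theorem Rel.mul {P Q : Subgroup Ω} {hPn : ∀ x ∈ P, ∀ q ∈ Q, x * q * x⁻¹ ∈ Q} {β β' : MulAut P}
    {ψ ψ' : MulAut Q} (h : Rel hPn β ψ) (h' : Rel hPn β' ψ') : Rel hPn (β * β') (ψ * ψ') := by
  intro x q
  rw [MulAut.mul_apply, MulAut.mul_apply, h (β' x) (ψ' q), MulAut.mul_apply]
  congr 2
  exact Subtype.ext (h' x q)

theorem Rel.one {P Q : Subgroup Ω} (hPn : ∀ x ∈ P, ∀ q ∈ Q, x * q * x⁻¹ ∈ Q) :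
    Rel hPn (1 : MulAut P) (1 : MulAut Q) := fun _ _ => rfl

theorem Rel.pow {P Q : Subgroup Ω} {hPn : ∀ x ∈ P, ∀ q ∈ Q, x * q * x⁻¹ ∈ Q} {β : MulAut P}
    {ψ : MulAut Q} (h : Rel hPn β ψ) (n : ℕ) : Rel hPn (β ^ n) (ψ ^ n) := by
  induction n with
  | zero => simpa using Rel.one hPn
  | succ n ih => rw [pow_succ, pow_succ]; exact ih.mul h

/-- An automorphism in the system extends compatibly to a normal subgroup. -/
theorem exists_rel_of_isNormal (E : FusionSystem S) {Q P : Subgroup Ω} (hQ : E.IsNormal Q) (hPS : P ≤ S)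
    (hPn : ∀ x ∈ P, ∀ q ∈ Q, x * q * x⁻¹ ∈ Q) (β : MulAut P) (hβ : β ∈ E.autGroup P) :
    ∃ ψ ∈ E.autGroup Q, Rel hPn β ψ := by
  have hφ := (mem_autGroup_iff E hPS).mp hβ
  obtain ⟨ψ, hψ, hψP, hψQ⟩ := hQ.2 P _ hφ
  have hψQF : ψ.comp (Subgroup.inclusion (le_sup_right : Q ≤ P ⊔ Q)) ∈ E.Hom Q :=
    restrict_mem E le_sup_right hψ
  have hrange : (ψ.comp (Subgroup.inclusion (le_sup_right : Q ≤ P ⊔ Q))).range = Q := by
    ext y
    constructor
    · rintro ⟨x, rfl⟩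
      have : ψ (Subgroup.inclusion le_sup_right x) ∈ (Q.subgroupOf (P ⊔ Q)).map ψ := by
        refine ⟨Subgroup.inclusion le_sup_right x, ?_, rfl⟩
        show _ ∈ Q.subgroupOf (P ⊔ Q)
        rw [Subgroup.mem_subgroupOf]
        exact x.2
      rw [hψQ] at this
      exact this
    · intro hy
      have hy' : y ∈ (Q.subgroupOf (P ⊔ Q)).map ψ := by rw [hψQ]; exact hy
      obtain ⟨w, hw, rfl⟩ := hy'
      have hw' : w ∈ Q.subgroupOf (P ⊔ Q) := hw
      rw [Subgroup.mem_subgroupOf] at hw'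
      exact ⟨⟨w, hw'⟩, rfl⟩
  refine ⟨homEquiv E hψQF hrange, homEquiv_mem_autGroup E hψQF hrange, fun x q => ?_⟩
  rw [homEquiv_apply, homEquiv_apply]
  have h1 : ((β x : P) : Ω) = ψ (Subgroup.inclusion le_sup_left x) := (hψP x).symm
  rw [h1]
  show ψ (Subgroup.inclusion le_sup_left x) * ψ (Subgroup.inclusion le_sup_right q) *
    (ψ (Subgroup.inclusion le_sup_left x))⁻¹ = ψ (Subgroup.inclusion le_sup_right _)
  rw [← map_inv, ← map_mul, ← map_mul]
  congr 1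

end Cfsg.Agent.Lib.Helper87.TRS
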