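import Cfsg.Agent.Lib.Helper87.TRS8

set_option autoImplicit false

/-!
The hyperfocal subgroup lies in the preimage of `O^p(Aut_E(Q))` for `Q` normal in `E`.
-/

namespace Cfsg.Agent.Lib.Helper87.TRS

open Cfsg Cfsg.FusionSystem Cfsg.Agent.Lib.Helper87

variable {Ω : Type*} [Group Ω] {S : Subgroup Ω}

theorem mem_normalizer_of_forall_conj {Q : Subgroup Ω} (hQconj : ∀ s ∈ S, ∀ q ∈ Q, s * q * s⁻¹ ∈ Q)
    {x : Ω} (hx : x ∈ S) : x ∈ Subgroup.normalizer (Q : Set Ω) := by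
  rw [Subgroup.mem_normalizer_iff]
  intro q
  refine ⟨hQconj x hx q, fun h => ?_⟩
  have := hQconj x⁻¹ (S.inv_mem hx) _ h
  simpa [mul_assoc] using this

theorem hyperfocal_le_autPreimage [Finite S] (p : ℕ) [hp : Fact p.Prime] (E : FusionSystem S)
    {Q : Subgroup Ω} (hQ : E.IsNormal Q) (hQconj : ∀ s ∈ S, ∀ q ∈ Q, s * q * s⁻¹ ∈ Q) :
    E.hyperfocalSubgroup p ≤ Cfsg.Agent.Lib.Helper91.autPreimage S Q
      ((pResidual p (E.autGroup Q)).map (E.autGroup Q).subtype) := by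
  have hQS : Q ≤ S := hQ.1
  haveI : Finite Q := finite_of_le hQS
  haveI hn := Cfsg.Agent.Lib.Helper42.pResidual_normal p (E.autGroup Q)
  apply hyperfocal_le_of_coprime_gen
  intro P hPS β hβ x
  have hPn : ∀ x ∈ P, ∀ q ∈ Q, x * q * x⁻¹ ∈ Q := fun x hx q hq => hQconj x (hPS hx) q hq
  obtain ⟨ψ, hψ, hrel⟩ := exists_rel_of_isNormal E hQ hPS hPn (β : MulAut P) β.2
  have hpos : Nat.card (MulAut Q) ≠ 0 := Nat.card_pos.ne'
  obtain ⟨a, m, hm, hcard⟩ := Nat.exists_eq_pow_mul_and_not_dvd hpos p hp.out.ne_one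
  have hmp : Nat.Coprime m p := ((Nat.Prime.coprime_iff_not_dvd hp.out).mpr hm).symm
  have hβ' : (orderOf (β : MulAut P)).Coprime p := by
    rw [Subgroup.orderOf_coe]; exact hβ
  have hc : (p ^ a).Coprime (orderOf (β : MulAut P)) := (Nat.Coprime.pow_right a hβ').symm
  obtain ⟨m', hm'⟩ := exists_pow_eq_self_of_coprime hc
  have hβj : (β : MulAut P) ^ (p ^ a * m') = β := by rw [pow_mul]; exact hm'
  set γ : MulAut Q := ψ ^ (p ^ a * m') with hγ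
  have hrelj : Rel hPn (β : MulAut P) γ := by
    have := hrel.pow (p ^ a * m')
    rwa [hβj] at this
  have hγm : γ ^ m = 1 := by
    rw [hγ, ← pow_mul]
    have : p ^ a * m' * m = Nat.card (MulAut Q) * m' := by rw [hcard]; ring
    rw [this, pow_mul, pow_card_eq_one', one_pow]
  have hγord : (orderOf γ).Coprime p :=
    Nat.Coprime.coprime_dvd_left (orderOf_dvd_of_pow_eq_one hγm) hmp
  have hγA : γ ∈ E.autGroup Q := Subgroup.pow_mem _ hψ _
  have hxS : (x : Ω) ∈ S := hPS x.2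
  have hxn : (x : Ω) ∈ Subgroup.normalizer (Q : Set Ω) := mem_normalizer_of_forall_conj hQconj hxS
  have hcA : conjAut Q (x : Ω) hxn ∈ E.autGroup Q :=
    autInducedBy_le_autGroup E hQS (conjAut_mem_autInducedBy hxS hxn)
  set c' : E.autGroup Q := ⟨conjAut Q (x : Ω) hxn, hcA⟩ with hc'
  set γ' : E.autGroup Q := ⟨γ, hγA⟩ with hγ'
  have hγ'mem : γ' ∈ pResidual p (E.autGroup Q) := by
    apply Subgroup.subset_closure
    show (orderOf γ').Coprime p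
    rw [← Subgroup.orderOf_coe]
    exact hγord
  have hb : c'⁻¹ * γ' * c' * γ'⁻¹ ∈ pResidual p (E.autGroup Q) := by
    have h1 := hn.conj_mem γ' hγ'mem c'⁻¹
    rw [inv_inv] at h1
    exact Subgroup.mul_mem _ h1 (Subgroup.inv_mem _ hγ'mem)
  have hyS : (x : Ω)⁻¹ * (((β : MulAut P) x : P) : Ω) ∈ S :=
    S.mul_mem (S.inv_mem hxS) (hPS (Subtype.prop _))
  refine ⟨hyS, ((c'⁻¹ * γ' * c' * γ'⁻¹ : E.autGroup Q) : MulAut Q), ⟨_, hb, rfl⟩, fun q => ?_⟩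
  -- compute
  show (((conjAut Q (x : Ω) hxn)⁻¹ * γ * conjAut Q (x : Ω) hxn * γ⁻¹) q : Ω) = _
  rw [MulAut.mul_apply, MulAut.mul_apply, MulAut.mul_apply]
  set q' : Q := γ⁻¹ q with hq'
  have hγq' : γ q' = q := by rw [hq']; simp
  have h1 : conjAut Q (x : Ω) hxn q' = ⟨(x : Ω) * q' * (x : Ω)⁻¹, hPn x x.2 q' q'.2⟩ := Subtype.ext rfl
  rw [h1]
  have h2 := hrelj x q'
  rw [hγq'] at h2
  set w : Q := γ ⟨(x : Ω) * q' * (x : Ω)⁻¹, hPn x x.2 q' q'.2⟩ with hw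
  set z : Q := (conjAut Q (x : Ω) hxn)⁻¹ w with hz
  have h3 : conjAut Q (x : Ω) hxn z = w := by rw [hz]; simp
  have h4 : (x : Ω) * (z : Ω) * (x : Ω)⁻¹ = (w : Ω) := by
    rw [← h3]; rfl
  have h5 : (z : Ω) = (x : Ω)⁻¹ * (w : Ω) * (x : Ω) := by
    rw [← h4]; group
  rw [h5, ← h2]
  group

end Cfsg.Agent.Lib.Helper87.TRS
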