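import Cfsg.Agent.Lib.Helper87.BisetFocal

set_option autoImplicit false

/-!
The transfer of a characteristic biset at a weakly central element (an element of the centre of `S` all of whose
powers are fixed by every map of the system whose image contains them).
-/

namespace Cfsg.Agent.Lib.Helper87.Tate

open Cfsg Cfsg.FusionSystem Cfsg.Agent.Lib.Helper87

/-- An element of the centre of `S` is weakly central in `F`: a map of `F` can send an element to a power of `z` only if
that element is this power. -/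
def WeaklyCentral {Ω : Type*} [Group Ω] {S : Subgroup Ω} (F : FusionSystem S) (z : ↥S) : Prop :=
  z ∈ Subgroup.center ↥S ∧
    ∀ (R : Subgroup Ω) (ρ : R →* Ω), ρ ∈ F.Hom R → ∀ (r : R) (n : ℤ),
      ρ r = ((z ^ n : ↥S) : Ω) → (r : Ω) = ((z ^ n : ↥S) : Ω)

/-- **The transfer at a weakly central element.**  For every homomorphism `κ` of `S` into an abelian group there is a
homomorphism `t` killing the focal subgroup with `t z = κ(z)^{-k}`, where `k` is prime to `p`. -/
theorem exists_transfer {Ω : Type*} [Group Ω] {S : Subgroup Ω} [Finite S] (p : ℕ) [Fact p.Prime]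
    (hS : IsPGroup p S) (F : FusionSystem S) (hF : F.IsSaturated p) {z : ↥S} (hz : WeaklyCentral F z)
    {A : Type*} [CommGroup A] (κ : ↥S →* A) :
    ∃ (t : ↥S →* A) (k : ℕ), ¬ p ∣ k ∧ (∀ y : ↥S, (y : Ω) ∈ F.focalSubgroup → t y = 1) ∧
      t z = (κ z ^ k)⁻¹ := by
  classical
  obtain ⟨m, hm, hbal, k, hk, hpk⟩ := exists_characteristic_bset p hS F hF
  have hfree : ∀ (t : ↥S) (x : BSet m), (((1 : ↥S), t) : ↥S × ↥S) • x = x → t = 1 := bset_free F m hm
  obtain ⟨hzcent, hweak⟩ := hz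
  set zc : Subgroup.center ↥S := ⟨z, hzcent⟩ with hzc'
  set ζ : rightAut ↥S (BSet m) := centralAut zc with hζ
  -- the powers of `ζ` never move a point inside its orbit
  have hζfree : IsOrbFree ζ := by
    intro n x t h
    rw [hζ, pw_centralAut] at h
    set w : ↥S := ((zc ^ n : Subgroup.center ↥S) : ↥S) with hw
    have hwz : w = z ^ n := by
      rw [hw, Subgroup.coe_zpow]
    have hst : ((w, t⁻¹ * w) : ↥S × ↥S) ∈ MulAction.stabilizer (↥S × ↥S) x := by
      rw [MulAction.mem_stabilizer_iff]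
      have : ((w, t⁻¹ * w) : ↥S × ↥S) = (((1 : ↥S), t⁻¹) : ↥S × ↥S) * ((w, w) : ↥S × ↥S) := by simp
      rw [this, mul_smul, h, smul_smul]
      have : ((((1 : ↥S), t⁻¹) : ↥S × ↥S) * (((1 : ↥S), t) : ↥S × ↥S)) = 1 := by simp
      rw [this, one_smul]
    have htw : MulAction.stabilizer (↥S × ↥S) x ∈ twisted F :=
      bset_stabilizer_mem (twisted F) (fun K D h hK => twisted_of_sconj F h hK) m hm x
    obtain ⟨R, ρ, hρ, hD⟩ := htw
    obtain ⟨r, e1, e2⟩ := (hD _).mp hst
    have e1' : (w : Ω) = ρ r := e1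
    have e2' : ((t⁻¹ * w : ↥S) : Ω) = r := e2
    have h4 : (r : Ω) = ((z ^ n : ↥S) : Ω) := by
      apply hweak R ρ hρ r n
      rw [← e1', hwz]
    have h5 : ((t⁻¹ * w : ↥S) : Ω) = w := by rw [e2', h4, hwz]
    have h6 : t⁻¹ * w = w := Subtype.ext h5
    have h7 : t⁻¹ = 1 := mul_right_cancel (h6.trans (one_mul w).symm)
    exact inv_eq_one.mp h7
  obtain ⟨σ, hσ, hσζ⟩ := exists_adapted_section ζ hζfree
  haveI : Fintype (RightOrb ↥S (BSet m)) := Fintype.ofFinite _
  set τ := transferHom hσ hfree κ with hτ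
  set t : ↥S →* A := τ.comp (leftHom ↥S (BSet m)) with ht
  -- `t` is stable
  have hstable : ∀ (P : Subgroup Ω) (φ : P →* Ω) (hφ : φ ∈ F.Hom P) (u : P),
      t ⟨φ u, hom_mem F hφ u⟩ = t ⟨u, hom_le F hφ u.2⟩ := by
    intro P φ hφ u
    obtain ⟨g, hg⟩ := exists_conj_of_balanced F m hm hbal (hom_le F hφ) hφ (hom_mem F hφ)
    show τ (leftHom ↥S (BSet m) ⟨φ u, _⟩) = τ (leftHom ↥S (BSet m) ⟨u, _⟩)
    rw [hg u, map_mul, map_mul, map_inv, mul_comm, ← mul_assoc, inv_mul_cancel, one_mul]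
  -- the focal subgroup lies in the kernel
  have hfoc : F.focalSubgroup ≤ t.ker.map S.subtype := by
    unfold focalSubgroup
    rw [Subgroup.closure_le]
    rintro y ⟨P, φ, x, hφ, rfl⟩
    refine ⟨⟨x, hom_le F hφ x.2⟩⁻¹ * ⟨φ x, hom_mem F hφ x⟩, ?_, rfl⟩
    show t _ = 1
    rw [map_mul, map_inv, hstable P φ hφ x, inv_mul_cancel]
  -- the number of orbits
  have hcardI : Fintype.card (RightOrb ↥S (BSet m)) = k := by
    have h1 := card_eq_card_rightOrb_mul hσ hfree
    rw [hk, mul_comm, Nat.card_eq_fintype_card (α := RightOrb ↥S (BSet m))] at h1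
    exact (Nat.eq_of_mul_eq_mul_right Nat.card_pos h1).symm
  refine ⟨t, k, hpk, ?_, ?_⟩
  · intro y hy
    obtain ⟨y', hy'ker, hy'y⟩ := hfoc hy
    have : y' = y := Subtype.ext hy'y
    rw [this] at hy'ker
    exact hy'ker
  · show τ (leftHom ↥S (BSet m) ((zc : Subgroup.center ↥S) : ↥S)) = _
    rw [leftHom_eq_central, map_mul, map_inv, hτ, transferHom_eq_one_of_section hσ hfree κ ζ hσζ,
      transferHom_rightCentral hσ hfree κ zc, one_mul, hcardI]

end Cfsg.Agent.Lib.Helper87.Tate
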