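import Mathlib
import Cfsg.Agent.Lib.Helper03.PGroupNormal

set_option autoImplicit false

/-!
A lemma on `p`-groups: between two distinct normal subgroups `U < T` of a finite `p`-group `S` there is a normal subgroup `V`,
`U ≤ V < T`, with `T/V` central in `S/V` and of exponent `p`.
-/

namespace Cfsg.Agent.Lib.Helper87.Tate

/-- The elements of the centre of exponent `p`. -/
def pTorsionCenter (Q : Type*) [Group Q] (p : ℕ) : Subgroup Q where
  carrier := {q | q ∈ Subgroup.center Q ∧ q ^ p = 1}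
  mul_mem' := by
    rintro a b ⟨ha, ha'⟩ ⟨hb, hb'⟩
    refine ⟨mul_mem ha hb, ?_⟩
    have hc : Commute a b := (Subgroup.mem_center_iff.mp ha b).symm
    rw [hc.mul_pow, ha', hb', one_mul]
  one_mem' := ⟨one_mem _, one_pow p⟩
  inv_mem' := by
    rintro a ⟨ha, ha'⟩
    exact ⟨inv_mem ha, by rw [inv_pow, ha', inv_one]⟩

theorem pTorsionCenter_le_center (Q : Type*) [Group Q] (p : ℕ) : pTorsionCenter Q p ≤ Subgroup.center Q :=
  fun _ h => h.1

instance pTorsionCenter_normal (Q : Type*) [Group Q] (p : ℕ) : (pTorsionCenter Q p).Normal := by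
  refine ⟨fun n hn g => ?_⟩
  have : g * n * g⁻¹ = n := by
    have h := Subgroup.mem_center_iff.mp hn.1 g
    rw [h, mul_inv_cancel_right]
  rw [this]
  exact hn

variable {Ω : Type*} [Group Ω]

theorem le_normalizer_of_conj_mem' {H K : Subgroup Ω} (h : ∀ g ∈ K, ∀ y ∈ H, g * y * g⁻¹ ∈ H) :
    K ≤ Subgroup.normalizer (H : Set Ω) := by
  intro g hg
  apply Subgroup.mem_normalizer_iff.mpr
  intro y
  refine ⟨fun hy => h g hg y hy, fun hy => ?_⟩
  have := h g⁻¹ (K.inv_mem hg) _ hy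
  have e : g⁻¹ * (g * y * g⁻¹) * g⁻¹⁻¹ = y := by group
  rwa [e] at this

theorem subgroupOf_normal_of_le_normalizer {S V : Subgroup Ω} (hV : S ≤ Subgroup.normalizer (V : Set Ω)) :
    (V.subgroupOf S).Normal := by
  refine ⟨fun x hx g => ?_⟩
  have hx' : (x : Ω) ∈ V := Subgroup.mem_subgroupOf.mp hx
  apply Subgroup.mem_subgroupOf.mpr
  exact (Subgroup.mem_normalizer_iff.mp (hV g.2) x).mp hx'

theorem le_normalizer_map_subtype {S : Subgroup Ω} (H : Subgroup ↥S) [H.Normal] :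
    S ≤ Subgroup.normalizer ((H.map S.subtype : Subgroup Ω) : Set Ω) := by
  apply le_normalizer_of_conj_mem'
  rintro g hg _ ⟨h, hh, rfl⟩
  exact ⟨⟨g, hg⟩ * h * ⟨g, hg⟩⁻¹, ‹H.Normal›.conj_mem h hh ⟨g, hg⟩, rfl⟩

set_option maxHeartbeats 800000 in
theorem exists_central_step {S : Subgroup Ω} [Finite S] {p : ℕ} [Fact p.Prime] (hS : IsPGroup p S)
    {U T : Subgroup Ω} (hUT : U ≤ T) (hTS : T ≤ S) (hne : U ≠ T)
    (hU : S ≤ Subgroup.normalizer (U : Set Ω)) (hT : S ≤ Subgroup.normalizer (T : Set Ω)) :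
    ∃ V : Subgroup Ω, U ≤ V ∧ V ≤ T ∧ V ≠ T ∧ S ≤ Subgroup.normalizer (V : Set Ω) ∧
      (∀ t ∈ T, ∀ s ∈ S, t * s * t⁻¹ * s⁻¹ ∈ V) ∧ (∀ t ∈ T, t ^ p ∈ V) := by
  classical
  -- a maximal `V`
  let PP : Subgroup Ω → Prop := fun V => U ≤ V ∧ V ≤ T ∧ V ≠ T ∧ S ≤ Subgroup.normalizer (V : Set Ω)
  let P : ℕ → Prop := fun k => ∃ V : Subgroup Ω, PP V ∧ Nat.card V = k
  have hb : ∀ k, P k → k ≤ Nat.card S := by
    rintro k ⟨V, hV, rfl⟩
    exact Subgroup.card_le_of_le (hV.2.1.trans hTS)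
  have h0 : P (Nat.card U) := ⟨U, ⟨le_rfl, hUT, hne, hU⟩, rfl⟩
  obtain ⟨V, hV, hVk⟩ := Nat.findGreatest_spec (P := P) (hb _ h0) h0
  have hmax : ∀ V' : Subgroup Ω, PP V' → Nat.card V' ≤ Nat.card V := by
    intro V' hV'
    rw [hVk]
    exact Nat.le_findGreatest (hb _ ⟨V', hV', rfl⟩) ⟨V', hV', rfl⟩
  obtain ⟨hUV, hVT, hVne, hVn⟩ := hV
  refine ⟨V, hUV, hVT, hVne, hVn, ?_⟩
  haveI hnormal : (V.subgroupOf S).Normal := subgroupOf_normal_of_le_normalizer hVn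
  haveI hTnormal : (T.subgroupOf S).Normal := subgroupOf_normal_of_le_normalizer hT
  set π := QuotientGroup.mk' (V.subgroupOf S) with hπ
  have hπsurj : Function.Surjective π := QuotientGroup.mk'_surjective _
  have hker : ∀ s : S, π s = 1 ↔ (s : Ω) ∈ V := by
    intro s
    rw [hπ, QuotientGroup.mk'_apply, QuotientGroup.eq_one_iff]
    exact Subgroup.mem_subgroupOf
  set Nb : Subgroup (↥S ⧸ V.subgroupOf S) := (T.subgroupOf S).map π with hNb
  haveI : Nb.Normal := Subgroup.Normal.map hTnormal π hπsurj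
  -- `Nb` is nontrivial
  obtain ⟨t₀, ht₀T, ht₀V⟩ : ∃ t, t ∈ T ∧ t ∉ V := by
    by_contra hcon
    push Not at hcon
    exact hVne (le_antisymm hVT hcon)
  have hNbne : Nb ≠ ⊥ := by
    intro h
    have h1 : π ⟨t₀, hTS ht₀T⟩ ∈ Nb := ⟨⟨t₀, hTS ht₀T⟩, Subgroup.mem_subgroupOf.mpr ht₀T, rfl⟩
    rw [h, Subgroup.mem_bot] at h1
    exact ht₀V ((hker _).mp h1)
  have hQp : IsPGroup p (↥S ⧸ V.subgroupOf S) := hS.to_quotient _
  obtain ⟨z₀, hz₀N, hz₀c, hz₀1⟩ :=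
    Cfsg.Agent.Lib.Helper03.exists_mem_center_of_normal_ne_bot hQp Nb hNbne
  -- an element of order `p`
  set K' : Subgroup (↥S ⧸ V.subgroupOf S) := Nb ⊓ Subgroup.center _ with hK'
  have hK'ne : K' ≠ ⊥ := by
    intro h
    have : z₀ ∈ K' := ⟨hz₀N, hz₀c⟩
    rw [h, Subgroup.mem_bot] at this
    exact hz₀1 this
  have hK'p : IsPGroup p K' := hQp.to_subgroup K'
  have hdvd : p ∣ Nat.card K' := by
    rcases hK'p.card_eq_or_dvd with h1 | h1
    · exact absurd (Subgroup.card_eq_one.mp h1) hK'ne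
    · exact h1
  obtain ⟨zK, hzK⟩ := exists_prime_orderOf_dvd_card' p hdvd
  set zb : ↥S ⧸ V.subgroupOf S := (zK : ↥S ⧸ V.subgroupOf S) with hzb
  have hzbN : zb ∈ Nb := zK.2.1
  have hzbc : zb ∈ Subgroup.center _ := zK.2.2
  have hzbp : zb ^ p = 1 := by
    have h1 : zK ^ p = 1 := by rw [← hzK]; exact pow_orderOf_eq_one zK
    have h2 := congrArg (fun y : K' => (y : ↥S ⧸ V.subgroupOf S)) h1
    simpa using h2
  have hzb1 : zb ≠ 1 := by
    intro h
    have h1 : zK = 1 := Subtype.ext h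
    rw [h1, orderOf_one] at hzK
    exact (Fact.out : p.Prime).one_lt.ne hzK
  -- the subgroup `W`
  set Kb : Subgroup (↥S ⧸ V.subgroupOf S) := pTorsionCenter _ p ⊓ Nb with hKb
  haveI : Kb.Normal := inferInstance
  set W : Subgroup Ω := (Kb.comap π).map S.subtype with hW
  have hmemW : ∀ s : S, (s : Ω) ∈ W ↔ π s ∈ Kb := by
    intro s
    constructor
    · rintro ⟨s', hs', hss'⟩
      have : s' = s := Subtype.ext hss'
      rw [← this]; exact hs'
    · intro h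
      exact ⟨s, h, rfl⟩
  have hWS : W ≤ S := by
    rintro _ ⟨s, -, rfl⟩
    exact s.2
  have hVW : V ≤ W := by
    intro v hv
    have hvS : v ∈ S := hTS (hVT hv)
    rw [show v = ((⟨v, hvS⟩ : S) : Ω) from rfl, hmemW, (hker ⟨v, hvS⟩).mpr hv]
    exact one_mem _
  have hWT : W ≤ T := by
    intro w hw
    have hwS : w ∈ S := hWS hw
    have h1 : π ⟨w, hwS⟩ ∈ Kb := (hmemW ⟨w, hwS⟩).mp hw
    obtain ⟨t, ht, htw⟩ := h1.2
    have ht' : (t : Ω) ∈ T := Subgroup.mem_subgroupOf.mp ht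
    have h2 : π (t⁻¹ * ⟨w, hwS⟩) = 1 := by rw [map_mul, map_inv, htw, inv_mul_cancel]
    have h3 : ((t⁻¹ * ⟨w, hwS⟩ : S) : Ω) ∈ V := (hker _).mp h2
    have h4 : (t : Ω)⁻¹ * w ∈ T := hVT h3
    have e : w = (t : Ω) * ((t : Ω)⁻¹ * w) := by group
    rw [e]
    exact T.mul_mem ht' h4
  have hWn : S ≤ Subgroup.normalizer (W : Set Ω) := by
    haveI : (Kb.comap π).Normal := inferInstance
    exact le_normalizer_map_subtype (Kb.comap π)
  -- `W` is strictly bigger than `V`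
  obtain ⟨z, hz⟩ := hπsurj zb
  have hzW : (z : Ω) ∈ W := by
    rw [hmemW, hz]
    exact ⟨⟨hzbc, hzbp⟩, hzbN⟩
  have hzV : (z : Ω) ∉ V := by
    intro h
    apply hzb1
    rw [← hz]
    exact (hker z).mpr h
  haveI : Finite W := Finite.of_injective (fun w : W => (⟨w, hWS w.2⟩ : S))
    (fun a b h => Subtype.ext (congrArg (fun y : S => (y : Ω)) h))
  have hWeqT : W = T := by
    by_contra hWne
    have h1 := hmax W ⟨hUV.trans hVW, hWT, hWne, hWn⟩
    have h2 : V = W := Subgroup.eq_of_le_of_card_ge hVW h1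
    exact hzV (h2 ▸ hzW)
  -- conclusions
  have hTK : ∀ t (ht : t ∈ T), π ⟨t, hTS ht⟩ ∈ pTorsionCenter _ p := by
    intro t ht
    have : ((⟨t, hTS ht⟩ : S) : Ω) ∈ W := by rw [hWeqT]; exact ht
    exact ((hmemW _).mp this).1
  constructor
  · intro t ht s hs
    have h1 := (hTK t ht).1
    have h2 : π (⟨t, hTS ht⟩ * ⟨s, hs⟩ * ⟨t, hTS ht⟩⁻¹ * ⟨s, hs⟩⁻¹) = 1 := by
      rw [map_mul, map_mul, map_mul, map_inv, map_inv]
      have h3 := Subgroup.mem_center_iff.mp h1 (π ⟨s, hs⟩)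
      rw [← h3, mul_inv_cancel_right, mul_inv_cancel]
    exact (hker _).mp h2
  · intro t ht
    have h1 := (hTK t ht).2
    have h2 : π (⟨t, hTS ht⟩ ^ p) = 1 := by rw [map_pow, h1]
    exact (hker _).mp h2

end Cfsg.Agent.Lib.Helper87.Tate
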