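import Cfsg.Agent.Lib.Helper87.FusionAut
import Cfsg.Agent.Lib.Helper87.Tate2

set_option autoImplicit false

/-!
If every map of a fusion system over a finite `p`-group `S` is, modulo a subgroup `R` normalized by `S`, conjugation by an
element of `S`, then the hyperfocal subgroup lies in `R`.
-/

namespace Cfsg.Agent.Lib.Helper87.Tate

open Cfsg Cfsg.FusionSystem Cfsg.Agent.Lib.Helper87

variable {Ω : Type*} [Group Ω] {S : Subgroup Ω}

set_option maxHeartbeats 800000 in
theorem hyperfocal_le_of_mod [Finite S] {p : ℕ} [Fact p.Prime] (hS : IsPGroup p S) (F : FusionSystem S)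
    {R : Subgroup Ω} (hR : S ≤ Subgroup.normalizer (R : Set Ω))
    (hmod : ∀ (P : Subgroup Ω) (φ : P →* Ω), φ ∈ F.Hom P →
      ∃ s ∈ S, ∀ x : P, (s * (x : Ω) * s⁻¹)⁻¹ * φ x ∈ R) :
    F.hyperfocalSubgroup p ≤ R := by
  unfold hyperfocalSubgroup
  rw [Subgroup.closure_le]
  rintro y ⟨P, α, x, hPS, hα, rfl⟩
  -- the subgroup of automorphisms trivial modulo `R`
  let K : Subgroup (F.autGroup P) :=
    { carrier := {β | ∀ x : P, (x : Ω)⁻¹ * (((β : MulAut P) x : P) : Ω) ∈ R}
      mul_mem' := by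
        intro a b ha hb x
        have h1 := hb x
        have h2 := ha ((b : MulAut P) x)
        have e : (x : Ω)⁻¹ * ((((a * b : F.autGroup P) : MulAut P) x : P) : Ω) =
            ((x : Ω)⁻¹ * (((b : MulAut P) x : P) : Ω)) *
              ((((b : MulAut P) x : P) : Ω)⁻¹ * (((a : MulAut P) ((b : MulAut P) x) : P) : Ω)) := by
          rw [Subgroup.coe_mul, MulAut.mul_apply]
          group
        rw [e]
        exact R.mul_mem h1 h2
      one_mem' := by
        intro x
        rw [Subgroup.coe_one, MulAut.one_apply, inv_mul_cancel]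
        exact R.one_mem
      inv_mem' := by
        intro a ha x
        have h1 := ha ((a : MulAut P)⁻¹ x)
        rw [MulAut.apply_inv_self] at h1
        have e : (x : Ω)⁻¹ * ((((a⁻¹ : F.autGroup P) : MulAut P) x : P) : Ω) =
            (((((a : MulAut P)⁻¹ x : P) : Ω))⁻¹ * (x : Ω))⁻¹ := by
          rw [Subgroup.coe_inv]
          group
        rw [e]
        exact R.inv_mem h1 }
  suffices h : pResidual p (F.autGroup P) ≤ K from h hα x
  unfold pResidual
  rw [Subgroup.closure_le]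
  intro β hβ
  have hβ' : Nat.Coprime (orderOf β) p := hβ
  intro x
  -- the map of `F`
  have hψ : P.subtype.comp ((β : MulAut P)).toMonoidHom ∈ F.Hom P := autGroup_hom_mem F hPS β.2
  obtain ⟨s, hs, hsx⟩ := hmod P _ hψ
  haveI hn : (R.subgroupOf S).Normal := subgroupOf_normal_of_le_normalizer hR
  set π := QuotientGroup.mk' (R.subgroupOf S) with hπ
  have hπeq : ∀ a b : S, π a = π b ↔ (a : Ω)⁻¹ * (b : Ω) ∈ R := by
    intro a b
    rw [hπ, QuotientGroup.mk'_apply, QuotientGroup.mk'_apply, QuotientGroup.eq]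
    exact Subgroup.mem_subgroupOf
  set q := π ⟨s, hs⟩ with hq
  have hstep : ∀ y : P, π ⟨(((β : MulAut P) y : P) : Ω), hPS ((β : MulAut P) y).2⟩ =
      q * π ⟨y, hPS y.2⟩ * q⁻¹ := by
    intro y
    rw [hq, ← map_inv, ← map_mul, ← map_mul]
    symm
    rw [hπeq]
    exact hsx y
  have hiter : ∀ (j : ℕ) (y : P), π ⟨((((β : MulAut P) ^ j) y : P) : Ω), hPS (((β : MulAut P) ^ j) y).2⟩ =
      q ^ j * π ⟨y, hPS y.2⟩ * (q ^ j)⁻¹ := by
    intro j
    induction j with
    | zero => intro y; simp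
    | succ j ih =>
      intro y
      have e : ((β : MulAut P) ^ (j + 1)) y = (β : MulAut P) (((β : MulAut P) ^ j) y) := by
        rw [pow_succ', MulAut.mul_apply]
      rw [e, hstep, ih y, pow_succ']
      group
  set m := orderOf β with hm
  have hβm : (β : MulAut P) ^ m = 1 := by
    have h1 : β ^ m = 1 := pow_orderOf_eq_one β
    have h2 := congrArg (fun z : F.autGroup P => (z : MulAut P)) h1
    simpa using h2
  have hcomm_m : Commute (q ^ m) (π ⟨x, hPS x.2⟩) := by
    have h1 := hiter m x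
    rw [hβm, MulAut.one_apply] at h1
    show q ^ m * π ⟨x, hPS x.2⟩ = π ⟨x, hPS x.2⟩ * q ^ m
    calc q ^ m * π ⟨x, hPS x.2⟩ = (q ^ m * π ⟨x, hPS x.2⟩ * (q ^ m)⁻¹) * q ^ m := by group
      _ = π ⟨x, hPS x.2⟩ * q ^ m := by rw [← h1]
  have hQp : IsPGroup p (↥S ⧸ R.subgroupOf S) := hS.to_quotient _
  obtain ⟨e, he⟩ := (IsPGroup.iff_orderOf.mp hQp) q
  have hcop : Nat.Coprime m (orderOf q) := by
    rw [he]
    exact Nat.Coprime.pow_right _ hβ'
  obtain ⟨a, ha⟩ := exists_pow_eq_self_of_coprime hcop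
  have hcomm : Commute q (π ⟨x, hPS x.2⟩) := by
    rw [← ha]
    exact hcomm_m.pow_left a
  have hfin : π ⟨(((β : MulAut P) x : P) : Ω), hPS ((β : MulAut P) x).2⟩ = π ⟨x, hPS x.2⟩ := by
    rw [hstep x, hcomm.eq, mul_inv_cancel_right]
  exact (hπeq _ _).mp hfin.symm

end Cfsg.Agent.Lib.Helper87.Tate
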