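import Cfsg.Agent.Lib.Helper87.Tate3
import Cfsg.Agent.Lib.Helper88.FusionProd
import Cfsg.Agent.Lib.Helper88.FusionHyp2
import Cfsg.Agent.Lib.Helper90.FusionInner
import Cfsg.Agent.S5137
import Cfsg.Agent.S5113

set_option autoImplicit false

/-!
The fibre product `S̃ = {(s, s̄ c)}` inside `S × S/V`, the product system `F × F_{S/V}(S/V)` and its subsystem of `p`-power
index over `S̃`.
-/

namespace Cfsg.Agent.Lib.Helper87.Tate

open Cfsg Cfsg.FusionSystem Cfsg.Agent.Lib.Helper87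

instance pTorsionCenter_commGroup (Q : Type*) [Group Q] (p : ℕ) : CommGroup ↥(pTorsionCenter Q p) :=
  { (inferInstance : Group ↥(pTorsionCenter Q p)) with
    mul_comm := fun a b => Subtype.ext (Subgroup.mem_center_iff.mp a.2.1 (b : Q)).symm }

theorem pTorsionCenter_pow (Q : Type*) [Group Q] (p : ℕ) (c : ↥(pTorsionCenter Q p)) : c ^ p = 1 :=
  Subtype.ext (by rw [Subgroup.coe_pow, c.2.2]; rfl)

universe u

section Defs

variable {Ω : Type u} [Group Ω] (S V : Subgroup Ω) [hn : (V.subgroupOf S).Normal] (p : ℕ)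

/-- The quotient `S/V`. -/
abbrev Q2 : Type u := ↥S ⧸ V.subgroupOf S

/-- The quotient map. -/
def piV : ↥S →* Q2 S V := QuotientGroup.mk' (V.subgroupOf S)

theorem piV_eq_one_iff (s : ↥S) : piV S V s = 1 ↔ (s : Ω) ∈ V := by
  unfold piV
  rw [QuotientGroup.mk'_apply, QuotientGroup.eq_one_iff]
  exact Subgroup.mem_subgroupOf

theorem piV_surjective : Function.Surjective (piV S V) := QuotientGroup.mk'_surjective _

/-- The central elements of exponent `p` of `S/V`. -/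
abbrev CC : Subgroup (Q2 S V) := pTorsionCenter (Q2 S V) p

/-- The parametrization of the fibre product. -/
def mu : ↥S × ↥(CC S V p) →* Ω × Q2 S V where
  toFun x := ((x.1 : Ω), piV S V x.1 * (x.2 : Q2 S V))
  map_one' := by
    show (((1 : ↥S) : Ω), piV S V 1 * ((1 : ↥(CC S V p)) : Q2 S V)) = 1
    rw [map_one, Subgroup.coe_one, Subgroup.coe_one, mul_one]
    rfl
  map_mul' := by
    rintro ⟨s, c⟩ ⟨s', c'⟩
    apply Prod.ext
    · rfl
    · show piV S V (s * s') * ((c * c' : ↥(CC S V p)) : Q2 S V) =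
        piV S V s * (c : Q2 S V) * (piV S V s' * (c' : Q2 S V))
      rw [map_mul, Subgroup.coe_mul]
      have h := Subgroup.mem_center_iff.mp c.2.1 (piV S V s')
      calc piV S V s * piV S V s' * ((c : Q2 S V) * (c' : Q2 S V))
          = piV S V s * (piV S V s' * (c : Q2 S V)) * (c' : Q2 S V) := by group
        _ = piV S V s * ((c : Q2 S V) * piV S V s') * (c' : Q2 S V) := by rw [h]
        _ = piV S V s * (c : Q2 S V) * (piV S V s' * (c' : Q2 S V)) := by group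

theorem mu_apply (s : ↥S) (c : ↥(CC S V p)) : mu S V p (s, c) = ((s : Ω), piV S V s * (c : Q2 S V)) := rfl

theorem mu_injective : Function.Injective (mu S V p) := by
  rintro ⟨s, c⟩ ⟨s', c'⟩ h
  rw [mu_apply, mu_apply] at h
  have h1 : (s : Ω) = s' := congrArg Prod.fst h
  have hs : s = s' := Subtype.ext h1
  subst hs
  have h2 : piV S V s * (c : Q2 S V) = piV S V s * (c' : Q2 S V) := congrArg Prod.snd h
  have hc : c = c' := Subtype.ext (mul_left_cancel h2)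
  rw [hc]

/-- The fibre product. -/
def St : Subgroup (Ω × Q2 S V) := (mu S V p).range

theorem St_le : St S V p ≤ S.prod ⊤ := by
  rintro _ ⟨⟨s, c⟩, rfl⟩
  exact Subgroup.mem_prod.mpr ⟨s.2, Subgroup.mem_top _⟩

theorem mem_St_iff (x : Ω × Q2 S V) :
    x ∈ St S V p ↔ ∃ h : x.1 ∈ S, (piV S V ⟨x.1, h⟩)⁻¹ * x.2 ∈ CC S V p := by
  constructor
  · rintro ⟨⟨s, c⟩, rfl⟩
    refine ⟨s.2, ?_⟩
    show (piV S V ⟨(s : Ω), s.2⟩)⁻¹ * (piV S V s * (c : Q2 S V)) ∈ CC S V p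
    rw [inv_mul_cancel_left]
    exact c.2
  · rintro ⟨h, hc⟩
    refine ⟨(⟨x.1, h⟩, ⟨_, hc⟩), ?_⟩
    rw [mu_apply]
    apply Prod.ext
    · rfl
    · show piV S V ⟨x.1, h⟩ * ((piV S V ⟨x.1, h⟩)⁻¹ * x.2) = x.2
      rw [mul_inv_cancel_left]

/-- The diagonal embedding of `S`. -/
def delta : ↥S →* ↥(St S V p) := (mu S V p).rangeRestrict.comp (MonoidHom.inl ↥S ↥(CC S V p))

/-- The embedding of the central factor. -/
def gam : ↥(CC S V p) →* ↥(St S V p) := (mu S V p).rangeRestrict.comp (MonoidHom.inr ↥S ↥(CC S V p))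

theorem delta_coe (s : ↥S) : ((delta S V p s : ↥(St S V p)) : Ω × Q2 S V) = ((s : Ω), piV S V s) := by
  show mu S V p (s, 1) = _
  rw [mu_apply, Subgroup.coe_one, mul_one]

theorem gam_coe (c : ↥(CC S V p)) : ((gam S V p c : ↥(St S V p)) : Ω × Q2 S V) = (1, (c : Q2 S V)) := by
  show mu S V p (1, c) = _
  rw [mu_apply, map_one, one_mul]
  rfl

/-- The projection onto the central factor. -/
noncomputable def kap : ↥(St S V p) →* ↥(CC S V p) :=
  (MonoidHom.snd ↥S ↥(CC S V p)).comp (MonoidHom.ofInjective (mu_injective S V p)).symm.toMonoidHom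

theorem kap_mk (x : ↥S × ↥(CC S V p)) (h : mu S V p x ∈ St S V p) : kap S V p ⟨mu S V p x, h⟩ = x.2 := by
  have : (⟨mu S V p x, h⟩ : ↥(St S V p)) = MonoidHom.ofInjective (mu_injective S V p) x := by
    apply Subtype.ext
    rw [MonoidHom.ofInjective_apply]
  unfold kap
  rw [this]
  show ((MonoidHom.ofInjective (mu_injective S V p)).symm (MonoidHom.ofInjective (mu_injective S V p) x)).2 = x.2
  rw [MulEquiv.symm_apply_apply]

theorem kap_delta (s : ↥S) : kap S V p (delta S V p s) = 1 := kap_mk S V p (s, 1) _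

theorem kap_gam (c : ↥(CC S V p)) : kap S V p (gam S V p c) = c := kap_mk S V p (1, c) _

theorem gam_mem_center (c : ↥(CC S V p)) : gam S V p c ∈ Subgroup.center ↥(St S V p) := by
  rw [Subgroup.mem_center_iff]
  rintro ⟨_, ⟨s, c'⟩, rfl⟩
  apply Subtype.ext
  rw [Subgroup.coe_mul, Subgroup.coe_mul, gam_coe]
  show mu S V p (s, c') * (1, (c : Q2 S V)) = (1, (c : Q2 S V)) * mu S V p (s, c')
  rw [mu_apply]
  apply Prod.ext
  · show (s : Ω) * 1 = 1 * (s : Ω)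
    rw [mul_one, one_mul]
  · show piV S V s * (c' : Q2 S V) * (c : Q2 S V) = (c : Q2 S V) * (piV S V s * (c' : Q2 S V))
    exact Subgroup.mem_center_iff.mp c.2.1 _

theorem gam_zpow_coe (c : ↥(CC S V p)) (n : ℤ) :
    (((gam S V p c) ^ n : ↥(St S V p)) : Ω × Q2 S V) = (1, ((c ^ n : ↥(CC S V p)) : Q2 S V)) := by
  rw [← map_zpow, gam_coe]

instance finite_prod_top [Finite S] : Finite ↥(S.prod (⊤ : Subgroup (Q2 S V))) :=
  Finite.of_equiv _ (Subgroup.prodEquiv S (⊤ : Subgroup (Q2 S V))).symm.toEquiv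

instance finite_St [Finite S] : Finite ↥(St S V p) := finite_of_le (St_le S V p)

theorem isPGroup_prod_top [Fact p.Prime] (hS : IsPGroup p S) :
    IsPGroup p ↥(S.prod (⊤ : Subgroup (Q2 S V))) := by
  have hQ : IsPGroup p (Q2 S V) := hS.to_quotient _
  rintro ⟨⟨a, b⟩, hab⟩
  have ha : a ∈ S := (Subgroup.mem_prod.mp hab).1
  obtain ⟨k, hk⟩ := hS ⟨a, ha⟩
  obtain ⟨l, hl⟩ := hQ b
  refine ⟨k + l, ?_⟩
  apply Subtype.ext
  rw [Subgroup.coe_pow, Subgroup.coe_one]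
  apply Prod.ext
  · show a ^ p ^ (k + l) = 1
    have h1 : a ^ p ^ k = 1 := congrArg (fun z : ↥S => (z : Ω)) hk
    rw [pow_add, pow_mul, h1, one_pow]
  · show b ^ p ^ (k + l) = 1
    rw [pow_add, mul_comm, pow_mul, hl, one_pow]

end Defs

section System

variable {Ω : Type u} [Group Ω] {S : Subgroup Ω} [Finite S] (V : Subgroup Ω) [hn : (V.subgroupOf S).Normal]
  (p : ℕ) [Fact p.Prime]

/-- The product system `F × F_{S/V}(S/V)`. -/
def GG (F : FusionSystem S) : FusionSystem (S.prod (⊤ : Subgroup (Q2 S V))) :=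
  Cfsg.Agent.Lib.Helper88.prodSystem F (innerFusionSystem (⊤ : Subgroup (Q2 S V)))

theorem GG_isSaturated (hS : IsPGroup p S) (F : FusionSystem S) (hF : F.IsSaturated p) :
    (GG V F).IsSaturated p := by
  have hQ : IsPGroup p (Q2 S V) := hS.to_quotient _
  have hT : IsPGroup p ↥(⊤ : Subgroup (Q2 S V)) := hQ.to_subgroup ⊤
  exact Cfsg.Agent.S5137.result p hS hT F _ hF (Cfsg.Agent.Lib.Helper90.inner_isSaturated hT) _
    (Cfsg.Agent.Lib.Helper88.isProductSystem_prodSystem F _)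

theorem mem_GG_iff (F : FusionSystem S) {P : Subgroup (Ω × Q2 S V)} {ψ : P →* Ω × Q2 S V} :
    ψ ∈ (GG V F).Hom P ↔ P ≤ S.prod ⊤ ∧ ∃ φ₁ ∈ F.Hom (P.map (MonoidHom.fst Ω (Q2 S V))),
      ∃ g : Q2 S V, ∀ x : P, ψ x = (φ₁ ⟨(x : Ω × Q2 S V).1, Cfsg.Agent.Lib.Helper88.fst_mem_map x⟩,
        g * (x : Ω × Q2 S V).2 * g⁻¹) := by
  constructor
  · rintro ⟨hP, φ₁, hφ₁, φ₂, ⟨-, g, -, hg⟩, rfl⟩
    refine ⟨hP, φ₁, hφ₁, g, fun x => ?_⟩
    rw [Cfsg.Agent.Lib.Helper88.prodMap_apply P φ₁ φ₂ x (Cfsg.Agent.Lib.Helper88.fst_mem_map x)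
      (Cfsg.Agent.Lib.Helper88.snd_mem_map x), hg]
  · rintro ⟨hP, φ₁, hφ₁, g, hψ⟩
    refine ⟨hP, φ₁, hφ₁, conjHom _ g, ⟨le_top, g, Subgroup.mem_top _, fun _ => rfl⟩, ?_⟩
    ext x
    · rw [hψ x]; rfl
    · rw [hψ x]; rfl

/-- The hyperfocal subgroup of the product system. -/
theorem hyperfocal_GG_le (hS : IsPGroup p S) (F : FusionSystem S) (hF : F.IsSaturated p) :
    (GG V F).hyperfocalSubgroup p ≤ (F.hyperfocalSubgroup p).prod ⊥ := by
  apply hyperfocal_le_of_mod (isPGroup_prod_top S V p hS) (GG V F)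
  · apply le_normalizer_of_conj_mem'
    rintro ⟨g₁, g₂⟩ hg ⟨y₁, y₂⟩ hy
    obtain ⟨hg₁, -⟩ := Subgroup.mem_prod.mp hg
    obtain ⟨hy₁, hy₂⟩ := Subgroup.mem_prod.mp hy
    have hy₂' : y₂ = 1 := Subgroup.mem_bot.mp hy₂
    refine Subgroup.mem_prod.mpr ⟨?_, ?_⟩
    · exact Cfsg.Agent.Lib.Helper88.conj_mem_hyperfocalSubgroup F p hg₁ hy₁
    · show g₂ * y₂ * g₂⁻¹ ∈ (⊥ : Subgroup (Q2 S V))
      rw [hy₂', mul_one, mul_inv_cancel]
      exact Subgroup.one_mem _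
  · intro P ψ hψ
    obtain ⟨hP, φ₁, hφ₁, g, hψx⟩ := (mem_GG_iff V F).mp hψ
    obtain ⟨-, s, hs, hφs⟩ := Cfsg.Agent.Lib.Helper88.le_modSystem_hyperfocal p hS F hF _ hφ₁
    refine ⟨(s, g), Subgroup.mem_prod.mpr ⟨hs, Subgroup.mem_top _⟩, fun x => ?_⟩
    rw [hψx x]
    refine Subgroup.mem_prod.mpr ⟨?_, ?_⟩
    · exact hφs ⟨(x : Ω × Q2 S V).1, Cfsg.Agent.Lib.Helper88.fst_mem_map x⟩
    · show (g * (x : Ω × Q2 S V).2 * g⁻¹)⁻¹ * (g * (x : Ω × Q2 S V).2 * g⁻¹) ∈ (⊥ : Subgroup (Q2 S V))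
      rw [inv_mul_cancel]
      exact Subgroup.one_mem _

/-- The hyperfocal subgroup, embedded in the first factor, lies in the fibre product. -/
theorem hyperfocal_prod_le_St (F : FusionSystem S)
    (hTC : ∀ t : ↥S, (t : Ω) ∈ F.hyperfocalSubgroup p → piV S V t ∈ CC S V p) :
    (F.hyperfocalSubgroup p).prod ⊥ ≤ St S V p := by
  rintro ⟨y₁, y₂⟩ hy
  obtain ⟨hy₁, hy₂⟩ := Subgroup.mem_prod.mp hy
  have hy₂' : y₂ = 1 := Subgroup.mem_bot.mp hy₂
  have hyS : y₁ ∈ S := Cfsg.Agent.Lib.Helper88.hyperfocalSubgroup_le F p hy₁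
  rw [mem_St_iff]
  refine ⟨hyS, ?_⟩
  show (piV S V ⟨y₁, hyS⟩)⁻¹ * y₂ ∈ CC S V p
  rw [hy₂', mul_one]
  exact (CC S V p).inv_mem (hTC ⟨y₁, hyS⟩ hy₁)

/-- The subsystem of `p`-power index over the fibre product. -/
theorem exists_Ft (hS : IsPGroup p S) (F : FusionSystem S) (hF : F.IsSaturated p)
    (hTC : ∀ t : ↥S, (t : Ω) ∈ F.hyperfocalSubgroup p → piV S V t ∈ CC S V p) :
    ∃ E : FusionSystem (St S V p), E.IsSaturated p ∧ E.HasPPowerIndexIn (GG V F) p := by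
  obtain ⟨E, hE, -⟩ := Cfsg.Agent.S5113.result p (isPGroup_prod_top S V p hS) (GG V F)
    (GG_isSaturated V p hS F hF) (St S V p) (St_le S V p)
    ((hyperfocal_GG_le V p hS F hF).trans (hyperfocal_prod_le_St V p F hTC))
  exact ⟨E, hE⟩

end System

end Cfsg.Agent.Lib.Helper87.Tate
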