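import Cfsg.Agent.Lib.Helper87.Tate4
import Cfsg.Agent.Lib.Helper87.Tate1
import Cfsg.Agent.Lib.Helper87.Hyperfocal
import Cfsg.Agent.Lib.Helper88.FusionRL3
import Cfsg.Agent.Lib.Helper88.FusionPP4
import Cfsg.Agent.S5120

set_option autoImplicit false

/-!
Properties of a subsystem of `p`-power index of `F × F_{S/V}(S/V)` over the fibre product.
-/

namespace Cfsg.Agent.Lib.Helper87.Tate

open Cfsg Cfsg.FusionSystem Cfsg.Agent.Lib.Helper87

universe u

/-- The derived subgroup of `S` lies in the focal subgroup. -/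
theorem commutator_le_focal' {Ω : Type*} [Group Ω] {S : Subgroup Ω} (F : Cfsg.FusionSystem S) :
    ⁅(S : Subgroup Ω), (S : Subgroup Ω)⁆ ≤ F.focalSubgroup := by
  rw [Subgroup.commutator_le]
  intro a ha b hb
  apply Subgroup.subset_closure
  refine ⟨S, conjHom S b, ⟨a⁻¹, S.inv_mem ha⟩, F.conj_mem le_rfl hb, ?_⟩
  rw [commutatorElement_def]
  show a * b * a⁻¹ * b⁻¹ = (a⁻¹)⁻¹ * (b * a⁻¹ * b⁻¹)
  group

/-- The hyperfocal subgroup is generated by the commutators `[Q, O^p(Aut_F(Q))]` with `Q` inside the hyperfocal subgroup. -/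
theorem hyperfocal_eq_hypIn_self {Ω : Type*} [Group Ω] {S : Subgroup Ω} [Finite S] (p : ℕ) [Fact p.Prime]
    (hS : IsPGroup p S) (F : FusionSystem S) (hF : F.IsSaturated p) :
    F.hyperfocalSubgroup p = Cfsg.Agent.Lib.Helper88.hypIn F p (F.hyperfocalSubgroup p) := by
  have hTS : F.hyperfocalSubgroup p ≤ S := Cfsg.Agent.Lib.Helper88.hyperfocalSubgroup_le F p
  have hTn : ((F.hyperfocalSubgroup p).subgroupOf S).Normal :=
    subgroupOf_normal_of_le_normalizer (le_normalizer_of_conj_mem'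
      (fun g hg y hy => Cfsg.Agent.Lib.Helper88.conj_mem_hyperfocalSubgroup F p hg hy))
  obtain ⟨E, ⟨hEs, hEi⟩, -⟩ := Cfsg.Agent.S5113.result p hS F hF _ hTS le_rfl
  have hEn := Cfsg.Agent.S5120.result p hS F hF _ hTS hTn le_rfl E hEs hEi
  have h1 := Cfsg.Agent.Lib.Helper88.hyperfocal_eq_of_invariant_pPowerIndex p hS F E hEs hEn.1.2.2 hEi
  have h2 := Cfsg.Agent.Lib.Helper88.hyperfocal_eq_hypIn p E F hEi
  exact h1.symm.trans h2

section

variable {Ω : Type u} [Group Ω] {S : Subgroup Ω} [Finite S] (V : Subgroup Ω) [hn : (V.subgroupOf S).Normal]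
  (p : ℕ) [Fact p.Prime]

/-- The central factor consists of weakly central elements. -/
theorem weaklyCentral_gam (F : FusionSystem S) (E : FusionSystem (St S V p))
    (hE : E.IsSubsystemOf (GG V F)) (c : ↥(CC S V p)) : WeaklyCentral E (gam S V p c) := by
  refine ⟨gam_mem_center S V p c, ?_⟩
  intro R ρ hρ r n hr
  obtain ⟨hR, φ₁, hφ₁, g, hρx⟩ := (mem_GG_iff V F).mp (hE R hρ)
  rw [gam_zpow_coe] at hr ⊢
  have h1 := hρx r
  rw [hr] at h1
  have h11 : (1 : Ω) = φ₁ ⟨(r : Ω × Q2 S V).1, Cfsg.Agent.Lib.Helper88.fst_mem_map r⟩ := congrArg Prod.fst h1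
  have h12 : ((c ^ n : ↥(CC S V p)) : Q2 S V) = g * (r : Ω × Q2 S V).2 * g⁻¹ := congrArg Prod.snd h1
  have hr1 : (⟨(r : Ω × Q2 S V).1, Cfsg.Agent.Lib.Helper88.fst_mem_map r⟩ :
      ↥(R.map (MonoidHom.fst Ω (Q2 S V)))) = 1 := by
    apply F.injective_of_mem hφ₁
    rw [← h11, map_one]
  have hr1' : (r : Ω × Q2 S V).1 = 1 := congrArg Subtype.val hr1
  have hcen := Subgroup.mem_center_iff.mp (c ^ n : ↥(CC S V p)).2.1 g
  have hr2 : (r : Ω × Q2 S V).2 = ((c ^ n : ↥(CC S V p)) : Q2 S V) := by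
    have : (r : Ω × Q2 S V).2 = g⁻¹ * ((c ^ n : ↥(CC S V p)) : Q2 S V) * g := by
      rw [h12]; group
    rw [this, mul_assoc, ← hcen, inv_mul_cancel_left]
  exact Prod.ext hr1' hr2

set_option maxHeartbeats 1600000 in
/-- The hyperfocal subgroup of `F`, embedded in the first factor, lies in the focal subgroup of the subsystem. -/
theorem inl_hyperfocal_mem_focal (hS : IsPGroup p S) (F : FusionSystem S) (hF : F.IsSaturated p)
    (hTC : ∀ t : ↥S, (t : Ω) ∈ F.hyperfocalSubgroup p → piV S V t ∈ CC S V p)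
    (E : FusionSystem (St S V p)) (hE : E.HasPPowerIndexIn (GG V F) p)
    {y : Ω} (hy : y ∈ F.hyperfocalSubgroup p) : ((y, 1) : Ω × Q2 S V) ∈ E.focalSubgroup := by
  have hTS : F.hyperfocalSubgroup p ≤ S := Cfsg.Agent.Lib.Helper88.hyperfocalSubgroup_le F p
  suffices h : Cfsg.Agent.Lib.Helper88.hypIn F p (F.hyperfocalSubgroup p) ≤
      (E.focalSubgroup).comap (MonoidHom.inl Ω (Q2 S V)) by
    rw [hyperfocal_eq_hypIn_self p hS F hF] at hy
    exact h hy
  unfold Cfsg.Agent.Lib.Helper88.hypIn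
  rw [Subgroup.closure_le]
  rintro _ ⟨Q, α, x, hQT, hα, rfl⟩
  show ((((x : Ω)⁻¹ * (((α : MulAut Q) x : Q) : Ω)), 1) : Ω × Q2 S V) ∈ E.focalSubgroup
  have hQS : Q ≤ S := hQT.trans hTS
  -- the subgroup `Q × 1`
  set P' : Subgroup (Ω × Q2 S V) := Q.prod ⊥ with hP'
  have hP'St : P' ≤ St S V p :=
    (Subgroup.prod_mono hQT le_rfl).trans (hyperfocal_prod_le_St V p F hTC)
  have hP'le : P' ≤ S.prod ⊤ := hP'St.trans (St_le S V p)
  have hfst : P'.map (MonoidHom.fst Ω (Q2 S V)) ≤ Q := by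
    rintro _ ⟨z, hz, rfl⟩
    exact (Subgroup.mem_prod.mp hz).1
  have hsnd : ∀ z : P', (z : Ω × Q2 S V).2 = 1 := fun z =>
    Subgroup.mem_bot.mp (Subgroup.mem_prod.mp z.2).2
  -- the isomorphism `Q ≅ Q × 1`
  let e : ↥Q ≃* ↥P' :=
    { toFun := fun q => ⟨((q : Ω), 1), Subgroup.mem_prod.mpr ⟨q.2, Subgroup.one_mem _⟩⟩
      invFun := fun z => ⟨(z : Ω × Q2 S V).1, (Subgroup.mem_prod.mp z.2).1⟩
      left_inv := fun q => rfl
      right_inv := fun z => Subtype.ext (Prod.ext rfl (hsnd z).symm)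
      map_mul' := fun a b => Subtype.ext (Prod.ext rfl (one_mul 1).symm) }
  have he_apply : ∀ q : Q, ((e q : ↥P') : Ω × Q2 S V) = ((q : Ω), 1) := fun q => rfl
  have hΘ : ∀ β : MulAut Q, β ∈ F.autGroup Q → MulAut.congr e β ∈ (GG V F).autGroup P' := by
    intro β hβ
    rw [mem_autGroup_iff (GG V F) hP'le, mem_GG_iff]
    have hβF := autGroup_hom_mem F hQS hβ
    refine ⟨hP'le, _, restrict_mem F hfst hβF, 1, fun z => ?_⟩
    apply Prod.ext
    · rfl
    · show (1 : Q2 S V) = 1 * (z : Ω × Q2 S V).2 * 1⁻¹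
      rw [hsnd z]; group
  -- the homomorphism of automizers
  let Θ' : ↥(F.autGroup Q) →* ↥((GG V F).autGroup P') :=
    ((MulAut.congr e).toMonoidHom.comp (F.autGroup Q).subtype).codRestrict _ (fun β => hΘ β β.2)
  have h1 : Θ' α ∈ pResidual p ↥((GG V F).autGroup P') :=
    pResidual_map_le p Θ' ⟨α, hα, rfl⟩
  have h2 : ((Θ' α : ↥((GG V F).autGroup P')) : MulAut P') ∈ E.autGroup P' :=
    hE.2.2 P' hP'St ⟨Θ' α, h1, rfl⟩
  have h3 : ((Θ' α : ↥((GG V F).autGroup P')) : MulAut P') = MulAut.congr e (α : MulAut Q) := rfl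
  rw [h3] at h2
  have h4 := autGroup_hom_mem E hP'St h2
  apply Subgroup.subset_closure
  refine ⟨P', _, e x, h4, ?_⟩
  rw [he_apply]
  show _ = (((x : Ω), (1 : Q2 S V)))⁻¹ * ((e ((α : MulAut Q) (e.symm (e x))) : ↥P') : Ω × Q2 S V)
  rw [MulEquiv.symm_apply_apply, he_apply]
  apply Prod.ext
  · rfl
  · show (1 : Q2 S V) = 1⁻¹ * 1
    group

end

end Cfsg.Agent.Lib.Helper87.Tate
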