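import Cfsg.Agent.Lib.Helper87.Tate6
import Cfsg.Agent.Lib.Helper88.FusionFactor6
import Cfsg.Agent.Lib.Helper03.PGroupFrattini
import Cfsg.Agent.S5132
import Cfsg.Agent.S5134
import Cfsg.Agent.S5086

set_option autoImplicit false

/-!
A saturated fusion system over `S` in which `Aut_F(S) = Inn(S)` and `Φ(S)` is strongly closed is the inner system.
-/

namespace Cfsg.Agent.Lib.Helper87.Tate

open Cfsg Cfsg.FusionSystem Cfsg.Agent.Lib.Helper87
open scoped commutatorElement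

universe u

/-- The `p`-residual of a `p`-group is trivial. -/
theorem pResidual_eq_bot_of_isPGroup {G : Type*} [Group G] {p : ℕ} [Fact p.Prime] (hG : IsPGroup p G) :
    pResidual p G = ⊥ := by
  unfold pResidual
  rw [Subgroup.closure_eq_bot_iff]
  intro g hg
  have hg' : Nat.Coprime (orderOf g) p := hg
  obtain ⟨k, hk⟩ := (IsPGroup.iff_orderOf.mp hG) g
  rw [hk] at hg'
  rcases Nat.eq_zero_or_pos k with h0 | hpos
  · rw [h0, pow_zero] at hk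
    exact orderOf_eq_one_iff.mp hk
  · exfalso
    have h1 : p ∣ p ^ k := dvd_pow_self p hpos.ne'
    have h2 : p ∣ Nat.gcd (p ^ k) p := Nat.dvd_gcd h1 dvd_rfl
    rw [hg'.gcd_eq_one] at h2
    exact (Fact.out : p.Prime).one_lt.ne' (Nat.dvd_one.mp h2)

/-- The hyperfocal subgroup of the inner system is trivial. -/
theorem hyperfocal_inner_eq_bot {Ω : Type*} [Group Ω] {S : Subgroup Ω} [Finite S] (p : ℕ) [Fact p.Prime]
    (hS : IsPGroup p S) : (innerFusionSystem S).hyperfocalSubgroup p = ⊥ := by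
  unfold hyperfocalSubgroup
  rw [Subgroup.closure_eq_bot_iff]
  rintro y ⟨P, α, x, hPS, hα, rfl⟩
  have hp : IsPGroup p ((innerFusionSystem S).autGroup P) := by
    rw [Cfsg.Agent.Lib.Helper90.autGroup_inner_eq hPS]
    exact Cfsg.Agent.Lib.Helper90.isPGroup_autInducedBy hS P
  rw [pResidual_eq_bot_of_isPGroup hp, Subgroup.mem_bot] at hα
  rw [hα]
  show (x : Ω)⁻¹ * (x : Ω) = 1
  rw [inv_mul_cancel]

/-- A saturated system with trivial hyperfocal subgroup is inner. -/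
theorem eq_inner_of_hyperfocal_eq_bot {Ω : Type*} [Group Ω] {S : Subgroup Ω} [Finite S] (p : ℕ) [Fact p.Prime]
    (hS : IsPGroup p S) (F : FusionSystem S) (hF : F.IsSaturated p) (h : F.hyperfocalSubgroup p = ⊥)
    (P : Subgroup Ω) : F.Hom P = (innerFusionSystem S).Hom P := by
  apply Set.Subset.antisymm
  · intro φ hφ
    obtain ⟨-, s, hs, hφs⟩ := Cfsg.Agent.Lib.Helper88.le_modSystem_hyperfocal p hS F hF P hφ
    refine ⟨hom_le F hφ, s, hs, fun x => ?_⟩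
    have h1 := hφs x
    rw [h, Subgroup.mem_bot, inv_mul_eq_one] at h1
    exact h1.symm
  · rintro φ ⟨hP, g, hg, hφg⟩
    have h1 : conjHom P g ∈ F.Hom P := F.conj_mem hP hg
    have h2 : φ = conjHom P g := MonoidHom.ext (fun x => hφg x)
    rw [h2]; exact h1

set_option maxHeartbeats 1600000 in
/-- If `Aut_F(S)` is inner and `Φ(S)` is strongly closed then the focal subgroup lies in `Φ(S)`. -/
theorem focal_le_frattini {Ω : Type u} [Group Ω] {S : Subgroup Ω} [Finite S] (p : ℕ) [Fact p.Prime]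
    (hS : IsPGroup p S) (F : FusionSystem S) (hF : F.IsSaturated p)
    (hAut : ∀ (A : Subgroup Ω), A = S → ∀ ψ : A →* Ω, ψ ∈ F.Hom A → ∃ g ∈ S, ∀ x : A, ψ x = g * (x : Ω) * g⁻¹)
    (hΦ : F.StronglyClosed ((frattini ↥S).map S.subtype)) :
    F.focalSubgroup ≤ (frattini ↥S).map S.subtype := by
  set Φ' : Subgroup Ω := (frattini ↥S).map S.subtype with hΦ'
  have hsub : Φ'.subgroupOf S = frattini ↥S := by
    rw [hΦ']
    unfold Subgroup.subgroupOf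
    exact Subgroup.comap_map_eq_self_of_injective (Subgroup.subtype_injective S) _
  haveI hnorm : (Φ'.subgroupOf S).Normal := by
    rw [hsub]; infer_instance
  obtain ⟨E', hfac⟩ := Cfsg.Agent.S5132.result p hS F Φ' hΦ
  set θ := QuotientGroup.mk' (Φ'.subgroupOf S) with hθ
  have hmor := (Cfsg.Agent.S5134.result p hS F hF Φ' hΦ θ E' hfac).1
  have hE'sat : E'.IsSaturated p :=
    Cfsg.Agent.Lib.Helper88.isSaturated_of_isFactorSystem p hS F hF hΦ θ E' hfac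
  have hker := hfac.2.1
  -- the quotient is abelian
  have hab : ∀ a b : ↥S ⧸ Φ'.subgroupOf S, a * b = b * a := by
    intro a b
    obtain ⟨a, rfl⟩ := QuotientGroup.mk_surjective a
    obtain ⟨b, rfl⟩ := QuotientGroup.mk_surjective b
    rw [← QuotientGroup.mk_mul, ← QuotientGroup.mk_mul, QuotientGroup.eq]
    have e : (a * b)⁻¹ * (b * a) = ⁅b⁻¹, a⁻¹⁆ := by rw [commutatorElement_def]; group
    rw [e, hsub]
    exact Cfsg.Agent.Lib.Helper03.commutator_le_frattini_of_isPGroup hS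
      (Subgroup.commutator_mem_commutator (Subgroup.mem_top _) (Subgroup.mem_top _))
  have hQp : IsPGroup p (↥S ⧸ Φ'.subgroupOf S) := hS.to_quotient _
  have hTp : IsPGroup p ↥(⊤ : Subgroup (↥S ⧸ Φ'.subgroupOf S)) := hQp.to_subgroup ⊤
  -- the whole group is normal in the factor system
  have hnormal : E'.IsNormal (⊤ : Subgroup (↥S ⧸ Φ'.subgroupOf S)) := by
    rw [Cfsg.Agent.S5086.result p hTp E' hE'sat]
    refine ⟨⟨le_rfl, fun R _ φ hφ x => (E'.le_of_mem hφ).2 x⟩, fun P hPc _ => ?_⟩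
    have h1 := hPc.2 P (isConj_refl E' hPc.1)
    intro z _
    apply h1
    refine ⟨Subgroup.mem_top _, ?_⟩
    show z ∈ Subgroup.centralizer (P : Set (↥S ⧸ Φ'.subgroupOf S))
    rw [Subgroup.mem_centralizer_iff]
    intro y _
    exact hab y z
  unfold focalSubgroup
  rw [Subgroup.closure_le]
  rintro y ⟨P, φ, x, hφ, rfl⟩
  obtain ⟨φ', hφ', hP_, hφ_, hP'_, hind⟩ := hmor.2 P φ hφ
  obtain ⟨ψ', hψ', hψ'ext, -⟩ := hnormal.2 _ φ' hφ'
  obtain ⟨-, ψ, hψ, hP2, hψ2, hP'2, hind2⟩ := (hfac.2.2.2 _ ψ').mp hψ'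
  have hpre : preimageAlong θ (imageAlong θ P ⊔ ⊤) = S := by
    apply le_antisymm (Cfsg.Agent.Lib.Helper88.preimageAlong_le θ _)
    intro s hs
    rw [Cfsg.Agent.Lib.Helper88.mem_preimageAlong]
    exact ⟨hs, (le_sup_right : (⊤ : Subgroup _) ≤ imageAlong θ P ⊔ ⊤) (Subgroup.mem_top _)⟩
  obtain ⟨g, hg, hψg⟩ := hAut _ hpre ψ hψ
  have hxS : (x : Ω) ∈ S := hP_ x.2
  have hxpre : (x : Ω) ∈ preimageAlong θ (imageAlong θ P ⊔ ⊤) := by rw [hpre]; exact hxS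
  have h1 := hind2 ⟨x, hxpre⟩
  have h2 := hind x
  have h3 := hψ'ext ⟨θ ⟨x, hP_ x.2⟩, hP'_ x⟩
  -- `ψ'` fixes the image of `x`
  have h4 : θ ⟨ψ ⟨x, hxpre⟩, hψ2 ⟨x, hxpre⟩⟩ = θ ⟨x, hxS⟩ := by
    have e : (⟨ψ ⟨x, hxpre⟩, hψ2 ⟨x, hxpre⟩⟩ : ↥S) = ⟨g, hg⟩ * ⟨x, hxS⟩ * ⟨g, hg⟩⁻¹ := by
      apply Subtype.ext
      exact hψg ⟨x, hxpre⟩
    rw [e, map_mul, map_mul, map_inv, hab (θ ⟨g, hg⟩) (θ ⟨x, hxS⟩), mul_inv_cancel_right]
  have h5 : θ ⟨φ x, hφ_ x⟩ = θ ⟨x, hxS⟩ := by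
    have e : (Subgroup.inclusion (le_sup_left : imageAlong θ P ≤ imageAlong θ P ⊔ ⊤)
        ⟨θ ⟨x, hP_ x.2⟩, hP'_ x⟩ : ↥(imageAlong θ P ⊔ ⊤)) =
        ⟨θ ⟨((⟨x, hxpre⟩ : ↥(preimageAlong θ (imageAlong θ P ⊔ ⊤))) : Ω), hP2 hxpre⟩, hP'2 ⟨x, hxpre⟩⟩ :=
      Subtype.ext rfl
    calc θ ⟨φ x, hφ_ x⟩ = φ' ⟨θ ⟨x, hP_ x.2⟩, hP'_ x⟩ := h2.symm
      _ = ψ' (Subgroup.inclusion le_sup_left ⟨θ ⟨x, hP_ x.2⟩, hP'_ x⟩) := h3.symm
      _ = ψ' ⟨θ ⟨((⟨x, hxpre⟩ : ↥(preimageAlong θ (imageAlong θ P ⊔ ⊤))) : Ω), hP2 hxpre⟩,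
            hP'2 ⟨x, hxpre⟩⟩ := by rw [e]
      _ = θ ⟨ψ ⟨x, hxpre⟩, hψ2 ⟨x, hxpre⟩⟩ := h1
      _ = θ ⟨x, hxS⟩ := h4
  have h6 : θ (⟨x, hxS⟩⁻¹ * ⟨φ x, hφ_ x⟩) = 1 := by
    rw [map_mul, map_inv, h5, inv_mul_cancel]
  exact (hker _).mp h6

/-- **Inner criterion.** -/
theorem eq_inner_of_frattini_stronglyClosed {Ω : Type u} [Group Ω] {S : Subgroup Ω} [Finite S] (p : ℕ) [Fact p.Prime]
    (hS : IsPGroup p S) (F : FusionSystem S) (hF : F.IsSaturated p)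
    (hAut : ∀ (A : Subgroup Ω), A = S → ∀ ψ : A →* Ω, ψ ∈ F.Hom A → ∃ g ∈ S, ∀ x : A, ψ x = g * (x : Ω) * g⁻¹)
    (hΦ : F.StronglyClosed ((frattini ↥S).map S.subtype)) (P : Subgroup Ω) :
    F.Hom P = (innerFusionSystem S).Hom P := by
  have hfoc := focal_le_frattini p hS F hF hAut hΦ
  have hsubI : (innerFusionSystem S).IsSubsystemOf F := by
    rintro P φ ⟨hP, g, hg, hφg⟩
    have h1 : conjHom P g ∈ F.Hom P := F.conj_mem hP hg
    have h2 : φ = conjHom P g := MonoidHom.ext (fun x => hφg x)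
    rw [h2]; exact h1
  have hfocI : (innerFusionSystem S).focalSubgroup ≤ F.focalSubgroup := by
    unfold focalSubgroup
    apply Subgroup.closure_mono
    rintro y ⟨P, φ, x, hφ, rfl⟩
    exact ⟨P, φ, x, hsubI P hφ, rfl⟩
  have hyp := hyperfocal_eq_of_frattini_focal p hS F hF (innerFusionSystem S)
    (Cfsg.Agent.Lib.Helper90.inner_isSaturated hS) hsubI
    (by rw [sup_eq_left.mpr hfoc, sup_eq_left.mpr (hfocI.trans hfoc)])
  rw [hyperfocal_inner_eq_bot p hS] at hyp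
  exact eq_inner_of_hyperfocal_eq_bot p hS F hF hyp P

end Cfsg.Agent.Lib.Helper87.Tate
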