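import Cfsg.Agent.Lib.Helper87.NormalizerBasic
import Cfsg.Agent.Lib.Helper53.ThompsonJA

set_option autoImplicit false

namespace Cfsg.Agent.Lib.Helper87

open Cfsg Cfsg.FusionSystem

variable {Ω : Type*} [Group Ω] {S : Subgroup Ω}

/-- `J(S)` is normalized by `S`. -/
theorem le_normalizer_thompsonJ (S : Subgroup Ω) :
    S ≤ Subgroup.normalizer ((thompsonSubgroupAOf S : Subgroup Ω) : Set Ω) := by
  intro g hg
  -- conjugation by g as an automorphism of S
  let e : ↥S ≃* ↥S := MulAut.conj (⟨g, hg⟩ : S)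
  have h1 : ∀ e : ↥S ≃* ↥S, ∀ y ∈ thompsonSubgroupAOf S, ∀ hy : y ∈ S,
      ((e ⟨y, hy⟩ : S) : Ω) ∈ thompsonSubgroupAOf S := by
    intro e y hy hyS
    obtain ⟨y', hy', rfl⟩ := hy
    have h2 := Cfsg.Agent.Lib.Helper53.thompsonA_map_equiv e
    have h3 : e y' ∈ thompsonSubgroupA ↥S := by
      rw [← h2]; exact ⟨y', hy', rfl⟩
    exact ⟨e y', h3, rfl⟩
  rw [Subgroup.mem_normalizer_iff]
  intro y
  constructor
  · intro hy
    have hyS : y ∈ S := Cfsg.Agent.Lib.Helper53.thompsonAOf_le S hy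
    have := h1 e y hy hyS
    simpa [e, MulAut.conj_apply] using this
  · intro hy
    have hyS' : g * y * g⁻¹ ∈ S := Cfsg.Agent.Lib.Helper53.thompsonAOf_le S hy
    have := h1 e.symm (g * y * g⁻¹) hy hyS'
    have h4 : ((e.symm ⟨g * y * g⁻¹, hyS'⟩ : S) : Ω) = y := by
      simp [e, MulAut.conj_symm_apply, mul_assoc]
    rwa [h4] at this

theorem normalizerIn_thompsonJ (S : Subgroup Ω) :
    normalizerIn S (thompsonSubgroupAOf S) = S :=
  inf_of_le_left (le_normalizer_thompsonJ S)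

/-- `Z(S) ≤ J(S)`. -/
theorem center_le_thompsonJ [Finite S] :
    S ⊓ Subgroup.centralizer (S : Set Ω) ≤ thompsonSubgroupAOf S := by
  obtain ⟨A', hA'⟩ := Cfsg.Agent.Lib.Helper53.maxAb_nonempty ↥S
  have hA := Cfsg.Agent.Lib.Helper53.isMaxAbIn_map_subtype hA'
  generalize A'.map S.subtype = A at hA
  refine le_trans ?_ hA.le_thompsonAOf
  have hAZS : A ⊔ (S ⊓ Subgroup.centralizer (S : Set Ω)) ≤ S := sup_le hA.1 inf_le_left
  have hAA : A ≤ Subgroup.centralizer (A : Set Ω) := by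
    intro a ha
    rw [Subgroup.mem_centralizer_iff]
    intro b hb
    exact hA.2.1 b hb a ha
  have hZA : S ⊓ Subgroup.centralizer (S : Set Ω) ≤ Subgroup.centralizer (A : Set Ω) :=
    inf_le_right.trans (Subgroup.centralizer_le hA.1)
  have h1 : A ≤ Subgroup.centralizer ((A ⊔ (S ⊓ Subgroup.centralizer (S : Set Ω)) : Subgroup Ω) : Set Ω) :=
    Subgroup.le_centralizer_iff.mp (sup_le hAA hZA)
  have h2 : S ⊓ Subgroup.centralizer (S : Set Ω) ≤
      Subgroup.centralizer ((A ⊔ (S ⊓ Subgroup.centralizer (S : Set Ω)) : Subgroup Ω) : Set Ω) :=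
    inf_le_right.trans (Subgroup.centralizer_le hAZS)
  have h3 := sup_le h1 h2
  have hcomm : ∀ x ∈ A ⊔ (S ⊓ Subgroup.centralizer (S : Set Ω)),
      ∀ y ∈ A ⊔ (S ⊓ Subgroup.centralizer (S : Set Ω)), x * y = y * x := by
    intro x hx y hy
    exact ((Subgroup.mem_centralizer_iff.mp (h3 hx)) y hy).symm
  have hle : Nat.card ↥(A ⊔ (S ⊓ Subgroup.centralizer (S : Set Ω))) ≤ Nat.card ↥A :=
    hA.2.2 _ hAZS hcomm
  haveI : Finite ↥(A ⊔ (S ⊓ Subgroup.centralizer (S : Set Ω))) := finite_of_le hAZS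
  have heq : A = A ⊔ (S ⊓ Subgroup.centralizer (S : Set Ω)) :=
    Subgroup.eq_of_le_of_card_ge le_sup_left hle
  rw [heq]
  exact le_sup_right

end Cfsg.Agent.Lib.Helper87
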