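import Cfsg.Agent.Lib.Helper87.NormalizerBasic
import Cfsg.Agent.Lib.Helper87.FusionNormalizer
import Cfsg.Agent.Lib.Helper90.GTNormal

set_option autoImplicit false

/-!
Glauberman functors and fusion systems: basic facts on the subgroup `W(T)` of a subgroup `T` of the ambient group,
and on the condition that every map of a system is a map of the normalizer system of a given subgroup.
-/

namespace Cfsg.Agent.Lib.Helper87.ZJ

open Cfsg Cfsg.FusionSystem Cfsg.Agent.Lib.Helper87

universe u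

/-- `W(T)` as a subgroup of the ambient group. -/
def WSub (W : ∀ (Q : Type u) [Group Q], Subgroup Q) {Ω : Type u} [Group Ω] (T : Subgroup Ω) :
    Subgroup Ω :=
  (W ↥T).map T.subtype

section Basic

variable (W : ∀ (Q : Type u) [Group Q], Subgroup Q) {Ω : Type u} [Group Ω]

theorem WSub_le (T : Subgroup Ω) : WSub W T ≤ T := by
  rintro _ ⟨x, -, rfl⟩
  exact x.2

theorem WSub_congr {T T' : Subgroup Ω} (h : T = T') : WSub W T = WSub W T' := by
  subst h; rfl

variable {p : ℕ} [Fact p.Prime]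
  (hW2 : ∀ (Q R : Type u) [Group Q] [Group R] [Finite Q], IsPGroup p Q → ∀ φ : Q ≃* R,
    (W Q).map φ.toMonoidHom = W R)

include hW2 in
theorem WSub_map {Ω' : Type u} [Group Ω'] (T : Subgroup Ω) [Finite T] (hT : IsPGroup p T)
    (f : ↥T →* Ω') (hf : Function.Injective f) : (W ↥T).map f = WSub W f.range := by
  have h := hW2 ↥T ↥f.range hT (MonoidHom.ofInjective hf)
  unfold WSub
  rw [← h, Subgroup.map_map]
  congr 1

include hW2 in
theorem WSub_map' {Ω' : Type u} [Group Ω'] (T : Subgroup Ω) [Finite T] (hT : IsPGroup p T)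
    (f : ↥T →* Ω') (hf : Function.Injective f) {T' : Subgroup Ω'} (hr : f.range = T') :
    (W ↥T).map f = WSub W T' := by
  rw [WSub_map W hW2 T hT f hf, WSub_congr W hr]

include hW2 in
/-- Elements of `W(T)` are carried into `W(T')` by an injective homomorphism of `T` onto `T'`. -/
theorem map_mem_WSub {Ω' : Type u} [Group Ω'] (T : Subgroup Ω) [Finite T] (hT : IsPGroup p T)
    (f : ↥T →* Ω') (hf : Function.Injective f) {T' : Subgroup Ω'} (hr : f.range = T')
    (x : T) (hx : (x : Ω) ∈ WSub W T) : f x ∈ WSub W T' := by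
  rw [← WSub_map' W hW2 T hT f hf hr]
  obtain ⟨y, hy, hyx⟩ := hx
  have : y = x := Subtype.ext hyx
  subst this
  exact ⟨y, hy, rfl⟩

include hW2 in
theorem conj_mem_WSub (T : Subgroup Ω) [Finite T] (hT : IsPGroup p T) {g : Ω}
    (hg : g ∈ Subgroup.normalizer (T : Set Ω)) {x : Ω} (hx : x ∈ WSub W T) :
    g * x * g⁻¹ ∈ WSub W T := by
  have hxT : x ∈ T := WSub_le W T hx
  have hinj : Function.Injective (conjHom T g) := by
    intro a b hab
    apply Subtype.ext
    have : g * (a : Ω) * g⁻¹ = g * (b : Ω) * g⁻¹ := hab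
    simpa using this
  have hr : (conjHom T g).range = T := by
    ext y
    constructor
    · rintro ⟨a, rfl⟩
      exact (Subgroup.mem_normalizer_iff.mp hg _).mp a.2
    · intro hy
      refine ⟨⟨g⁻¹ * y * g, ?_⟩, ?_⟩
      · have := (Subgroup.mem_normalizer_iff.mp (Subgroup.inv_mem _ hg) y).mp hy
        simpa using this
      · show g * (g⁻¹ * y * g) * g⁻¹ = y
        group
  exact map_mem_WSub W hW2 T hT (conjHom T g) hinj hr ⟨x, hxT⟩ hx

include hW2 in
theorem normalizer_le_normalizer_WSub (T : Subgroup Ω) [Finite T] (hT : IsPGroup p T) :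
    Subgroup.normalizer (T : Set Ω) ≤ Subgroup.normalizer (WSub W T : Set Ω) := by
  intro g hg
  rw [Subgroup.mem_normalizer_iff]
  intro x
  constructor
  · intro hx
    exact conj_mem_WSub W hW2 T hT hg hx
  · intro hx
    have := conj_mem_WSub W hW2 T hT (Subgroup.inv_mem _ hg) hx
    have e : g⁻¹ * (g * x * g⁻¹) * g⁻¹⁻¹ = x := by group
    rwa [e] at this

include hW2 in
theorem normalizerIn_WSub_eq {S : Subgroup Ω} [Finite S] (hS : IsPGroup p S) :
    normalizerIn S (WSub W S) = S := by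
  apply le_antisymm (normalizerIn_le S _)
  intro g hg
  exact ⟨hg, normalizer_le_normalizer_WSub W hW2 S hS (Subgroup.le_normalizer hg)⟩

end Basic

section Ctl

variable {Ω : Type u} [Group Ω] {S : Subgroup Ω}

/-- Every map of the system is a map of the normalizer system of `X`. -/
def Ctl (F : FusionSystem S) (X : Subgroup Ω) : Prop :=
  ∀ (P : Subgroup Ω) (φ : P →* Ω), φ ∈ F.Hom P → φ ∈ F.normalizerHom X P

theorem isNormal_of_ctl (F : FusionSystem S) {X : Subgroup Ω} (hX : X ≤ S) (h : Ctl F X) :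
    F.IsNormal X := by
  refine ⟨hX, fun P φ hφ => ?_⟩
  obtain ⟨-, -, -, ψ, hψ, h1, h2⟩ := h P φ hφ
  exact ⟨ψ, hψ, h1, h2⟩

theorem ctl_of_isNormal (F : FusionSystem S) {X : Subgroup Ω} (h : F.IsNormal X) : Ctl F X := by
  intro P φ hφ
  have hSN := Cfsg.Agent.Lib.Helper90.GT.normal_le_normalizer F h
  obtain ⟨ψ, hψ, h1, h2⟩ := h.2 P φ hφ
  exact ⟨hφ, fun x hx => ⟨hom_le F hφ hx, hSN (hom_le F hφ hx)⟩,
    fun x => ⟨hom_mem F hφ x, hSN (hom_mem F hφ x)⟩, ψ, hψ, h1, h2⟩

/-- A map of a subsystem in which `X` is normal is a map of the normalizer system of `X`. -/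
theorem mem_normalizerHom_of_sub (F : FusionSystem S) {T : Subgroup Ω} (E : FusionSystem T)
    (hEF : ∀ P : Subgroup Ω, E.Hom P ⊆ F.Hom P) {X : Subgroup Ω} (hX : E.IsNormal X)
    (hSX : S ≤ Subgroup.normalizer (X : Set Ω)) {P : Subgroup Ω} {φ : P →* Ω} (hφ : φ ∈ E.Hom P) :
    φ ∈ F.normalizerHom X P := by
  have hφF := hEF P hφ
  obtain ⟨ψ, hψ, h1, h2⟩ := hX.2 P φ hφ
  exact ⟨hφF, fun x hx => ⟨hom_le F hφF hx, hSX (hom_le F hφF hx)⟩,
    fun x => ⟨hom_mem F hφF x, hSX (hom_mem F hφF x)⟩, ψ, hEF _ hψ, h1, h2⟩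

theorem isNormal_bot (F : FusionSystem S) : F.IsNormal ⊥ := by
  refine ⟨bot_le, fun P φ hφ => ?_⟩
  have heq : P ⊔ ⊥ = P := sup_bot_eq P
  refine ⟨φ.comp (Subgroup.inclusion heq.le), cast_mem F heq hφ, fun x => rfl, ?_⟩
  ext y
  constructor
  · rintro ⟨x, hx, rfl⟩
    have hx' : (x : Ω) = 1 := by
      have : (x : Ω) ∈ (⊥ : Subgroup Ω) := hx
      simpa using this
    have : x = 1 := Subtype.ext hx'
    rw [this, map_one]
    exact Subgroup.one_mem _
  · intro hy
    have : y = 1 := by simpa using hy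
    rw [this]
    exact Subgroup.one_mem _

end Ctl

end Cfsg.Agent.Lib.Helper87.ZJ
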