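import Cfsg.Agent.Lib.Helper87.ZJ9
import Cfsg.Agent.Lib.Helper52.PCore

set_option autoImplicit false

/-!
A model of `N_{S C_F(Q)}(P)` inside a model `L` of `N_F(P)`, for `Q ≤ P`: the subgroup of `L` of the elements
inducing on `Q` an automorphism in `Aut_S(Q)`.
-/

namespace Cfsg.Agent.Lib.Helper87.ZJ

open Cfsg Cfsg.FusionSystem Cfsg.Agent.Lib.Helper87

universe u

variable {Ω : Type u} [Group Ω] {S : Subgroup Ω} [Finite S]

section LE

variable {L : Type*} [Group L] {T Q : Subgroup Ω} (ι : ↥T →* L) (hQT : Q ≤ T)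
  (K : Subgroup (MulAut Q))

/-- The elements of `L` inducing on the image of `Q` an automorphism in `K`. -/
def subK : Subgroup L where
  carrier := {g | ∃ κ ∈ K, ∀ q : Q, g * ι ⟨q, hQT q.2⟩ * g⁻¹ = ι ⟨κ q, hQT (κ q).2⟩}
  one_mem' := ⟨1, K.one_mem, fun q => by simp⟩
  mul_mem' := by
    rintro a b ⟨κa, hκa, ha⟩ ⟨κb, hκb, hb⟩
    refine ⟨κa * κb, K.mul_mem hκa hκb, fun q => ?_⟩
    have e : a * b * ι ⟨q, hQT q.2⟩ * (a * b)⁻¹ = a * (b * ι ⟨q, hQT q.2⟩ * b⁻¹) * a⁻¹ := by group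
    rw [e, hb q, ha (κb q)]
    rfl
  inv_mem' := by
    rintro a ⟨κ, hκ, ha⟩
    refine ⟨κ⁻¹, K.inv_mem hκ, fun q => ?_⟩
    have h1 := ha (κ⁻¹ q)
    have h2 : (κ (κ⁻¹ q)) = q := MulAut.apply_inv_self _ _ _
    have h3 : ι ⟨((κ (κ⁻¹ q) : Q) : Ω), hQT (κ (κ⁻¹ q)).2⟩ = ι ⟨q, hQT q.2⟩ := by
      congr 2
      exact congrArg Subtype.val h2
    rw [h3] at h1
    rw [← h1]
    group

theorem mem_subK {g : L} : g ∈ subK ι hQT K ↔
    ∃ κ ∈ K, ∀ q : Q, g * ι ⟨q, hQT q.2⟩ * g⁻¹ = ι ⟨κ q, hQT (κ q).2⟩ := Iff.rfl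

end LE

section Model

variable {p : ℕ} [Fact p.Prime]

theorem range_le_subK {L : Type*} [Group L] {P Q : Subgroup Ω} (hPS : P ≤ S) (hQP : Q ≤ P)
    (hSN : S ≤ Subgroup.normalizer (Q : Set Ω)) (ι : ↥(normalizerIn S P) →* L) :
    ι.range ≤ subK ι (hQP.trans (le_normalizerIn hPS)) (autInducedBy S Q) := by
  rintro _ ⟨t, rfl⟩
  have htS : (t : Ω) ∈ S := t.2.1
  refine ⟨conjAut Q t (hSN htS), conjAut_mem_autInducedBy htS (hSN htS), fun q => ?_⟩
  rw [← map_inv, ← map_mul, ← map_mul]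
  rfl

set_option maxHeartbeats 1600000 in
/-- The realization statement. -/
theorem realized_subK (hS : IsPGroup p S) (F : FusionSystem S) {Q : Subgroup Ω}
    (hQ : F.IsNormal Q) {P : Subgroup Ω} (hPS : P ≤ S) (hQP : Q ≤ P)
    {L : Type*} [Group L] (ι : ↥(normalizerIn S P) →* L)
    (hL : (normalizerSystem F P hPS).IsModel p L ι)
    (NE : FusionSystem (normalizerIn S P)) (hNE : (scSystem F hQ).IsNormalizerSystem P NE) :
    NE.IsRealizedBy (ι.codRestrict (subK ι (hQP.trans (le_normalizerIn hPS)) (autInducedBy S Q))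
      (fun t => range_le_subK hPS hQP
        (Cfsg.Agent.Lib.Helper90.GT.normal_le_normalizer F hQ) ι ⟨t, rfl⟩)) := by
  have hTS : normalizerIn S P ≤ S := normalizerIn_le S P
  haveI : Finite ↥(normalizerIn S P) := finite_of_le hTS
  have hTp : IsPGroup p ↥(normalizerIn S P) := hS.to_le hTS
  have hQT : Q ≤ normalizerIn S P := hQP.trans (le_normalizerIn hPS)
  have hPT : P ≤ normalizerIn S P := le_normalizerIn hPS
  obtain ⟨hfin, hreal, -, -⟩ := id hL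
  have hinj := hreal.1
  have hNF := normalizerSystem_isNormalizerSystem F P hPS
  have hPnorm : ((normalizerSystem F P hPS)).IsNormal P :=
    isNormal_of_isNormalizerSystem F hPS _ hNF
  have hpushn := push_normal_of_isNormal p hTp _ ι hL P hPnorm
  refine ⟨fun a b hab => hinj (congrArg Subtype.val hab), ?_⟩
  intro A hA φ hφ
  have hAPT : A ⊔ P ≤ normalizerIn S P := sup_le hA hPT
  rw [hNE A]
  constructor
  · rintro ⟨hφE, hAN, hφN, ψ, hψE, hψφ, hψP⟩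
    obtain ⟨hψF, θ, hθ, hθψ, κ, hκ, hθκ⟩ := (mem_scSystem_iff F hQ).mp hψE
    have hψN : ψ ∈ (normalizerSystem F P hPS).Hom (A ⊔ P) := by
      rw [hNF]
      exact Cfsg.Agent.Lib.Helper90.GT.mem_normalizerHom_of_le F hψF le_sup_right hAPT hψP
    obtain ⟨g, hg⟩ := exists_conj_of_mem_hom _ hreal hψN
    have hgK : g ∈ subK ι hQT (autInducedBy S Q) := by
      refine ⟨κ, hκ, fun q => ?_⟩
      have h1 := hg ⟨q, (le_sup_right : P ≤ A ⊔ P) (hQP q.2)⟩
      rw [← h1]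
      congr 2
      have h2 := hθψ ⟨q, (le_sup_right : P ≤ A ⊔ P) (hQP q.2)⟩
      have h3 := hθκ q
      have e : (inL (⟨q, (le_sup_right : P ≤ A ⊔ P) (hQP q.2)⟩ : ↥(A ⊔ P)) : ↥((A ⊔ P) ⊔ Q)) =
          inR q := Subtype.ext rfl
      rw [e, h3] at h2
      exact h2.symm
    refine ⟨⟨g, hgK⟩, fun x => ?_⟩
    apply Subtype.ext
    show ι ⟨φ x, hφ x⟩ = g * ι ⟨x, hA x.2⟩ * g⁻¹
    have h1 := hg (Subgroup.inclusion le_sup_left x)
    refine Eq.trans ?_ h1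
    congr 2
    exact (hψφ x).symm
  · rintro ⟨⟨g, κ, hκ, hgκ⟩, hg⟩
    have hg' : ∀ x : A, ι ⟨φ x, hφ x⟩ = g * ι ⟨x, hA x.2⟩ * g⁻¹ := fun x =>
      congrArg Subtype.val (hg x)
    -- the conjugation by `g` on `A ⊔ P`
    have hAM : A ≤ pull ι ((ι.range).comap (MulAut.conj g).toMonoidHom) := by
      intro x hx
      refine mem_pull.mpr ⟨hA hx, ?_⟩
      show g * ι ⟨x, hA hx⟩ * g⁻¹ ∈ ι.range
      rw [← hg' ⟨x, hx⟩]
      exact ⟨_, rfl⟩
    have hPM : P ≤ pull ι ((ι.range).comap (MulAut.conj g).toMonoidHom) := by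
      intro x hx
      refine mem_pull.mpr ⟨hPT hx, ?_⟩
      show g * ι ⟨x, hPT hx⟩ * g⁻¹ ∈ ι.range
      have h1 : ι ⟨x, hPT hx⟩ ∈ push ι P := ⟨⟨x, hPT hx⟩, Subgroup.mem_subgroupOf.mpr hx, rfl⟩
      exact push_le_range ι P (hpushn.conj_mem _ h1 g)
    have hrange : ∀ x : ↥(A ⊔ P), g * ι ⟨x, hAPT x.2⟩ * g⁻¹ ∈ ι.range := fun x =>
      (mem_pull.mp ((sup_le hAM hPM) x.2)).2
    have hψN := pullConj_mem_hom (normalizerSystem F P hPS) hreal (A ⊔ P) hAPT g hrange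
    have hιψ := ι_pullConj ι hinj (A ⊔ P) hAPT g hrange
    have hψF : pullConj ι hinj (A ⊔ P) hAPT g hrange ∈ F.Hom (A ⊔ P) := by
      have := hψN
      rw [hNF] at this
      exact this.1
    have hψext : ∀ x : A, pullConj ι hinj (A ⊔ P) hAPT g hrange (Subgroup.inclusion le_sup_left x) =
        φ x := by
      intro x
      have h1 := hιψ (Subgroup.inclusion le_sup_left x)
      have h2 : (⟨pullConj ι hinj (A ⊔ P) hAPT g hrange (Subgroup.inclusion le_sup_left x),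
          pullConj_mem ι hinj (A ⊔ P) hAPT g hrange _⟩ : ↥(normalizerIn S P)) = ⟨φ x, hφ x⟩ := by
        apply hinj
        rw [h1, hg' x]
        rfl
      exact congrArg Subtype.val h2
    have hψQ : ∀ q : Q, pullConj ι hinj (A ⊔ P) hAPT g hrange
        ⟨q, (le_sup_right : P ≤ A ⊔ P) (hQP q.2)⟩ = ((κ q : Q) : Ω) := by
      intro q
      have h1 := hιψ ⟨q, (le_sup_right : P ≤ A ⊔ P) (hQP q.2)⟩
      have h2 : (⟨pullConj ι hinj (A ⊔ P) hAPT g hrange ⟨q, (le_sup_right : P ≤ A ⊔ P) (hQP q.2)⟩,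
          pullConj_mem ι hinj (A ⊔ P) hAPT g hrange _⟩ : ↥(normalizerIn S P)) =
          ⟨κ q, hQT (κ q).2⟩ := by
        apply hinj
        rw [h1, ← hgκ q]
      exact congrArg Subtype.val h2
    have hψP : (P.subgroupOf (A ⊔ P)).map (pullConj ι hinj (A ⊔ P) hAPT g hrange) = P :=
      map_eq_of_isNormal (normalizerSystem F P hPS) hPnorm le_sup_right hψN
    have hψE : pullConj ι hinj (A ⊔ P) hAPT g hrange ∈ (scSystem F hQ).Hom (A ⊔ P) := by
      refine (mem_scSystem_iff F hQ).mpr ⟨hψF, (pullConj ι hinj (A ⊔ P) hAPT g hrange).comp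
        (Subgroup.inclusion (sup_le le_rfl (hQP.trans le_sup_right))), restrict_mem F _ hψF,
        fun x => rfl, κ, hκ, fun q => hψQ q⟩
    have hφE : φ ∈ (scSystem F hQ).Hom A :=
      hom_congr _ (restrict_mem _ le_sup_left hψE) (fun x => (hψext x).symm)
    exact ⟨hφE, hA, hφ, _, hψE, hψext, hψP⟩

end Model

end Cfsg.Agent.Lib.Helper87.ZJ
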