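import Cfsg.Agent.Lib.Helper87.ZJ10
import Cfsg.Agent.Lib.Helper87.SectionFree1
import Cfsg.Agent.Lib.Helper89.NormalCrit
import Cfsg.Agent.Lib.Helper90.Involves
import Cfsg.Agent.S5091
import Cfsg.Agent.S5103

set_option autoImplicit false

/-!
`S C_F(Q)` is `H`-free when `F` is, provided every automorphism in `Aut_F(Q)` extends to `S`.
-/

namespace Cfsg.Agent.Lib.Helper87.ZJ

open Cfsg Cfsg.FusionSystem Cfsg.Agent.Lib.Helper87

universe u

variable {Ω : Type u} [Group Ω] {S : Subgroup Ω} [Finite S] {p : ℕ} [Fact p.Prime]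

set_option maxHeartbeats 800000 in
theorem isModel_subK (hS : IsPGroup p S) (F : FusionSystem S) {Q : Subgroup Ω}
    (hQ : F.IsNormal Q) {P : Subgroup Ω} (hPS : P ≤ S) (hQP : Q ≤ P)
    {L : Type*} [Group L] (ι : ↥(normalizerIn S P) →* L)
    (hL : (normalizerSystem F P hPS).IsModel p L ι)
    (NE : FusionSystem (normalizerIn S P)) (hNE : (scSystem F hQ).IsNormalizerSystem P NE) :
    NE.IsModel p ↥(subK ι (hQP.trans (le_normalizerIn hPS)) (autInducedBy S Q))
      (ι.codRestrict (subK ι (hQP.trans (le_normalizerIn hPS)) (autInducedBy S Q))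
        (fun t => range_le_subK hPS hQP
          (Cfsg.Agent.Lib.Helper90.GT.normal_le_normalizer F hQ) ι ⟨t, rfl⟩)) := by
  have hreal := realized_subK hS F hQ hPS hQP ι hL NE hNE
  obtain ⟨hfin, -, ⟨TL, hTL⟩, hcL⟩ := id hL
  have hTS : normalizerIn S P ≤ S := normalizerIn_le S P
  haveI : Finite ↥(normalizerIn S P) := finite_of_le hTS
  have hTp : IsPGroup p ↥(normalizerIn S P) := hS.to_le hTS
  have hrle := range_le_subK hPS hQP (Cfsg.Agent.Lib.Helper90.GT.normal_le_normalizer F hQ) ι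
  set LE := subK ι (hQP.trans (le_normalizerIn hPS)) (autInducedBy S Q) with hLE
  set ιE := ι.codRestrict LE (fun t => hrle ⟨t, rfl⟩) with hιE
  refine ⟨inferInstance, hreal, ?_, ?_⟩
  · -- Sylow
    have hp : IsPGroup p ↥ιE.range := hTp.of_surjective ιE.rangeRestrict ιE.rangeRestrict_surjective
    obtain ⟨P', hP'⟩ := hp.exists_le_sylow
    refine ⟨P', le_antisymm ?_ hP'⟩
    have hpmap : IsPGroup p ↥((P' : Subgroup ↥LE).map LE.subtype) := P'.isPGroup'.map _
    have hle : (TL : Subgroup L) ≤ (P' : Subgroup ↥LE).map LE.subtype := by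
      rw [hTL]
      rintro _ ⟨t, rfl⟩
      exact ⟨ιE t, hP' ⟨t, rfl⟩, rfl⟩
    have heq := TL.is_maximal' hpmap hle
    intro x hx
    have hx' : (x : L) ∈ (P' : Subgroup ↥LE).map LE.subtype := ⟨x, hx, rfl⟩
    rw [heq, hTL] at hx'
    obtain ⟨t, ht⟩ := hx'
    exact ⟨t, Subtype.ext ht⟩
  · -- centralizer
    have hOn : (Cfsg.pCore p L).Normal := Cfsg.Agent.Lib.Helper52.pCore_normal p L
    have hOp : IsPGroup p ↥(Cfsg.pCore p L) := Cfsg.Agent.Lib.Helper52.pCore_isPGroup p L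
    have hOT : Cfsg.pCore p L ≤ ι.range := by
      rw [← hTL]; exact Cfsg.Agent.Lib.Helper52.pCore_le_sylow p L TL
    have hOLE : Cfsg.pCore p L ≤ LE := hOT.trans hrle
    have hO'n : ((Cfsg.pCore p L).subgroupOf LE).Normal := hOn.subgroupOf LE
    have hO'p : IsPGroup p ↥((Cfsg.pCore p L).subgroupOf LE) := hOp.comap_subtype
    have hO'le : (Cfsg.pCore p L).subgroupOf LE ≤ Cfsg.pCore p ↥LE :=
      Cfsg.Agent.Lib.Helper52.le_pCore hO'n hO'p
    intro g hg
    apply hO'le
    apply Subgroup.mem_subgroupOf.mpr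
    apply hcL
    rw [Subgroup.mem_centralizer_iff]
    intro o ho
    have h1 : (⟨o, hOLE ho⟩ : ↥LE) ∈ Cfsg.pCore p ↥LE :=
      hO'le (Subgroup.mem_subgroupOf.mpr ho)
    have h2 := (Subgroup.mem_centralizer_iff.mp hg) ⟨o, hOLE ho⟩ h1
    exact congrArg Subtype.val h2

set_option maxHeartbeats 800000 in
/-- `S C_F(Q)` is `H`-free. -/
theorem isSectionFree_scSystem (hS : IsPGroup p S) (F : FusionSystem S) (hF : F.IsSaturated p)
    {Q : Subgroup Ω} (hQ : F.IsNormal Q)
    (hext : ∀ lam : Q →* Ω, lam ∈ F.Hom Q → ∃ lt : S →* Ω, lt ∈ F.Hom S ∧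
      ∀ q : Q, lt ⟨q, hQ.1 q.2⟩ = lam q)
    (H : Type*) [Group H] (hfree : F.IsSectionFree p H) : (scSystem F hQ).IsSectionFree p H := by
  have hEsat := isSaturated_scSystem hS F hF hQ
  apply isSectionFree_of_radical p hS _ hEsat H
  intro P hfnE hcenE hradE NE hNE M _ j hM hinv
  have hQP : Q ≤ P :=
    Cfsg.Agent.Lib.Helper89.IsNormal.le_of_centric_radical hS (isNormal_scSystem F hQ) hcenE hradE
  have hPS : P ≤ S := hfnE.1
  have hfnF := isFullyNormalized_of_scSystem F hQ hext hQP hfnE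
  have hcenF := isCentric_of_scSystem F hQ hext hQP hcenE
  have hTS : normalizerIn S P ≤ S := normalizerIn_le S P
  haveI : Finite ↥(normalizerIn S P) := finite_of_le hTS
  have hTp : IsPGroup p ↥(normalizerIn S P) := hS.to_le hTS
  have hNF := normalizerSystem_isNormalizerSystem F P hPS
  have hcon := isConstrained_normalizerSystem p hS F hF P hfnF hcenF _ hNF
  obtain ⟨L, _, ι, hL⟩ := Cfsg.Agent.S5090.result p hTp _ hcon
  have hnot := hfree P hfnF hcenF _ hNF L ι hL
  have hME := isModel_subK hS F hQ hPS hQP ι hL NE hNE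
  have hNEcon := Cfsg.Agent.S5103.result p hTp NE j hM
  obtain ⟨e, -⟩ := Cfsg.Agent.S5091.result p hTp NE hNEcon j _ hM hME
  apply hnot
  exact Cfsg.Agent.Lib.Helper90.Involves.of_injective_right
    ((Subgroup.subtype _).comp e.toMonoidHom)
    ((Subgroup.subtype_injective _).comp e.injective) hinv

end Cfsg.Agent.Lib.Helper87.ZJ
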