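import Cfsg.Agent.Lib.Helper87.ZJ6
import Cfsg.Agent.Lib.Helper90.StabChain
import Cfsg.Agent.Lib.Helper90.FusionRadical
import Cfsg.Agent.Lib.Helper91.FusionConstrained

set_option autoImplicit false

/-!
Automorphisms of an overgroup `P` of the normal subgroup `Q` which act modulo `Q` as conjugation by an element of a
subgroup `V`: when `Aut_F(Q)` is a `p`-group they form a `p`-group.
-/

namespace Cfsg.Agent.Lib.Helper87.ZJ

open Cfsg Cfsg.FusionSystem Cfsg.Agent.Lib.Helper87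

universe u

variable {Ω : Type u} [Group Ω] {S : Subgroup Ω} [Finite S]

theorem mod_pow {P : Type*} [Group P] (R : Subgroup P) (β : MulAut P)
    (h : ∀ x : P, x⁻¹ * β x ∈ R) (k : ℕ) : ∀ x : P, x⁻¹ * (β ^ k) x ∈ R := by
  induction k with
  | zero => intro x; simp
  | succ k ih =>
    intro x
    have e : x⁻¹ * (β ^ (k + 1)) x = (x⁻¹ * β x) * ((β x)⁻¹ * (β ^ k) (β x)) := by
      rw [pow_succ, MulAut.mul_apply]
      group
    rw [e]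
    exact R.mul_mem (h x) (ih (β x))

/-- An automorphism in `Aut_F(P)` that is trivial modulo `Q` has `p`-power order, if `Aut_F(Q)` is a `p`-group. -/
theorem pow_eq_one_of_mod (p : ℕ) [Fact p.Prime] (hS : IsPGroup p S) (F : FusionSystem S)
    {P Q : Subgroup Ω} (hQ : F.IsNormal Q) (hQP : Q ≤ P) (hPS : P ≤ S)
    (hAut : F.autGroup Q ≤ autInducedBy S Q) {β : MulAut P} (hβ : β ∈ F.autGroup P)
    (hmod : ∀ x : P, (x : Ω)⁻¹ * ((β x : P) : Ω) ∈ Q) : ∃ k : ℕ, β ^ p ^ k = 1 := by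
  have hsc := Cfsg.Agent.Lib.Helper90.IsNormal.stronglyClosed F hQ
  haveI : Finite P := finite_of_le hPS
  have hPp : IsPGroup p P := hS.to_le hPS
  have hpres : ∀ γ ∈ F.autGroup P, ∀ x : Q, ((γ ⟨x, hQP x.2⟩ : P) : Ω) ∈ Q := fun γ hγ x =>
    Cfsg.Agent.Lib.Helper88.aut_map_mem_of_stronglyClosed hsc hPS hγ (w := ⟨x, hQP x.2⟩) x.2
  have h := hpres β hβ
  have h' := hpres β⁻¹ ((F.autGroup P).inv_mem hβ)
  have hβ₀ := Cfsg.Agent.Lib.Helper90.restrictAut_mem_autGroup F hPS hQP β hβ h h'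
  have hKp : IsPGroup p ↥(autInducedBy S Q) := isPGroup_autInducedBy hS Q
  obtain ⟨k₁, hk₁⟩ := hKp ⟨_, hAut hβ₀⟩
  have hk₁' : (Cfsg.Agent.Lib.Helper90.restrictAut hQP β h h') ^ p ^ k₁ = 1 :=
    congrArg Subtype.val hk₁
  -- `γ = β ^ (p ^ k₁)` fixes `Q` and is trivial modulo `Q`
  have hγfix : ∀ x : P, (x : Ω) ∈ Q → (β ^ p ^ k₁) x = x := by
    intro x hx
    have := Cfsg.Agent.Lib.Helper90.restrictAut_pow_apply hQP β h h' (p ^ k₁) ⟨x, hx⟩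
    rw [hk₁'] at this
    apply Subtype.ext
    exact this.symm
  have hmod' : ∀ x : P, x⁻¹ * β x ∈ Q.subgroupOf P := fun x =>
    Subgroup.mem_subgroupOf.mpr (hmod x)
  have hγmod := mod_pow (Q.subgroupOf P) β hmod' (p ^ k₁)
  obtain ⟨e, he⟩ := hPp.exists_card_eq
  have hm : ∀ x : P, x ^ (p ^ e) = 1 := fun x => by rw [← he]; exact pow_card_eq_one'
  have h1 := Cfsg.Agent.Lib.Helper90.stab_chain_pow_eq_one hm
    (Cfsg.Agent.Lib.Helper91.twoStepChain (Q.subgroupOf P)) rfl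
    (Cfsg.Agent.Lib.Helper91.twoStepChain_monotone _) 2 rfl (β ^ p ^ k₁) (by
      intro i x hx
      match i with
      | 0 =>
        have hxQ : (x : Ω) ∈ Q := Subgroup.mem_subgroupOf.mp hx
        show x⁻¹ * (β ^ p ^ k₁) x ∈ (⊥ : Subgroup P)
        rw [hγfix x hxQ]
        simp
      | 1 => exact hγmod x
      | (n + 2) => exact Subgroup.mem_top _)
  refine ⟨k₁ + e * 2, ?_⟩
  rw [pow_add, pow_mul, pow_mul]
  exact h1

section Lift

variable (F : FusionSystem S) {P Q V : Subgroup Ω}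

/-- `α ≡ c_v` modulo `Q` on `P`. -/
def IsLift (Q : Subgroup Ω) {P : Subgroup Ω} (α : MulAut P) (v : Ω) : Prop :=
  ∀ x : P, ((α x : P) : Ω)⁻¹ * (v * x * v⁻¹) ∈ Q

omit [Finite S] in
theorem IsLift.mul (hSN : S ≤ Subgroup.normalizer (Q : Set Ω)) {α β : MulAut P} {v w : Ω}
    (hvS : v ∈ S) (hα : IsLift Q α v) (hβ : IsLift Q β w) : IsLift Q (α * β) (v * w) := by
  intro x
  have h1 := hβ x
  have h2 := hα (β x)
  have h3 : v * (((β x : P) : Ω)⁻¹ * (w * x * w⁻¹)) * v⁻¹ ∈ Q :=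
    (Subgroup.mem_normalizer_iff.mp (hSN hvS) _).mp h1
  have e : (((α * β) x : P) : Ω)⁻¹ * (v * w * x * (v * w)⁻¹) =
      (((α (β x) : P) : Ω)⁻¹ * (v * ((β x : P) : Ω) * v⁻¹)) *
        (v * (((β x : P) : Ω)⁻¹ * (w * x * w⁻¹)) * v⁻¹) := by
    rw [MulAut.mul_apply]
    group
  rw [e]
  exact Q.mul_mem h2 h3

omit [Finite S] in
theorem IsLift.one : IsLift Q (1 : MulAut P) (1 : Ω) := by
  intro x
  simp

omit [Finite S] in
theorem IsLift.inv (hSN : S ≤ Subgroup.normalizer (Q : Set Ω)) {α : MulAut P} {v : Ω}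
    (hvS : v ∈ S) (hα : IsLift Q α v) : IsLift Q α⁻¹ v⁻¹ := by
  intro x
  have h1 := hα (α⁻¹ x)
  rw [MulAut.apply_inv_self] at h1
  have h2 : v⁻¹ * ((x : Ω)⁻¹ * (v * ((α⁻¹ x : P) : Ω) * v⁻¹))⁻¹ * v⁻¹⁻¹ ∈ Q :=
    (Subgroup.mem_normalizer_iff.mp (hSN (S.inv_mem hvS)) _).mp (Q.inv_mem h1)
  have e : ((α⁻¹ x : P) : Ω)⁻¹ * (v⁻¹ * x * v⁻¹⁻¹) =
      v⁻¹ * ((x : Ω)⁻¹ * (v * ((α⁻¹ x : P) : Ω) * v⁻¹))⁻¹ * v⁻¹⁻¹ := by group
  rw [e]
  exact h2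

omit [Finite S] in
theorem IsLift.pow (hSN : S ≤ Subgroup.normalizer (Q : Set Ω)) {α : MulAut P} {v : Ω}
    (hvS : v ∈ S) (hα : IsLift Q α v) (n : ℕ) : IsLift Q (α ^ n) (v ^ n) := by
  induction n with
  | zero => simpa using IsLift.one
  | succ n ih =>
    rw [pow_succ', pow_succ']
    exact IsLift.mul hSN hvS hα ih

/-- The automorphisms in `Aut_F(P)` acting modulo `Q` as conjugation by an element of `V`. -/
def liftAut (hQ : F.IsNormal Q) (hVS : V ≤ S) (P : Subgroup Ω) : Subgroup (MulAut P) where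
  carrier := {α | α ∈ F.autGroup P ∧ ∃ v ∈ V, IsLift Q α v}
  one_mem' := ⟨Subgroup.one_mem _, 1, V.one_mem, IsLift.one⟩
  mul_mem' := by
    rintro α β ⟨hα, v, hv, hαv⟩ ⟨hβ, w, hw, hβw⟩
    exact ⟨Subgroup.mul_mem _ hα hβ, v * w, V.mul_mem hv hw,
      IsLift.mul (Cfsg.Agent.Lib.Helper90.GT.normal_le_normalizer F hQ) (hVS hv) hαv hβw⟩
  inv_mem' := by
    rintro α ⟨hα, v, hv, hαv⟩
    exact ⟨Subgroup.inv_mem _ hα, v⁻¹, V.inv_mem hv,
      IsLift.inv (Cfsg.Agent.Lib.Helper90.GT.normal_le_normalizer F hQ) (hVS hv) hαv⟩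

theorem isPGroup_liftAut (p : ℕ) [Fact p.Prime] (hS : IsPGroup p S) (hQ : F.IsNormal Q)
    (hVS : V ≤ S) (hQP : Q ≤ P) (hPS : P ≤ S) (hAut : F.autGroup Q ≤ autInducedBy S Q) :
    IsPGroup p ↥(liftAut F hQ hVS P) := by
  rintro ⟨α, hα, v, hv, hαv⟩
  have hSN := Cfsg.Agent.Lib.Helper90.GT.normal_le_normalizer F hQ
  obtain ⟨a, ha⟩ := hS ⟨v, hVS hv⟩
  have ha' : v ^ p ^ a = 1 := congrArg Subtype.val ha
  have h1 := IsLift.pow hSN (hVS hv) hαv (p ^ a)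
  rw [ha'] at h1
  have hmod : ∀ x : P, (x : Ω)⁻¹ * (((α ^ p ^ a) x : P) : Ω) ∈ Q := by
    intro x
    have h2 := Q.inv_mem (h1 x)
    have e : ((((α ^ p ^ a) x : P) : Ω)⁻¹ * (1 * (x : Ω) * 1⁻¹))⁻¹ =
        (x : Ω)⁻¹ * (((α ^ p ^ a) x : P) : Ω) := by group
    rwa [e] at h2
  obtain ⟨k, hk⟩ := pow_eq_one_of_mod p hS F hQ hQP hPS hAut
    ((F.autGroup P).pow_mem hα (p ^ a)) hmod
  refine ⟨a + k, Subtype.ext ?_⟩
  show α ^ p ^ (a + k) = 1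
  rw [pow_add, pow_mul]
  exact hk

end Lift

end Cfsg.Agent.Lib.Helper87.ZJ
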