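import Cfsg.Agent.Lib.Helper87.ZJ12
import Cfsg.Agent.Lib.Helper88.FusionFactor6
import Cfsg.Agent.Lib.Helper89.NormalCrit
import Cfsg.Agent.S5134
import Cfsg.Agent.S5086

set_option autoImplicit false

/-!
Lifting normal subgroups from the factor system `F/Q`: if `Aut_F(Q)` is a `p`-group and `V/Q` is normal in `F/Q`, then
`V` is normal in `F`.
-/

namespace Cfsg.Agent.Lib.Helper87.ZJ

open Cfsg Cfsg.FusionSystem Cfsg.Agent.Lib.Helper87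

universe u

variable {Ω : Type u} [Group Ω] {S : Subgroup Ω} [Finite S]
variable {Ω' : Type*} [Group Ω'] {S' : Subgroup Ω'}

/-- The preimage of a strongly closed subgroup of the factor system is strongly closed. -/
theorem stronglyClosed_preimageAlong (F : FusionSystem S) (F' : FusionSystem S') (θ : S →* Ω')
    (hmor : F.IsMorphism F' θ) {V' : Subgroup Ω'} (hV' : F'.StronglyClosed V') :
    F.StronglyClosed (preimageAlong θ V') := by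
  refine ⟨Cfsg.Agent.Lib.Helper88.preimageAlong_le θ V', fun R hR φ hφ x => ?_⟩
  obtain ⟨φ', hφ', hP_, hφ_, hP'_, hind⟩ := hmor.2 R φ hφ
  have hle : imageAlong θ R ≤ V' := by
    rintro _ ⟨r, hr, rfl⟩
    have hrR : (r : Ω) ∈ R := Subgroup.mem_subgroupOf.mp hr
    obtain ⟨hrS, hrV⟩ := (Cfsg.Agent.Lib.Helper88.mem_preimageAlong θ V' _).mp (hR hrR)
    exact hrV
  have h1 := hV'.2 (imageAlong θ R) hle φ' hφ' ⟨θ ⟨x, hP_ x.2⟩, hP'_ x⟩
  rw [hind x] at h1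
  exact (Cfsg.Agent.Lib.Helper88.mem_preimageAlong θ V' _).mpr ⟨hφ_ x, h1⟩

set_option maxHeartbeats 1600000 in
/-- `Aut_F(P)` normalizes the group of automorphisms acting modulo `Q` as conjugation by elements of `V`. -/
theorem liftAut_conj_mem (F : FusionSystem S) {Q : Subgroup Ω} (hQ : F.IsNormal Q)
    (F' : FusionSystem S') (θ : S →* Ω') (hmor : F.IsMorphism F' θ)
    (hker : ∀ s : S, θ s = 1 ↔ (s : Ω) ∈ Q) (hrange : θ.range = S')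
    {V' : Subgroup Ω'} (hV' : F'.IsNormal V')
    {P : Subgroup Ω} (hQP : Q ≤ P) (hPS : P ≤ S)
    {γ α : MulAut P} (hγ : γ ∈ F.autGroup P)
    (hα : α ∈ liftAut F hQ (Cfsg.Agent.Lib.Helper88.preimageAlong_le θ V') P) :
    γ * α * γ⁻¹ ∈ liftAut F hQ (Cfsg.Agent.Lib.Helper88.preimageAlong_le θ V') P := by
  obtain ⟨hαF, v, hv, hαv⟩ := hα
  refine ⟨Subgroup.mul_mem _ (Subgroup.mul_mem _ hγ hαF) (Subgroup.inv_mem _ hγ), ?_⟩
  have hγF : P.subtype.comp γ.toMonoidHom ∈ F.Hom P := autGroup_hom_mem F hPS hγ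
  obtain ⟨γ', hγ', hP_, hφ_, hP'_, hind⟩ := hmor.2 P _ hγF
  obtain ⟨ψ', hψ', hψ'ext, hψ'V⟩ := hV'.2 _ γ' hγ'
  obtain ⟨hvS, hvV'⟩ := (Cfsg.Agent.Lib.Helper88.mem_preimageAlong θ V' v).mp hv
  have hψ'tv : ψ' ⟨θ ⟨v, hvS⟩, (le_sup_right : V' ≤ imageAlong θ P ⊔ V') hvV'⟩ ∈ V' :=
    hψ'V.le ⟨_, Subgroup.mem_subgroupOf.mpr hvV', rfl⟩
  have hV'S' : V' ≤ S' := hV'.1
  obtain ⟨w, hw⟩ : ∃ w : S, θ w =
      ψ' ⟨θ ⟨v, hvS⟩, (le_sup_right : V' ≤ imageAlong θ P ⊔ V') hvV'⟩ := by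
    have : ψ' ⟨θ ⟨v, hvS⟩, (le_sup_right : V' ≤ imageAlong θ P ⊔ V') hvV'⟩ ∈ θ.range := by
      rw [hrange]; exact hV'S' hψ'tv
    exact this
  have hwV : (w : Ω) ∈ preimageAlong θ V' :=
    (Cfsg.Agent.Lib.Helper88.mem_preimageAlong θ V' _).mpr ⟨w.2, by rw [hw]; exact hψ'tv⟩
  refine ⟨w, hwV, fun x => ?_⟩
  -- notation
  have himg : ∀ y : P, θ ⟨y, hPS y.2⟩ ∈ imageAlong θ P := fun y =>
    ⟨⟨y, hPS y.2⟩, Subgroup.mem_subgroupOf.mpr y.2, rfl⟩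
  have hψ'P : ∀ y : P, ψ' ⟨θ ⟨y, hPS y.2⟩, (le_sup_left : imageAlong θ P ≤ _) (himg y)⟩ =
      θ ⟨((γ y : P) : Ω), hPS (γ y).2⟩ := by
    intro y
    have h1 := hψ'ext ⟨θ ⟨y, hPS y.2⟩, himg y⟩
    have h2 := hind y
    exact h1.trans h2
  set y : P := γ⁻¹ x with hy
  have hγy : γ y = x := MulAut.apply_inv_self _ _ _
  have hq := hαv y
  -- `z = v y v⁻¹ ∈ P`
  have hzP : v * (y : Ω) * v⁻¹ ∈ P := by
    have e : v * (y : Ω) * v⁻¹ = ((α y : P) : Ω) * (((α y : P) : Ω)⁻¹ * (v * y * v⁻¹)) := by group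
    rw [e]
    exact P.mul_mem (α y).2 (hQP hq)
  have hθz : θ ⟨v * (y : Ω) * v⁻¹, hPS hzP⟩ = θ ⟨((α y : P) : Ω), hPS (α y).2⟩ := by
    have h1 : θ (⟨((α y : P) : Ω), hPS (α y).2⟩⁻¹ * ⟨v * (y : Ω) * v⁻¹, hPS hzP⟩) = 1 :=
      (hker _).mpr hq
    rw [map_mul, map_inv, inv_mul_eq_one] at h1
    exact h1.symm
  -- compute `θ (γ (α y))`
  have h3 : θ ⟨((γ (α y) : P) : Ω), hPS (γ (α y)).2⟩ =
      θ w * θ ⟨((γ y : P) : Ω), hPS (γ y).2⟩ * (θ w)⁻¹ := by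
    rw [← hψ'P (α y), ← hψ'P y, hw]
    have e : (⟨θ ⟨((α y : P) : Ω), hPS (α y).2⟩, (le_sup_left : imageAlong θ P ≤ _) (himg (α y))⟩ :
        ↥(imageAlong θ P ⊔ V')) =
        ⟨θ ⟨v, hvS⟩, (le_sup_right : V' ≤ imageAlong θ P ⊔ V') hvV'⟩ *
          ⟨θ ⟨y, hPS y.2⟩, (le_sup_left : imageAlong θ P ≤ _) (himg y)⟩ *
          ⟨θ ⟨v, hvS⟩, (le_sup_right : V' ≤ imageAlong θ P ⊔ V') hvV'⟩⁻¹ := by
      apply Subtype.ext
      show θ ⟨((α y : P) : Ω), hPS (α y).2⟩ = θ ⟨v, hvS⟩ * θ ⟨y, hPS y.2⟩ * (θ ⟨v, hvS⟩)⁻¹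
      rw [← hθz, ← map_inv, ← map_mul, ← map_mul]
      rfl
    rw [e, map_mul, map_mul, map_inv]
  -- conclude
  have h4 : θ (⟨(((γ * α * γ⁻¹) x : P) : Ω), hPS ((γ * α * γ⁻¹) x).2⟩⁻¹ *
      ⟨(w : Ω) * x * (w : Ω)⁻¹, S.mul_mem (S.mul_mem w.2 (hPS x.2)) (S.inv_mem w.2)⟩) = 1 := by
    rw [map_mul, map_inv, inv_mul_eq_one]
    have e1 : (γ * α * γ⁻¹) x = γ (α y) := rfl
    have e2 : (⟨(w : Ω) * x * (w : Ω)⁻¹, S.mul_mem (S.mul_mem w.2 (hPS x.2)) (S.inv_mem w.2)⟩ : S) =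
        w * ⟨((γ y : P) : Ω), hPS (γ y).2⟩ * w⁻¹ := by
      apply Subtype.ext
      show (w : Ω) * x * (w : Ω)⁻¹ = (w : Ω) * ((γ y : P) : Ω) * (w : Ω)⁻¹
      rw [hγy]
    rw [e2, map_mul, map_mul, map_inv, ← h3]
    rfl
  exact (hker _).mp h4

/-- If `Aut_F(Q)` is a `p`-group, the preimage of a normal subgroup of `F/Q` lies in every centric radical subgroup. -/
theorem preimage_le_of_centric_radical (p : ℕ) [Fact p.Prime] (hS : IsPGroup p S)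
    (F : FusionSystem S) {Q : Subgroup Ω} (hQ : F.IsNormal Q)
    (hAut : F.autGroup Q ≤ autInducedBy S Q)
    (F' : FusionSystem S') (θ : S →* Ω') (hmor : F.IsMorphism F' θ)
    (hker : ∀ s : S, θ s = 1 ↔ (s : Ω) ∈ Q) (hrange : θ.range = S')
    {V' : Subgroup Ω'} (hV' : F'.IsNormal V')
    {P : Subgroup Ω} (hPc : F.IsCentric P) (hPr : F.IsRadical p P) : preimageAlong θ V' ≤ P := by
  have hPS := hPc.1
  have hVS := Cfsg.Agent.Lib.Helper88.preimageAlong_le θ V'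
  have hQP : Q ≤ P := Cfsg.Agent.Lib.Helper89.IsNormal.le_of_centric_radical hS hQ hPc hPr
  have hVsc := stronglyClosed_preimageAlong F F' θ hmor
    (Cfsg.Agent.Lib.Helper90.IsNormal.stronglyClosed F' hV')
  have hVconj := Cfsg.Agent.Lib.Helper90.StronglyClosed.conj_mem F hVsc
  by_contra hVP
  have hPVS : P ⊔ preimageAlong θ V' ≤ S := sup_le hPS hVS
  have hne : P ≠ P ⊔ preimageAlong θ V' := fun h => hVP (h ▸ le_sup_right)
  have : Finite ↥(P ⊔ preimageAlong θ V') := finite_of_le hPVS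
  have hpg : IsPGroup p ↥(P ⊔ preimageAlong θ V') := hS.to_le hPVS
  obtain ⟨g, hgN, hgP⟩ := Cfsg.Agent.Lib.Helper89.exists_mem_normalizerIn_not_mem hpg
    (le_sup_left : P ≤ P ⊔ preimageAlong θ V') hne
  obtain ⟨y, hy, v, hv, rfl⟩ := Cfsg.Agent.Lib.Helper88.exists_mul_of_mem_sup
    (fun x hx t ht => hVconj x (hPS hx) t ht) hgN.1
  have hvN : v ∈ Subgroup.normalizer (P : Set Ω) := by
    have h1 : y ∈ Subgroup.normalizer (P : Set Ω) := Subgroup.le_normalizer hy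
    have e : v = y⁻¹ * (y * v) := by group
    rw [e]
    exact Subgroup.mul_mem _ (Subgroup.inv_mem _ h1) hgN.2
  apply hgP
  refine P.mul_mem hy ?_
  have hD := Cfsg.Agent.Lib.Helper91.inf_autGroup_le_inn_of_isRadical F hPr
    (liftAut F hQ hVS P) (isPGroup_liftAut F p hS hQ hVS hQP hPS hAut)
    (fun γ hγ α hα => liftAut_conj_mem F hQ F' θ hmor hker hrange hV' hQP hPS hγ hα)
  have hcA : conjAut P v hvN ∈ F.autGroup P :=
    autInducedBy_le_autGroup F hPS (conjAut_mem_autInducedBy (hVS hv) hvN)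
  have hcD : conjAut P v hvN ∈ liftAut F hQ hVS P := by
    refine ⟨hcA, v, hv, fun x => ?_⟩
    show (v * (x : Ω) * v⁻¹)⁻¹ * (v * (x : Ω) * v⁻¹) ∈ Q
    rw [inv_mul_cancel]
    exact Q.one_mem
  have hconv : Cfsg.Agent.Lib.Helper89.conjAut P v hvN = conjAut P v hvN :=
    MulEquiv.ext fun x => Subtype.ext rfl
  have hinn : Cfsg.Agent.Lib.Helper89.conjAut P v hvN ∈ Inn P := by
    rw [hconv]
    exact hD ⟨hcD, hcA⟩
  exact Cfsg.Agent.Lib.Helper89.mem_of_conjAut_mem_inn F hPc (hVS hv) hvN hinn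

/-- The lifting theorem. -/
theorem isNormal_preimageAlong (p : ℕ) [Fact p.Prime] (hS : IsPGroup p S)
    (F : FusionSystem S) (hF : F.IsSaturated p) {Q : Subgroup Ω} (hQ : F.IsNormal Q)
    (hAut : F.autGroup Q ≤ autInducedBy S Q)
    (F' : FusionSystem S') (θ : S →* Ω') (hfac : F.IsFactorSystem Q θ F')
    {V' : Subgroup Ω'} (hV' : F'.IsNormal V') : F.IsNormal (preimageAlong θ V') := by
  have hsc := Cfsg.Agent.Lib.Helper90.IsNormal.stronglyClosed F hQ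
  have hmor := (Cfsg.Agent.S5134.result p hS F hF Q hsc θ F' hfac).1
  obtain ⟨-, hker, hrange, -⟩ := hfac
  rw [Cfsg.Agent.S5086.result p hS F hF]
  refine ⟨stronglyClosed_preimageAlong F F' θ hmor
    (Cfsg.Agent.Lib.Helper90.IsNormal.stronglyClosed F' hV'), fun P hPc hPr => ?_⟩
  exact preimage_le_of_centric_radical p hS F hQ hAut F' θ hmor hker hrange hV' hPc hPr

end Cfsg.Agent.Lib.Helper87.ZJ
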