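import Cfsg.Agent.Lib.Helper87.ZJ3

set_option autoImplicit false

/-!
The local-to-global principle for a positive characteristic functor `W`: if `W(N_S(U))` is normal in `N_F(U)` for
every nontrivial fully normalized `U`, then `W(S)` is normal in `F`.
-/

namespace Cfsg.Agent.Lib.Helper87.ZJ

open Cfsg Cfsg.FusionSystem Cfsg.Agent.Lib.Helper87

universe u

variable {Ω : Type u} [Group Ω] {S : Subgroup Ω} [Finite S]

variable (W : ∀ (Q : Type u) [Group Q], Subgroup Q) {p : ℕ} [Fact p.Prime]
  (hW1 : ∀ (Q : Type u) [Group Q] [Finite Q], IsPGroup p Q → Nontrivial Q → W Q ≠ ⊥)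
  (hW2 : ∀ (Q R : Type u) [Group Q] [Group R] [Finite Q], IsPGroup p Q → ∀ φ : Q ≃* R,
    (W Q).map φ.toMonoidHom = W R)

include hW1 hW2 in
theorem tower_all (hS : IsPGroup p S) (F : FusionSystem S) (hF : F.IsSaturated p)
    (HA : ∀ (U : Subgroup Ω) (hfn : F.IsFullyNormalized U), U ≠ ⊥ →
      (normalizerSystem F U hfn.1).IsNormal (WSub W (normalizerIn S U))) :
    ∀ (d : ℕ) (U : Subgroup Ω), F.IsFullyNormalized U → U ≠ ⊥ →
      Nat.card S - Nat.card ↥(normalizerIn S U) = d → KProp F (WSub W S) U := by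
  intro d
  induction d using Nat.strong_induction_on with
  | _ d ih =>
    intro U hfn hne hd
    by_cases hT : normalizerIn S U = S
    · exact tower_top W hW2 hS F hfn.1 (HA U hfn hne) hT
    · apply tower_step W hW1 hW2 hS F hF hfn hne (HA U hfn hne) hT
      intro U' hne' hfn' hcard
      haveI : Finite ↥(normalizerIn S U') := finite_of_le (normalizerIn_le S U')
      have h1 : Nat.card ↥(normalizerIn S U') ≤ Nat.card S := card_le_of_le (normalizerIn_le S U')
      exact ih (Nat.card S - Nat.card ↥(normalizerIn S U')) (by omega) U' hfn' hne' rfl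

include hW1 hW2 in
theorem tower (hS : IsPGroup p S) (F : FusionSystem S) (hF : F.IsSaturated p)
    (HA : ∀ (U : Subgroup Ω) (hfn : F.IsFullyNormalized U), U ≠ ⊥ →
      (normalizerSystem F U hfn.1).IsNormal (WSub W (normalizerIn S U))) :
    F.IsNormal (WSub W S) := by
  have hXS : WSub W S ≤ S := WSub_le W S
  by_cases hS1 : S = ⊥
  · have : WSub W S = ⊥ := by
      rw [eq_bot_iff]
      exact hXS.trans hS1.le
    rw [this]
    exact isNormal_bot F
  have hK : ∀ U : Subgroup Ω, F.IsFullyNormalized U → U ≠ ⊥ → KProp F (WSub W S) U :=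
    fun U hfn hne => tower_all W hW1 hW2 hS F hF HA _ U hfn hne rfl
  apply isNormal_of_ctl F hXS
  intro A φ hφ
  have hD : ∀ P : Subgroup Ω, (normalizerSystem F (WSub W S) hXS).Hom P =
      F.normalizerHom (WSub W S) P := normalizerSystem_isNormalizerSystem F _ hXS
  have hDF : ∀ P : Subgroup Ω, (normalizerSystem F (WSub W S) hXS).Hom P ⊆ F.Hom P := by
    intro P χ hχ
    rw [hD P] at hχ
    exact hχ.1
  have hST : S ≤ normalizerIn S (WSub W S) := (normalizerIn_WSub_eq W hW2 hS).ge
  haveI : Finite A := finite_of_le (hom_le F hφ)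
  have hA0 : 0 < Nat.card A := Nat.card_pos
  rw [← hD A]
  apply threshold p hS F hF _ hST hDF 0 _ hφ hA0
  intro P hP _ α hα
  have hPS : P ≤ S := hom_le F hα
  have hPfn : F.IsFullyNormalized P := by
    rcases hP with hP | hP
    · rw [hP]
      exact isFullyNormalized_of_normalizerIn_eq F le_rfl (normalizerIn_self S)
    · exact hP.2.1
  have hPne : P ≠ ⊥ := by
    rcases hP with hP | hP
    · rw [hP]; exact hS1
    · intro hbot
      apply hS1
      have h1 := hP.1.2 P (isConj_refl F hPS)
      rw [eq_bot_iff]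
      intro x hx
      have : x ∈ centralizerIn S P := by
        rw [mem_centralizerIn]
        refine ⟨hx, fun y hy => ?_⟩
        rw [hbot, Subgroup.mem_bot] at hy
        rw [hy]; simp
      have := h1 this
      rwa [hbot] at this
  rw [hD P]
  exact hK P hPfn hPne P _ (aut_mem_normalizerHom F hPS α hα)

end Cfsg.Agent.Lib.Helper87.ZJ
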