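import Cfsg.Agent.Lib.Helper87.ZJ13
import Cfsg.Agent.Lib.Helper87.ZJ11
import Cfsg.Agent.Lib.Helper87.ZJ4
import Cfsg.Agent.Lib.Helper90.GTSparse
import Cfsg.Agent.S5098
import Cfsg.Agent.S5240
import Cfsg.Agent.S5241
import Cfsg.Agent.S5132

set_option autoImplicit false

/-!
The main induction for the `ZJ`-type theorem for fusion systems (Kessar–Linckelmann, Theorem B): assembling the pieces.
-/

namespace Cfsg.Agent.Lib.Helper87.ZJ

open Cfsg Cfsg.FusionSystem Cfsg.Agent.Lib.Helper87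

universe u

variable {Ω : Type u} [Group Ω] {S : Subgroup Ω} [Finite S]

/-- A general decomposition criterion for normality of `X`. -/
theorem normal_of_decomp (F : FusionSystem S) {Q : Subgroup Ω} (hQ : F.IsNormal Q)
    {X : Subgroup Ω} (hX : X ≤ S)
    (H1 : ∀ (A : Subgroup Ω), Q ≤ A → ∀ θ : A →* Ω, θ ∈ F.Hom A →
      (∀ y : A, (y : Ω) ∈ Q → θ y = y) → θ ∈ F.normalizerHom X A)
    (H2 : ∀ (A : Subgroup Ω), Q ≤ A → ∀ φ : A →* Ω, φ ∈ F.Hom A →
      ∃ χ ∈ F.normalizerHom X A, ∀ x : A, (x : Ω) ∈ Q → χ x = φ x) : F.IsNormal X := by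
  apply isNormal_of_ctl F hX
  intro P φ hφ
  have hD : ∀ P : Subgroup Ω, (normalizerSystem F X hX).Hom P = F.normalizerHom X P :=
    normalizerSystem_isNormalizerSystem F _ hX
  obtain ⟨φ₁, hφ₁, hφ₁ext, -⟩ := hQ.2 P φ hφ
  have hQA : Q ≤ P ⊔ Q := le_sup_right
  obtain ⟨χ, hχN, hχagree⟩ := H2 _ hQA φ₁ hφ₁
  obtain ⟨θ, hθ, hθχ, hQr, hθQ⟩ := exists_theta F hQ hQA hφ₁ hχN.1 hχagree
  have hθN : θ ∈ F.normalizerHom X χ.range := H1 _ hQr θ hθ hθQ
  have hθD : θ ∈ (normalizerSystem F X hX).Hom χ.range := by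
    rw [hD]; exact hθN
  have hχD : χ ∈ (normalizerSystem F X hX).Hom (P ⊔ Q) := by
    rw [hD]; exact hχN
  have hφ₁D : φ₁ ∈ (normalizerSystem F X hX).Hom (P ⊔ Q) :=
    comp_mem' _ hχD hθD (fun x => ⟨x, rfl⟩) (fun x => (hθχ x).symm)
  have hφeq : φ = φ₁.comp (Subgroup.inclusion le_sup_left) :=
    MonoidHom.ext (fun x => (hφ₁ext x).symm)
  rw [hφeq, ← hD]
  exact restrict_mem _ le_sup_left hφ₁D

/-- The normalizer system of a non-normal subgroup has strictly fewer morphisms. -/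
theorem morSet_normalizerSystem_ssubset (F : FusionSystem S) {U : Subgroup Ω} (hUS : U ≤ S)
    (hU : ¬ F.IsNormal U) :
    Cfsg.Agent.Lib.Helper90.GT.morSet (normalizerSystem F U hUS) ⊂
      Cfsg.Agent.Lib.Helper90.GT.morSet F := by
  constructor
  · rintro ⟨P, φ⟩ h
    have h' : φ ∈ (normalizerSystem F U hUS).Hom P := h
    rw [normalizerSystem_isNormalizerSystem F U hUS P] at h'
    exact h'.1
  · intro hsub
    apply hU
    apply isNormal_of_ctl F hUS
    intro P φ hφ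
    have h1 : (⟨P, φ⟩ : Σ P : Subgroup Ω, (P →* Ω)) ∈
        Cfsg.Agent.Lib.Helper90.GT.morSet (normalizerSystem F U hUS) := hsub hφ
    have h' : φ ∈ (normalizerSystem F U hUS).Hom P := h1
    rwa [normalizerSystem_isNormalizerSystem F U hUS P] at h'

theorem normalizerIn_eq_of_le_normalizer {U : Subgroup Ω}
    (h : S ≤ Subgroup.normalizer (U : Set Ω)) : normalizerIn S U = S :=
  le_antisymm (normalizerIn_le S U) (fun g hg => ⟨hg, h hg⟩)

/-- A map of `F` defined on all of `S` is onto `S`. -/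
theorem range_eq_of_mem_hom_top (F : FusionSystem S) {lt : S →* Ω} (hlt : lt ∈ F.Hom S) :
    lt.range = S := by
  have hle : lt.range ≤ S := by
    rintro _ ⟨x, rfl⟩
    exact (F.le_of_mem hlt).2 x
  exact Subgroup.eq_of_le_of_card_ge hle (card_range_eq (F.injective_of_mem hlt)).ge

variable (W : ∀ (Q : Type u) [Group Q], Subgroup Q) {p : ℕ} [Fact p.Prime]

/-- The induction hypothesis. -/
def IHyp (p : ℕ) (n m : ℕ) : Prop :=
  ∀ (Ω' : Type u) [Group Ω'] (S' : Subgroup Ω') [Finite S'] (F' : FusionSystem S'),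
    (Nat.card S' < n ∨ (Nat.card S' ≤ n ∧ (Cfsg.Agent.Lib.Helper90.GT.morSet F').ncard < m)) →
    IsPGroup p S' → F'.IsSaturated p → F'.IsSectionFree p ↥(qd p) → F'.IsNormal (WSub W S')

variable (hW1 : ∀ (Q : Type u) [Group Q] [Finite Q], IsPGroup p Q → Nontrivial Q → W Q ≠ ⊥)
  (hW2 : ∀ (Q R : Type u) [Group Q] [Group R] [Finite Q], IsPGroup p Q → ∀ φ : Q ≃* R,
    (W Q).map φ.toMonoidHom = W R)
  (hW3 : ∀ (L : Type u) [Group L] [Finite L] (P : Sylow p L),
    Subgroup.centralizer ((Cfsg.pCore p L : Subgroup L) : Set L) =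
      Cfsg.pCore p L ⊓ Subgroup.centralizer ((Cfsg.pCore p L : Subgroup L) : Set L) →
    ¬ Cfsg.Involves ↥(Cfsg.qd p) L →
    (((W ↥(P : Subgroup L)).map (P : Subgroup L).subtype : Subgroup L)).Normal)

/-- The induction hypothesis applied to the normalizer system of a fully normalized non-normal subgroup. -/
theorem ih_normalizer (hS : IsPGroup p S) (F : FusionSystem S) (hF : F.IsSaturated p)
    (hfree : F.IsSectionFree p ↥(qd p))
    (IH : IHyp W p (Nat.card S) (Cfsg.Agent.Lib.Helper90.GT.morSet F).ncard)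
    {U : Subgroup Ω} (hfn : F.IsFullyNormalized U) (hU : ¬ F.IsNormal U) :
    (normalizerSystem F U hfn.1).IsNormal (WSub W (normalizerIn S U)) := by
  have hTS : normalizerIn S U ≤ S := normalizerIn_le S U
  haveI : Finite ↥(normalizerIn S U) := finite_of_le hTS
  have hNS := normalizerSystem_isNormalizerSystem F U hfn.1
  apply IH Ω (normalizerIn S U) (normalizerSystem F U hfn.1)
  · right
    refine ⟨Subgroup.card_le_of_le hTS, ?_⟩
    exact Set.ncard_lt_ncard (morSet_normalizerSystem_ssubset F hfn.1 hU)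
      (Cfsg.Agent.Lib.Helper90.GT.morSet_finite F)
  · exact hS.to_le hTS
  · exact Cfsg.Agent.S5098.result p hS F hF U hfn _ hNS
  · exact Cfsg.Agent.S5240.result p hS F hF hfree U hfn _ hNS

include hW2 in
/-- The induction hypothesis gives `KProp` for subgroups normalized by `S` that are not normal in `F`. -/
theorem kprop_of_ih (hS : IsPGroup p S) (F : FusionSystem S) (hF : F.IsSaturated p)
    (hfree : F.IsSectionFree p ↥(qd p))
    (IH : IHyp W p (Nat.card S) (Cfsg.Agent.Lib.Helper90.GT.morSet F).ncard)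
    {U : Subgroup Ω} (hUS : U ≤ S) (hSU : S ≤ Subgroup.normalizer (U : Set Ω))
    (hU : ¬ F.IsNormal U) : KProp F (WSub W S) U := by
  have hT : normalizerIn S U = S := normalizerIn_eq_of_le_normalizer hSU
  have hfn : F.IsFullyNormalized U := isFullyNormalized_of_normalizerIn_eq F hUS hT
  exact tower_top W hW2 hS F hUS (ih_normalizer W hS F hF hfree IH hfn hU) hT


include hW1 hW2 in
/-- Trivial core: the Alperin tower argument. -/
theorem step_trivial (hS : IsPGroup p S) (F : FusionSystem S) (hF : F.IsSaturated p)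
    (hfree : F.IsSectionFree p ↥(qd p))
    (IH : IHyp W p (Nat.card S) (Cfsg.Agent.Lib.Helper90.GT.morSet F).ncard)
    (htriv : ∀ U : Subgroup Ω, F.IsNormal U → U = ⊥) : F.IsNormal (WSub W S) := by
  apply tower W hW1 hW2 hS F hF
  intro U hfn hne
  exact ih_normalizer W hS F hF hfree IH hfn (fun h => hne (htriv U h))

include hW2 hW3 in
/-- A centric normal subgroup: the constrained case. -/
theorem step_centric (hS : IsPGroup p S) (F : FusionSystem S) (hF : F.IsSaturated p)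
    (hfree : F.IsSectionFree p ↥(qd p)) {Q : Subgroup Ω} (hQ : F.IsNormal Q)
    (hc : centralizerIn S Q ≤ Q) : F.IsNormal (WSub W S) := by
  apply constrained_case W hW2 hW3 hS F _ hfree
  refine ⟨hF, Q, hQ, hQ.1, fun Q' hconj => ?_⟩
  have h := Cfsg.Agent.Lib.Helper91.eq_of_isConj_of_isNormal F hQ hconj
  rw [h]; exact hc

include hW2 in
/-- Maps of `F` defined on all of `S` normalize `W(S)`. -/
theorem mem_normalizerHom_WSub_top (hS : IsPGroup p S) (F : FusionSystem S) {lt : S →* Ω}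
    (hlt : lt ∈ F.Hom S) : lt ∈ F.normalizerHom (WSub W S) S := by
  apply Cfsg.Agent.Lib.Helper90.GT.mem_normalizerHom_of_le F hlt (WSub_le W S)
    (normalizerIn_WSub_eq W hW2 hS).ge
  have h1 : (WSub W S).subgroupOf S = W ↥S := by
    unfold WSub Subgroup.subgroupOf
    exact Subgroup.comap_map_eq_self_of_injective (Subgroup.subtype_injective S) (W ↥S)
  rw [h1]
  exact WSub_map' W hW2 S hS lt (F.injective_of_mem hlt) (range_eq_of_mem_hom_top F hlt)

include hW2 in
/-- Case 2a: `W(S)` is normal in the proper subsystem `S C_F(Q)`. -/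
theorem step_case2a (hS : IsPGroup p S) (F : FusionSystem S) {Q : Subgroup Ω} (hQ : F.IsNormal Q)
    (hext : ∀ lam, lam ∈ F.Hom Q → ∃ lt, lt ∈ F.Hom S ∧ ∀ q : Q, lt ⟨q, hQ.1 q.2⟩ = lam q)
    (hEX : (scSystem F hQ).IsNormal (WSub W S)) : F.IsNormal (WSub W S) := by
  have hX : WSub W S ≤ S := WSub_le W S
  have hSX : S ≤ Subgroup.normalizer (WSub W S : Set Ω) :=
    fun g hg => ((normalizerIn_WSub_eq W hW2 hS).ge hg).2
  have hD : ∀ P : Subgroup Ω, (normalizerSystem F (WSub W S) hX).Hom P =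
      F.normalizerHom (WSub W S) P := normalizerSystem_isNormalizerSystem F _ hX
  apply normal_of_decomp F hQ hX
  · intro A hQA θ hθ hfix
    have hθE := mem_scSystem_of_fix F hQ hQA hθ hfix
    exact mem_normalizerHom_of_sub F (scSystem F hQ) (scSystem_sub F hQ) hEX hSX hθE
  · intro A hQA φ hφ
    have hlam : φ.comp (Subgroup.inclusion hQA) ∈ F.Hom Q := restrict_mem F hQA hφ
    obtain ⟨lt, hlt, hltq⟩ := hext _ hlam
    have hAS : A ≤ S := hom_le F hφ
    have hltN : lt ∈ F.normalizerHom (WSub W S) S := mem_normalizerHom_WSub_top W hW2 hS F hlt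
    refine ⟨lt.comp (Subgroup.inclusion hAS), ?_, ?_⟩
    · rw [← hD]
      apply restrict_mem
      rw [hD]
      exact hltN
    · intro x hx
      have h := hltq ⟨x, hx⟩
      exact h


include hW1 in
/-- Case 2b: `F = S C_F(Q)`; pass to `F/Q` and lift `W(S/Q)` to a normal subgroup bigger than `Q`. -/
theorem step_case2b (hS : IsPGroup p S) (F : FusionSystem S) (hF : F.IsSaturated p)
    (hfree : F.IsSectionFree p ↥(qd p))
    (IH : IHyp W p (Nat.card S) (Cfsg.Agent.Lib.Helper90.GT.morSet F).ncard)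
    {Q : Subgroup Ω} (hQ : F.IsNormal Q) (hQne : Q ≠ ⊥) (hQS : Q ≠ S)
    (hmax : ∀ Q' : Subgroup Ω, F.IsNormal Q' → Nat.card Q' ≤ Nat.card Q)
    (hAut : F.autGroup Q ≤ autInducedBy S Q) : False := by
  have hsc := Cfsg.Agent.Lib.Helper90.IsNormal.stronglyClosed F hQ
  have hSQ := Cfsg.Agent.Lib.Helper90.GT.normal_le_normalizer F hQ
  haveI : (Q.subgroupOf S).Normal := by
    refine ⟨fun x hx g => ?_⟩
    have hx' : (x : Ω) ∈ Q := Subgroup.mem_subgroupOf.mp hx
    apply Subgroup.mem_subgroupOf.mpr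
    exact (Subgroup.mem_normalizer_iff.mp (hSQ g.2) x).mp hx'
  obtain ⟨E', hfac⟩ := Cfsg.Agent.S5132.result p hS F Q hsc
  have hker := hfac.2.1
  -- cardinalities
  have hcardK : Nat.card ↥(Q.subgroupOf S) = Nat.card Q :=
    Nat.card_congr (Subgroup.subgroupOfEquivOfLe hQ.1).toEquiv
  have : Finite Q := finite_of_le hQ.1
  have hQ1 : 1 < Nat.card Q := Q.one_lt_card_iff_ne_bot.mpr hQne
  have hmul : Nat.card S = Nat.card (S ⧸ Q.subgroupOf S) * Nat.card ↥(Q.subgroupOf S) :=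
    Subgroup.card_eq_card_quotient_mul_card_subgroup _
  have hpos : 0 < Nat.card (S ⧸ Q.subgroupOf S) := Nat.card_pos
  have hlt : Nat.card ↥(⊤ : Subgroup (S ⧸ Q.subgroupOf S)) < Nat.card S := by
    rw [Subgroup.card_top, hmul, hcardK]
    nlinarith
  have hpT : IsPGroup p ↥(⊤ : Subgroup (S ⧸ Q.subgroupOf S)) :=
    (hS.to_quotient (Q.subgroupOf S)).to_subgroup ⊤
  have hE'sat : E'.IsSaturated p :=
    Cfsg.Agent.Lib.Helper88.isSaturated_of_isFactorSystem p hS F hF hsc _ E' hfac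
  have hE'free : E'.IsSectionFree p ↥(qd p) :=
    Cfsg.Agent.S5241.result p hS F hF Q hQ hfree _ E' hfac
  have hE'X : E'.IsNormal (WSub W (⊤ : Subgroup (S ⧸ Q.subgroupOf S))) :=
    IH _ ⊤ E' (Or.inl hlt) hpT hE'sat hE'free
  have hV : F.IsNormal (preimageAlong (QuotientGroup.mk' (Q.subgroupOf S))
      (WSub W (⊤ : Subgroup (S ⧸ Q.subgroupOf S)))) :=
    isNormal_preimageAlong p hS F hF hQ hAut E' _ hfac hE'X
  -- `Q ≤ V`
  have hQV : Q ≤ preimageAlong (QuotientGroup.mk' (Q.subgroupOf S))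
      (WSub W (⊤ : Subgroup (S ⧸ Q.subgroupOf S))) := by
    intro q hq
    rw [Cfsg.Agent.Lib.Helper88.mem_preimageAlong]
    refine ⟨hQ.1 hq, ?_⟩
    rw [(hker ⟨q, hQ.1 hq⟩).mpr hq]
    exact Subgroup.one_mem _
  haveI : Finite ↥(preimageAlong (QuotientGroup.mk' (Q.subgroupOf S))
      (WSub W (⊤ : Subgroup (S ⧸ Q.subgroupOf S)))) := finite_of_le hV.1
  have hQeqV := Subgroup.eq_of_le_of_card_ge hQV (hmax _ hV)
  -- the quotient is nontrivial
  obtain ⟨s, hsS, hsQ⟩ : ∃ s, s ∈ S ∧ s ∉ Q := by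
    by_contra hcon
    push Not at hcon
    exact hQS (le_antisymm hQ.1 hcon)
  haveI : Nontrivial ↥(⊤ : Subgroup (S ⧸ Q.subgroupOf S)) := by
    refine ⟨⟨⟨QuotientGroup.mk' (Q.subgroupOf S) ⟨s, hsS⟩, Subgroup.mem_top _⟩, 1, fun h => hsQ ?_⟩⟩
    have h1 : QuotientGroup.mk' (Q.subgroupOf S) ⟨s, hsS⟩ = 1 :=
      congrArg (fun z : ↥(⊤ : Subgroup (S ⧸ Q.subgroupOf S)) => (z : S ⧸ Q.subgroupOf S)) h
    exact (hker ⟨s, hsS⟩).mp h1
  have hWne : W ↥(⊤ : Subgroup (S ⧸ Q.subgroupOf S)) ≠ ⊥ := hW1 _ hpT inferInstance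
  obtain ⟨y0, hy0⟩ := (Subgroup.ne_bot_iff_exists_ne_one).mp hWne
  obtain ⟨y, hyW, hy1⟩ : ∃ y : ↥(⊤ : Subgroup (S ⧸ Q.subgroupOf S)),
      y ∈ W ↥(⊤ : Subgroup (S ⧸ Q.subgroupOf S)) ∧ y ≠ 1 :=
    ⟨y0, y0.2, fun h => hy0 (Subtype.ext h)⟩
  obtain ⟨t, ht⟩ := QuotientGroup.mk'_surjective (Q.subgroupOf S) (y : S ⧸ Q.subgroupOf S)
  have htV : (t : Ω) ∈ preimageAlong (QuotientGroup.mk' (Q.subgroupOf S))
      (WSub W (⊤ : Subgroup (S ⧸ Q.subgroupOf S))) := by
    rw [Cfsg.Agent.Lib.Helper88.mem_preimageAlong]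
    refine ⟨t.2, ?_⟩
    show QuotientGroup.mk' (Q.subgroupOf S) t ∈ _
    rw [ht]
    exact ⟨y, hyW, rfl⟩
  rw [← hQeqV] at htV
  have h1 : QuotientGroup.mk' (Q.subgroupOf S) t = 1 := (hker t).mpr htV
  rw [ht] at h1
  exact hy1 (Subtype.ext h1)

/-- A normal subgroup of maximal order. -/
theorem exists_max_normal (F : FusionSystem S) :
    ∃ Q : Subgroup Ω, F.IsNormal Q ∧ ∀ Q' : Subgroup Ω, F.IsNormal Q' → Nat.card Q' ≤ Nat.card Q := by
  classical
  let P : ℕ → Prop := fun k => ∃ Q : Subgroup Ω, F.IsNormal Q ∧ Nat.card Q = k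
  have hb : ∀ k, P k → k ≤ Nat.card S := by
    rintro k ⟨Q, hQ, rfl⟩
    exact Subgroup.card_le_of_le hQ.1
  have h0 : P (Nat.card (⊥ : Subgroup Ω)) := ⟨⊥, isNormal_bot F, rfl⟩
  obtain ⟨Q, hQ, hQk⟩ := Nat.findGreatest_spec (P := P) (hb _ h0) h0
  refine ⟨Q, hQ, fun Q' hQ' => ?_⟩
  rw [hQk]
  exact Nat.le_findGreatest (hb _ ⟨Q', hQ', rfl⟩) ⟨Q', hQ', rfl⟩

include hW1 hW2 hW3 in
/-- The induction step. -/
theorem step (hS : IsPGroup p S) (F : FusionSystem S) (hF : F.IsSaturated p)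
    (hfree : F.IsSectionFree p ↥(qd p))
    (IH : IHyp W p (Nat.card S) (Cfsg.Agent.Lib.Helper90.GT.morSet F).ncard) :
    F.IsNormal (WSub W S) := by
  classical
  by_cases htriv : ∀ U : Subgroup Ω, F.IsNormal U → U = ⊥
  · exact step_trivial W hW1 hW2 hS F hF hfree IH htriv
  push Not at htriv
  obtain ⟨U₀, hU₀, hU₀ne⟩ := htriv
  obtain ⟨Q, hQ, hmax⟩ := exists_max_normal F
  have : Finite Q := finite_of_le hQ.1
  have : Finite U₀ := finite_of_le hU₀.1
  have hQne : Q ≠ ⊥ := by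
    have h1 : 1 < Nat.card U₀ := U₀.one_lt_card_iff_ne_bot.mpr hU₀ne
    have h2 := hmax U₀ hU₀
    exact Q.one_lt_card_iff_ne_bot.mp (lt_of_lt_of_le h1 h2)
  by_cases hc : centralizerIn S Q ≤ Q
  · exact step_centric W hW2 hW3 hS F hF hfree hQ hc
  have hRS : Q ⊔ centralizerIn S Q ≤ S := sup_le hQ.1 inf_le_left
  have hRnot : ¬ F.IsNormal (Q ⊔ centralizerIn S Q) := by
    intro hR
    have : Finite ↥(Q ⊔ centralizerIn S Q) := finite_of_le hRS
    have hQR : Q = Q ⊔ centralizerIn S Q :=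
      Subgroup.eq_of_le_of_card_ge le_sup_left (hmax _ hR)
    exact hc (le_sup_right.trans hQR.ge)
  have hKR : KProp F (WSub W S) (Q ⊔ centralizerIn S Q) :=
    kprop_of_ih W hW2 hS F hF hfree IH hRS (sup_centralizerIn_normal F hQ) hRnot
  by_cases hall : ∀ U ≤ Q, S ≤ Subgroup.normalizer (U : Set Ω) → F.IsNormal U
  · have hnorm := autInducedBy_normal_of_chain p hS F hF hQ hall
    have hext : ∀ lam, lam ∈ F.Hom Q → ∃ lt, lt ∈ F.Hom S ∧ ∀ q : Q, lt ⟨q, hQ.1 q.2⟩ = lam q :=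
      fun lam hlam => exists_extension_to_top p hS F hF hQ hnorm hlam
    by_cases hEF : ∀ P : Subgroup Ω, F.Hom P ⊆ (scSystem F hQ).Hom P
    · exfalso
      have hQS : Q ≠ S := by
        intro h
        apply hc
        rw [h]
        exact inf_le_left
      exact step_case2b W hW1 hS F hF hfree IH hQ hQne hQS hmax
        (autGroup_le_of_le_scSystem F hQ hEF)
    · have hss : Cfsg.Agent.Lib.Helper90.GT.morSet (scSystem F hQ) ⊂
          Cfsg.Agent.Lib.Helper90.GT.morSet F := by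
        constructor
        · rintro ⟨P, φ⟩ h
          exact scSystem_sub F hQ P h
        · intro hsub
          apply hEF
          intro P φ hφ
          have h1 : (⟨P, φ⟩ : Σ P : Subgroup Ω, (P →* Ω)) ∈
              Cfsg.Agent.Lib.Helper90.GT.morSet (scSystem F hQ) := hsub hφ
          exact h1
      have hEX : (scSystem F hQ).IsNormal (WSub W S) :=
        IH Ω S (scSystem F hQ)
          (Or.inr ⟨le_rfl, Set.ncard_lt_ncard hss (Cfsg.Agent.Lib.Helper90.GT.morSet_finite F)⟩)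
          hS (isSaturated_scSystem hS F hF hQ) (isSectionFree_scSystem hS F hF hQ hext _ hfree)
      exact step_case2a W hW2 hS F hQ hext hEX
  · push Not at hall
    obtain ⟨U, hUQ, hSU, hUn⟩ := hall
    exact case_one p hS F hF hQ (WSub_le W S) hUQ hSU
      (kprop_of_ih W hW2 hS F hF hfree IH (hUQ.trans hQ.1) hSU hUn) hKR


include hW1 hW2 hW3 in
/-- The main theorem, by double induction on `|S|` and the number of morphisms. -/
theorem main_aux : ∀ (n m : ℕ) (Ω : Type u) [Group Ω] (S : Subgroup Ω) [Finite S]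
    (F : FusionSystem S), Nat.card S = n → (Cfsg.Agent.Lib.Helper90.GT.morSet F).ncard = m →
    IsPGroup p S → F.IsSaturated p → F.IsSectionFree p ↥(qd p) → F.IsNormal (WSub W S) := by
  intro n
  induction n using Nat.strong_induction_on with
  | _ n ih1 =>
    intro m
    induction m using Nat.strong_induction_on with
    | _ m ih2 =>
      intro Ω _ S _ F hn hm hS hF hfree
      apply step W hW1 hW2 hW3 hS F hF hfree
      intro Ω' _ S' _ F' hlt hS' hF' hfree'
      rcases hlt with h | ⟨h1, h2⟩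
      · exact ih1 (Nat.card S') (hn ▸ h) _ Ω' S' F' rfl rfl hS' hF' hfree'
      · rcases lt_or_eq_of_le h1 with h | h
        · exact ih1 (Nat.card S') (hn ▸ h) _ Ω' S' F' rfl rfl hS' hF' hfree'
        · exact ih2 _ (hm ▸ h2) Ω' S' F' (h.trans hn) rfl hS' hF' hfree'

include hW1 hW2 hW3 in
/-- **Glauberman's `ZJ`-theorem for fusion systems, functor form** (Kessar–Linckelmann): `W(S)` is normal in `F`. -/
theorem main (hS : IsPGroup p S) (F : FusionSystem S) (hF : F.IsSaturated p)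
    (hfree : F.IsSectionFree p ↥(qd p)) : F.IsNormal (WSub W S) :=
  main_aux W hW1 hW2 hW3 _ _ Ω S F rfl rfl hS hF hfree

end Cfsg.Agent.Lib.Helper87.ZJ
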