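import Cfsg.Agent.Lib.Helper87.ZJ1
import Cfsg.Agent.S5082

set_option autoImplicit false

/-!
The threshold form of Alperin's fusion theorem: if a subsystem `D` of `F` contains the automorphism groups (in `F`)
of `S` and of the essential subgroups of order greater than `t`, then it contains every map of `F` whose source has
order greater than `t`.
-/

namespace Cfsg.Agent.Lib.Helper87.ZJ

open Cfsg Cfsg.FusionSystem Cfsg.Agent.Lib.Helper87

universe u

variable {Ω : Type u} [Group Ω] {S : Subgroup Ω} [Finite S]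

theorem card_range_eq {P : Subgroup Ω} [Finite P] {φ : P →* Ω} (hφ : Function.Injective φ) :
    Nat.card φ.range = Nat.card P :=
  (Nat.card_congr (MonoidHom.ofInjective hφ).toEquiv).symm

/-- The maps of `F` which either have a source of order at most `t` or are maps of `D`. -/
def threshSystem (F : FusionSystem S) {T : Subgroup Ω} (D : FusionSystem T) (hST : S ≤ T)
    (hDF : ∀ P : Subgroup Ω, D.Hom P ⊆ F.Hom P) (t : ℕ) : FusionSystem S where
  Hom P := {φ | φ ∈ F.Hom P ∧ (Nat.card P ≤ t ∨ φ ∈ D.Hom P)}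
  le_of_mem := fun h => F.le_of_mem h.1
  injective_of_mem := fun h => F.injective_of_mem h.1
  conj_mem := fun hP hg => ⟨F.conj_mem hP hg, Or.inr (D.conj_mem (hP.trans hST) (hST hg))⟩
  comp_mem := by
    intro P Q φ ψ hφ hψ h
    refine ⟨F.comp_mem hφ.1 hψ.1 h, ?_⟩
    rcases hφ.2 with h1 | h1
    · exact Or.inl h1
    · rcases hψ.2 with h2 | h2
      · left
        have hQS : Q ≤ S := hom_le F hψ.1
        haveI : Finite Q := finite_of_le hQS
        have hinj : Function.Injective (φ.codRestrict Q h) := by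
          intro a b hab
          apply F.injective_of_mem hφ.1
          exact congrArg Subtype.val hab
        exact (Nat.card_le_card_of_injective _ hinj).trans h2
      · exact Or.inr (D.comp_mem h1 h2 h)
  inv_mem := by
    intro P φ hφ
    rcases hφ.2 with h1 | h1
    · obtain ⟨ψ, hψ, hψx⟩ := F.inv_mem hφ.1
      refine ⟨ψ, ⟨hψ, Or.inl ?_⟩, hψx⟩
      haveI : Finite P := finite_of_le (hom_le F hφ.1)
      rw [card_range_eq (F.injective_of_mem hφ.1)]
      exact h1
    · obtain ⟨ψ, hψ, hψx⟩ := D.inv_mem h1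
      exact ⟨ψ, ⟨hDF _ hψ, Or.inr hψ⟩, hψx⟩

theorem threshold (p : ℕ) [Fact p.Prime] (hS : IsPGroup p S) (F : FusionSystem S)
    (hF : F.IsSaturated p) {T : Subgroup Ω} (D : FusionSystem T) (hST : S ≤ T)
    (hDF : ∀ P : Subgroup Ω, D.Hom P ⊆ F.Hom P) (t : ℕ)
    (h : ∀ P : Subgroup Ω, (P = S ∨ F.IsEssential p P) → t < Nat.card P → ∀ α : MulAut P,
      P.subtype.comp α.toMonoidHom ∈ F.Hom P → P.subtype.comp α.toMonoidHom ∈ D.Hom P)
    {A : Subgroup Ω} {φ : A →* Ω} (hφ : φ ∈ F.Hom A) (hA : t < Nat.card A) : φ ∈ D.Hom A := by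
  have hle : F ≤ threshSystem F D hST hDF t := by
    apply Cfsg.Agent.S5082.result p hS F hF
    intro P hP
    apply Subgroup.closure_mono
    intro α hα
    refine ⟨hα, ?_⟩
    by_cases hc : Nat.card P ≤ t
    · exact Or.inl hc
    · exact Or.inr (h P hP (not_le.mp hc) α hα)
  rcases (hle A hφ).2 with h1 | h1
  · exact absurd h1 (not_le.mpr hA)
  · exact h1

end Cfsg.Agent.Lib.Helper87.ZJ
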