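import Cfsg.Agent.Lib.Helper87.ZJ2
import Cfsg.Agent.Lib.Helper87.FusionSaturated
import Cfsg.Agent.Lib.Helper89.FusionAut

set_option autoImplicit false

/-!
Transport of a map along a map of a subsystem, and the tower step of the local-to-global argument for a
positive characteristic functor.
-/

namespace Cfsg.Agent.Lib.Helper87.ZJ

open Cfsg Cfsg.FusionSystem Cfsg.Agent.Lib.Helper87

universe u

variable {Ω : Type u} [Group Ω] {S : Subgroup Ω}

/-- If the conjugate of `φ` by a map `ψ` of the subsystem `D` is a map of `D`, so is `φ`. -/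
theorem transport_mem (F : FusionSystem S) {T₀ : Subgroup Ω} (D : FusionSystem T₀)
    (hDF : ∀ P : Subgroup Ω, D.Hom P ⊆ F.Hom P)
    {M B : Subgroup Ω} (hBM : B ≤ M) {ψ : M →* Ω} (hψ : ψ ∈ D.Hom M)
    {φ : B →* Ω} (hφ : φ ∈ F.Hom B) (hφM : ∀ b : B, φ b ∈ M)
    (h : ∀ φ' : ↥((B.subgroupOf M).map ψ) →* Ω, φ' ∈ F.Hom ((B.subgroupOf M).map ψ) →
      (∀ (b : B) (hb' : ψ ⟨b, hBM b.2⟩ ∈ (B.subgroupOf M).map ψ),
        φ' ⟨ψ ⟨b, hBM b.2⟩, hb'⟩ = ψ ⟨φ b, hφM b⟩) → φ' ∈ D.Hom ((B.subgroupOf M).map ψ)) :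
    φ ∈ D.Hom B := by
  set B' := (B.subgroupOf M).map ψ with hB'
  set ψB : B →* Ω := ψ.comp (Subgroup.inclusion hBM) with hψB
  have hψBD : ψB ∈ D.Hom B := restrict_mem D hBM hψ
  have hrange : ψB.range = B' := by
    ext y
    constructor
    · rintro ⟨b, rfl⟩
      exact ⟨⟨b, hBM b.2⟩, Subgroup.mem_subgroupOf.mpr b.2, rfl⟩
    · rintro ⟨m, hm, rfl⟩
      exact ⟨⟨m, Subgroup.mem_subgroupOf.mp hm⟩, rfl⟩
  obtain ⟨σ, hσ, hσinv, hσr⟩ := inv_mem' D hψBD hrange
  have hσB : ∀ y : B', σ y ∈ B := fun y => hσr ▸ ⟨y, rfl⟩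
  have hτ : φ.comp (σ.codRestrict B hσB) ∈ F.Hom B' := F.comp_mem (hDF _ hσ) hφ hσB
  set τ : B' →* Ω := φ.comp (σ.codRestrict B hσB) with hτdef
  have hτM : ∀ y : B', τ y ∈ M := fun y => hφM _
  have hφ'F : ψ.comp (τ.codRestrict M hτM) ∈ F.Hom B' := F.comp_mem hτ (hDF _ hψ) hτM
  set φ' : B' →* Ω := ψ.comp (τ.codRestrict M hτM) with hφ'def
  have hint : ∀ (b : B) (hb' : ψ ⟨b, hBM b.2⟩ ∈ B'),
      φ' ⟨ψ ⟨b, hBM b.2⟩, hb'⟩ = ψ ⟨φ b, hφM b⟩ := by
    intro b hb'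
    have h1 : σ ⟨ψ ⟨b, hBM b.2⟩, hb'⟩ = (b : Ω) := hσinv b ⟨ψ ⟨b, hBM b.2⟩, hb'⟩ rfl
    have h2 : (σ.codRestrict B hσB) ⟨ψ ⟨b, hBM b.2⟩, hb'⟩ = b := Subtype.ext h1
    show ψ ⟨φ ((σ.codRestrict B hσB) ⟨ψ ⟨b, hBM b.2⟩, hb'⟩), _⟩ = ψ ⟨φ b, hφM b⟩
    congr 2
    rw [h2]
  have hφ'D : φ' ∈ D.Hom B' := h φ' hφ'F hint
  -- the inverse of `ψ` on the image of `φ`
  set C := φ.range with hC
  have hCM : C ≤ M := by
    rintro _ ⟨b, rfl⟩
    exact hφM b
  set ψC : C →* Ω := ψ.comp (Subgroup.inclusion hCM) with hψC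
  have hψCD : ψC ∈ D.Hom C := restrict_mem D hCM hψ
  obtain ⟨ρ, hρ, hρinv, -⟩ := inv_mem' D hψCD rfl
  have h1 : ∀ x : B, ψB x ∈ B' := fun x => hrange ▸ ⟨x, rfl⟩
  have hη : φ'.comp (ψB.codRestrict B' h1) ∈ D.Hom B := D.comp_mem hψBD hφ'D h1
  set η : B →* Ω := φ'.comp (ψB.codRestrict B' h1) with hηdef
  have hηx : ∀ x : B, η x = ψ ⟨φ x, hφM x⟩ := fun x => hint x (h1 x)
  have h2 : ∀ x : B, η x ∈ ψC.range := by
    intro x
    rw [hηx]
    exact ⟨⟨φ x, ⟨x, rfl⟩⟩, rfl⟩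
  refine comp_mem' D hη hρ h2 (fun x => ?_)
  have := hρinv ⟨φ x, ⟨x, rfl⟩⟩ ⟨η x, h2 x⟩ (by
    show ψC ⟨φ x, ⟨x, rfl⟩⟩ = η x
    rw [hηx]; rfl)
  exact this.symm

/-- `N_F(U) ⊆ N_F(X)`. -/
def KProp (F : FusionSystem S) (X U : Subgroup Ω) : Prop :=
  ∀ (A : Subgroup Ω) (φ : A →* Ω), φ ∈ F.normalizerHom U A → φ ∈ F.normalizerHom X A

theorem aut_mem_normalizerHom (F : FusionSystem S) {P : Subgroup Ω} (hPS : P ≤ S) (α : MulAut P)
    (hα : P.subtype.comp α.toMonoidHom ∈ F.Hom P) :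
    P.subtype.comp α.toMonoidHom ∈ F.normalizerHom P P := by
  apply Cfsg.Agent.Lib.Helper90.GT.mem_normalizerHom_of_le F hα le_rfl (le_normalizerIn hPS)
  ext y
  constructor
  · rintro ⟨x, -, rfl⟩
    exact (α x).2
  · intro hy
    refine ⟨α.symm ⟨y, hy⟩, Subgroup.mem_subgroupOf.mpr (α.symm ⟨y, hy⟩).2, ?_⟩
    show ((α (α.symm ⟨y, hy⟩) : P) : Ω) = y
    rw [MulEquiv.apply_symm_apply]

theorem normalizerIn_self (S : Subgroup Ω) : normalizerIn S S = S :=
  le_antisymm (normalizerIn_le S S) (le_normalizerIn le_rfl)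

variable [Finite S]

section Tower

variable (W : ∀ (Q : Type u) [Group Q], Subgroup Q) {p : ℕ} [Fact p.Prime]
  (hW1 : ∀ (Q : Type u) [Group Q] [Finite Q], IsPGroup p Q → Nontrivial Q → W Q ≠ ⊥)
  (hW2 : ∀ (Q R : Type u) [Group Q] [Group R] [Finite Q], IsPGroup p Q → ∀ φ : Q ≃* R,
    (W Q).map φ.toMonoidHom = W R)

include hW2 in
/-- The top case: `N_S(U) = S`. -/
theorem tower_top (hS : IsPGroup p S) (F : FusionSystem S) {U : Subgroup Ω} (hUS : U ≤ S)
    (hA : (normalizerSystem F U hUS).IsNormal (WSub W (normalizerIn S U)))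
    (hT : normalizerIn S U = S) : KProp F (WSub W S) U := by
  intro A φ hφ
  have hφN : φ ∈ (normalizerSystem F U hUS).Hom A := by
    rw [normalizerSystem_isNormalizerSystem F U hUS A]; exact hφ
  have hsub : ∀ P : Subgroup Ω, (normalizerSystem F U hUS).Hom P ⊆ F.Hom P := by
    intro P ψ hψ
    rw [normalizerSystem_isNormalizerSystem F U hUS P] at hψ
    exact hψ.1
  have hX : (normalizerSystem F U hUS).IsNormal (WSub W S) := by
    rw [← WSub_congr W hT]; exact hA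
  have hSX : S ≤ Subgroup.normalizer (WSub W S : Set Ω) := by
    intro g hg
    have := (normalizerIn_WSub_eq W hW2 hS).ge hg
    exact this.2
  exact mem_normalizerHom_of_sub F _ hsub hX hSX hφN

include hW1 hW2 in
set_option maxHeartbeats 1000000 in
/-- The tower step. -/
theorem tower_step (hS : IsPGroup p S) (F : FusionSystem S) (hF : F.IsSaturated p)
    {U : Subgroup Ω} (hUfn : F.IsFullyNormalized U) (hUne : U ≠ ⊥)
    (hA : (normalizerSystem F U hUfn.1).IsNormal (WSub W (normalizerIn S U)))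
    (hT : normalizerIn S U ≠ S)
    (IHK : ∀ U' : Subgroup Ω, U' ≠ ⊥ → F.IsFullyNormalized U' →
      Nat.card (normalizerIn S U) < Nat.card (normalizerIn S U') → KProp F (WSub W S) U') :
    KProp F (WSub W S) U := by
  intro A φ hφ
  have hXS : WSub W S ≤ S := WSub_le W S
  have hUS := hUfn.1
  have hTS : normalizerIn S U ≤ S := normalizerIn_le S U
  haveI : Finite ↥(normalizerIn S U) := finite_of_le hTS
  have hTp : IsPGroup p ↥(normalizerIn S U) := hS.to_le hTS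
  have hW₁T : WSub W (normalizerIn S U) ≤ normalizerIn S U := WSub_le W _
  have hW₁S := hW₁T.trans hTS
  have hTnt : Nontrivial ↥(normalizerIn S U) := by
    obtain ⟨a, ha⟩ := (Subgroup.ne_bot_iff_exists_ne_one).mp hUne
    refine ⟨⟨⟨a, le_normalizerIn hUS a.2⟩, 1, fun h => ha ?_⟩⟩
    apply Subtype.ext
    exact congrArg (fun z : ↥(normalizerIn S U) => (z : Ω)) h
  have hW₁ne : WSub W (normalizerIn S U) ≠ ⊥ := by
    intro h
    apply hW1 ↥(normalizerIn S U) hTp hTnt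
    exact (Subgroup.map_eq_bot_iff_of_injective _ (Subgroup.subtype_injective _)).mp h
  have hTN : normalizerIn S (normalizerIn S U) ≤ normalizerIn S (WSub W (normalizerIn S U)) :=
    fun g hg => ⟨hg.1, normalizer_le_normalizer_WSub W hW2 _ hTp hg.2⟩
  obtain ⟨g, hgN, hgT⟩ := Cfsg.Agent.Lib.Helper89.exists_mem_normalizerIn_not_mem hS hTS hT
  have hMS : normalizerIn S (WSub W (normalizerIn S U)) ≤ S := normalizerIn_le S _
  haveI : Finite ↥(normalizerIn S (WSub W (normalizerIn S U))) := finite_of_le hMS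
  have hTM : normalizerIn S U ≤ normalizerIn S (WSub W (normalizerIn S U)) :=
    (le_normalizerIn hTS).trans hTN
  have hcardTM : Nat.card ↥(normalizerIn S U) <
      Nat.card ↥(normalizerIn S (WSub W (normalizerIn S U))) := by
    by_contra hc
    have heq := Subgroup.eq_of_le_of_card_ge hTM (not_lt.mp hc)
    apply hgT
    rw [heq]
    exact hTN hgN
  -- a fully normalized conjugate of `W₁`
  obtain ⟨W₁', hconj, hfn'⟩ := exists_isFullyNormalized F hW₁S
  obtain ⟨hfc', hfa'⟩ := fullyNormalized_props p hS F hF W₁' hfn'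
  have hrec' := isReceptive_of_isFullyCentralized p hS F hF W₁' hfc'
  obtain ⟨ψ, hψ, hψN, hψmap, hψW⟩ := exists_normalizer_hom p hS F W₁' _ hfa' hrec' hconj
  have hψinj := F.injective_of_mem hψ
  have hcardMM' : Nat.card ↥(normalizerIn S (WSub W (normalizerIn S U))) ≤
      Nat.card ↥(normalizerIn S W₁') := hfn'.2 _ (isConj_symm F hconj)
  have hW₁'ne : W₁' ≠ ⊥ := by
    intro h
    apply hW₁ne
    rw [Subgroup.eq_bot_iff_forall]
    intro x hx
    have hxM : x ∈ normalizerIn S (WSub W (normalizerIn S U)) := hTM (hW₁T hx)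
    have h1 : ψ ⟨x, hxM⟩ ∈ W₁' := hψW ⟨x, hxM⟩ hx
    rw [h, Subgroup.mem_bot] at h1
    have h2 : (⟨x, hxM⟩ : ↥(normalizerIn S (WSub W (normalizerIn S U)))) = 1 := by
      apply hψinj
      rw [h1, map_one]
    exact congrArg Subtype.val h2
  have hKW' : KProp F (WSub W S) W₁' := IHK W₁' hW₁'ne hfn' (lt_of_lt_of_le hcardTM hcardMM')
  -- the normalizer system of `X`
  have hD : ∀ P : Subgroup Ω, (normalizerSystem F (WSub W S) hXS).Hom P =
      F.normalizerHom (WSub W S) P := normalizerSystem_isNormalizerSystem F _ hXS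
  have hDF : ∀ P : Subgroup Ω, (normalizerSystem F (WSub W S) hXS).Hom P ⊆ F.Hom P := by
    intro P χ hχ
    rw [hD P] at hχ
    exact hχ.1
  have hST : S ≤ normalizerIn S (WSub W S) := (normalizerIn_WSub_eq W hW2 hS).ge
  have hψD : ψ ∈ (normalizerSystem F (WSub W S) hXS).Hom _ := by
    apply threshold p hS F hF _ hST hDF (Nat.card ↥(normalizerIn S U)) _ hψ hcardTM
    intro P hP hcard α hα
    have hPS : P ≤ S := hom_le F hα
    have hPfn : F.IsFullyNormalized P := by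
      rcases hP with hP | hP
      · rw [hP]
        exact isFullyNormalized_of_normalizerIn_eq F le_rfl (normalizerIn_self S)
      · exact hP.2.1
    have hPne : P ≠ ⊥ := by
      rintro rfl
      have h1 : Nat.card (⊥ : Subgroup Ω) = 1 := Subgroup.card_bot
      have h2 : 0 < Nat.card ↥(normalizerIn S U) := Nat.card_pos
      omega
    haveI : Finite ↥(normalizerIn S P) := finite_of_le (normalizerIn_le S P)
    have hcardP : Nat.card ↥(normalizerIn S U) < Nat.card ↥(normalizerIn S P) :=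
      lt_of_lt_of_le hcard (card_le_of_le (le_normalizerIn hPS))
    rw [hD P]
    exact IHK P hPne hPfn hcardP P _ (aut_mem_normalizerHom F hPS α hα)
  -- extend `φ`
  have hNU : ∀ P : Subgroup Ω, (normalizerSystem F U hUS).Hom P = F.normalizerHom U P :=
    normalizerSystem_isNormalizerSystem F U hUS
  have hφN : φ ∈ (normalizerSystem F U hUS).Hom A := by rw [hNU A]; exact hφ
  obtain ⟨φt, hφtN, hφtext, hφtW⟩ := hA.2 A φ hφN
  have hφtF : φt ∈ F.Hom (A ⊔ WSub W (normalizerIn S U)) := by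
    have := hφtN
    rw [hNU _] at this
    exact this.1
  have hφtT : ∀ b, φt b ∈ normalizerIn S U := fun b => hom_mem _ hφtN b
  have hBT : A ⊔ WSub W (normalizerIn S U) ≤ normalizerIn S U := hom_le _ hφtN
  have hBM := hBT.trans hTM
  have hW₁B : WSub W (normalizerIn S U) ≤ A ⊔ WSub W (normalizerIn S U) := le_sup_right
  have hφtD : φt ∈ (normalizerSystem F (WSub W S) hXS).Hom (A ⊔ WSub W (normalizerIn S U)) := by
    apply transport_mem F _ hDF hBM hψD hφtF (fun b => hTM (hφtT b))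
    intro φ' hφ'F hint
    rw [hD]
    apply hKW'
    -- the three facts
    have hmapW : ∀ w ∈ WSub W (normalizerIn S U), ∀ hwM : w ∈ normalizerIn S (WSub W (normalizerIn S U)),
        ψ ⟨w, hwM⟩ ∈ W₁' := fun w hw hwM => hψW ⟨w, hwM⟩ hw
    have hsurjW : ∀ y ∈ W₁', ∃ w, ∃ hw : w ∈ WSub W (normalizerIn S U), ψ ⟨w, hTM (hW₁T hw)⟩ = y := by
      intro y hy
      rw [← hψmap] at hy
      obtain ⟨m, hm, rfl⟩ := hy
      exact ⟨m, Subgroup.mem_subgroupOf.mp hm, rfl⟩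
    have hφtWin : ∀ b : ↥(A ⊔ WSub W (normalizerIn S U)), (b : Ω) ∈ WSub W (normalizerIn S U) →
        φt b ∈ WSub W (normalizerIn S U) := by
      intro b hb
      have : φt b ∈ ((WSub W (normalizerIn S U)).subgroupOf _).map φt :=
        ⟨b, Subgroup.mem_subgroupOf.mpr hb, rfl⟩
      rw [hφtW] at this
      exact this
    have hφtWsurj : ∀ w ∈ WSub W (normalizerIn S U), ∃ b : ↥(A ⊔ WSub W (normalizerIn S U)),
        (b : Ω) ∈ WSub W (normalizerIn S U) ∧ φt b = w := by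
      intro w hw
      rw [← hφtW] at hw
      obtain ⟨b, hb, rfl⟩ := hw
      exact ⟨b, Subgroup.mem_subgroupOf.mp hb, rfl⟩
    apply Cfsg.Agent.Lib.Helper90.GT.mem_normalizerHom_of_le F hφ'F
    · -- `W₁' ≤ B'`
      intro y hy
      obtain ⟨w, hw, rfl⟩ := hsurjW y hy
      exact ⟨⟨w, hTM (hW₁T hw)⟩, Subgroup.mem_subgroupOf.mpr (hW₁B hw), rfl⟩
    · -- `B' ≤ N_S(W₁')`
      rintro _ ⟨m, -, rfl⟩
      exact hψN m
    · ext y
      constructor
      · rintro ⟨y', hy', rfl⟩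
        have hy'W : (y' : Ω) ∈ W₁' := Subgroup.mem_subgroupOf.mp hy'
        obtain ⟨m, hm, hmy⟩ := y'.2
        have hmB : (m : Ω) ∈ A ⊔ WSub W (normalizerIn S U) := Subgroup.mem_subgroupOf.mp hm
        obtain ⟨w, hw, hwy⟩ := hsurjW _ hy'W
        have hmw : m = ⟨w, hTM (hW₁T hw)⟩ := by
          apply hψinj
          rw [hmy, hwy]
        have hmW : (m : Ω) ∈ WSub W (normalizerIn S U) := by rw [hmw]; exact hw
        have hb' : ψ ⟨((⟨m, hmB⟩ : ↥(A ⊔ WSub W (normalizerIn S U))) : Ω), hBM hmB⟩ ∈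
            ((A ⊔ WSub W (normalizerIn S U)).subgroupOf
              (normalizerIn S (WSub W (normalizerIn S U)))).map ψ :=
          Subgroup.mem_map.mpr ⟨m, hm, rfl⟩
        have h3 := hint ⟨m, hmB⟩ hb'
        have hy'eq : y' = ⟨ψ ⟨((⟨m, hmB⟩ : ↥(A ⊔ WSub W (normalizerIn S U))) : Ω),
            hBM hmB⟩, hb'⟩ := Subtype.ext hmy.symm
        rw [hy'eq, h3]
        exact hmapW _ (hφtWin ⟨m, hmB⟩ hmW) _
      · intro hy
        obtain ⟨w, hw, rfl⟩ := hsurjW y hy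
        obtain ⟨b, hb, hbw⟩ := hφtWsurj w hw
        have hb' : ψ ⟨b, hBM b.2⟩ ∈ ((A ⊔ WSub W (normalizerIn S U)).subgroupOf
            (normalizerIn S (WSub W (normalizerIn S U)))).map ψ :=
          ⟨⟨b, hBM b.2⟩, Subgroup.mem_subgroupOf.mpr b.2, rfl⟩
        refine ⟨⟨ψ ⟨b, hBM b.2⟩, hb'⟩, Subgroup.mem_subgroupOf.mpr (hmapW _ hb _), ?_⟩
        rw [hint b hb']
        congr 1
        exact Subtype.ext hbw
  have hφeq : φ = φt.comp (Subgroup.inclusion le_sup_left) :=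
    MonoidHom.ext (fun x => (hφtext x).symm)
  rw [hφeq, ← hD]
  exact restrict_mem _ le_sup_left hφtD

end Tower

end Cfsg.Agent.Lib.Helper87.ZJ
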