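import Cfsg.Agent.Lib.Helper87.ZJ1
import Cfsg.Agent.Lib.Helper87.Model
import Cfsg.Agent.S5090
import Cfsg.Prelude.Def_FusionReduction
import Cfsg.Prelude.Def_PLocal

set_option autoImplicit false

/-!
The constrained case: if `F` is constrained and `Qd(p)`-free, then `W(S)` is normal in `F`, for a Glauberman functor `W`.
-/

namespace Cfsg.Agent.Lib.Helper87.ZJ

open Cfsg Cfsg.FusionSystem Cfsg.Agent.Lib.Helper87

universe u

variable {Ω : Type u} [Group Ω] {S : Subgroup Ω} [Finite S]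

variable (W : ∀ (Q : Type u) [Group Q], Subgroup Q) {p : ℕ} [Fact p.Prime]
  (hW2 : ∀ (Q R : Type u) [Group Q] [Group R] [Finite Q], IsPGroup p Q → ∀ φ : Q ≃* R,
    (W Q).map φ.toMonoidHom = W R)
  (hW3 : ∀ (L : Type u) [Group L] [Finite L] (P : Sylow p L),
    Subgroup.centralizer ((Cfsg.pCore p L : Subgroup L) : Set L) =
      Cfsg.pCore p L ⊓ Subgroup.centralizer ((Cfsg.pCore p L : Subgroup L) : Set L) →
    ¬ Cfsg.Involves ↥(Cfsg.qd p) L →
    (((W ↥(P : Subgroup L)).map (P : Subgroup L).subtype : Subgroup L)).Normal)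

theorem normalizerIn_eq_of_isNormal (F : FusionSystem S) {Q : Subgroup Ω} (hQ : F.IsNormal Q) :
    normalizerIn S Q = S := by
  apply le_antisymm (normalizerIn_le S Q)
  intro g hg
  exact ⟨hg, Cfsg.Agent.Lib.Helper90.GT.normal_le_normalizer F hQ hg⟩

include hW2 hW3 in
theorem constrained_case (hS : IsPGroup p S) (F : FusionSystem S) (hcon : F.IsConstrained p)
    (hfree : F.IsSectionFree p ↥(Cfsg.qd p)) : F.IsNormal (WSub W S) := by
  obtain ⟨G, _, ι, hM⟩ := Cfsg.Agent.S5090.result p hS F hcon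
  obtain ⟨hsat, Q, hQn, hQc⟩ := hcon
  obtain ⟨hfin, hι, ⟨T, hT⟩, hcent⟩ := hM
  have hNQ : normalizerIn S Q = S := normalizerIn_eq_of_isNormal F hQn
  have hQfn : F.IsFullyNormalized Q := isFullyNormalized_of_normalizerIn_eq F hQn.1 hNQ
  have hN := normalizerSystem_isNormalizerSystem F Q hQn.1
  have hM' : (normalizerSystem F Q hQn.1).IsModel p G
      (ι.comp (Subgroup.inclusion (normalizerIn_le S Q))) := by
    refine ⟨hfin, ⟨?_, fun P hP φ hφ => ?_⟩, ⟨T, ?_⟩, hcent⟩
    · exact hι.1.comp (Subgroup.inclusion_injective _)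
    · have hPS : P ≤ S := hP.trans (normalizerIn_le S Q)
      have hφS : ∀ x : P, φ x ∈ S := fun x => normalizerIn_le S Q (hφ x)
      rw [hN P]
      constructor
      · intro h
        exact (hι.2 P hPS φ hφS).mp h.1
      · intro h
        exact ctl_of_isNormal F hQn P φ ((hι.2 P hPS φ hφS).mpr h)
    · rw [hT]
      ext y
      constructor
      · rintro ⟨s, rfl⟩
        exact ⟨⟨s, hNQ.ge s.2⟩, rfl⟩
      · rintro ⟨s, rfl⟩
        exact ⟨_, rfl⟩
  have hnot := hfree Q hQfn hQc _ hN G _ hM'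
  have hnorm := hW3 G T (inf_eq_right.mpr hcent).symm hnot
  have hWT : (W ↥S).map ι = WSub W (T : Subgroup G) :=
    WSub_map' W hW2 S hS ι hι.1 hT.symm
  have hnorm' : ((W ↥S).map ι).Normal := by
    rw [hWT]; exact hnorm
  have hle : (W ↥S).map ι ≤ ι.range := by
    rintro _ ⟨x, -, rfl⟩
    exact ⟨x, rfl⟩
  have hpull := isNormal_pull_of_normal F hι ((W ↥S).map ι) hle
  have : pull ι ((W ↥S).map ι) = WSub W S := by
    unfold pull WSub
    rw [Subgroup.comap_map_eq_self_of_injective hι.1]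
  rw [← this]
  exact hpull

end Cfsg.Agent.Lib.Helper87.ZJ
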