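import Cfsg.Agent.Lib.Helper87.ZJ5
import Cfsg.Agent.Lib.Helper87.ZJ3
import Cfsg.Agent.Lib.Helper87.ModelEmbed0
import Cfsg.Agent.Lib.Helper88.FusionExtMod3
import Cfsg.Agent.Lib.Helper90.GTCentric

set_option autoImplicit false

/-!
Decomposition of the maps of a saturated system `F` with a normal subgroup `Q`: every map defined on an overgroup of
`Q` is a map of `N_F(Q C_S(Q))` followed by a map fixing `Q` elementwise.
-/

namespace Cfsg.Agent.Lib.Helper87.ZJ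

open Cfsg Cfsg.FusionSystem Cfsg.Agent.Lib.Helper87

universe u

variable {Ω : Type u} [Group Ω] {S : Subgroup Ω} [Finite S]

theorem map_eq_of_isNormal (F : FusionSystem S) {Q A : Subgroup Ω} (hQ : F.IsNormal Q) (hQA : Q ≤ A)
    {φ : A →* Ω} (hφ : φ ∈ F.Hom A) : (Q.subgroupOf A).map φ = Q := by
  haveI : Finite Q := finite_of_le hQ.1
  apply map_subgroupOf_eq_of_forall_mem hQA φ (F.injective_of_mem hφ)
  intro x hx
  have hsc := Cfsg.Agent.Lib.Helper90.IsNormal.stronglyClosed F hQ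
  exact hsc.2 Q le_rfl _ (restrict_mem F hQA hφ) ⟨x, hx⟩

/-- If `χ` agrees with `φ` on `Q`, then `φ = θ ∘ χ` with `θ` fixing `Q` elementwise. -/
theorem exists_theta (F : FusionSystem S) {Q A : Subgroup Ω} (hQ : F.IsNormal Q) (hQA : Q ≤ A)
    {φ χ : A →* Ω} (hφ : φ ∈ F.Hom A) (hχ : χ ∈ F.Hom A)
    (hagree : ∀ x : A, (x : Ω) ∈ Q → χ x = φ x) :
    ∃ θ : χ.range →* Ω, θ ∈ F.Hom χ.range ∧ (∀ x : A, θ ⟨χ x, ⟨x, rfl⟩⟩ = φ x) ∧ Q ≤ χ.range ∧
      ∀ y : χ.range, (y : Ω) ∈ Q → θ y = y := by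
  obtain ⟨σ, hσ, hσinv, hσr⟩ := inv_mem' F hχ rfl
  have hσA : ∀ y : χ.range, σ y ∈ A := by
    intro y
    have : σ y ∈ σ.range := ⟨y, rfl⟩
    rwa [hσr] at this
  have hmap := map_eq_of_isNormal F hQ hQA hχ
  refine ⟨φ.comp (σ.codRestrict A hσA), F.comp_mem hσ hφ hσA, ?_, ?_, ?_⟩
  · intro x
    have h1 : σ ⟨χ x, ⟨x, rfl⟩⟩ = (x : Ω) := hσinv x ⟨χ x, ⟨x, rfl⟩⟩ rfl
    show φ ⟨σ ⟨χ x, _⟩, _⟩ = φ x
    congr 1
    exact Subtype.ext h1
  · intro q hq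
    rw [← hmap] at hq
    obtain ⟨a, -, rfl⟩ := hq
    exact ⟨a, rfl⟩
  · intro y hy
    have hy' := hy
    rw [← hmap] at hy'
    obtain ⟨a, ha, hay⟩ := hy'
    have haQ : (a : Ω) ∈ Q := Subgroup.mem_subgroupOf.mp ha
    have h1 : σ y = (a : Ω) := hσinv a y hay
    show φ ⟨σ y, _⟩ = y
    have h2 : (⟨σ y, hσA y⟩ : A) = a := Subtype.ext h1
    rw [h2, ← hagree a haQ, hay]

theorem isReceptive_of_isNormal (p : ℕ) [Fact p.Prime] (hS : IsPGroup p S) (F : FusionSystem S)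
    (hF : F.IsSaturated p) {Q : Subgroup Ω} (hQ : F.IsNormal Q) : F.IsReceptive Q := by
  have hNQ := normalizerIn_eq_of_isNormal F hQ
  have hQfn := isFullyNormalized_of_normalizerIn_eq F hQ.1 hNQ
  obtain ⟨hfc, -⟩ := fullyNormalized_props p hS F hF Q hQfn
  exact isReceptive_of_isFullyCentralized p hS F hF Q hfc

theorem isFullyAutomized_of_isNormal (p : ℕ) [Fact p.Prime] (hS : IsPGroup p S) (F : FusionSystem S)
    (hF : F.IsSaturated p) {Q : Subgroup Ω} (hQ : F.IsNormal Q) : F.IsFullyAutomized p Q := by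
  have hNQ := normalizerIn_eq_of_isNormal F hQ
  have hQfn := isFullyNormalized_of_normalizerIn_eq F hQ.1 hNQ
  exact (fullyNormalized_props p hS F hF Q hQfn).2

theorem conj_mem_of_isNormal (F : FusionSystem S) {Q : Subgroup Ω} (hQ : F.IsNormal Q) :
    ∀ s ∈ S, ∀ q ∈ Q, s * q * s⁻¹ ∈ Q := fun s hs q hq =>
  (Subgroup.mem_normalizer_iff.mp (Cfsg.Agent.Lib.Helper90.GT.normal_le_normalizer F hQ hs) q).mp hq

theorem sup_centralizerIn_normal (F : FusionSystem S) {Q : Subgroup Ω} (hQ : F.IsNormal Q) :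
    S ≤ Subgroup.normalizer ((Q ⊔ centralizerIn S Q : Subgroup Ω) : Set Ω) := by
  have hconj := conj_mem_of_isNormal F hQ
  apply Cfsg.Agent.Lib.Helper90.GT.le_normalizer_of_conj_mem
  intro g hg y hy
  obtain ⟨q, hq, c, hc, rfl⟩ := Cfsg.Agent.Lib.Helper88.exists_mul_of_mem_sup
    (fun x hx t ht => Cfsg.Agent.Lib.Helper90.GT.conj_mem_centralizerIn hconj (hQ.1 hx) ht) hy
  have e : g * (q * c) * g⁻¹ = (g * q * g⁻¹) * (g * c * g⁻¹) := by group
  rw [e]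
  exact Subgroup.mul_mem _ (Subgroup.mem_sup_left (hconj g hg q hq))
    (Subgroup.mem_sup_right (Cfsg.Agent.Lib.Helper90.GT.conj_mem_centralizerIn hconj hg hc))

set_option maxHeartbeats 800000 in
/-- Every map on an overgroup `A` of `Q` agrees on `Q` with a map of `N_F(Q C_S(Q))` on `A`. -/
theorem exists_chi (p : ℕ) [Fact p.Prime] (hS : IsPGroup p S) (F : FusionSystem S)
    (hF : F.IsSaturated p) {Q : Subgroup Ω} (hQ : F.IsNormal Q) {A : Subgroup Ω} (hQA : Q ≤ A)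
    {φ : A →* Ω} (hφ : φ ∈ F.Hom A) :
    ∃ χ : A →* Ω, χ ∈ F.normalizerHom (Q ⊔ centralizerIn S Q) A ∧
      ∀ x : A, (x : Ω) ∈ Q → χ x = φ x := by
  have hrec := isReceptive_of_isNormal p hS F hF hQ
  have hQS := hQ.1
  have hAS : A ≤ S := hom_le F hφ
  have hSN := Cfsg.Agent.Lib.Helper90.GT.normal_le_normalizer F hQ
  have hconj := conj_mem_of_isNormal F hQ
  have hmapφ := map_eq_of_isNormal F hQ hQA hφ
  have hlam : φ.comp (Subgroup.inclusion hQA) ∈ F.Hom Q := restrict_mem F hQA hφ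
  have hlamQ : ∀ q : Q, (φ.comp (Subgroup.inclusion hQA)) q ∈ Q := by
    intro q
    have : φ (Subgroup.inclusion hQA q) ∈ (Q.subgroupOf A).map φ :=
      ⟨Subgroup.inclusion hQA q, Subgroup.mem_subgroupOf.mpr q.2, rfl⟩
    rw [hmapφ] at this
    exact this
  have hlamsurj : ∀ z ∈ Q, ∃ q : Q, (φ.comp (Subgroup.inclusion hQA)) q = z := by
    intro z hz
    rw [← hmapφ] at hz
    obtain ⟨a, ha, rfl⟩ := hz
    exact ⟨⟨a, Subgroup.mem_subgroupOf.mp ha⟩, rfl⟩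
  have hlamr : (φ.comp (Subgroup.inclusion hQA)).range = Q := by
    ext y
    constructor
    · rintro ⟨q, rfl⟩
      exact hlamQ q
    · intro hy
      obtain ⟨q, hq⟩ := hlamsurj y hy
      exact ⟨q, hq⟩
  obtain ⟨ψ, hψ, hψext⟩ := hrec.2 Q _ hlam hlamr
  have hAE : A ≤ extender S Q (φ.comp (Subgroup.inclusion hQA)) := by
    intro a ha
    rw [mem_extender_iff]
    refine ⟨hAS ha, hSN (hAS ha), φ ⟨a, ha⟩, hom_mem F hφ _, fun x hx => ?_⟩
    show φ ⟨a * x * a⁻¹, _⟩ = φ ⟨a, ha⟩ * φ ⟨x, _⟩ * (φ ⟨a, ha⟩)⁻¹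
    rw [← map_inv, ← map_mul, ← map_mul]
    rfl
  have hCE := centralizerIn_le_extender S Q (φ.comp (Subgroup.inclusion hQA))
  have hQE : Q ≤ extender S Q (φ.comp (Subgroup.inclusion hQA)) := hQA.trans hAE
  have hRE : A ⊔ (Q ⊔ centralizerIn S Q) ≤ extender S Q (φ.comp (Subgroup.inclusion hQA)) :=
    sup_le hAE (sup_le hQE hCE)
  have hψQ : ∀ (q : Ω) (hq : q ∈ Q), ψ ⟨q, hQE hq⟩ ∈ Q := by
    intro q hq
    rw [hψext q hq (hQE hq)]
    exact hlamQ ⟨q, hq⟩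
  have hψC : ∀ (c : Ω) (hc : c ∈ centralizerIn S Q), ψ ⟨c, hCE hc⟩ ∈ centralizerIn S Q := by
    intro c hc
    rw [mem_centralizerIn]
    refine ⟨hom_mem F hψ _, fun z hz => ?_⟩
    obtain ⟨q, hq⟩ := hlamsurj z hz
    have h1 : ψ ⟨q, hQE q.2⟩ = z := by rw [hψext q q.2 (hQE q.2)]; exact hq
    rw [← h1, ← map_mul, ← map_mul]
    congr 1
    apply Subtype.ext
    exact (mem_centralizerIn.mp hc).2 q q.2
  have hRS : Q ⊔ centralizerIn S Q ≤ S := sup_le hQS (centralizerIn_le S Q)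
  haveI : Finite ↥(Q ⊔ centralizerIn S Q) := finite_of_le hRS
  have hSNR := sup_centralizerIn_normal F hQ
  have hinjR : Function.Injective (ψ.comp (Subgroup.inclusion hRE)) :=
    (F.injective_of_mem hψ).comp (Subgroup.inclusion_injective hRE)
  have hmemR : ∀ r : ↥(A ⊔ (Q ⊔ centralizerIn S Q)), (r : Ω) ∈ Q ⊔ centralizerIn S Q →
      (ψ.comp (Subgroup.inclusion hRE)) r ∈ Q ⊔ centralizerIn S Q := by
    intro r hr
    obtain ⟨q, hq, c, hc, hrqc⟩ := Cfsg.Agent.Lib.Helper88.exists_mul_of_mem_sup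
      (fun x hx t ht => Cfsg.Agent.Lib.Helper90.GT.conj_mem_centralizerIn hconj (hQS hx) ht) hr
    have hre : Subgroup.inclusion hRE r =
        (⟨q, hQE hq⟩ : ↥(extender S Q (φ.comp (Subgroup.inclusion hQA)))) * ⟨c, hCE hc⟩ :=
      Subtype.ext hrqc
    show ψ (Subgroup.inclusion hRE r) ∈ Q ⊔ centralizerIn S Q
    rw [hre, map_mul]
    exact Subgroup.mul_mem _ (Subgroup.mem_sup_left (hψQ q hq)) (Subgroup.mem_sup_right (hψC c hc))
  have hmapR : ((Q ⊔ centralizerIn S Q).subgroupOf (A ⊔ (Q ⊔ centralizerIn S Q))).map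
      (ψ.comp (Subgroup.inclusion hRE)) = Q ⊔ centralizerIn S Q :=
    map_subgroupOf_eq_of_forall_mem le_sup_right (ψ.comp (Subgroup.inclusion hRE)) hinjR hmemR
  refine ⟨ψ.comp (Subgroup.inclusion hAE), ⟨restrict_mem F hAE hψ, ?_, ?_,
    ψ.comp (Subgroup.inclusion hRE), restrict_mem F hRE hψ, fun x => rfl, hmapR⟩, ?_⟩
  · intro a ha
    exact ⟨hAS ha, hSNR (hAS ha)⟩
  · intro x
    exact ⟨hom_mem F hψ _, hSNR (hom_mem F hψ _)⟩
  · intro x hx
    exact hψext x hx (hAE x.2)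

/-- Case 1: some subgroup `U ≤ Q` normalized by `S` has `N_F(U) ⊆ N_F(X)`, and `N_F(Q C_S(Q)) ⊆ N_F(X)`. -/
theorem case_one (p : ℕ) [Fact p.Prime] (hS : IsPGroup p S) (F : FusionSystem S)
    (hF : F.IsSaturated p) {Q : Subgroup Ω} (hQ : F.IsNormal Q) {X : Subgroup Ω} (hX : X ≤ S)
    {U : Subgroup Ω} (hUQ : U ≤ Q) (hUS : S ≤ Subgroup.normalizer (U : Set Ω))
    (hKU : KProp F X U) (hKR : KProp F X (Q ⊔ centralizerIn S Q)) : F.IsNormal X := by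
  apply isNormal_of_ctl F hX
  intro P φ hφ
  have hD : ∀ P : Subgroup Ω, (normalizerSystem F X hX).Hom P = F.normalizerHom X P :=
    normalizerSystem_isNormalizerSystem F _ hX
  obtain ⟨φ₁, hφ₁, hφ₁ext, -⟩ := hQ.2 P φ hφ
  have hQA : Q ≤ P ⊔ Q := le_sup_right
  obtain ⟨χ, hχN, hχagree⟩ := exists_chi p hS F hF hQ hQA hφ₁
  obtain ⟨θ, hθ, hθχ, hQr, hθQ⟩ := exists_theta F hQ hQA hφ₁ hχN.1 hχagree
  have hrS : χ.range ≤ S := hom_le F hθ
  have hθU : θ ∈ F.normalizerHom U χ.range := by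
    apply Cfsg.Agent.Lib.Helper90.GT.mem_normalizerHom_of_le F hθ (hUQ.trans hQr)
    · intro y hy
      exact ⟨hrS hy, hUS (hrS hy)⟩
    · ext y
      constructor
      · rintro ⟨u, hu, rfl⟩
        have huU : (u : Ω) ∈ U := Subgroup.mem_subgroupOf.mp hu
        rw [hθQ u (hUQ huU)]
        exact huU
      · intro hy
        refine ⟨⟨y, hQr (hUQ hy)⟩, Subgroup.mem_subgroupOf.mpr hy, ?_⟩
        exact hθQ ⟨y, hQr (hUQ hy)⟩ (hUQ hy)
  have hθD : θ ∈ (normalizerSystem F X hX).Hom χ.range := by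
    rw [hD]; exact hKU _ _ hθU
  have hχD : χ ∈ (normalizerSystem F X hX).Hom (P ⊔ Q) := by
    rw [hD]; exact hKR _ _ hχN
  have hφ₁D : φ₁ ∈ (normalizerSystem F X hX).Hom (P ⊔ Q) :=
    comp_mem' _ hχD hθD (fun x => ⟨x, rfl⟩) (fun x => (hθχ x).symm)
  have hφeq : φ = φ₁.comp (Subgroup.inclusion le_sup_left) :=
    MonoidHom.ext (fun x => (hφ₁ext x).symm)
  rw [hφeq, ← hD]
  exact restrict_mem _ le_sup_left hφ₁D

end Cfsg.Agent.Lib.Helper87.ZJ
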