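import Cfsg.Agent.Lib.Helper87.ZJ6
import Cfsg.Agent.Lib.Helper90.StabChain

set_option autoImplicit false

/-!
If every subgroup of the normal subgroup `Q` of `F` that is normalized by `S` is normal in `F`, then `Aut_S(Q)` is
normal in `Aut_F(Q)`, and every automorphism in `Aut_F(Q)` extends to a map of `F` defined on `S`.
-/

namespace Cfsg.Agent.Lib.Helper87.ZJ

open Cfsg Cfsg.FusionSystem Cfsg.Agent.Lib.Helper87

universe u

variable {Ω : Type u} [Group Ω] {S : Subgroup Ω} [Finite S]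

/-- The `i`-th term of the upper central series of `S`, intersected with `Q`. -/
def ucsInf (S Q : Subgroup Ω) (i : ℕ) : Subgroup Ω :=
  Q ⊓ (Subgroup.upperCentralSeries ↥S i).map S.subtype

omit [Finite S] in
theorem ucsInf_le (Q : Subgroup Ω) (i : ℕ) : ucsInf S Q i ≤ Q := inf_le_left

omit [Finite S] in
theorem ucsInf_normalized {Q : Subgroup Ω} (hconj : ∀ s ∈ S, ∀ q ∈ Q, s * q * s⁻¹ ∈ Q) (i : ℕ) :
    S ≤ Subgroup.normalizer ((ucsInf S Q i : Subgroup Ω) : Set Ω) := by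
  apply Cfsg.Agent.Lib.Helper90.GT.le_normalizer_of_conj_mem
  rintro g hg y ⟨hyQ, y', hy', rfl⟩
  refine ⟨hconj g hg _ hyQ, ⟨g, hg⟩ * y' * ⟨g, hg⟩⁻¹, ?_, rfl⟩
  exact (inferInstance : (Subgroup.upperCentralSeries ↥S i).Normal).conj_mem y' hy' ⟨g, hg⟩

omit [Finite S] in
theorem ucsInf_comm {Q : Subgroup Ω} (hconj : ∀ s ∈ S, ∀ q ∈ Q, s * q * s⁻¹ ∈ Q) (i : ℕ)
    {x s : Ω} (hx : x ∈ ucsInf S Q (i + 1)) (hs : s ∈ S) : x⁻¹ * (s * x * s⁻¹) ∈ ucsInf S Q i := by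
  obtain ⟨hxQ, x', hx', rfl⟩ := hx
  refine ⟨Q.mul_mem (Q.inv_mem hxQ) (hconj s hs _ hxQ), x'⁻¹ * ⟨s, hs⟩ * x'⁻¹⁻¹ * ⟨s, hs⟩⁻¹, ?_, ?_⟩
  · have h1 : x'⁻¹ ∈ Subgroup.upperCentralSeries ↥S (i + 1) := Subgroup.inv_mem _ hx'
    exact (Subgroup.mem_upperCentralSeries_succ_iff.mp h1) ⟨s, hs⟩
  · show ((x' : Ω))⁻¹ * s * ((x' : Ω))⁻¹⁻¹ * s⁻¹ = ((x' : Ω))⁻¹ * (s * (x' : Ω) * s⁻¹)
    group

set_option maxHeartbeats 800000 in
theorem autInducedBy_normal_of_chain (p : ℕ) [Fact p.Prime] (hS : IsPGroup p S) (F : FusionSystem S)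
    (hF : F.IsSaturated p) {Q : Subgroup Ω} (hQ : F.IsNormal Q)
    (hall : ∀ U : Subgroup Ω, U ≤ Q → S ≤ Subgroup.normalizer (U : Set Ω) → F.IsNormal U) :
    ∀ α ∈ F.autGroup Q, ∀ β ∈ autInducedBy S Q, α * β * α⁻¹ ∈ autInducedBy S Q := by
  have hQS := hQ.1
  haveI : Finite Q := finite_of_le hQS
  have hQp : IsPGroup p Q := hS.to_le hQS
  have hconj := conj_mem_of_isNormal F hQ
  -- the chain
  set c : ℕ → Subgroup ↥Q := fun i => (ucsInf S Q i).subgroupOf Q with hc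
  have hmono : Monotone c := by
    intro i j hij x hx
    have hx' : (x : Ω) ∈ ucsInf S Q i := Subgroup.mem_subgroupOf.mp hx
    apply Subgroup.mem_subgroupOf.mpr
    exact ⟨hx'.1, Subgroup.map_mono (Subgroup.upperCentralSeries_mono ↥S hij) hx'.2⟩
  have hc0 : c 0 = ⊥ := by
    rw [eq_bot_iff]
    intro x hx
    have hx' : (x : Ω) ∈ ucsInf S Q 0 := Subgroup.mem_subgroupOf.mp hx
    obtain ⟨-, y, hy, hyx⟩ := hx'
    have hy1 : y = 1 := by
      have h0 : y ∈ Subgroup.upperCentralSeries ↥S 0 := hy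
      rwa [Subgroup.upperCentralSeries_zero, Subgroup.mem_bot] at h0
    rw [Subgroup.mem_bot]
    apply Subtype.ext
    rw [← hyx, hy1]
    rfl
  haveI : Group.IsNilpotent ↥S := hS.isNilpotent
  obtain ⟨n, hn⟩ := Group.IsNilpotent.nilpotent (G := ↥S)
  have hcn : c n = ⊤ := by
    rw [eq_top_iff]
    intro x _
    apply Subgroup.mem_subgroupOf.mpr
    refine ⟨x.2, ⟨(x : Ω), hQS x.2⟩, ?_, rfl⟩
    rw [hn]
    trivial
  have hstabp := Cfsg.Agent.Lib.Helper90.stabChain_isPGroup hQp c hc0 hmono n hcn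
  -- `Aut_S(Q)` stabilizes the chain
  have h1 : ∀ β ∈ autInducedBy S Q, ∀ i, ∀ x ∈ c (i + 1), x⁻¹ * β x ∈ c i := by
    intro β hβ i x hx
    obtain ⟨s, hs, hsβ⟩ := mem_autInducedBy_iff.mp hβ
    have hx' : (x : Ω) ∈ ucsInf S Q (i + 1) := Subgroup.mem_subgroupOf.mp hx
    apply Subgroup.mem_subgroupOf.mpr
    show ((x : Ω))⁻¹ * ((β x : Q) : Ω) ∈ ucsInf S Q i
    rw [hsβ x]
    exact ucsInf_comm hconj i hx' hs
  have hstabS : ∀ β ∈ autInducedBy S Q, β ∈ Cfsg.Agent.Lib.Helper90.stabChain c hmono := by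
    intro β hβ i x hx
    exact ⟨h1 β hβ i x hx, h1 β⁻¹ ((autInducedBy S Q).inv_mem hβ) i x hx⟩
  -- `Aut_F(Q)` preserves the chain
  have hinv : ∀ α ∈ F.autGroup Q, ∀ j, ∀ x ∈ c j, α x ∈ c j := by
    intro α hα j x hx
    have hx' : (x : Ω) ∈ ucsInf S Q j := Subgroup.mem_subgroupOf.mp hx
    have hU := hall (ucsInf S Q j) (ucsInf_le Q j) (ucsInf_normalized hconj j)
    have hsc := Cfsg.Agent.Lib.Helper90.IsNormal.stronglyClosed F hU
    apply Subgroup.mem_subgroupOf.mpr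
    exact Cfsg.Agent.Lib.Helper88.aut_map_mem_of_stronglyClosed hsc hQS hα hx'
  -- Sylow
  obtain ⟨-, R, hR⟩ := isFullyAutomized_of_isNormal p hS F hF hQ
  have hK₀p : IsPGroup p ((Cfsg.Agent.Lib.Helper90.stabChain c hmono).subgroupOf (F.autGroup Q)) :=
    hstabp.comap_subtype
  have hle : (R : Subgroup (F.autGroup Q)) ≤
      (Cfsg.Agent.Lib.Helper90.stabChain c hmono).subgroupOf (F.autGroup Q) := by
    rw [hR]
    intro x hx
    exact Subgroup.mem_subgroupOf.mpr (hstabS _ (Subgroup.mem_subgroupOf.mp hx))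
  have hK₀ := R.is_maximal' hK₀p hle
  intro α hα β hβ
  have hβA : β ∈ F.autGroup Q := autInducedBy_le_autGroup F hQS hβ
  have hmem : α * β * α⁻¹ ∈ F.autGroup Q :=
    (F.autGroup Q).mul_mem ((F.autGroup Q).mul_mem hα hβA) ((F.autGroup Q).inv_mem hα)
  have hst : α * β * α⁻¹ ∈ Cfsg.Agent.Lib.Helper90.stabChain c hmono :=
    Cfsg.Agent.Lib.Helper90.stabChain_conj_mem c hmono α (hinv α hα)
      (hinv α⁻¹ ((F.autGroup Q).inv_mem hα)) (hstabS β hβ)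
  have h2 : (⟨α * β * α⁻¹, hmem⟩ : F.autGroup Q) ∈
      (Cfsg.Agent.Lib.Helper90.stabChain c hmono).subgroupOf (F.autGroup Q) :=
    Subgroup.mem_subgroupOf.mpr hst
  rw [hK₀, hR] at h2
  exact Subgroup.mem_subgroupOf.mp h2

/-- If `Aut_S(Q)` is normal in `Aut_F(Q)`, every map of `F` on `Q` extends to `S`. -/
theorem exists_extension_to_top (p : ℕ) [Fact p.Prime] (hS : IsPGroup p S) (F : FusionSystem S)
    (hF : F.IsSaturated p) {Q : Subgroup Ω} (hQ : F.IsNormal Q)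
    (hnorm : ∀ α ∈ F.autGroup Q, ∀ β ∈ autInducedBy S Q, α * β * α⁻¹ ∈ autInducedBy S Q)
    {lam : Q →* Ω} (hlam : lam ∈ F.Hom Q) :
    ∃ lt : S →* Ω, lt ∈ F.Hom S ∧ ∀ q : Q, lt ⟨q, hQ.1 q.2⟩ = lam q := by
  have hQS := hQ.1
  have hrec := isReceptive_of_isNormal p hS F hF hQ
  have hSN := Cfsg.Agent.Lib.Helper90.GT.normal_le_normalizer F hQ
  have hlamr : lam.range = Q := by
    have h := map_eq_of_isNormal F hQ le_rfl hlam
    ext y
    constructor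
    · rintro ⟨q, rfl⟩
      have h0 : lam q ∈ (Q.subgroupOf Q).map lam := ⟨q, Subgroup.mem_subgroupOf.mpr q.2, rfl⟩
      rw [h] at h0
      exact h0
    · intro hy
      rw [← h] at hy
      obtain ⟨q, -, rfl⟩ := hy
      exact ⟨q, rfl⟩
  obtain ⟨ψ, hψ, hψext⟩ := hrec.2 Q lam hlam hlamr
  set α : MulAut Q := homEquiv F hlam hlamr with hα
  have hαA : α ∈ F.autGroup Q := homEquiv_mem_autGroup F hlam hlamr
  have hαx : ∀ x : Q, ((α x : Q) : Ω) = lam x := fun x => rfl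
  have hSE : S ≤ extender S Q lam := by
    intro s hs
    rw [mem_extender_iff]
    refine ⟨hs, hSN hs, ?_⟩
    have hβ := conjAut_mem_autInducedBy (K := S) hs (hSN hs)
    obtain ⟨h, hh, hhx⟩ := mem_autInducedBy_iff.mp (hnorm α hαA _ hβ)
    refine ⟨h, hh, fun x hx => ?_⟩
    have h3 := hhx (α x)
    rw [MulAut.mul_apply, MulAut.mul_apply, MulAut.inv_apply_self, hαx, hαx] at h3
    rw [← h3]
    congr 1
  refine ⟨ψ.comp (Subgroup.inclusion hSE), restrict_mem F hSE hψ, fun q => ?_⟩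
  exact hψext q q.2 (hSE (hQS q.2))

end Cfsg.Agent.Lib.Helper87.ZJ
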