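import Cfsg.Agent.Lib.Helper87.ZJ7
import Cfsg.Agent.Lib.Helper87.KNormalizer2

set_option autoImplicit false

/-!
The `K`-normalizer system `N_F^K(Q)` as an honest fusion system over `N_S^K(Q)`, and its basic properties for a
subgroup `Q` normal in `F` and `K = Aut_S(Q)` (the system `S C_F(Q)`).
-/

namespace Cfsg.Agent.Lib.Helper87.ZJ

open Cfsg Cfsg.FusionSystem Cfsg.Agent.Lib.Helper87

universe u

variable {Ω : Type u} [Group Ω] {S : Subgroup Ω} [Finite S]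

/-- The `K`-normalizer system as a fusion system over `N_S^K(Q)`. -/
def normKSystem (F : FusionSystem S) (Q : Subgroup Ω) (K : Subgroup (MulAut Q)) (hQ : Q ≤ S) :
    FusionSystem (normK S Q K) where
  Hom P := homK F Q K (normK S Q K) P
  le_of_mem h := ⟨h.2.1, h.2.2.1⟩
  injective_of_mem h := F.injective_of_mem h.1
  conj_mem := by
    intro P g hP hg
    obtain ⟨hgS, κ, hκ, hκx⟩ := mem_normK.mp hg
    have hPS : P ≤ S := hP.trans (normK_le Q K)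
    refine ⟨F.conj_mem hPS hgS, hP, fun x => ?_, conjHom (P ⊔ Q) g,
      F.conj_mem (sup_le hPS hQ) hgS, fun x => rfl, κ, hκ, fun x => (hκx x).symm⟩
    exact Subgroup.mul_mem _ (Subgroup.mul_mem _ hg (hP x.2)) (Subgroup.inv_mem _ hg)
  comp_mem := by
    rintro P R φ ψ ⟨hφ, hPN, hφN, φ', hφ', hφ'φ, κφ, hκφ, hφ'κ⟩
      ⟨hψ, hRN, hψN, ψ', hψ', hψ'ψ, κψ, hκψ, hψ'κ⟩ h
    refine ⟨F.comp_mem hφ hψ h, hPN, fun x => hψN _, ?_⟩
    have hmem : ∀ y : ↥(P ⊔ Q), φ' y ∈ R ⊔ Q := by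
      refine sup_hom_mem φ' (fun x => ?_) (fun x => ?_)
      · rw [hφ'φ]; exact (le_sup_left : R ≤ R ⊔ Q) (h x)
      · rw [hφ'κ]; exact (le_sup_right : Q ≤ R ⊔ Q) (κφ x).2
    refine ⟨ψ'.comp (φ'.codRestrict (R ⊔ Q) hmem), F.comp_mem hφ' hψ' hmem, fun x => ?_,
      κψ * κφ, K.mul_mem hκψ hκφ, fun x => ?_⟩
    · show ψ' ⟨φ' (Subgroup.inclusion le_sup_left x), _⟩ = ψ ⟨φ x, _⟩
      rw [← hψ'ψ]
      congr 1
      exact Subtype.ext (hφ'φ x)
    · show ψ' ⟨φ' (Subgroup.inclusion le_sup_right x), _⟩ = (((κψ * κφ) x : Q) : Ω)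
      rw [MulAut.mul_apply, ← hψ'κ]
      congr 1
      exact Subtype.ext (hφ'κ x)
  inv_mem := by
    rintro P φ ⟨hφ, hPN, hφN, φ', hφ', hφ'φ, κ, hκ, hφ'κ⟩
    obtain ⟨χ, hχ, hχφ', hχr⟩ := inv_mem' F hφ' rfl
    have hle : φ.range ⊔ Q ≤ φ'.range := by
      refine sup_le ?_ ?_
      · rintro _ ⟨x, rfl⟩
        exact ⟨Subgroup.inclusion le_sup_left x, hφ'φ x⟩
      · intro q hq
        refine ⟨Subgroup.inclusion le_sup_right (κ⁻¹ ⟨q, hq⟩), ?_⟩
        rw [hφ'κ, MulAut.apply_inv_self]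
    have hle₁ : φ.range ≤ φ'.range := le_sup_left.trans hle
    refine ⟨χ.comp (Subgroup.inclusion hle₁), ⟨restrict_mem F hle₁ hχ, ?_, ?_,
      χ.comp (Subgroup.inclusion hle), restrict_mem F hle hχ, fun x => rfl, κ⁻¹, K.inv_mem hκ, ?_⟩, ?_⟩
    · rintro _ ⟨x, rfl⟩
      exact hφN x
    · rintro ⟨_, x, rfl⟩
      show χ ⟨φ x, _⟩ ∈ normK S Q K
      rw [hχφ' (Subgroup.inclusion le_sup_left x) ⟨φ x, hle₁ ⟨x, rfl⟩⟩ (hφ'φ x)]
      exact hPN x.2
    · intro q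
      show χ ⟨(q : Ω), _⟩ = ((κ⁻¹ q : Q) : Ω)
      have h1 : φ' (Subgroup.inclusion le_sup_right (κ⁻¹ q)) = (q : Ω) := by
        rw [hφ'κ, MulAut.apply_inv_self]
      rw [hχφ' (Subgroup.inclusion le_sup_right (κ⁻¹ q)) ⟨(q : Ω), hle (le_sup_right (a := φ.range) q.2)⟩ h1]
      rfl
    · intro x
      show χ ⟨φ x, _⟩ = x
      rw [hχφ' (Subgroup.inclusion le_sup_left x) ⟨φ x, hle₁ ⟨x, rfl⟩⟩ (hφ'φ x)]
      rfl

theorem normKSystem_hom (F : FusionSystem S) (Q : Subgroup Ω) (K : Subgroup (MulAut Q)) (hQ : Q ≤ S)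
    (P : Subgroup Ω) : (normKSystem F Q K hQ).Hom P = homK F Q K (normK S Q K) P := rfl

theorem normKSystem_sub (F : FusionSystem S) (Q : Subgroup Ω) (K : Subgroup (MulAut Q)) (hQ : Q ≤ S)
    (P : Subgroup Ω) : (normKSystem F Q K hQ).Hom P ⊆ F.Hom P := fun _ h => h.1

section Normal

variable {p : ℕ} [Fact p.Prime]

theorem normK_autInducedBy_eq (F : FusionSystem S) {Q : Subgroup Ω} (hQ : F.IsNormal Q) :
    normK S Q (autInducedBy S Q) = S := by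
  apply le_antisymm (normK_le Q _)
  intro g hg
  have hSN := Cfsg.Agent.Lib.Helper90.GT.normal_le_normalizer F hQ
  exact mem_normK.mpr ⟨hg, conjAut Q g (hSN hg), conjAut_mem_autInducedBy hg (hSN hg), fun x => rfl⟩

theorem isGoodK_autInducedBy (hS : IsPGroup p S) (F : FusionSystem S) (hF : F.IsSaturated p)
    {Q : Subgroup Ω} (hQ : F.IsNormal Q) : IsGoodK F p Q (autInducedBy S Q) := by
  refine ⟨isReceptive_of_isNormal p hS F hF hQ, ?_⟩
  have h1 : autInducedBy S Q ⊓ autInducedBy S Q = autInducedBy S Q := inf_idem _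
  have h2 : F.autGroup Q ⊓ autInducedBy S Q = autInducedBy S Q :=
    inf_eq_right.mpr (autInducedBy_le_autGroup F hQ.1)
  rw [h1, h2]
  have hp : IsPGroup p ↥(autInducedBy S Q) := isPGroup_autInducedBy hS Q
  refine ⟨⟨⊤, ?_, fun _ h => top_le_iff.mp h⟩, ?_⟩
  · intro g
    obtain ⟨k, hk⟩ := hp (g : ↥(autInducedBy S Q))
    exact ⟨k, Subtype.ext hk⟩
  · show (⊤ : Subgroup ↥(autInducedBy S Q)) = (autInducedBy S Q).subgroupOf (autInducedBy S Q)
    rw [Subgroup.subgroupOf_self]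

/-- `S C_F(Q)` is saturated. -/
theorem isSaturated_normKSystem (hS : IsPGroup p S) (F : FusionSystem S) (hF : F.IsSaturated p)
    {Q : Subgroup Ω} (hQ : F.IsNormal Q) :
    (normKSystem F Q (autInducedBy S Q) hQ.1).IsSaturated p :=
  isSaturated_normK p hS F hF Q _ (isGoodK_autInducedBy hS F hF hQ) _
    (normKSystem_hom F Q _ hQ.1)

/-- Maps fixing `Q` elementwise belong to `S C_F(Q)`. -/
theorem mem_normKSystem_of_fix (F : FusionSystem S) {Q : Subgroup Ω} (hQ : F.IsNormal Q)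
    {A : Subgroup Ω} (hQA : Q ≤ A) {θ : A →* Ω} (hθ : θ ∈ F.Hom A)
    (hfix : ∀ y : A, (y : Ω) ∈ Q → θ y = y) :
    θ ∈ (normKSystem F Q (autInducedBy S Q) hQ.1).Hom A := by
  have hN := normK_autInducedBy_eq F hQ
  refine ⟨hθ, ?_, ?_, θ.comp (Subgroup.inclusion (sup_le le_rfl hQA)), restrict_mem F _ hθ,
    fun x => rfl, 1, Subgroup.one_mem _, fun x => ?_⟩
  · rw [hN]; exact hom_le F hθ
  · intro x; rw [hN]; exact hom_mem F hθ x
  · exact hfix ⟨x, hQA x.2⟩ x.2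

/-- `Q` is normal in `S C_F(Q)`. -/
theorem isNormal_normKSystem (F : FusionSystem S) {Q : Subgroup Ω} (hQ : F.IsNormal Q) :
    (normKSystem F Q (autInducedBy S Q) hQ.1).IsNormal Q := by
  have hN := normK_autInducedBy_eq F hQ
  refine ⟨by rw [hN]; exact hQ.1, ?_⟩
  rintro P φ ⟨hφF, hPN, hφN, θ, hθ, hθφ, κ, hκ, hθκ⟩
  refine ⟨θ, ⟨hθ, ?_, ?_, θ.comp (Subgroup.inclusion (sup_le le_rfl le_sup_right)),
    restrict_mem F _ hθ, fun x => rfl, κ, hκ, fun x => hθκ x⟩, hθφ,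
    map_eq_of_isNormal F hQ le_sup_right hθ⟩
  · rw [hN]; exact hom_le F hθ
  · intro x; rw [hN]; exact hom_mem F hθ x

/-- If every map of `F` is a map of `S C_F(Q)`, then `Aut_F(Q) = Aut_S(Q)`. -/
theorem autGroup_le_of_le_normKSystem (F : FusionSystem S) {Q : Subgroup Ω} (hQS : Q ≤ S)
    (h : ∀ P : Subgroup Ω, F.Hom P ⊆ (normKSystem F Q (autInducedBy S Q) hQS).Hom P) :
    F.autGroup Q ≤ autInducedBy S Q := by
  intro α hα
  have h1 := h Q (autGroup_hom_mem F hQS hα)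
  obtain ⟨-, -, -, θ, -, hθφ, κ, hκ, hθκ⟩ := h1
  have : α = κ := by
    ext x
    have e1 := hθφ x
    have e2 := hθκ x
    have e3 : (inL x : ↥(Q ⊔ Q)) = inR x := Subtype.ext rfl
    rw [e3, e2] at e1
    exact e1.symm
  rw [this]
  exact hκ

end Normal

end Cfsg.Agent.Lib.Helper87.ZJ
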