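import Cfsg.Agent.Lib.Helper87.ZJ8

set_option autoImplicit false

/-!
The system `S C_F(Q)` over `S` itself, for `Q` normal in `F`; transfer of full normalization and centricity from
`S C_F(Q)` to `F` when every automorphism in `Aut_F(Q)` extends to `S`.
-/

namespace Cfsg.Agent.Lib.Helper87.ZJ

open Cfsg Cfsg.FusionSystem Cfsg.Agent.Lib.Helper87

universe u

variable {Ω : Type u} [Group Ω] {S : Subgroup Ω} [Finite S]

/-- `S C_F(Q)` as a fusion system over `S`. -/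
def scSystem (F : FusionSystem S) {Q : Subgroup Ω} (hQ : F.IsNormal Q) : FusionSystem S :=
  castSys' (normK_autInducedBy_eq F hQ) (normKSystem F Q (autInducedBy S Q) hQ.1)

theorem mem_scSystem_iff (F : FusionSystem S) {Q : Subgroup Ω} (hQ : F.IsNormal Q) {P : Subgroup Ω}
    {φ : P →* Ω} : φ ∈ (scSystem F hQ).Hom P ↔ φ ∈ F.Hom P ∧
      ∃ θ ∈ F.Hom (P ⊔ Q), (∀ x : P, θ (inL x) = φ x) ∧
        ∃ κ ∈ autInducedBy S Q, ∀ x : Q, θ (inR x) = ((κ x : Q) : Ω) := by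
  unfold scSystem
  rw [castSys'_hom, normKSystem_hom]
  have hN := normK_autInducedBy_eq F hQ
  constructor
  · rintro ⟨h1, -, -, h4⟩
    exact ⟨h1, h4⟩
  · rintro ⟨h1, h4⟩
    refine ⟨h1, ?_, ?_, h4⟩
    · rw [hN]; exact hom_le F h1
    · intro x; rw [hN]; exact hom_mem F h1 x

theorem scSystem_sub (F : FusionSystem S) {Q : Subgroup Ω} (hQ : F.IsNormal Q) (P : Subgroup Ω) :
    (scSystem F hQ).Hom P ⊆ F.Hom P := fun _ h => ((mem_scSystem_iff F hQ).mp h).1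

theorem isSaturated_scSystem {p : ℕ} [Fact p.Prime] (hS : IsPGroup p S) (F : FusionSystem S)
    (hF : F.IsSaturated p) {Q : Subgroup Ω} (hQ : F.IsNormal Q) : (scSystem F hQ).IsSaturated p := by
  unfold scSystem
  rw [castSys'_isSaturated]
  exact isSaturated_normKSystem hS F hF hQ

theorem mem_scSystem_of_fix (F : FusionSystem S) {Q : Subgroup Ω} (hQ : F.IsNormal Q)
    {A : Subgroup Ω} (hQA : Q ≤ A) {θ : A →* Ω} (hθ : θ ∈ F.Hom A)
    (hfix : ∀ y : A, (y : Ω) ∈ Q → θ y = y) : θ ∈ (scSystem F hQ).Hom A := by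
  unfold scSystem
  rw [castSys'_hom]
  exact mem_normKSystem_of_fix F hQ hQA hθ hfix

theorem isNormal_scSystem (F : FusionSystem S) {Q : Subgroup Ω} (hQ : F.IsNormal Q) :
    (scSystem F hQ).IsNormal Q := by
  refine ⟨hQ.1, ?_⟩
  intro P φ hφ
  obtain ⟨hφF, θ, hθ, hθφ, κ, hκ, hθκ⟩ := (mem_scSystem_iff F hQ).mp hφ
  refine ⟨θ, (mem_scSystem_iff F hQ).mpr ⟨hθ, θ.comp (Subgroup.inclusion (sup_le le_rfl le_sup_right)),
    restrict_mem F _ hθ, fun x => rfl, κ, hκ, fun x => hθκ x⟩, hθφ,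
    map_eq_of_isNormal F hQ le_sup_right hθ⟩

theorem autGroup_le_of_le_scSystem (F : FusionSystem S) {Q : Subgroup Ω} (hQ : F.IsNormal Q)
    (h : ∀ P : Subgroup Ω, F.Hom P ⊆ (scSystem F hQ).Hom P) : F.autGroup Q ≤ autInducedBy S Q := by
  apply autGroup_le_of_le_normKSystem F hQ.1
  intro P φ hφ
  have := h P hφ
  unfold scSystem at this
  rw [castSys'_hom] at this
  exact this

theorem range_restrict_eq (F : FusionSystem S) {Q A : Subgroup Ω} (hQ : F.IsNormal Q) (hQA : Q ≤ A)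
    {φ : A →* Ω} (hφ : φ ∈ F.Hom A) : (φ.comp (Subgroup.inclusion hQA)).range = Q := by
  have h := map_eq_of_isNormal F hQ hQA hφ
  ext y
  constructor
  · rintro ⟨q, rfl⟩
    have h0 : φ (Subgroup.inclusion hQA q) ∈ (Q.subgroupOf A).map φ :=
      ⟨Subgroup.inclusion hQA q, Subgroup.mem_subgroupOf.mpr q.2, rfl⟩
    rw [h] at h0
    exact h0
  · intro hy
    rw [← h] at hy
    obtain ⟨a, ha, rfl⟩ := hy
    exact ⟨⟨a, Subgroup.mem_subgroupOf.mp ha⟩, rfl⟩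

section Transfer

variable {p : ℕ} [Fact p.Prime]

/-- Every map on an overgroup of `Q` can be followed by a map defined on `S` so as to fix `Q` elementwise. -/
theorem exists_chi_top (F : FusionSystem S) {Q : Subgroup Ω} (hQ : F.IsNormal Q)
    (hext : ∀ lam : Q →* Ω, lam ∈ F.Hom Q → ∃ lt : S →* Ω, lt ∈ F.Hom S ∧
      ∀ q : Q, lt ⟨q, hQ.1 q.2⟩ = lam q)
    {P : Subgroup Ω} (hQP : Q ≤ P) {φ : P →* Ω} (hφ : φ ∈ F.Hom P) :
    ∃ χ : S →* Ω, χ ∈ F.Hom S ∧ ∀ x : P, (x : Ω) ∈ Q → χ ⟨φ x, hom_mem F hφ x⟩ = x := by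
  have hlam : φ.comp (Subgroup.inclusion hQP) ∈ F.Hom Q := restrict_mem F hQP hφ
  have hlamr := range_restrict_eq F hQ hQP hφ
  have hinv := homEquiv_symm_mem F hlam hlamr
  obtain ⟨χ, hχ, hχext⟩ := hext _ hinv
  refine ⟨χ, hχ, fun x hx => ?_⟩
  have h1 : φ x ∈ Q := by
    have : φ x ∈ (φ.comp (Subgroup.inclusion hQP)).range := ⟨⟨x, hx⟩, rfl⟩
    rwa [hlamr] at this
  have h2 := hχext ⟨φ x, h1⟩
  have h3 : (⟨φ x, h1⟩ : Q) = homEquiv F hlam hlamr ⟨x, hx⟩ := Subtype.ext rfl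
  rw [h3] at h2
  have h4 : (Q.subtype.comp (homEquiv F hlam hlamr).symm.toMonoidHom)
      (homEquiv F hlam hlamr ⟨x, hx⟩) = (x : Ω) := by
    show (((homEquiv F hlam hlamr).symm (homEquiv F hlam hlamr ⟨x, hx⟩) : Q) : Ω) = x
    rw [MulEquiv.symm_apply_apply]
  rw [h4] at h2
  rw [← h2]
  rfl

/-- A conjugate of `P` in `F` is carried by a map on `S` to a conjugate of `P` in `S C_F(Q)`. -/
theorem exists_sc_conj (F : FusionSystem S) {Q : Subgroup Ω} (hQ : F.IsNormal Q)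
    (hext : ∀ lam : Q →* Ω, lam ∈ F.Hom Q → ∃ lt : S →* Ω, lt ∈ F.Hom S ∧
      ∀ q : Q, lt ⟨q, hQ.1 q.2⟩ = lam q)
    {P : Subgroup Ω} (hQP : Q ≤ P) {φ : P →* Ω} (hφ : φ ∈ F.Hom P) :
    ∃ χ : S →* Ω, χ ∈ F.Hom S ∧ ∃ θ : P →* Ω, θ ∈ (scSystem F hQ).Hom P ∧
      ∀ x : P, θ x = χ ⟨φ x, hom_mem F hφ x⟩ := by
  obtain ⟨χ, hχ, hχfix⟩ := exists_chi_top F hQ hext hQP hφ
  refine ⟨χ, hχ, χ.comp (φ.codRestrict S (hom_mem F hφ)), ?_, fun x => rfl⟩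
  apply mem_scSystem_of_fix F hQ hQP (F.comp_mem hφ hχ (hom_mem F hφ))
  intro y hy
  exact hχfix y hy

theorem isFullyNormalized_of_scSystem (F : FusionSystem S) {Q : Subgroup Ω} (hQ : F.IsNormal Q)
    (hext : ∀ lam : Q →* Ω, lam ∈ F.Hom Q → ∃ lt : S →* Ω, lt ∈ F.Hom S ∧
      ∀ q : Q, lt ⟨q, hQ.1 q.2⟩ = lam q)
    {P : Subgroup Ω} (hQP : Q ≤ P) (hfn : (scSystem F hQ).IsFullyNormalized P) :
    F.IsFullyNormalized P := by
  refine ⟨hfn.1, ?_⟩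
  rintro P' ⟨φ, hφ, rfl⟩
  obtain ⟨χ, hχ, θ, hθ, hθx⟩ := exists_sc_conj F hQ hext hQP hφ
  have h1 := hfn.2 θ.range ⟨θ, hθ, rfl⟩
  refine le_trans ?_ h1
  have hχinj := F.injective_of_mem hχ
  have hPS : P ≤ S := hfn.1
  haveI : Finite P := finite_of_le hPS
  haveI : Finite ↥θ.range := Finite.of_surjective (fun x : P => (⟨θ x, ⟨x, rfl⟩⟩ : θ.range))
    (by rintro ⟨_, x, rfl⟩; exact ⟨x, rfl⟩)
  haveI : Finite ↥(normalizerIn S θ.range) := finite_of_le (normalizerIn_le S _)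
  have hmem : ∀ g : ↥(normalizerIn S φ.range), χ ⟨(g : Ω), g.2.1⟩ ∈ normalizerIn S θ.range := by
    intro g
    refine ⟨hom_mem F hχ _, ?_⟩
    apply mem_normalizer_of_conj_mem
    rintro _ ⟨x, rfl⟩
    have hx' : (g : Ω) * φ x * (g : Ω)⁻¹ ∈ φ.range :=
      (Subgroup.mem_normalizer_iff.mp g.2.2 _).mp ⟨x, rfl⟩
    obtain ⟨x', hx'e⟩ := hx'
    refine ⟨x', ?_⟩
    rw [hθx, hθx, ← map_inv, ← map_mul, ← map_mul]
    congr 1
    apply Subtype.ext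
    exact hx'e
  apply Nat.card_le_card_of_injective
    (fun g : ↥(normalizerIn S φ.range) => (⟨χ ⟨(g : Ω), g.2.1⟩, hmem g⟩ : ↥(normalizerIn S θ.range)))
  intro a b hab
  have h2 : χ ⟨(a : Ω), a.2.1⟩ = χ ⟨(b : Ω), b.2.1⟩ := congrArg Subtype.val hab
  have h3 := hχinj h2
  apply Subtype.ext
  exact congrArg (fun z : ↥S => (z : Ω)) h3

theorem isCentric_of_scSystem (F : FusionSystem S) {Q : Subgroup Ω} (hQ : F.IsNormal Q)
    (hext : ∀ lam : Q →* Ω, lam ∈ F.Hom Q → ∃ lt : S →* Ω, lt ∈ F.Hom S ∧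
      ∀ q : Q, lt ⟨q, hQ.1 q.2⟩ = lam q)
    {P : Subgroup Ω} (hQP : Q ≤ P) (hcen : (scSystem F hQ).IsCentric P) : F.IsCentric P := by
  refine ⟨hcen.1, ?_⟩
  rintro P' ⟨φ, hφ, rfl⟩
  obtain ⟨χ, hχ, θ, hθ, hθx⟩ := exists_sc_conj F hQ hext hQP hφ
  have h1 := hcen.2 θ.range ⟨θ, hθ, rfl⟩
  have hχinj := F.injective_of_mem hχ
  intro c hc
  rw [mem_centralizerIn] at hc
  have h2 : χ ⟨c, hc.1⟩ ∈ centralizerIn S θ.range := by
    rw [mem_centralizerIn]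
    refine ⟨hom_mem F hχ _, ?_⟩
    rintro _ ⟨x, rfl⟩
    rw [hθx, ← map_mul, ← map_mul]
    congr 1
    apply Subtype.ext
    exact hc.2 (φ x) ⟨x, rfl⟩
  obtain ⟨x, hx⟩ := h1 h2
  rw [hθx] at hx
  have h3 := hχinj hx
  refine ⟨x, ?_⟩
  exact congrArg (fun z : ↥S => (z : Ω)) h3

end Transfer

end Cfsg.Agent.Lib.Helper87.ZJ
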